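import Mathlib
import Cfsg.Agent.Lib.Lead.ChevCalc

/-!
`h_p(c)` for a fundamental root `p` is the expected diagonal matrix, provided Boolean table tests hold.
-/

set_option autoImplicit false
set_option linter.unusedSectionVars false
set_option linter.unusedSimpArgs false
set_option linter.unusedVariables false

namespace Cfsg.Agent.Lead.Chev

open Cfsg Cfsg.Lie

variable {F : Type*} [Field F]

/-- the symbolic word `h_r(c) = x_r(c) x_{-r}(-c⁻¹) x_r(c) x_r(-1) x_{-r}(1) x_r(-1)` -/
def hWordS (D : ChevalleyDatum) (r : ℕ) : List (ℕ × LPoly) :=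
  [(r, pC 1), (D.neg r, psmul (-1) (pC (-1))), (r, pC 1),
    (r, pconst (-1)), (D.neg r, pconst 1), (r, pconst (-1))]

theorem evalWord_hWordS (D : ChevalleyDatum) (v : Val F) (r : ℕ) :
    evalWord v (hWordS D r) = D.hWord r v.c := by
  simp [evalWord, hWordS, ChevalleyDatum.hWord, ChevalleyDatum.nWord, zpow_neg]

/-- test for the column `h_{p_j}` of `h_{p_i}(c)` -/
def hChkL (D : ChevalleyDatum) (i j : ℕ) : Bool :=
  colEq D (hWordS D (D.simple i)) (.inl j) [(.inl j, pC 0)]

/-- test for the column `e_s` of `h_{p_i}(c)` -/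
def hChkR (D : ChevalleyDatum) (i s : ℕ) : Bool :=
  colEq D (hWordS D (D.simple i)) (.inr s) [(.inr s, pC (D.cartan i s))]

theorem hMat_eq_diagonal_of_chk (D : ChevalleyDatum) (i : ℕ)
    (hL : ∀ j < D.rank, hChkL D i j = true) (hR : ∀ s < D.nroots, hChkR D i s = true)
    (c : F) (hc : c ≠ 0) :
    D.hMat F (D.simple i) c =
      Matrix.diagonal (Sum.elim (fun _ => (1 : F)) (fun s : Fin D.nroots => c ^ (D.cartan i s))) := by
  let v : Val F := ⟨c, hc, 0, 0⟩
  have hw : evalWord v (hWordS D (D.simple i)) = D.hWord (D.simple i) c := evalWord_hWordS D v _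
  unfold ChevalleyDatum.hMat
  rw [← hw]
  apply mat_eq_of_cols
  intro idx
  rcases idx with a | s
  · have h := hL a.val a.2
    rw [hChkL] at h
    have hc' : (Sum.inl a.val : Code) = codeOf D (Sum.inl a) := rfl
    rw [hc'] at h
    rw [mulVec_of_colEq D v _ _ _ h, evalV_single, evalP_pC]
    funext j
    simp [Matrix.mulVec, dotProduct, Matrix.diagonal_apply, Pi.single_apply]
    split_ifs with hj
    · subst hj; rfl
    · rfl
  · have h := hR s.val s.2
    rw [hChkR] at h
    have hc' : (Sum.inr s.val : Code) = codeOf D (Sum.inr s) := rfl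
    rw [hc'] at h
    rw [mulVec_of_colEq D v _ _ _ h, evalV_single, evalP_pC]
    funext j
    simp [Matrix.mulVec, dotProduct, Matrix.diagonal_apply, Pi.single_apply, v]
    split_ifs with hj
    · subst hj; rfl
    · rfl

end Cfsg.Agent.Lead.Chev
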