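import Mathlib
import Cfsg.Agent.Lib.Lead.ChevCalc

/-!
Column lemmas: the action of `x_r(t)` on the basis vectors, as identities between vectors.
-/

set_option autoImplicit false
set_option linter.unusedSectionVars false
set_option linter.unusedSimpArgs false
set_option linter.unusedVariables false

namespace Cfsg.Agent.Lead.Chev

open Cfsg Cfsg.Lie

variable {F : Type*} [Field F]

theorem mulVec_list_sum {ι : Type*} [Fintype ι] {α : Type*} (M : Matrix ι ι F) (l : List α)
    (f : α → ι → F) : M.mulVec (l.map f).sum = (l.map fun x => M.mulVec (f x)).sum := by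
  induction l with
  | nil => simp
  | cons a l ih => simp [Matrix.mulVec_add, ih]

/-- the basis vector with a given code (zero if the code is out of range) -/
def bvec (D : ChevalleyDatum) (c : Code) : D.Idx → F := fun idx => if c = codeOf D idx then 1 else 0

theorem bvec_codeOf (D : ChevalleyDatum) (idx : D.Idx) :
    (bvec D (codeOf D idx) : D.Idx → F) = Pi.single idx 1 := by
  funext j
  simp only [bvec, Pi.single_apply]
  by_cases h : j = idx
  · subst h; simp
  · have : codeOf D idx ≠ codeOf D j := fun e => h ((codeOf_injective D e).symm)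
    simp [this, h]

theorem evalV_singleton (D : ChevalleyDatum) (v : Val F) (c : Code) (p : LPoly) :
    evalV D v [(c, p)] = evalP v p • (bvec D c : D.Idx → F) := by
  funext idx
  simp [evalV, bvec]

theorem evalV_eq_sum (D : ChevalleyDatum) (v : Val F) (w : SVec) :
    evalV D v w = (w.map fun e => evalP v e.2 • (bvec D e.1 : D.Idx → F)).sum := by
  induction w with
  | nil => rfl
  | cons e w ih =>
    rw [evalV_cons, ih, List.map_cons, List.sum_cons, evalV_singleton]

/-- the valuation used to read off columns -/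
def valT (t : F) : Val F := ⟨1, one_ne_zero, t, 0⟩

theorem x_mulVec_bvec (D : ChevalleyDatum) (r : ℕ) (t : F) (c : Code) :
    (D.x F r t).mulVec (bvec D c) = evalV D (valT t) (applyX D r pT [(c, pconst 1)]) := by
  rw [evalV_applyX, evalV_singleton]
  simp [valT]

theorem x_mulVec_bvec_inl (D : ChevalleyDatum) (r : ℕ) (hr : r < D.nroots) (t : F) (j : ℕ)
    (hj : j < D.rank) :
    (D.x F r t).mulVec (bvec D (.inl j)) =
      bvec D (.inl j) - ((((D.cartanSR.getD j #[]).getD r 0 : ℤ) : F) * t) • bvec D (.inr r) := by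
  rw [x_mulVec_bvec]
  have : applyX D r pT [((Sum.inl j : Code), pconst 1)] =
      [(.inl j, pconst 1), (.inr r, psmul (-((D.cartanSR.getD j #[]).getD r 0)) (pmul (pconst 1) pT))] := by
    simp [applyX, hr, colX, hj]
  rw [this, evalV_eq_sum]
  simp [valT]
  rw [sub_eq_add_neg]

theorem x_mulVec_bvec_self (D : ChevalleyDatum) (r : ℕ) (hr : r < D.nroots) (t : F) :
    (D.x F r t).mulVec (bvec D (.inr r)) = bvec D (.inr r) := by
  rw [x_mulVec_bvec]
  have : applyX D r pT [((Sum.inr r : Code), pconst 1)] = [(.inr r, pconst 1)] := by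
    simp [applyX, hr, colX]
  rw [this, evalV_eq_sum]
  simp [valT]

theorem x_mulVec_bvec_neg (D : ChevalleyDatum) (r : ℕ) (hr : r < D.nroots) (t : F) (s : ℕ)
    (hs : s < D.nroots) (hsr : s ≠ r) (hneg : s = D.negIdx.getD r 0) :
    (D.x F r t).mulVec (bvec D (.inr s)) =
      bvec D (.inr s) - (t ^ 2) • bvec D (.inr r) +
        ((List.range D.rank).map fun i =>
          ((((D.coroot.getD r #[]).getD i 0 : ℤ) : F) * t) • (bvec D (.inl i) : D.Idx → F)).sum := by
  rw [x_mulVec_bvec]
  have : applyX D r pT [((Sum.inr s : Code), pconst 1)] =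
      (.inr s, pconst 1) :: (.inr r, psmul (-1) (pmul (pconst 1) (ppow pT 2))) ::
        (List.range D.rank).map fun i =>
          ((Sum.inl i : Code), psmul ((D.coroot.getD r #[]).getD i 0) (pmul (pconst 1) pT)) := by
    simp only [applyX, hr, if_true, List.flatMap_cons, List.flatMap_nil, List.append_nil, colX, hs,
      hsr, if_false]
    rw [if_pos hneg]
  rw [this, evalV_eq_sum]
  have hmap : List.map ((fun e : Code × LPoly => evalP (valT t) e.2 • (bvec D e.1 : D.Idx → F)) ∘ fun i =>
        ((Sum.inl i : Code), psmul ((D.coroot.getD r #[]).getD i 0) (pmul (pconst 1) pT)))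
        (List.range D.rank) =
      List.map (fun i => ((((D.coroot.getD r #[]).getD i 0 : ℤ) : F) * t) • (bvec D (.inl i) : D.Idx → F))
        (List.range D.rank) := by
    apply List.map_congr_left
    intro i _
    simp [valT]
  simp only [List.map_cons, List.sum_cons, List.map_map, hmap]
  simp only [evalP_pconst, Int.cast_one, one_smul, evalP_psmul, evalP_pmul, evalP_ppow, evalP_pT, valT,
    one_mul, Int.cast_neg, neg_mul, neg_smul]
  rw [sub_eq_add_neg, add_assoc]

theorem x_mulVec_bvec_chain (D : ChevalleyDatum) (r : ℕ) (hr : r < D.nroots) (t : F) (s : ℕ)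
    (hs : s < D.nroots) (hsr : s ≠ r) (hneg : s ≠ D.negIdx.getD r 0) :
    (D.x F r t).mulVec (bvec D (.inr s)) =
      bvec D (.inr s) +
        ((chainTerms D r s).map fun x =>
          (((x.2.2 : ℤ) : F) * t ^ x.2.1) • (bvec D (.inr x.1) : D.Idx → F)).sum := by
  rw [x_mulVec_bvec]
  have : applyX D r pT [((Sum.inr s : Code), pconst 1)] =
      (.inr s, pconst 1) :: (chainTerms D r s).map fun x =>
        ((Sum.inr x.1 : Code), psmul x.2.2 (pmul (pconst 1) (ppow pT x.2.1))) := by
    simp only [applyX, hr, if_true, List.flatMap_cons, List.flatMap_nil, List.append_nil, colX, hs,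
      hsr, if_false]
    rw [if_neg hneg]
  rw [this, evalV_eq_sum]
  have hmap : List.map ((fun e : Code × LPoly => evalP (valT t) e.2 • (bvec D e.1 : D.Idx → F)) ∘ fun x : ℕ × ℕ × ℤ =>
        ((Sum.inr x.1 : Code), psmul x.2.2 (pmul (pconst 1) (ppow pT x.2.1))))
        (chainTerms D r s) =
      List.map (fun x => (((x.2.2 : ℤ) : F) * t ^ x.2.1) • (bvec D (.inr x.1) : D.Idx → F))
        (chainTerms D r s) := by
    apply List.map_congr_left
    intro x _
    simp [valT]
  simp only [List.map_cons, List.sum_cons, List.map_map, hmap]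
  simp only [evalP_pconst, Int.cast_one, one_smul]

end Cfsg.Agent.Lead.Chev
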