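import Mathlib
import Cfsg.Agent.Lib.Lead.ChevCol

/-!
Local structure of a root `r` in a simply-laced datum: every `r`-chain has length one and is matched by a
chain of `-r`. A Boolean test `slRootOK` and the facts it yields.
-/

set_option autoImplicit false
set_option linter.unusedSectionVars false
set_option linter.unusedSimpArgs false
set_option linter.unusedVariables false

namespace Cfsg.Agent.Lead.Chev

open Cfsg Cfsg.Lie

variable {F : Type*} [Field F]

/-- the row of the chain table at `r` -/
def rowOf (D : ChevalleyDatum) (r : ℕ) : List (ℕ × Array (ℕ × ℤ)) := (D.chain.getD r #[]).toList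

theorem filter_key_eq {α β : Type} [DecidableEq α] (l : List (α × β))
    (hnd : (l.map Prod.fst).Nodup) (e : α × β) (he : e ∈ l) :
    l.filter (fun f => decide (f.1 = e.1)) = [e] := by
  induction l with
  | nil => simp at he
  | cons a l ih =>
    rw [List.map_cons, List.nodup_cons] at hnd
    rw [List.filter_cons]
    rcases List.mem_cons.1 he with rfl | he'
    · simp only [decide_true, if_true]
      congr 1
      rw [List.filter_eq_nil_iff]
      intro f hf
      simp only [decide_eq_true_eq]
      intro hfe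
      exact hnd.1 (List.mem_map.2 ⟨f, hf, hfe⟩)
    · have hne : a.1 ≠ e.1 := by
        intro h
        exact hnd.1 (h ▸ List.mem_map.2 ⟨e, he', rfl⟩)
      simp only [hne, decide_false, Bool.false_eq_true, if_false]
      exact ih hnd.2 he'

theorem chainTerms_of_not_mem (D : ChevalleyDatum) (r s : ℕ)
    (h : ∀ e ∈ rowOf D r, e.1 ≠ s) : chainTerms D r s = [] := by
  unfold chainTerms
  have : (D.chain.getD r #[]).toList.filter (fun e => decide (e.1 = s)) = [] := by
    rw [List.filter_eq_nil_iff]
    intro e he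
    simpa using h e he
  rw [this]
  rfl

theorem chainTerms_of_mem (D : ChevalleyDatum) (r : ℕ) (hnd : ((rowOf D r).map Prod.fst).Nodup)
    (e : ℕ × Array (ℕ × ℤ)) (he : e ∈ rowOf D r) :
    chainTerms D r e.1 = e.2.toList.zipIdx.map fun q => (q.1.1, q.2 + 1, q.1.2) := by
  unfold chainTerms
  have := filter_key_eq (rowOf D r) hnd e he
  unfold rowOf at this
  rw [this]
  simp

/-- test of one entry of the row of `r` -/
def slEntryOK (D : ChevalleyDatum) (r nr : ℕ) (rowR rowN : List (ℕ × Array (ℕ × ℤ)))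
    (e : ℕ × Array (ℕ × ℤ)) : Bool :=
  match e.2.toList with
  | [(u, M)] =>
    decide (M = 1 ∨ M = -1) && decide (e.1 < D.nroots) && decide (u < D.nroots) &&
      decide (e.1 ≠ r) && decide (e.1 ≠ nr) && decide (u ≠ r) && decide (u ≠ nr) &&
      rowR.all (fun f => decide (f.1 ≠ u)) && rowN.all (fun f => decide (f.1 ≠ e.1)) &&
      rowN.any (fun f => decide (f.1 = u) && decide (f.2.toList = [(e.1, M)]))
  | _ => false

/-- test of the root `r` -/
def slRootOK (D : ChevalleyDatum) (r : ℕ) : Bool :=
  decide (r < D.nroots) && decide (D.neg r < D.nroots) && decide (D.neg r ≠ r) &&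
    decide (D.neg (D.neg r) = r) &&
    decide (((List.range D.rank).map fun i =>
      (D.coroot.getD r #[]).getD i 0 * (D.cartanSR.getD i #[]).getD r 0).sum = 2) &&
    (List.range D.rank).all (fun i =>
      decide ((D.coroot.getD (D.neg r) #[]).getD i 0 = -(D.coroot.getD r #[]).getD i 0) &&
      decide ((D.cartanSR.getD i #[]).getD (D.neg r) 0 = -(D.cartanSR.getD i #[]).getD r 0)) &&
    decide (((rowOf D r).map Prod.fst).Nodup) &&
    (rowOf D r).all (slEntryOK D r (D.neg r) (rowOf D r) (rowOf D (D.neg r)))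

/-- the facts about a root given by `slRootOK` -/
structure SLRoot (D : ChevalleyDatum) (r : ℕ) : Prop where
  hr : r < D.nroots
  hn : D.neg r < D.nroots
  hne : D.neg r ≠ r
  hnn : D.neg (D.neg r) = r
  hsum : ((List.range D.rank).map fun i =>
      (D.coroot.getD r #[]).getD i 0 * (D.cartanSR.getD i #[]).getD r 0).sum = 2
  hcor : ∀ i < D.rank, (D.coroot.getD (D.neg r) #[]).getD i 0 = -(D.coroot.getD r #[]).getD i 0
  hcar : ∀ i < D.rank, (D.cartanSR.getD i #[]).getD (D.neg r) 0 = -(D.cartanSR.getD i #[]).getD r 0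
  /-- the `r`-chains -/
  hchain : ∀ s, s < D.nroots → s ≠ r → s ≠ D.neg r →
    chainTerms D r s = [] ∨ ∃ u M, chainTerms D r s = [(u, 1, M)] ∧ (M = 1 ∨ M = -1) ∧
      u < D.nroots ∧ u ≠ r ∧ u ≠ D.neg r ∧ chainTerms D r u = [] ∧ chainTerms D (D.neg r) s = [] ∧
      (((rowOf D (D.neg r)).map Prod.fst).Nodup → chainTerms D (D.neg r) u = [(s, 1, M)])

theorem slRoot_of_ok (D : ChevalleyDatum) (r : ℕ) (h : slRootOK D r = true) : SLRoot D r := by
  simp only [slRootOK, Bool.and_eq_true, decide_eq_true_eq, List.all_eq_true, List.mem_range] at h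
  obtain ⟨⟨⟨⟨⟨⟨⟨h1, h2⟩, h3⟩, h4⟩, h5⟩, h6⟩, h7⟩, h8⟩ := h
  refine ⟨h1, h2, h3, h4, h5, fun i hi => (h6 i hi).1, fun i hi => (h6 i hi).2, ?_⟩
  intro s hs hsr hsn
  by_cases hmem : ∃ e ∈ rowOf D r, e.1 = s
  · right
    obtain ⟨e, he, rfl⟩ := hmem
    have hct := chainTerms_of_mem D r h7 e he
    have hok := h8 e he
    unfold slEntryOK at hok
    split at hok
    · rename_i u M harr
      simp only [Bool.and_eq_true, decide_eq_true_eq, List.all_eq_true, List.any_eq_true] at hok
      obtain ⟨⟨⟨⟨⟨⟨⟨⟨⟨hM, he1⟩, hu⟩, he2⟩, he3⟩, hu2⟩, hu3⟩, hu4⟩, he4⟩, f, hf, hf1, hf2⟩ := hok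
      refine ⟨u, M, ?_, hM, hu, hu2, hu3, ?_, ?_, ?_⟩
      · rw [hct, harr]
        rfl
      · apply chainTerms_of_not_mem
        intro g hg
        exact hu4 g hg
      · apply chainTerms_of_not_mem
        intro g hg
        exact he4 g hg
      · intro hnd
        have := chainTerms_of_mem D (D.neg r) hnd f hf
        rw [hf1] at this
        rw [this, hf2]
        rfl
    · exact absurd hok (by simp)
  · left
    push Not at hmem
    exact chainTerms_of_not_mem D r s hmem

end Cfsg.Agent.Lead.Chev
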