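import Mathlib
import Cfsg.Agent.Lib.Lead.ChevSL

/-!
Additivity `x_r(t₁) x_r(t₂) = x_r(t₁ + t₂)`: from the calculator (small data) or from the simply-laced
local structure.
-/

set_option autoImplicit false
set_option linter.unusedSectionVars false
set_option linter.unusedSimpArgs false
set_option linter.unusedVariables false

namespace Cfsg.Agent.Lead.Chev

open Cfsg Cfsg.Lie

variable {F : Type*} [Field F]

/-! ### via the calculator -/

def addChkL (D : ChevalleyDatum) (r j : ℕ) : Bool :=
  colEq₂ D [(r, pT), (r, pU)] [(r, pT ++ pU)] (.inl j)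

def addChkR (D : ChevalleyDatum) (r s : ℕ) : Bool :=
  colEq₂ D [(r, pT), (r, pU)] [(r, pT ++ pU)] (.inr s)

theorem add_of_chk (D : ChevalleyDatum) (r : ℕ)
    (hL : ∀ j < D.rank, addChkL D r j = true) (hR : ∀ s < D.nroots, addChkR D r s = true)
    (t₁ t₂ : F) : D.x F r t₁ * D.x F r t₂ = D.x F r (t₁ + t₂) := by
  let v : Val F := ⟨1, one_ne_zero, t₁, t₂⟩
  have h1 : D.wordMat F (evalWord v [(r, pT), (r, pU)]) = D.x F r t₁ * D.x F r t₂ := by
    simp [ChevalleyDatum.wordMat, evalWord, v]
  have h2 : D.wordMat F (evalWord v [(r, pT ++ pU)]) = D.x F r (t₁ + t₂) := by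
    simp [ChevalleyDatum.wordMat, evalWord, v]
  rw [← h1, ← h2]
  apply mat_eq_of_cols
  intro idx
  rcases idx with j | s
  · exact mulVec_of_colEq₂ D v _ _ (Sum.inl j) (hL j.val j.2)
  · exact mulVec_of_colEq₂ D v _ _ (Sum.inr s) (hR s.val s.2)

/-! ### via the simply-laced structure -/

theorem list_sum_smul_sub {ι : Type*} (l : List ℕ) (a b : ℕ → F) (h : ℕ → ι → F) (e : ι → F) :
    (l.map fun i => a i • (h i - b i • e)).sum =
      (l.map fun i => a i • h i).sum - (l.map fun i => a i * b i).sum • e := by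
  induction l with
  | nil => simp
  | cons x l ih =>
    rw [List.map_cons, List.sum_cons, ih]
    simp only [List.map_cons, List.sum_cons, smul_sub, smul_smul, add_smul]
    abel

theorem list_sum_smul_add {ι : Type*} (l : List ℕ) (c : ℕ → F) (t₁ t₂ : F) (h : ℕ → ι → F) :
    (l.map fun i => (c i * (t₁ + t₂)) • h i).sum =
      (l.map fun i => (c i * t₁) • h i).sum + (l.map fun i => (c i * t₂) • h i).sum := by
  induction l with
  | nil => simp
  | cons x l ih =>
    rw [List.map_cons, List.sum_cons, ih]
    simp only [List.map_cons, List.sum_cons, mul_add, add_smul]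
    abel

theorem list_sum_cast_mul (l : List ℕ) (c A : ℕ → ℤ) (t₁ t₂ : F) :
    (l.map fun i => ((c i : ℤ) : F) * t₂ * (((A i : ℤ) : F) * t₁)).sum =
      (((l.map fun i => c i * A i).sum : ℤ) : F) * (t₁ * t₂) := by
  induction l with
  | nil => simp
  | cons x l ih =>
    rw [List.map_cons, List.sum_cons, ih]
    simp only [List.map_cons, List.sum_cons]
    push_cast
    ring

theorem add_of_SL (D : ChevalleyDatum) (r : ℕ) (h : SLRoot D r) (t₁ t₂ : F) :
    D.x F r t₁ * D.x F r t₂ = D.x F r (t₁ + t₂) := by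
  have hr := h.hr
  apply mat_eq_of_cols
  intro idx
  rw [← bvec_codeOf, ← Matrix.mulVec_mulVec]
  rcases idx with j | v
  · have hc1 : codeOf D (Sum.inl j) = (Sum.inl j.val : Code) := rfl
    rw [hc1, x_mulVec_bvec_inl D r hr _ _ j.2, x_mulVec_bvec_inl D r hr _ _ j.2,
      Matrix.mulVec_sub, Matrix.mulVec_smul, x_mulVec_bvec_inl D r hr _ _ j.2,
      x_mulVec_bvec_self D r hr]
    rw [sub_sub, ← add_smul]
    congr 2
    ring
  · have hc1 : codeOf D (Sum.inr v) = (Sum.inr v.val : Code) := rfl
    rw [hc1]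
    by_cases hvs : v.val = r
    · rw [hvs, x_mulVec_bvec_self D r hr, x_mulVec_bvec_self D r hr, x_mulVec_bvec_self D r hr]
    · by_cases hvn : v.val = D.negIdx.getD r 0
      · rw [x_mulVec_bvec_neg D r hr _ _ v.2 hvs hvn, x_mulVec_bvec_neg D r hr _ _ v.2 hvs hvn,
          Matrix.mulVec_add, Matrix.mulVec_sub, Matrix.mulVec_smul, mulVec_list_sum,
          x_mulVec_bvec_neg D r hr _ _ v.2 hvs hvn, x_mulVec_bvec_self D r hr]
        have hmap : (List.map (fun i => (D.x F r t₁).mulVec
            (((((D.coroot.getD r #[]).getD i 0 : ℤ) : F) * t₂) • (bvec D (.inl i) : D.Idx → F)))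
            (List.range D.rank)) =
            List.map (fun i => ((((D.coroot.getD r #[]).getD i 0 : ℤ) : F) * t₂) •
              ((bvec D (.inl i) : D.Idx → F) -
                ((((D.cartanSR.getD i #[]).getD r 0 : ℤ) : F) * t₁) • bvec D (.inr r)))
            (List.range D.rank) := by
          apply List.map_congr_left
          intro i hi
          rw [Matrix.mulVec_smul, x_mulVec_bvec_inl D r hr _ _ (List.mem_range.1 hi)]
        rw [hmap, list_sum_smul_sub]
        have hsum : (List.map (fun i => (((D.coroot.getD r #[]).getD i 0 : ℤ) : F) * t₂ *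
            ((((D.cartanSR.getD i #[]).getD r 0 : ℤ) : F) * t₁)) (List.range D.rank)).sum =
            2 * (t₁ * t₂) := by
          rw [list_sum_cast_mul (List.range D.rank) (fun i => (D.coroot.getD r #[]).getD i 0)
            (fun i => (D.cartanSR.getD i #[]).getD r 0) t₁ t₂, h.hsum]
          norm_num
        rw [hsum, list_sum_smul_add]
        have e : (t₁ + t₂) ^ 2 = t₁ ^ 2 + t₂ ^ 2 + 2 * (t₁ * t₂) := by ring
        rw [e, add_smul, add_smul]
        abel
      · rcases h.hchain v.val v.2 hvs hvn with hct | ⟨u, M, hct, -, hu, hur, hun, hctu, -, -⟩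
        · rw [x_mulVec_bvec_chain D r hr _ _ v.2 hvs hvn, x_mulVec_bvec_chain D r hr _ _ v.2 hvs hvn,
            hct]
          simp only [List.map_nil, List.sum_nil, add_zero]
          rw [x_mulVec_bvec_chain D r hr _ _ v.2 hvs hvn, hct]
          simp
        · rw [x_mulVec_bvec_chain D r hr _ _ v.2 hvs hvn, x_mulVec_bvec_chain D r hr _ _ v.2 hvs hvn,
            hct]
          simp only [List.map_cons, List.map_nil, List.sum_cons, List.sum_nil, add_zero, pow_one]
          rw [Matrix.mulVec_add, Matrix.mulVec_smul, x_mulVec_bvec_chain D r hr _ _ v.2 hvs hvn, hct,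
            x_mulVec_bvec_chain D r hr _ _ hu hur hun, hctu]
          simp only [List.map_cons, List.map_nil, List.sum_cons, List.sum_nil, add_zero, pow_one]
          rw [add_assoc, ← add_smul]
          congr 2
          ring

end Cfsg.Agent.Lead.Chev
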