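import Mathlib
import Cfsg.Agent.Lib.Lead.ChevSL
import Cfsg.Agent.Lib.Lead.ChevAdd

/-!
Simply-laced data: the action of `x_r(t)`, `x_{-r}(t)`, `n_r(t)`, `h_r(c)` on all basis vectors, for every
root `r`, from the local structure `SLRoot`.
-/

set_option autoImplicit false
set_option linter.unusedSectionVars false
set_option linter.unusedSimpArgs false
set_option linter.unusedVariables false

namespace Cfsg.Agent.Lead.Chev

open Cfsg Cfsg.Lie

variable {F : Type*} [Field F]

theorem nodup_of_slRootOK (D : ChevalleyDatum) (r : ℕ) (h : slRootOK D r = true) :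
    ((rowOf D r).map Prod.fst).Nodup := by
  simp only [slRootOK, Bool.and_eq_true, decide_eq_true_eq] at h
  exact h.1.2

/-- the coroot vector `h_r = Σ c_i(r) h_{p_i}` -/
def Hvec (D : ChevalleyDatum) (r : ℕ) : D.Idx → F :=
  ((List.range D.rank).map fun i =>
    ((((D.coroot.getD r #[]).getD i 0 : ℤ) : F)) • (bvec D (.inl i) : D.Idx → F)).sum

theorem list_sum_mul_smul {ι : Type*} (l : List ℕ) (c : ℕ → F) (t : F) (h : ℕ → ι → F) :
    (l.map fun i => (c i * t) • h i).sum = t • (l.map fun i => c i • h i).sum := by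
  induction l with
  | nil => simp
  | cons x l ih =>
    rw [List.map_cons, List.sum_cons, ih]
    simp only [List.map_cons, List.sum_cons, smul_add, smul_smul]
    rw [mul_comm]

theorem list_sum_neg_map {ι : Type*} (l : List ℕ) (f : ℕ → ι → F) :
    -(l.map f).sum = (l.map fun i => -f i).sum := by
  induction l with
  | nil => simp
  | cons x l ih =>
    rw [List.map_cons, List.sum_cons, neg_add, ih]
    rfl

theorem Hvec_neg (D : ChevalleyDatum) (r : ℕ) (h : SLRoot D r) :
    (Hvec D (D.neg r) : D.Idx → F) = - Hvec D r := by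
  unfold Hvec
  rw [list_sum_neg_map]
  congr 1
  apply List.map_congr_left
  intro i hi
  have := h.hcor i (List.mem_range.1 hi)
  simp only [ChevalleyDatum.neg] at this ⊢
  rw [this]
  push_cast
  rw [neg_smul]

/-- the action of `x_ρ(t)` on the adjoint part and on strings -/
structure XAct (D : ChevalleyDatum) (F : Type*) [Field F] (r : ℕ) : Prop where
  onH : ∀ (t : F) (j : ℕ), j < D.rank → (D.x F r t).mulVec (bvec D (.inl j)) =
    bvec D (.inl j) - ((((D.cartanSR.getD j #[]).getD r 0 : ℤ) : F) * t) • bvec D (.inr r)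
  onE : ∀ t : F, (D.x F r t).mulVec (bvec D (.inr r)) = bvec D (.inr r)
  onN : ∀ t : F, (D.x F r t).mulVec (bvec D (.inr (D.neg r))) =
    bvec D (.inr (D.neg r)) - (t ^ 2) • bvec D (.inr r) + t • Hvec D r
  onHv : ∀ t : F, (D.x F r t).mulVec (Hvec D r) = Hvec D r - (2 * t) • bvec D (.inr r)

theorem list_sum_smul_sub' {ι : Type*} (l : List ℕ) (a b : ℕ → F) (h : ℕ → ι → F) (e : ι → F) :
    (l.map fun i => a i • (h i - b i • e)).sum =
      (l.map fun i => a i • h i).sum - (l.map fun i => a i * b i).sum • e :=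
  list_sum_smul_sub l a b h e

theorem list_sum_cast_mul' (l : List ℕ) (c A : ℕ → ℤ) (t : F) :
    (l.map fun i => ((c i : ℤ) : F) * (((A i : ℤ) : F) * t)).sum =
      (((l.map fun i => c i * A i).sum : ℤ) : F) * t := by
  induction l with
  | nil => simp
  | cons x l ih =>
    rw [List.map_cons, List.sum_cons, ih]
    simp only [List.map_cons, List.sum_cons]
    push_cast
    ring

theorem xAct_of_SL (D : ChevalleyDatum) (r : ℕ) (h : SLRoot D r) : XAct D F r := by
  have hr := h.hr
  refine ⟨fun t j hj => x_mulVec_bvec_inl D r hr t j hj, fun t => x_mulVec_bvec_self D r hr t, ?_, ?_⟩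
  · intro t
    have hne : D.neg r ≠ r := h.hne
    rw [x_mulVec_bvec_neg D r hr t (D.neg r) h.hn hne rfl]
    congr 1
    unfold Hvec
    exact list_sum_mul_smul _ _ t _
  · intro t
    unfold Hvec
    rw [mulVec_list_sum]
    have hmap : (List.map (fun i => (D.x F r t).mulVec
        (((((D.coroot.getD r #[]).getD i 0 : ℤ) : F)) • (bvec D (.inl i) : D.Idx → F)))
        (List.range D.rank)) =
        List.map (fun i => ((((D.coroot.getD r #[]).getD i 0 : ℤ) : F)) •
          ((bvec D (.inl i) : D.Idx → F) -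
            ((((D.cartanSR.getD i #[]).getD r 0 : ℤ) : F) * t) • bvec D (.inr r)))
        (List.range D.rank) := by
      apply List.map_congr_left
      intro i hi
      rw [Matrix.mulVec_smul, x_mulVec_bvec_inl D r hr _ _ (List.mem_range.1 hi)]
    rw [hmap, list_sum_smul_sub]
    congr 2
    rw [list_sum_cast_mul' (List.range D.rank) (fun i => (D.coroot.getD r #[]).getD i 0)
      (fun i => (D.cartanSR.getD i #[]).getD r 0) t, h.hsum]
    norm_num

end Cfsg.Agent.Lead.Chev

namespace Cfsg.Agent.Lead.Chev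

open Cfsg Cfsg.Lie

variable {F : Type*} [Field F]

/-- the action of `x_{-r}(t)` on the adjoint part, in terms of `r` -/
structure XActN (D : ChevalleyDatum) (F : Type*) [Field F] (r : ℕ) : Prop where
  onH : ∀ (t : F) (j : ℕ), j < D.rank → (D.x F (D.neg r) t).mulVec (bvec D (.inl j)) =
    bvec D (.inl j) + ((((D.cartanSR.getD j #[]).getD r 0 : ℤ) : F) * t) • bvec D (.inr (D.neg r))
  onE : ∀ t : F, (D.x F (D.neg r) t).mulVec (bvec D (.inr (D.neg r))) = bvec D (.inr (D.neg r))
  onN : ∀ t : F, (D.x F (D.neg r) t).mulVec (bvec D (.inr r)) =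
    bvec D (.inr r) - (t ^ 2) • bvec D (.inr (D.neg r)) - t • Hvec D r
  onHv : ∀ t : F, (D.x F (D.neg r) t).mulVec (Hvec D r) = Hvec D r + (2 * t) • bvec D (.inr (D.neg r))

theorem xActN_of_SL (D : ChevalleyDatum) (r : ℕ) (h : SLRoot D r) (h' : SLRoot D (D.neg r)) :
    XActN D F r := by
  have a := xAct_of_SL (F := F) D (D.neg r) h'
  have hnn := h.hnn
  have hHv : (Hvec D (D.neg r) : D.Idx → F) = - Hvec D r := Hvec_neg D r h
  refine ⟨?_, a.onE, ?_, ?_⟩
  · intro t j hj
    rw [a.onH t j hj]
    have := h.hcar j hj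
    simp only [ChevalleyDatum.neg] at this
    simp only [ChevalleyDatum.neg]
    rw [this]
    push_cast
    rw [neg_mul, neg_smul, sub_neg_eq_add]
  · intro t
    have := a.onN t
    rw [hnn, hHv] at this
    rw [this, smul_neg, sub_eq_add_neg (bvec D (Sum.inr r) - t ^ 2 • bvec D (Sum.inr (D.neg r)))]
  · intro t
    have := a.onHv t
    rw [hHv, Matrix.mulVec_neg] at this
    have h2 := congrArg Neg.neg this
    rw [neg_neg] at h2
    rw [h2]
    rw [neg_sub, sub_neg_eq_add, add_comm]

/-- `n_r(t)` as a product of three root elements -/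
theorem nMat_eq (D : ChevalleyDatum) (r : ℕ) (t : F) :
    D.nMat F r t = D.x F r t * (D.x F (D.neg r) (-t⁻¹) * D.x F r t) := by
  simp [ChevalleyDatum.nMat, ChevalleyDatum.nWord, ChevalleyDatum.wordMat]

theorem hMat_eq (D : ChevalleyDatum) (r : ℕ) (t : F) :
    D.hMat F r t = D.nMat F r t * D.nMat F r (-1) := by
  simp [ChevalleyDatum.hMat, ChevalleyDatum.hWord, ChevalleyDatum.nMat, ChevalleyDatum.wordMat]

section adjoint

variable (D : ChevalleyDatum) (r : ℕ) (a : XAct D F r) (b : XActN D F r)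
include a b

theorem n_onH (t : F) (ht : t ≠ 0) (j : ℕ) (hj : j < D.rank) :
    (D.nMat F r t).mulVec (bvec D (.inl j)) =
      bvec D (.inl j) - (((D.cartanSR.getD j #[]).getD r 0 : ℤ) : F) • Hvec D r := by
  rw [nMat_eq, ← Matrix.mulVec_mulVec, ← Matrix.mulVec_mulVec]
  simp only [a.onH _ j hj, a.onE, a.onN, a.onHv, b.onH _ j hj, b.onE, b.onN, b.onHv,
    Matrix.mulVec_add, Matrix.mulVec_sub, Matrix.mulVec_smul, Matrix.mulVec_neg]
  match_scalars <;> field_simp <;> ring

theorem n_onE (t : F) (ht : t ≠ 0) :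
    (D.nMat F r t).mulVec (bvec D (.inr r)) = (-(t⁻¹) ^ 2) • bvec D (.inr (D.neg r)) := by
  rw [nMat_eq, ← Matrix.mulVec_mulVec, ← Matrix.mulVec_mulVec]
  simp only [a.onE, a.onN, a.onHv, b.onE, b.onN, b.onHv,
    Matrix.mulVec_add, Matrix.mulVec_sub, Matrix.mulVec_smul, Matrix.mulVec_neg]
  match_scalars <;> field_simp <;> ring

theorem n_onN (t : F) (ht : t ≠ 0) :
    (D.nMat F r t).mulVec (bvec D (.inr (D.neg r))) = (-t ^ 2) • bvec D (.inr r) := by
  rw [nMat_eq, ← Matrix.mulVec_mulVec, ← Matrix.mulVec_mulVec]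
  simp only [a.onE, a.onN, a.onHv, b.onE, b.onN, b.onHv,
    Matrix.mulVec_add, Matrix.mulVec_sub, Matrix.mulVec_smul, Matrix.mulVec_neg]
  match_scalars <;> field_simp <;> ring

theorem n_onHv (t : F) (ht : t ≠ 0) :
    (D.nMat F r t).mulVec (Hvec D r) = - Hvec D r := by
  rw [nMat_eq, ← Matrix.mulVec_mulVec, ← Matrix.mulVec_mulVec]
  simp only [a.onE, a.onN, a.onHv, b.onE, b.onN, b.onHv,
    Matrix.mulVec_add, Matrix.mulVec_sub, Matrix.mulVec_smul, Matrix.mulVec_neg]
  match_scalars <;> field_simp <;> ring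

end adjoint

end Cfsg.Agent.Lead.Chev

namespace Cfsg.Agent.Lead.Chev

open Cfsg Cfsg.Lie

variable {F : Type*} [Field F]

/-- an `r`-string `b, a = b + r` with structure constant `M = ±1` -/
structure SLString (D : ChevalleyDatum) (F : Type*) [Field F] (r b a : ℕ) (M : ℤ) : Prop where
  hM : M = 1 ∨ M = -1
  rb : ∀ t : F, (D.x F r t).mulVec (bvec D (.inr b)) = bvec D (.inr b) + ((M : F) * t) • bvec D (.inr a)
  ra : ∀ t : F, (D.x F r t).mulVec (bvec D (.inr a)) = bvec D (.inr a)
  nb : ∀ t : F, (D.x F (D.neg r) t).mulVec (bvec D (.inr b)) = bvec D (.inr b)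
  na : ∀ t : F, (D.x F (D.neg r) t).mulVec (bvec D (.inr a)) =
    bvec D (.inr a) + ((M : F) * t) • bvec D (.inr b)

theorem x_fix_of_nil (D : ChevalleyDatum) (r : ℕ) (hr : r < D.nroots) (v : ℕ) (hv : v < D.nroots)
    (h1 : v ≠ r) (h2 : v ≠ D.neg r) (hct : chainTerms D r v = []) (t : F) :
    (D.x F r t).mulVec (bvec D (.inr v)) = bvec D (.inr v) := by
  rw [x_mulVec_bvec_chain D r hr t v hv h1 h2, hct]
  simp

theorem x_of_single (D : ChevalleyDatum) (r : ℕ) (hr : r < D.nroots) (v : ℕ) (hv : v < D.nroots)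
    (h1 : v ≠ r) (h2 : v ≠ D.neg r) (u : ℕ) (M : ℤ) (hct : chainTerms D r v = [(u, 1, M)]) (t : F) :
    (D.x F r t).mulVec (bvec D (.inr v)) = bvec D (.inr v) + ((M : F) * t) • bvec D (.inr u) := by
  rw [x_mulVec_bvec_chain D r hr t v hv h1 h2, hct]
  simp

/-- classification of the roots `v ≠ ±r` -/
theorem sl_cases (D : ChevalleyDatum) (r : ℕ) (h : SLRoot D r) (h' : SLRoot D (D.neg r))
    (hnd : ((rowOf D r).map Prod.fst).Nodup) (hnd' : ((rowOf D (D.neg r)).map Prod.fst).Nodup)
    (v : ℕ) (hv : v < D.nroots) (h1 : v ≠ r) (h2 : v ≠ D.neg r) :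
    (chainTerms D r v = [] ∧ chainTerms D (D.neg r) v = [] ∧
      (∀ t : F, (D.x F r t).mulVec (bvec D (.inr v)) = bvec D (.inr v)) ∧
      (∀ t : F, (D.x F (D.neg r) t).mulVec (bvec D (.inr v)) = bvec D (.inr v))) ∨
    (∃ a M, chainTerms D r v ≠ [] ∧ SLString D F r v a M) ∨
    (∃ b M, chainTerms D r v = [] ∧ chainTerms D (D.neg r) v ≠ [] ∧ SLString D F r b v M) := by
  have hr := h.hr
  have hn := h.hn
  have hnn := h.hnn
  rcases h.hchain v hv h1 h2 with hct | ⟨u, M, hct, hM, hu, hur, hun, hctu, hctn, hctnu⟩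
  · have h2' : v ≠ D.neg (D.neg r) := by rw [hnn]; exact h1
    rcases h'.hchain v hv h2 h2' with hct' | ⟨s, M, hct', hM, hs, hsn, hsr, hcts, hctr, hctrs⟩
    · left
      exact ⟨hct, hct', fun t => x_fix_of_nil D r hr v hv h1 h2 hct t,
        fun t => x_fix_of_nil D (D.neg r) hn v hv h2 h2' hct' t⟩
    · right; right
      rw [hnn] at hsr hctr hctrs
      refine ⟨s, M, hct, by rw [hct']; simp, hM, ?_, ?_, ?_, ?_⟩
      · intro t
        exact x_of_single D r hr s hs hsr hsn v M (hctrs hnd) t
      · intro t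
        exact x_fix_of_nil D r hr v hv h1 h2 hct t
      · intro t
        exact x_fix_of_nil D (D.neg r) hn s hs hsn (by rw [hnn]; exact hsr) hcts t
      · intro t
        exact x_of_single D (D.neg r) hn v hv h2 h2' s M hct' t
  · right; left
    refine ⟨u, M, by rw [hct]; simp, hM, ?_, ?_, ?_, ?_⟩
    · intro t
      exact x_of_single D r hr v hv h1 h2 u M hct t
    · intro t
      exact x_fix_of_nil D r hr u hu hur hun hctu t
    · intro t
      exact x_fix_of_nil D (D.neg r) hn v hv h2 (by rw [hnn]; exact h1) hctn t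
    · intro t
      exact x_of_single D (D.neg r) hn u hu hun (by rw [hnn]; exact hur) v M (hctnu hnd') t

theorem n_on_bottom (D : ChevalleyDatum) (r b a : ℕ) (M : ℤ) (s : SLString D F r b a M) (t : F)
    (ht : t ≠ 0) :
    (D.nMat F r t).mulVec (bvec D (.inr b)) = ((M : F) * t) • bvec D (.inr a) := by
  rw [nMat_eq, ← Matrix.mulVec_mulVec, ← Matrix.mulVec_mulVec]
  simp only [s.rb, s.ra, s.nb, s.na, Matrix.mulVec_add, Matrix.mulVec_smul]
  rcases s.hM with h | h
  · subst h
    push_cast
    match_scalars <;> field_simp <;> ring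
  · subst h
    push_cast
    match_scalars <;> field_simp <;> ring

theorem n_on_top (D : ChevalleyDatum) (r b a : ℕ) (M : ℤ) (s : SLString D F r b a M) (t : F)
    (ht : t ≠ 0) :
    (D.nMat F r t).mulVec (bvec D (.inr a)) = (-((M : F) * t⁻¹)) • bvec D (.inr b) := by
  rw [nMat_eq, ← Matrix.mulVec_mulVec, ← Matrix.mulVec_mulVec]
  simp only [s.rb, s.ra, s.nb, s.na, Matrix.mulVec_add, Matrix.mulVec_smul]
  rcases s.hM with h | h
  · subst h
    push_cast
    match_scalars <;> field_simp <;> ring
  · subst h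
    push_cast
    match_scalars <;> field_simp <;> ring

end Cfsg.Agent.Lead.Chev

namespace Cfsg.Agent.Lead.Chev

open Cfsg Cfsg.Lie

variable {F : Type*} [Field F]

/-- the exponent of `c` in the diagonal entry of `h_r(c)` at `e_v` (simply-laced data) -/
def slExp (D : ChevalleyDatum) (r v : ℕ) : ℤ :=
  if v = r then 2 else if v = D.neg r then -2
  else if (chainTerms D r v).isEmpty then (if (chainTerms D (D.neg r) v).isEmpty then 0 else 1)
  else -1

theorem diagonal_mulVec_bvec (D : ChevalleyDatum) (d : D.Idx → F) (idx : D.Idx) :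
    (Matrix.diagonal d).mulVec (bvec D (codeOf D idx)) = d idx • (bvec D (codeOf D idx) : D.Idx → F) := by
  rw [bvec_codeOf]
  funext j
  rw [Matrix.mulVec_diagonal]
  simp only [Pi.smul_apply, Pi.single_apply, smul_eq_mul]
  by_cases h : j = idx
  · subst h; simp
  · simp [h]

theorem n_on_triv (D : ChevalleyDatum) (r v : ℕ)
    (h1 : ∀ t : F, (D.x F r t).mulVec (bvec D (.inr v)) = bvec D (.inr v))
    (h2 : ∀ t : F, (D.x F (D.neg r) t).mulVec (bvec D (.inr v)) = bvec D (.inr v)) (t : F) :
    (D.nMat F r t).mulVec (bvec D (.inr v)) = bvec D (.inr v) := by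
  rw [nMat_eq, ← Matrix.mulVec_mulVec, ← Matrix.mulVec_mulVec, h1, h2, h1]

theorem hMat_diag_SL (D : ChevalleyDatum) (r : ℕ) (h : SLRoot D r) (h' : SLRoot D (D.neg r))
    (hnd : ((rowOf D r).map Prod.fst).Nodup) (hnd' : ((rowOf D (D.neg r)).map Prod.fst).Nodup)
    (c : F) (hc : c ≠ 0) :
    D.hMat F r c = Matrix.diagonal (Sum.elim (fun _ => (1 : F))
      (fun v : Fin D.nroots => c ^ slExp D r v.val)) := by
  have a := xAct_of_SL (F := F) D r h
  have b := xActN_of_SL (F := F) D r h h'
  have h1 : (-1 : F) ≠ 0 := by norm_num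
  apply mat_eq_of_cols
  intro idx
  rw [← bvec_codeOf, diagonal_mulVec_bvec, hMat_eq, ← Matrix.mulVec_mulVec]
  rcases idx with j | v
  · have hc1 : codeOf D (Sum.inl j) = (Sum.inl j.val : Code) := rfl
    rw [hc1, n_onH D r a b (-1) h1 j.val j.2, Matrix.mulVec_sub, Matrix.mulVec_smul,
      n_onH D r a b c hc j.val j.2, n_onHv D r a b c hc]
    simp only [Sum.elim_inl, one_smul]
    module
  · have hc1 : codeOf D (Sum.inr v) = (Sum.inr v.val : Code) := rfl
    rw [hc1]
    simp only [Sum.elim_inr]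
    by_cases hvr : v.val = r
    · rw [hvr, n_onE D r a b (-1) h1, Matrix.mulVec_smul, n_onN D r a b c hc]
      have : slExp D r r = 2 := by simp [slExp]
      rw [this, smul_smul]
      congr 1
      rw [zpow_ofNat]
      field_simp
    · by_cases hvn : v.val = D.neg r
      · rw [hvn, n_onN D r a b (-1) h1, Matrix.mulVec_smul, n_onE D r a b c hc]
        have : slExp D r (D.neg r) = -2 := by
          simp [slExp, h.hne]
        rw [this, smul_smul]
        congr 1
        rw [zpow_neg, zpow_ofNat]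
        field_simp
      · rcases sl_cases (F := F) D r h h' hnd hnd' v.val v.2 hvr hvn with
          ⟨e1, e2, f1, f2⟩ | ⟨u, M, e1, s⟩ | ⟨u, M, e1, e2, s⟩
        · rw [n_on_triv D r v.val f1 f2, n_on_triv D r v.val f1 f2]
          have : slExp D r v.val = 0 := by
            simp [slExp, hvr, hvn, e1, e2]
          rw [this, zpow_zero, one_smul]
        · rw [n_on_bottom D r v.val u M s (-1) h1, Matrix.mulVec_smul, n_on_top D r v.val u M s c hc]
          have : slExp D r v.val = -1 := by
            have : (chainTerms D r v.val).isEmpty = false := by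
              cases hct : chainTerms D r v.val with
              | nil => exact absurd hct e1
              | cons _ _ => rfl
            simp [slExp, hvr, hvn, this]
          rw [this, smul_smul, zpow_neg, zpow_one]
          congr 1
          rcases s.hM with hM | hM <;> subst hM <;> push_cast <;> ring
        · rw [n_on_top D r u v.val M s (-1) h1, Matrix.mulVec_smul, n_on_bottom D r u v.val M s c hc]
          have : slExp D r v.val = 1 := by
            have h3 : (chainTerms D (D.neg r) v.val).isEmpty = false := by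
              cases hct : chainTerms D (D.neg r) v.val with
              | nil => exact absurd hct e2
              | cons _ _ => rfl
            simp [slExp, hvr, hvn, e1, h3]
          rw [this, smul_smul, zpow_one]
          congr 1
          rcases s.hM with hM | hM <;> subst hM <;> push_cast <;> field_simp

end Cfsg.Agent.Lead.Chev
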