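import Mathlib
import Cfsg.Agent.Lib.Lead.ChevH
import Cfsg.Agent.Lib.Lead.ChevSLH

/-!
`h_r(c)` is diagonal for every root `r`, with exponents `chainExp D r v = p - q` read off the chains.
-/

set_option autoImplicit false
set_option linter.unusedSectionVars false
set_option linter.unusedSimpArgs false
set_option linter.unusedVariables false

namespace Cfsg.Agent.Lead.Chev

open Cfsg Cfsg.Lie

variable {F : Type*} [Field F]

/-- the integer `A_{r,v} = p - q` where the `r`-string through `v` is `v - p r, …, v + q r` -/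
def chainExp (D : ChevalleyDatum) (r v : ℕ) : ℤ :=
  if v = r then 2 else if v = D.neg r then -2
  else ((chainTerms D (D.neg r) v).length : ℤ) - ((chainTerms D r v).length : ℤ)

def hAllChkL (D : ChevalleyDatum) (r j : ℕ) : Bool :=
  colEq D (hWordS D r) (.inl j) [(.inl j, pC 0)]

def hAllChkR (D : ChevalleyDatum) (r s : ℕ) : Bool :=
  colEq D (hWordS D r) (.inr s) [(.inr s, pC (chainExp D r s))]

theorem hMat_diag_of_chk (D : ChevalleyDatum) (r : ℕ)
    (hL : ∀ j < D.rank, hAllChkL D r j = true) (hR : ∀ s < D.nroots, hAllChkR D r s = true)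
    (c : F) (hc : c ≠ 0) :
    D.hMat F r c =
      Matrix.diagonal (Sum.elim (fun _ => (1 : F)) (fun s : Fin D.nroots => c ^ chainExp D r s.val)) := by
  let v : Val F := ⟨c, hc, 0, 0⟩
  have hw : evalWord v (hWordS D r) = D.hWord r c := evalWord_hWordS D v _
  unfold ChevalleyDatum.hMat
  rw [← hw]
  apply mat_eq_of_cols
  intro idx
  rcases idx with a | s
  · have h := hL a.val a.2
    rw [hAllChkL] at h
    have hc' : (Sum.inl a.val : Code) = codeOf D (Sum.inl a) := rfl
    rw [hc'] at h
    rw [mulVec_of_colEq D v _ _ _ h, evalV_single, evalP_pC]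
    funext j
    simp [Matrix.mulVec, dotProduct, Matrix.diagonal_apply, Pi.single_apply]
    split_ifs with hj
    · subst hj; rfl
    · rfl
  · have h := hR s.val s.2
    rw [hAllChkR] at h
    have hc' : (Sum.inr s.val : Code) = codeOf D (Sum.inr s) := rfl
    rw [hc'] at h
    rw [mulVec_of_colEq D v _ _ _ h, evalV_single, evalP_pC]
    funext j
    simp [Matrix.mulVec, dotProduct, Matrix.diagonal_apply, Pi.single_apply, v]
    split_ifs with hj
    · subst hj; rfl
    · rfl

theorem slExp_eq_chainExp (D : ChevalleyDatum) (r : ℕ) (h : SLRoot D r) (h' : SLRoot D (D.neg r))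
    (v : ℕ) (hv : v < D.nroots) : slExp D r v = chainExp D r v := by
  unfold slExp chainExp
  by_cases h1 : v = r
  · simp [h1]
  · by_cases h2 : v = D.neg r
    · simp [h1, h2]
    · simp only [h1, h2, if_false]
      have h2' : v ≠ D.neg (D.neg r) := by rw [h.hnn]; exact h1
      rcases h.hchain v hv h1 h2 with hct | ⟨u, M, hct, -, -, -, -, -, hctn, -⟩
      · rcases h'.hchain v hv h2 h2' with hct' | ⟨s, M, hct', -⟩
        · simp [hct, hct']
        · simp [hct, hct']
      · simp [hct, hctn]

theorem hMat_diag_of_SL (D : ChevalleyDatum) (r : ℕ) (h : SLRoot D r) (h' : SLRoot D (D.neg r))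
    (hnd : ((rowOf D r).map Prod.fst).Nodup) (hnd' : ((rowOf D (D.neg r)).map Prod.fst).Nodup)
    (c : F) (hc : c ≠ 0) :
    D.hMat F r c =
      Matrix.diagonal (Sum.elim (fun _ => (1 : F)) (fun s : Fin D.nroots => c ^ chainExp D r s.val)) := by
  rw [hMat_diag_SL D r h h' hnd hnd' c hc]
  congr 1
  funext idx
  rcases idx with j | s
  · rfl
  · simp only [Sum.elim_inr]
    rw [slExp_eq_chainExp D r h h' s.val s.2]

end Cfsg.Agent.Lead.Chev
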