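import Mathlib
import Cfsg.Agent.Lib.Lead.ChevCol

/-!
Weights: the Cartan integers `A_{p_i, s}` are additive along chains. Packed rows give fast look-ups for
the kernel. Consequence: a diagonal matrix with entries `c^{A_{p_i,s}}` conjugates `x_s(t)` to
`x_s(c^{A_{p_i,s}} t)`.
-/

set_option autoImplicit false
set_option linter.unusedSectionVars false
set_option linter.unusedSimpArgs false
set_option linter.unusedVariables false

namespace Cfsg.Agent.Lead.Chev

open Cfsg Cfsg.Lie

variable {F : Type*} [Field F]

/-! ### packed rows of small integers -/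

/-- pack a list of integers in `[-4, 3]` into a natural number, base 8 -/
def packRow (l : List ℤ) : ℕ := l.foldr (fun a acc => (a + 4).toNat + 8 * acc) 0

/-- look up a packed row -/
def unpackZ (P v : ℕ) : ℤ := ((P / 8 ^ v % 8 : ℕ) : ℤ) - 4

theorem unpackZ_packRow (l : List ℤ) (hl : ∀ a ∈ l, -4 ≤ a ∧ a ≤ 3) (v : ℕ) (hv : v < l.length) :
    unpackZ (packRow l) v = l[v] := by
  induction l generalizing v with
  | nil => simp at hv
  | cons a t ih =>
    have ha := hl a (List.mem_cons_self)
    have hd : (a + 4).toNat < 8 := by omega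
    have hp : packRow (a :: t) = (a + 4).toNat + 8 * packRow t := rfl
    cases v with
    | zero =>
      unfold unpackZ
      rw [hp, pow_zero, Nat.div_one, Nat.add_mul_mod_self_left, Nat.mod_eq_of_lt hd]
      simp only [List.getElem_cons_zero]
      omega
    | succ v =>
      have hv' : v < t.length := by simpa using hv
      have := ih (fun b hb => hl b (List.mem_cons_of_mem _ hb)) v hv'
      unfold unpackZ at this ⊢
      rw [hp, pow_succ, mul_comm (8 ^ v) 8, ← Nat.div_div_eq_div_mul,
        Nat.add_mul_div_left _ _ (by norm_num : 0 < 8), Nat.div_eq_of_lt hd, zero_add]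
      simpa using this

/-! ### the Cartan rows -/

/-- the row `s ↦ A_{p_i, s}` -/
def cartanRow (D : ChevalleyDatum) (i : ℕ) : List ℤ := (D.cartanSR.getD i #[]).toList

theorem cartan_eq_getD (D : ChevalleyDatum) (i s : ℕ) : D.cartan i s = (cartanRow D i).getD s 0 := by
  simp [ChevalleyDatum.cartan, cartanRow]

/-- the row has the right length and small entries -/
def rowOK (D : ChevalleyDatum) (i : ℕ) : Bool :=
  decide ((cartanRow D i).length = D.nroots) &&
    (cartanRow D i).all fun a => decide (-4 ≤ a) && decide (a ≤ 3)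

/-- fast look-up of `A_{p_i, s}` -/
def cartanP (D : ChevalleyDatum) (i s : ℕ) : ℤ := unpackZ (packRow (cartanRow D i)) s

theorem cartanP_eq (D : ChevalleyDatum) (i : ℕ) (h : rowOK D i = true) (s : ℕ) (hs : s < D.nroots) :
    unpackZ (packRow (cartanRow D i)) s = D.cartan i s := by
  simp only [rowOK, Bool.and_eq_true, decide_eq_true_eq, List.all_eq_true] at h
  have hs' : s < (cartanRow D i).length := by rw [h.1]; exact hs
  rw [unpackZ_packRow _ (fun a ha => h.2 a ha) s hs', cartan_eq_getD, List.getD_eq_getElem _ _ hs']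

/-- `A_{p_i, -s} = - A_{p_i, s}`, checked sequentially along the table of negatives -/
def negChk (D : ChevalleyDatum) (i : ℕ) : Bool :=
  fNat (packRow (cartanRow D i)) fun P =>
    decide (D.negIdx.size = D.nroots) &&
      D.negIdx.toList.zipIdx.all fun q => decide (q.1 < D.nroots) && decide (unpackZ P q.1 = - unpackZ P q.2)

theorem neg_of_negChk (D : ChevalleyDatum) (i : ℕ) (hrow : rowOK D i = true) (h : negChk D i = true)
    (s : ℕ) (hs : s < D.nroots) :
    D.neg s < D.nroots ∧ D.cartan i (D.neg s) = - D.cartan i s := by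
  rw [negChk, fNat_eq] at h
  simp only [Bool.and_eq_true, decide_eq_true_eq, List.all_eq_true] at h
  obtain ⟨hsz, hall⟩ := h
  have hs' : s < D.negIdx.toList.length := by
    rw [Array.length_toList, hsz]; exact hs
  have hmem : (D.negIdx.toList[s], s) ∈ D.negIdx.toList.zipIdx := by
    rw [List.mem_zipIdx_iff_getElem?]
    simp [hs']
  have := hall _ hmem
  have hneg : D.neg s = D.negIdx.toList[s] := by
    simp only [ChevalleyDatum.neg]
    rw [Array.getD_eq_getD_getElem?, ← Array.getElem?_toList, List.getElem?_eq_getElem hs']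
    rfl
  rw [hneg]
  refine ⟨this.1, ?_⟩
  rw [← cartanP_eq D i hrow _ this.1, ← cartanP_eq D i hrow _ hs]
  exact this.2

/-- additivity of `A_{p_i, ·}` along the chains of the root `s` -/
def wtChk (D : ChevalleyDatum) (i s : ℕ) : Bool :=
  fNat (packRow (cartanRow D i)) fun P =>
    (D.chain.getD s #[]).toList.all fun e =>
      e.2.toList.zipIdx.all fun q =>
        decide (q.1.1 < D.nroots) &&
          decide (unpackZ P q.1.1 = unpackZ P e.1 + ((q.2 + 1 : ℕ) : ℤ) * unpackZ P s)

theorem wt_of_wtChk (D : ChevalleyDatum) (i : ℕ) (hrow : rowOK D i = true) (s : ℕ)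
    (hs : s < D.nroots) (h : wtChk D i s = true) (v : ℕ) (hv : v < D.nroots) (x : ℕ × ℕ × ℤ)
    (hx : x ∈ chainTerms D s v) :
    x.1 < D.nroots ∧ D.cartan i x.1 = D.cartan i v + (x.2.1 : ℤ) * D.cartan i s := by
  rw [wtChk, fNat_eq] at h
  simp only [List.all_eq_true, Bool.and_eq_true, decide_eq_true_eq] at h
  unfold chainTerms at hx
  simp only [List.mem_flatMap, List.mem_filter, decide_eq_true_eq, List.mem_map] at hx
  obtain ⟨e, ⟨he, hev⟩, q, hq, rfl⟩ := hx
  have := h e he q hq
  refine ⟨this.1, ?_⟩
  rw [← cartanP_eq D i hrow _ this.1, ← cartanP_eq D i hrow _ hv, ← cartanP_eq D i hrow _ hs, ← hev]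
  exact this.2

/-! ### conjugation by the diagonal matrix -/

/-- the diagonal entries by code -/
def dcode (D : ChevalleyDatum) (i : ℕ) (c : F) : Code → F :=
  Sum.elim (fun _ => 1) (fun u => c ^ (D.cartan i u))

theorem diag_mulVec_bvec (D : ChevalleyDatum) (i : ℕ) (c : F) (code : Code) :
    (Matrix.diagonal (Sum.elim (fun _ => (1 : F))
        (fun s : Fin D.nroots => c ^ (D.cartan i s)))).mulVec (bvec D code) =
      dcode D i c code • (bvec D code : D.Idx → F) := by
  funext idx
  rw [Matrix.mulVec_diagonal]
  simp only [bvec, Pi.smul_apply, smul_eq_mul]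
  by_cases h : code = codeOf D idx
  · subst h
    rcases idx with a | s <;> simp [dcode, codeOf]
  · simp [h]

theorem diag_conj_x (D : ChevalleyDatum) (i : ℕ) (hrow : rowOK D i = true)
    (hneg : negChk D i = true) (s : ℕ) (hs : s < D.nroots) (hwt : wtChk D i s = true)
    (c : F) (hc : c ≠ 0) (t : F) :
    Matrix.diagonal (Sum.elim (fun _ => (1 : F)) (fun s : Fin D.nroots => c ^ (D.cartan i s))) *
        D.x F s t =
      D.x F s (c ^ (D.cartan i s) * t) *
        Matrix.diagonal (Sum.elim (fun _ => (1 : F)) (fun s : Fin D.nroots => c ^ (D.cartan i s))) := by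
  apply mat_eq_of_cols
  intro idx
  rw [← bvec_codeOf, ← Matrix.mulVec_mulVec, ← Matrix.mulVec_mulVec, diag_mulVec_bvec,
    Matrix.mulVec_smul]
  set a := D.cartan i s with ha
  rcases idx with j | v
  · have hc1 : codeOf D (Sum.inl j) = (Sum.inl j.val : Code) := rfl
    rw [hc1, x_mulVec_bvec_inl D s hs _ _ j.2, x_mulVec_bvec_inl D s hs _ _ j.2,
      Matrix.mulVec_sub, Matrix.mulVec_smul, diag_mulVec_bvec, diag_mulVec_bvec]
    simp only [dcode, Sum.elim_inl, Sum.elim_inr, one_smul, ← ha]
    rw [smul_smul]
    congr 2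
    ring
  · have hc1 : codeOf D (Sum.inr v) = (Sum.inr v.val : Code) := rfl
    rw [hc1]
    by_cases hvs : v.val = s
    · rw [hvs, x_mulVec_bvec_self D s hs, x_mulVec_bvec_self D s hs, diag_mulVec_bvec]
    · by_cases hvn : v.val = D.negIdx.getD s 0
      · obtain ⟨-, hnegA⟩ := neg_of_negChk D i hrow hneg s hs
        have hAv : D.cartan i v.val = -a := by
          rw [hvn]; exact hnegA
        rw [x_mulVec_bvec_neg D s hs _ _ v.2 hvs hvn, x_mulVec_bvec_neg D s hs _ _ v.2 hvs hvn,
          Matrix.mulVec_add, Matrix.mulVec_sub, Matrix.mulVec_smul, mulVec_list_sum,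
          diag_mulVec_bvec, diag_mulVec_bvec]
        simp only [dcode, Sum.elim_inr, hAv, ← ha, smul_add, smul_sub, smul_smul]
        have hca : c ^ a ≠ 0 := zpow_ne_zero _ hc
        congr 1
        · congr 2
          rw [zpow_neg]
          field_simp
        · rw [List.smul_sum, List.map_map]
          congr 1
          apply List.map_congr_left
          intro k _
          simp only [Function.comp, Matrix.mulVec_smul, diag_mulVec_bvec, dcode, Sum.elim_inl, one_smul,
            smul_smul]
          congr 1
          rw [zpow_neg]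
          field_simp
      · rw [x_mulVec_bvec_chain D s hs _ _ v.2 hvs hvn, x_mulVec_bvec_chain D s hs _ _ v.2 hvs hvn,
          Matrix.mulVec_add, mulVec_list_sum, diag_mulVec_bvec, smul_add]
        congr 1
        rw [List.smul_sum, List.map_map]
        congr 1
        apply List.map_congr_left
        intro x hx
        obtain ⟨hx1, hx2⟩ := wt_of_wtChk D i hrow s hs hwt v.val v.2 x hx
        simp only [Function.comp, Matrix.mulVec_smul, diag_mulVec_bvec, dcode, Sum.elim_inr, smul_smul,
          hx2, ← ha]
        congr 1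
        rw [zpow_add₀ hc, mul_pow, ← zpow_natCast (c ^ a), ← zpow_mul, mul_comm a]
        ring

end Cfsg.Agent.Lead.Chev
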