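import Mathlib
import Cfsg.Agent.Lib.Lead.ChevWt
import Cfsg.Agent.Lib.Lead.ChevHAll

/-!
The table identity `chainExp D r v = Σ_i c_i(r) A_{p_i, v}` (the Cartan integer `A_{r,v}` computed from the
coroot coordinates), with a kernel-friendly Boolean test.
-/

set_option autoImplicit false
set_option linter.unusedSectionVars false
set_option linter.unusedSimpArgs false
set_option linter.unusedVariables false

namespace Cfsg.Agent.Lead.Chev

open Cfsg Cfsg.Lie

/-- `Σ_i c_i(r) A_{p_i, v}` -/
def corSum (D : ChevalleyDatum) (r v : ℕ) : ℤ :=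
  ((List.range D.rank).map fun i => (D.coroot.getD r #[]).getD i 0 * D.cartan i v).sum

/-- dot product of a list of integers with the packed rows looked up at `v` -/
def dotP : List ℤ → List ℕ → ℕ → ℤ
  | c :: cs, P :: Ps, v => c * unpackZ P v + dotP cs Ps v
  | _, _, _ => 0

theorem dotP_map (l : List ℕ) (a : ℕ → ℤ) (b : ℕ → ℕ) (v : ℕ) :
    dotP (l.map a) (l.map b) v = (l.map fun i => a i * unpackZ (b i) v).sum := by
  induction l with
  | nil => rfl
  | cons x l ih => simp [dotP, ih]

/-- the packed Cartan rows -/
def packedRows (D : ChevalleyDatum) : List ℕ := (List.range D.rank).map fun i => packRow (cartanRow D i)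

/-- test of the identity for the root `r` -/
def expChk (D : ChevalleyDatum) (r : ℕ) : Bool :=
  fList fNat (packedRows D) fun Ps =>
    fList fInt ((List.range D.rank).map fun i => (D.coroot.getD r #[]).getD i 0) fun cor =>
      (List.range D.nroots).all fun v => decide (dotP cor Ps v = chainExp D r v)

theorem corSum_eq_of_expChk (D : ChevalleyDatum) (hrow : ∀ i < D.rank, rowOK D i = true) (r : ℕ)
    (h : expChk D r = true) (v : ℕ) (hv : v < D.nroots) : chainExp D r v = corSum D r v := by
  rw [expChk, fList_eq fNat (fun a k => fNat_eq a k), fList_eq fInt (fun a k => fInt_eq a k)] at h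
  have := List.all_eq_true.1 h v (List.mem_range.2 hv)
  simp only [decide_eq_true_eq] at this
  rw [← this, packedRows, dotP_map, corSum]
  congr 1
  apply List.map_congr_left
  intro i hi
  rw [cartanP_eq D i (hrow i (List.mem_range.1 hi)) v hv]

end Cfsg.Agent.Lead.Chev
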