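import Mathlib
import Cfsg.Agent.Lib.Lead.ChevExp

/-!
The diagonal subgroup `H`: every element is `T(c) = ∏_i h_{p_i}(c_i)`, a diagonal matrix with entries
`χ_c(v) = ∏_i c_i ^ A_{p_i, v}`.
-/

set_option autoImplicit false
set_option linter.unusedSectionVars false
set_option linter.unusedSimpArgs false
set_option linter.unusedVariables false

namespace Cfsg.Agent.Lead.Chev

open Cfsg Cfsg.Lie

variable {F : Type*} [Field F]

/-- the character `v ↦ ∏_i c_i ^ A_{p_i, v}` -/
def chi (D : ChevalleyDatum) (c : ℕ → F) (v : ℕ) : F :=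
  ((List.range D.rank).map fun i => c i ^ (D.cartan i v)).prod

/-- the diagonal matrix `T(c)` -/
def Tmat (D : ChevalleyDatum) (c : ℕ → F) : Matrix D.Idx D.Idx F :=
  Matrix.diagonal (Sum.elim (fun _ => (1 : F)) (fun v : Fin D.nroots => chi D c v.val))

theorem wordMat_append (D : ChevalleyDatum) (l₁ l₂ : List (ℕ × F)) :
    D.wordMat F (l₁ ++ l₂) = D.wordMat F l₁ * D.wordMat F l₂ := by
  simp [ChevalleyDatum.wordMat]

theorem wordMat_flatMap_hWord (D : ChevalleyDatum) (l : List ℕ) (c : ℕ → F) :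
    D.wordMat F (l.flatMap fun i => D.hWord (D.simple i) (c i)) =
      (l.map fun i => D.hMat F (D.simple i) (c i)).prod := by
  induction l with
  | nil => simp [ChevalleyDatum.wordMat]
  | cons a l ih =>
    rw [List.flatMap_cons, wordMat_append, ih, List.map_cons, List.prod_cons]
    rfl

theorem list_prod_diagonal {ι : Type*} [Fintype ι] [DecidableEq ι] (l : List ℕ) (d : ℕ → ι → F) :
    (l.map fun i => Matrix.diagonal (d i)).prod = Matrix.diagonal fun x => (l.map fun i => d i x).prod := by
  induction l with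
  | nil => simp
  | cons a l ih =>
    rw [List.map_cons, List.prod_cons, ih, Matrix.diagonal_mul_diagonal]
    congr 1

/-- the hypothesis that the fundamental `h_{p_i}(c)` are the expected diagonal matrices (S1033) -/
def HSimple (D : ChevalleyDatum) (F : Type*) [Field F] : Prop :=
  ∀ i < D.rank, ∀ c : F, c ≠ 0 → D.hMat F (D.simple i) c =
    Matrix.diagonal (Sum.elim (fun _ => (1 : F)) (fun s : Fin D.nroots => c ^ (D.cartan i s)))

theorem wordMat_eq_Tmat (D : ChevalleyDatum) (hS : HSimple D F) (c : ℕ → F)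
    (hc : ∀ i < D.rank, c i ≠ 0) :
    D.wordMat F ((List.range D.rank).flatMap fun i => D.hWord (D.simple i) (c i)) = Tmat D c := by
  rw [wordMat_flatMap_hWord]
  have : (List.range D.rank).map (fun i => D.hMat F (D.simple i) (c i)) =
      (List.range D.rank).map (fun i => Matrix.diagonal
        (Sum.elim (fun _ => (1 : F)) (fun s : Fin D.nroots => c i ^ (D.cartan i s)))) := by
    apply List.map_congr_left
    intro i hi
    exact hS i (List.mem_range.1 hi) (c i) (hc i (List.mem_range.1 hi))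
  rw [this, list_prod_diagonal]
  unfold Tmat
  congr 1
  funext idx
  rcases idx with j | v
  · simp
  · simp [chi]

theorem chi_mul (D : ChevalleyDatum) (c c' : ℕ → F) (v : ℕ) :
    chi D (fun i => c i * c' i) v = chi D c v * chi D c' v := by
  unfold chi
  rw [← List.prod_map_mul]
  congr 1
  apply List.map_congr_left
  intro i _
  rw [mul_zpow]

theorem Tmat_mul (D : ChevalleyDatum) (c c' : ℕ → F) :
    Tmat D c * Tmat D c' = Tmat D (fun i => c i * c' i) := by
  unfold Tmat
  rw [Matrix.diagonal_mul_diagonal]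
  congr 1
  funext idx
  rcases idx with j | v
  · simp
  · simp [chi_mul]

theorem chi_one (D : ChevalleyDatum) (v : ℕ) : chi D (fun _ => (1 : F)) v = 1 := by
  unfold chi
  simp

theorem Tmat_one (D : ChevalleyDatum) : Tmat D (fun _ => (1 : F)) = 1 := by
  unfold Tmat
  rw [← Matrix.diagonal_one]
  congr 1
  funext idx
  rcases idx with j | v
  · simp
  · simp [chi_one]

theorem chi_congr (D : ChevalleyDatum) (c c' : ℕ → F) (h : ∀ i < D.rank, c i = c' i) (v : ℕ) :
    chi D c v = chi D c' v := by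
  unfold chi
  congr 1
  apply List.map_congr_left
  intro i hi
  rw [h i (List.mem_range.1 hi)]

theorem Tmat_congr (D : ChevalleyDatum) (c c' : ℕ → F) (h : ∀ i < D.rank, c i = c' i) :
    Tmat D c = Tmat D c' := by
  unfold Tmat
  congr 1
  funext idx
  rcases idx with j | v
  · rfl
  · simp [chi_congr D c c' h]

theorem Tmat_mul_inv (D : ChevalleyDatum) (c : ℕ → F) (hc : ∀ i < D.rank, c i ≠ 0) :
    Tmat D c * Tmat D (fun i => (c i)⁻¹) = 1 := by
  rw [Tmat_mul, ← Tmat_one]
  apply Tmat_congr
  intro i hi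
  exact mul_inv_cancel₀ (hc i hi)

theorem zpow_list_sum (t : F) (ht : t ≠ 0) (l : List ℕ) (f : ℕ → ℤ) :
    t ^ (l.map f).sum = (l.map fun i => t ^ f i).prod := by
  induction l with
  | nil => simp
  | cons a l ih => rw [List.map_cons, List.sum_cons, zpow_add₀ ht, ih, List.map_cons, List.prod_cons]

/-- the hypothesis that all `h_r(c)` are the expected diagonal matrices, with exponent `corSum` -/
def HAll (D : ChevalleyDatum) (F : Type*) [Field F] : Prop :=
  ∀ r < D.nroots, ∀ c : F, c ≠ 0 → D.hMat F r c =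
    Matrix.diagonal (Sum.elim (fun _ => (1 : F)) (fun s : Fin D.nroots => c ^ corSum D r s.val))

theorem hMat_eq_Tmat (D : ChevalleyDatum) (hA : HAll D F) (r : ℕ) (hr : r < D.nroots) (t : F)
    (ht : t ≠ 0) :
    D.hMat F r t = Tmat D (fun i => t ^ ((D.coroot.getD r #[]).getD i 0)) := by
  rw [hA r hr t ht]
  unfold Tmat
  congr 1
  funext idx
  rcases idx with j | v
  · rfl
  · simp only [Sum.elim_inr, corSum, chi]
    rw [zpow_list_sum t ht]
    congr 1
    apply List.map_congr_left
    intro i _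
    rw [zpow_mul]

/-- every element of `H` is some `T(c)` -/
theorem exists_Tmat_of_mem (D : ChevalleyDatum) (hA : HAll D F) (g : GL D.Idx F)
    (hg : g ∈ D.diagonalSubgroup F) :
    ∃ c : ℕ → F, (∀ i < D.rank, c i ≠ 0) ∧ (g : Matrix D.Idx D.Idx F) = Tmat D c := by
  unfold ChevalleyDatum.diagonalSubgroup at hg
  induction hg using Subgroup.closure_induction with
  | mem x hx =>
    obtain ⟨r, t, hr, ht, hx⟩ := hx
    exact ⟨_, fun i _ => zpow_ne_zero _ ht, by rw [hx, hMat_eq_Tmat D hA r hr t ht]⟩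
  | one =>
    exact ⟨fun _ => 1, fun _ _ => one_ne_zero, by rw [Tmat_one]; rfl⟩
  | mul x y _ _ hx hy =>
    obtain ⟨c, hc, hxc⟩ := hx
    obtain ⟨c', hc', hyc⟩ := hy
    refine ⟨fun i => c i * c' i, fun i hi => mul_ne_zero (hc i hi) (hc' i hi), ?_⟩
    rw [Units.val_mul, hxc, hyc, Tmat_mul]
  | inv x _ hx =>
    obtain ⟨c, hc, hxc⟩ := hx
    refine ⟨fun i => (c i)⁻¹, fun i hi => inv_ne_zero (hc i hi), ?_⟩
    rw [Matrix.coe_units_inv, hxc]
    exact Matrix.inv_eq_right_inv (Tmat_mul_inv D c hc)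

end Cfsg.Agent.Lead.Chev
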