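import Mathlib
import Cfsg.Agent.Lib.Lead.ChevDiagGroup
import Cfsg.Agent.Lib.Helper5.ChevUnipotent

/-!
`H` normalises `U`, `U ∩ H = 1`, and `B = UH` is solvable — from abstract hypotheses on the datum.
-/

set_option autoImplicit false
set_option linter.unusedSectionVars false
set_option linter.unusedSimpArgs false
set_option linter.unusedVariables false

namespace Cfsg.Agent.Lead.Chev

open Cfsg Cfsg.Lie

variable {F : Type*} [Field F]

/-- conjugation of root elements by the fundamental diagonal matrices (S1032 with S1033) -/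
def HConj (D : ChevalleyDatum) (F : Type*) [Field F] : Prop :=
  ∀ i < D.rank, ∀ s < D.nroots, ∀ c : F, c ≠ 0 → ∀ t : F,
    Matrix.diagonal (Sum.elim (fun _ => (1 : F)) (fun v : Fin D.nroots => c ^ (D.cartan i v))) *
        D.x F s t =
      D.x F s (c ^ (D.cartan i s) * t) *
        Matrix.diagonal (Sum.elim (fun _ => (1 : F)) (fun v : Fin D.nroots => c ^ (D.cartan i v)))

theorem list_prod_conj (D : ChevalleyDatum) (hC : HConj D F) (s : ℕ) (hs : s < D.nroots) (c : ℕ → F)
    (l : List ℕ) (hl : ∀ i ∈ l, i < D.rank ∧ c i ≠ 0) (t : F) :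
    (l.map fun i => Matrix.diagonal (Sum.elim (fun _ => (1 : F))
        (fun v : Fin D.nroots => c i ^ (D.cartan i v)))).prod * D.x F s t =
      D.x F s ((l.map fun i => c i ^ (D.cartan i s)).prod * t) *
        (l.map fun i => Matrix.diagonal (Sum.elim (fun _ => (1 : F))
          (fun v : Fin D.nroots => c i ^ (D.cartan i v)))).prod := by
  induction l generalizing t with
  | nil => simp
  | cons a l ih =>
    have ha := hl a List.mem_cons_self
    have hl' : ∀ i ∈ l, i < D.rank ∧ c i ≠ 0 := fun i hi => hl i (List.mem_cons_of_mem _ hi)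
    rw [List.map_cons, List.prod_cons, mul_assoc, ih hl', ← mul_assoc, hC a ha.1 s hs (c a) ha.2,
      mul_assoc, List.map_cons, List.prod_cons]
    congr 2
    ring

theorem Tmat_eq_prod (D : ChevalleyDatum) (c : ℕ → F) :
    Tmat D c = ((List.range D.rank).map fun i => Matrix.diagonal (Sum.elim (fun _ => (1 : F))
        (fun v : Fin D.nroots => c i ^ (D.cartan i v)))).prod := by
  rw [list_prod_diagonal]
  unfold Tmat
  congr 1
  funext idx
  rcases idx with j | v
  · simp
  · simp [chi]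

theorem Tmat_conj (D : ChevalleyDatum) (hC : HConj D F) (s : ℕ) (hs : s < D.nroots) (c : ℕ → F)
    (hc : ∀ i < D.rank, c i ≠ 0) (t : F) :
    Tmat D c * D.x F s t = D.x F s (chi D c s * t) * Tmat D c := by
  rw [Tmat_eq_prod]
  exact list_prod_conj D hC s hs c _ (fun i hi => ⟨List.mem_range.1 hi, hc i (List.mem_range.1 hi)⟩) t

/-- conjugation by an element of `H` maps `U` into `U` -/
theorem conj_mem_posUnipotent (D : ChevalleyDatum) (hA : HAll D F) (hC : HConj D F)
    (g : GL D.Idx F) (hg : g ∈ D.diagonalSubgroup F) (u : GL D.Idx F) (hu : u ∈ D.posUnipotent F) :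
    g * u * g⁻¹ ∈ D.posUnipotent F := by
  obtain ⟨c, hc, hgc⟩ := exists_Tmat_of_mem D hA g hg
  unfold ChevalleyDatum.posUnipotent at hu ⊢
  induction hu using Subgroup.closure_induction with
  | mem x hx =>
    obtain ⟨s, t, hs, hx⟩ := hx
    apply Subgroup.subset_closure
    refine ⟨s, chi D c s * t, hs, ?_⟩
    have h1 : ((g * x * g⁻¹ : GL D.Idx F) : Matrix D.Idx D.Idx F) * (g : Matrix D.Idx D.Idx F) =
        (g : Matrix D.Idx D.Idx F) * (x : Matrix D.Idx D.Idx F) := by
      rw [← Units.val_mul, ← Units.val_mul]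
      congr 1
      group
    rw [hx, hgc, Tmat_conj D hC s hs.1 c hc t] at h1
    have hinv : Tmat D c * Tmat D (fun i => (c i)⁻¹) = 1 := Tmat_mul_inv D c hc
    have h2 := congrArg (· * Tmat D (fun i => (c i)⁻¹)) h1
    simp only [mul_assoc, hinv, mul_one] at h2
    rw [mul_assoc g x g⁻¹]
    exact h2
  | one => simp
  | mul x y _ _ hx hy =>
    have : g * (x * y) * g⁻¹ = (g * x * g⁻¹) * (g * y * g⁻¹) := by group
    rw [this]
    exact Subgroup.mul_mem _ hx hy
  | inv x _ hx =>
    have : g * x⁻¹ * g⁻¹ = (g * x * g⁻¹)⁻¹ := by group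
    rw [this]
    exact Subgroup.inv_mem _ hx

theorem diagonalSubgroup_le_normalizer (D : ChevalleyDatum) (hA : HAll D F) (hC : HConj D F) :
    D.diagonalSubgroup F ≤ Subgroup.normalizer (D.posUnipotent F : Set (GL D.Idx F)) := by
  intro g hg
  rw [Subgroup.mem_normalizer_iff]
  intro u
  constructor
  · intro hu
    exact conj_mem_posUnipotent D hA hC g hg u hu
  · intro hu
    have := conj_mem_posUnipotent D hA hC g⁻¹ (Subgroup.inv_mem _ hg) _ hu
    have e : g⁻¹ * (g * u * g⁻¹) * g⁻¹⁻¹ = u := by group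
    rw [e] at this
    exact this

theorem posUnipotent_inf_diagonalSubgroup (D : ChevalleyDatum) (hA : HAll D F)
    (hP : Cfsg.Agent.Helper5.PosOk D) :
    D.posUnipotent F ⊓ D.diagonalSubgroup F = ⊥ := by
  rw [eq_bot_iff]
  rintro g ⟨hgU, hgH⟩
  obtain ⟨c, hc, hgc⟩ := exists_Tmat_of_mem D hA g hgH
  have hlow : Cfsg.Agent.Helper5.Lowers (Cfsg.Agent.Helper5.chevLevel D) 1
      ((g : Matrix D.Idx D.Idx F) - 1) := Cfsg.Agent.Helper5.posUnipotent_le_chevLower D hP hgU
  rw [Subgroup.mem_bot]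
  apply Units.ext
  rw [Units.val_one]
  ext i j
  by_cases hij : i = j
  · subst hij
    have := hlow i i (by omega)
    rw [Matrix.sub_apply, Matrix.one_apply_eq, sub_eq_zero] at this
    rw [this, Matrix.one_apply_eq]
  · rw [hgc, Tmat, Matrix.diagonal_apply_ne _ hij, Matrix.one_apply_ne hij]

theorem diagonalSubgroup_comm (D : ChevalleyDatum) (hA : HAll D F) (g h : GL D.Idx F)
    (hg : g ∈ D.diagonalSubgroup F) (hh : h ∈ D.diagonalSubgroup F) : g * h = h * g := by
  obtain ⟨c, -, hgc⟩ := exists_Tmat_of_mem D hA g hg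
  obtain ⟨c', -, hhc⟩ := exists_Tmat_of_mem D hA h hh
  apply Units.ext
  rw [Units.val_mul, Units.val_mul, hgc, hhc, Tmat_mul, Tmat_mul]
  apply Tmat_congr
  intro i _
  exact mul_comm _ _

theorem borel_isSolvable (D : ChevalleyDatum) (hA : HAll D F) (hC : HConj D F)
    (hP : Cfsg.Agent.Helper5.PosOk D) : Group.IsSolvable ↥(D.borelSubgroup F) := by
  have hUnil : Group.IsNilpotent (D.posUnipotent F) := Cfsg.Agent.Helper5.posUnipotent_isNilpotent D hP
  have hnorm : D.diagonalSubgroup F ≤ Subgroup.normalizer (D.posUnipotent F : Set (GL D.Idx F)) :=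
    diagonalSubgroup_le_normalizer D hA hC
  have hB : D.borelSubgroup F ≤ Subgroup.normalizer (D.posUnipotent F : Set (GL D.Idx F)) :=
    sup_le Subgroup.le_normalizer hnorm
  haveI hN : ((D.posUnipotent F).subgroupOf (D.borelSubgroup F)).Normal :=
    Subgroup.normal_subgroupOf_of_le_normalizer hB
  have hUB : D.posUnipotent F ≤ D.borelSubgroup F := le_sup_left
  -- the quotient is commutative
  have hrep : ∀ x : ↥(D.borelSubgroup F), ∃ h : ↥(D.borelSubgroup F), (h : GL D.Idx F) ∈ D.diagonalSubgroup F ∧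
      (QuotientGroup.mk x : ↥(D.borelSubgroup F) ⧸ (D.posUnipotent F).subgroupOf (D.borelSubgroup F)) =
        QuotientGroup.mk h := by
    intro x
    have hx : (x : GL D.Idx F) ∈ ((D.posUnipotent F ⊔ D.diagonalSubgroup F : Subgroup _) : Set _) := x.2
    rw [Subgroup.coe_mul_of_right_le_normalizer_left _ _ hnorm] at hx
    obtain ⟨u, hu, h, hh, huh⟩ := hx
    refine ⟨⟨h, (le_sup_right : D.diagonalSubgroup F ≤ D.borelSubgroup F) hh⟩, hh, ?_⟩
    rw [QuotientGroup.eq]
    show (x⁻¹ * ⟨h, _⟩ : ↥(D.borelSubgroup F)).1 ∈ D.posUnipotent F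
    have : ((x⁻¹ * ⟨h, (le_sup_right : D.diagonalSubgroup F ≤ D.borelSubgroup F) hh⟩ :
        ↥(D.borelSubgroup F)) : GL D.Idx F) = h⁻¹ * u⁻¹ * h := by
      simp only [Subgroup.coe_mul, Subgroup.coe_inv, ← huh]
      group
    rw [this]
    have := conj_mem_posUnipotent D hA hC h⁻¹ (Subgroup.inv_mem _ hh) u⁻¹ (Subgroup.inv_mem _ hu)
    rwa [inv_inv] at this
  have hcomm : ∀ a b : ↥(D.borelSubgroup F) ⧸ (D.posUnipotent F).subgroupOf (D.borelSubgroup F),
      a * b = b * a := by
    intro a b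
    induction a using QuotientGroup.induction_on with
    | H x =>
      induction b using QuotientGroup.induction_on with
      | H y =>
        obtain ⟨h1, hh1, e1⟩ := hrep x
        obtain ⟨h2, hh2, e2⟩ := hrep y
        rw [e1, e2, ← QuotientGroup.mk_mul, ← QuotientGroup.mk_mul]
        congr 1
        apply Subtype.ext
        exact diagonalSubgroup_comm D hA _ _ hh1 hh2
  letI : CommGroup (↥(D.borelSubgroup F) ⧸ (D.posUnipotent F).subgroupOf (D.borelSubgroup F)) :=
    { (inferInstance : Group _) with mul_comm := hcomm }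
  haveI : Group.IsSolvable (↥(D.borelSubgroup F) ⧸ (D.posUnipotent F).subgroupOf (D.borelSubgroup F)) :=
    inferInstance
  haveI : Group.IsSolvable ↥(D.posUnipotent F) := inferInstance
  apply solvable_of_ker_le_range (Subgroup.inclusion hUB)
    (QuotientGroup.mk' ((D.posUnipotent F).subgroupOf (D.borelSubgroup F)))
  intro x hx
  rw [QuotientGroup.ker_mk'] at hx
  exact ⟨⟨x.1, hx⟩, rfl⟩

end Cfsg.Agent.Lead.Chev
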