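import Mathlib
import Cfsg.Agent.Lib.Lead.ChevCalc

/-!
`n_p = n_p(1)` for a fundamental root `p` is the expected signed monomial matrix, provided Boolean table
tests hold. The signs are given by a bit mask: `η s = -1` iff bit `s` of the mask is set.
-/

set_option autoImplicit false
set_option linter.unusedSectionVars false
set_option linter.unusedSimpArgs false
set_option linter.unusedVariables false

namespace Cfsg.Agent.Lead.Chev

open Cfsg Cfsg.Lie

variable {F : Type*} [Field F]

/-- the symbolic word `n_r(1) = x_r(1) x_{-r}(-1) x_r(1)` -/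
def nWordS (D : ChevalleyDatum) (r : ℕ) : List (ℕ × LPoly) :=
  [(r, pconst 1), (D.neg r, pconst (-1)), (r, pconst 1)]

theorem evalWord_nWordS (D : ChevalleyDatum) (v : Val F) (r : ℕ) :
    evalWord v (nWordS D r) = D.nWord r (1 : F) := by
  simp [evalWord, nWordS, ChevalleyDatum.nWord]

/-- the sign read off a bit mask -/
def etaM (mask s : ℕ) : ℤ := if mask.testBit s then -1 else 1

theorem etaM_eq (mask s : ℕ) : etaM mask s = 1 ∨ etaM mask s = -1 := by
  unfold etaM
  split_ifs
  · right; rfl
  · left; rfl

/-- test for the column `h_{p_j}` of `n_{p_i}` -/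
def nChkL (D : ChevalleyDatum) (i j : ℕ) : Bool :=
  colEq D (nWordS D (D.simple i)) (.inl j)
    [(.inl j, pconst 1), (.inl i, pconst (-(D.cartan j (D.simple i))))]

/-- test for the column `e_s` of `n_{p_i}`, and of the sign relations at `s` -/
def nChkR (D : ChevalleyDatum) (masks : List ℕ) (i s : ℕ) : Bool :=
  colEq D (nWordS D (D.simple i)) (.inr s)
      [(.inr (D.reflectRoot i s), pconst (etaM (masks.getD i 0) s))] &&
    decide (etaM (masks.getD i 0) s * etaM (masks.getD i 0) (D.reflectRoot i s)
      = (-1) ^ (D.cartan i s).natAbs) &&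
    decide (etaM (masks.getD i 0) s * etaM (masks.getD i 0) (D.neg s) = 1)

/-- test of the signs at `± p_i` -/
def nChkP (D : ChevalleyDatum) (masks : List ℕ) (i : ℕ) : Bool :=
  decide (etaM (masks.getD i 0) (D.simple i) = -1) &&
    decide (etaM (masks.getD i 0) (D.neg (D.simple i)) = -1)

theorem nMat_of_chk (D : ChevalleyDatum) (masks : List ℕ) (i : ℕ) (hi : i < D.rank)
    (hP : nChkP D masks i = true)
    (hL : ∀ j < D.rank, nChkL D i j = true) (hR : ∀ s < D.nroots, nChkR D masks i s = true) :
    ∃ η : ℕ → ℤ, (∀ s < D.nroots, η s = 1 ∨ η s = -1) ∧ η (D.simple i) = -1 ∧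
      η (D.neg (D.simple i)) = -1 ∧
      (∀ s < D.nroots, η s * η (D.reflectRoot i s) = (-1) ^ (D.cartan i s).natAbs ∧
        η s * η (D.neg s) = 1) ∧
      D.nMat F (D.simple i) 1 = Matrix.of (fun (row col : D.Idx) =>
        Sum.elim
          (fun j' : Fin D.rank => Sum.elim
            (fun j : Fin D.rank => (if j' = j then (1 : F) else 0) -
              (if (j' : ℕ) = i then ((D.cartan j (D.simple i) : ℤ) : F) else 0))
            (fun _ => (0 : F)) col)
          (fun s' : Fin D.nroots => Sum.elim
            (fun _ => (0 : F))
            (fun s : Fin D.nroots => if (s' : ℕ) = D.reflectRoot i s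
              then ((η s : ℤ) : F) else 0) col)
          row) := by
  refine ⟨etaM (masks.getD i 0), fun s _ => etaM_eq _ s, ?_, ?_, ?_, ?_⟩
  · simp only [nChkP, Bool.and_eq_true, decide_eq_true_eq] at hP
    exact hP.1
  · simp only [nChkP, Bool.and_eq_true, decide_eq_true_eq] at hP
    exact hP.2
  · intro s hs
    have h := hR s hs
    simp only [nChkR, Bool.and_eq_true, decide_eq_true_eq] at h
    exact ⟨h.1.2, h.2⟩
  · let v : Val F := ⟨1, one_ne_zero, 0, 0⟩
    have hw : evalWord v (nWordS D (D.simple i)) = D.nWord (D.simple i) (1 : F) :=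
      evalWord_nWordS D v _
    unfold ChevalleyDatum.nMat
    rw [← hw]
    apply mat_eq_of_cols
    intro idx
    rcases idx with a | s
    · have h := hL a.val a.2
      rw [nChkL] at h
      have hc' : (Sum.inl a.val : Code) = codeOf D (Sum.inl a) := rfl
      rw [hc'] at h
      rw [mulVec_of_colEq D v _ _ _ h]
      funext row
      rcases row with j' | s'
      · simp only [evalV_apply_cons, evalV_nil, Pi.zero_apply, add_zero, codeOf, Sum.map_inl,
          Sum.inl.injEq, evalP_pconst, Matrix.mulVec, dotProduct, Matrix.of_apply, Pi.single_apply,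
          Sum.elim_inl]
        rw [Finset.sum_eq_single (Sum.inl a)]
        · simp only [Sum.elim_inl, if_true, mul_one]
          have e1 : (a.val = j'.val) ↔ (j' = a) := by
            constructor
            · intro h; exact Fin.ext h.symm
            · intro h; rw [h]
          have e2 : (i = j'.val) ↔ (j'.val = i) := ⟨Eq.symm, Eq.symm⟩
          simp only [e1, e2]
          push_cast
          split_ifs <;> ring
        · intro b _ hb
          simp [hb]
        · intro h
          exact absurd (Finset.mem_univ _) h
      · simp only [evalV_apply_cons, evalV_nil, Pi.zero_apply, add_zero, codeOf, Sum.map_inl,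
          Sum.map_inr, reduceCtorEq, if_false, Matrix.mulVec, dotProduct, Matrix.of_apply,
          Pi.single_apply, Sum.elim_inr]
        rw [Finset.sum_eq_single (Sum.inl a)]
        · simp
        · intro b _ hb
          simp [hb]
        · intro h
          exact absurd (Finset.mem_univ _) h
    · have h := hR s.val s.2
      simp only [nChkR, Bool.and_eq_true] at h
      have h1 := h.1.1
      have hc' : (Sum.inr s.val : Code) = codeOf D (Sum.inr s) := rfl
      rw [hc'] at h1
      rw [mulVec_of_colEq D v _ _ _ h1]
      funext row
      rcases row with j' | s'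
      · simp only [evalV_apply_cons, evalV_nil, Pi.zero_apply, add_zero, codeOf, Sum.map_inl,
          Sum.map_inr, reduceCtorEq, if_false, Matrix.mulVec, dotProduct, Matrix.of_apply,
          Pi.single_apply, Sum.elim_inl]
        rw [Finset.sum_eq_single (Sum.inr s)]
        · simp
        · intro b _ hb
          simp [hb]
        · intro h
          exact absurd (Finset.mem_univ _) h
      · simp only [evalV_apply_cons, evalV_nil, Pi.zero_apply, add_zero, codeOf,
          Sum.map_inr, Sum.inr.injEq, evalP_pconst, Matrix.mulVec, dotProduct, Matrix.of_apply,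
          Pi.single_apply, Sum.elim_inr]
        rw [Finset.sum_eq_single (Sum.inr s)]
        · simp only [Sum.elim_inr, if_true, mul_one]
          have e1 : (D.reflectRoot i s.val = s'.val) ↔ (s'.val = D.reflectRoot i s.val) :=
            ⟨Eq.symm, Eq.symm⟩
          simp only [e1]
        · intro b _ hb
          simp [hb]
        · intro h
          exact absurd (Finset.mem_univ _) h

end Cfsg.Agent.Lead.Chev
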