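import Mathlib
import Cfsg.Agent.Lib.Lead.ChevExp

/-!
Table test for `n_p h_{p_j}(t) n_p⁻¹ = h_{w_p(p_j)}(t)`: with `r' = w_p(p_j)`, the exponent of `h_{r'}(t)` at
`w_p(s)` is `A_{p_j, s}`.
-/

set_option autoImplicit false
set_option linter.unusedSectionVars false
set_option linter.unusedSimpArgs false
set_option linter.unusedVariables false

namespace Cfsg.Agent.Lead.Chev

open Cfsg Cfsg.Lie

/-- `p k (l[k - k₀])` for all positions of the list, the index starting at `k₀` -/
def allFrom {α : Type} (p : ℕ → α → Bool) : ℕ → List α → Bool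
  | _, [] => true
  | k, a :: l => p k a && allFrom p (k + 1) l

theorem allFrom_getElem {α : Type} (p : ℕ → α → Bool) (l : List α) (k : ℕ)
    (h : allFrom p k l = true) (s : ℕ) (hs : s < l.length) : p (k + s) l[s] = true := by
  induction l generalizing k s with
  | nil => simp at hs
  | cons a l ih =>
    simp only [allFrom, Bool.and_eq_true] at h
    cases s with
    | zero => simpa using h.1
    | succ s =>
      have := ih (k + 1) h.2 s (by simpa using hs)
      simpa [Nat.add_assoc, Nat.add_comm 1 s] using this

theorem allFrom_map_range {α : Type} (p : ℕ → α → Bool) (f : ℕ → α) (n : ℕ)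
    (h : allFrom p 0 ((List.range n).map f) = true) (s : ℕ) (hs : s < n) : p s (f s) = true := by
  have := allFrom_getElem p _ 0 h s (by simpa using hs)
  simpa using this

/-- the test for the fundamental root `p_i`, all `j` at once -/
def nhChk (D : ChevalleyDatum) (i : ℕ) : Bool :=
  fList fNat (packedRows D) fun Ps =>
    fList fNat ((List.range D.nroots).map (D.reflectRoot i)) fun ws =>
      (List.range D.rank).all fun j =>
        fNat (D.reflectRoot i (D.simple j)) fun r' =>
          decide (r' < D.nroots) &&
          fList fInt ((List.range D.rank).map fun k => (D.coroot.getD r' #[]).getD k 0) fun cor =>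
            fNat (Ps.getD j 0) fun Pj =>
              allFrom (fun s w => decide (w < D.nroots) && decide (dotP cor Ps w = unpackZ Pj s)) 0 ws

theorem nh_of_chk (D : ChevalleyDatum) (hrow : ∀ i < D.rank, rowOK D i = true) (i : ℕ)
    (h : nhChk D i = true) (j : ℕ) (hj : j < D.rank) :
    D.reflectRoot i (D.simple j) < D.nroots ∧
      ∀ s < D.nroots, corSum D (D.reflectRoot i (D.simple j)) (D.reflectRoot i s) = D.cartan j s := by
  rw [nhChk, fList_eq fNat (fun a k => fNat_eq a k), fList_eq fNat (fun a k => fNat_eq a k)] at h
  have h1 := List.all_eq_true.1 h j (List.mem_range.2 hj)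
  rw [fNat_eq, Bool.and_eq_true, fList_eq fInt (fun a k => fInt_eq a k), fNat_eq] at h1
  refine ⟨by simpa using h1.1, fun s hs => ?_⟩
  have h2 := allFrom_map_range _ _ _ h1.2 s hs
  simp only [Bool.and_eq_true, decide_eq_true_eq] at h2
  obtain ⟨hw, h3⟩ := h2
  have hPj : (packedRows D).getD j 0 = packRow (cartanRow D j) := by
    simp [packedRows, List.getD, hj]
  rw [hPj] at h3
  have h4 : unpackZ (packRow (cartanRow D j)) s = D.cartan j s := cartanP_eq D j (hrow j hj) s hs
  rw [← h4, ← h3, packedRows, dotP_map, corSum]
  congr 1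
  apply List.map_congr_left
  intro k hk
  have := cartanP_eq D k (hrow k (List.mem_range.1 hk)) _ hw
  unfold cartanP at this
  rw [this]

end Cfsg.Agent.Lead.Chev
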