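import Mathlib
import Cfsg.Agent.Lib.Lead.ChevCol
import Cfsg.Agent.Lib.Lead.ChevSLH
import Cfsg.Agent.Lib.Lead.ChevExp

/-!
`n_p x_s(t) n_p⁻¹ = x_{w_p(s)}(η_s t)` for a fundamental root `p`, from the monomial form of `n_p` and table
facts on the reflection `w_p`.
-/

set_option autoImplicit false
set_option linter.unusedSectionVars false
set_option linter.unusedSimpArgs false
set_option linter.unusedVariables false

namespace Cfsg.Agent.Lead.Chev

open Cfsg Cfsg.Lie

variable {F : Type*} [Field F]

/-- the signed monomial matrix of `n_p`, `p = p_{i+1}` (as in S1095) -/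
def NForm (D : ChevalleyDatum) (F : Type*) [Field F] (i : ℕ) (η : ℕ → ℤ) : Matrix D.Idx D.Idx F :=
  Matrix.of (fun (row col : D.Idx) =>
    Sum.elim
      (fun j' : Fin D.rank => Sum.elim
        (fun j : Fin D.rank => (if j' = j then (1 : F) else 0) -
          (if (j' : ℕ) = i then ((D.cartan j (D.simple i) : ℤ) : F) else 0))
        (fun _ => (0 : F)) col)
      (fun s' : Fin D.nroots => Sum.elim
        (fun _ => (0 : F))
        (fun s : Fin D.nroots => if (s' : ℕ) = D.reflectRoot i s
          then ((η s : ℤ) : F) else 0) col)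
      row)

theorem list_sum_map_sub {α M : Type*} [AddCommGroup M] (l : List α) (f g : α → M) :
    (l.map fun x => f x - g x).sum = (l.map f).sum - (l.map g).sum := by
  induction l with
  | nil => simp
  | cons a l ih =>
    simp only [List.map_cons, List.sum_cons, ih]
    abel

theorem NForm_mulVec_inl (D : ChevalleyDatum) (i : ℕ) (η : ℕ → ℤ) (j : ℕ) (hj : j < D.rank) :
    (NForm D F i η).mulVec (bvec D (.inl j)) =
      bvec D (.inl j) - ((D.cartan j (D.simple i) : ℤ) : F) • bvec D (.inl i) := by
  have e : (bvec D (.inl j) : D.Idx → F) = Pi.single (Sum.inl ⟨j, hj⟩) 1 :=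
    bvec_codeOf D (Sum.inl ⟨j, hj⟩)
  rw [e, Matrix.mulVec_single_one]
  funext row
  rcases row with j' | s'
  · rcases j' with ⟨j', hj'⟩
    simp only [NForm, Matrix.col_apply, Matrix.of_apply, Sum.elim_inl, Pi.sub_apply, Pi.smul_apply,
      Pi.single_apply, bvec, codeOf, Sum.map_inl, Sum.inl.injEq, smul_eq_mul, Fin.mk.injEq]
    by_cases a : j' = j
    · subst a
      by_cases b : j' = i
      · subst b; simp
      · have b' : ¬ i = j' := fun h => b h.symm
        simp [b, b']
    · have a' : ¬ j = j' := fun h => a h.symm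
      by_cases b : j' = i
      · subst b; simp [a, a']
      · have b' : ¬ i = j' := fun h => b h.symm
        simp [a, a', b, b']
  · simp [NForm, bvec, codeOf]

theorem NForm_mulVec_inr (D : ChevalleyDatum) (i : ℕ) (η : ℕ → ℤ) (v : ℕ) (hv : v < D.nroots) :
    (NForm D F i η).mulVec (bvec D (.inr v)) =
      ((η v : ℤ) : F) • bvec D (.inr (D.reflectRoot i v)) := by
  have e : (bvec D (.inr v) : D.Idx → F) = Pi.single (Sum.inr ⟨v, hv⟩) 1 :=
    bvec_codeOf D (Sum.inr ⟨v, hv⟩)
  rw [e, Matrix.mulVec_single_one]
  funext row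
  rcases row with j' | s'
  · simp [NForm, bvec, codeOf]
  · simp only [NForm, Matrix.col_apply, Matrix.of_apply, Sum.elim_inr, Pi.smul_apply, bvec, codeOf,
      Sum.map_inr, Sum.inr.injEq, smul_eq_mul]
    by_cases a : s'.val = D.reflectRoot i v
    · simp [a]
    · have : ¬ D.reflectRoot i v = s'.val := fun h => a h.symm
      simp [a, this]

/-- the table facts on `w_p` used for the conjugation formula -/
structure NXFacts (D : ChevalleyDatum) (η : ℕ → ℤ) (i : ℕ) : Prop where
  wlt : ∀ s < D.nroots, D.reflectRoot i s < D.nroots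
  winv : ∀ s < D.nroots, D.reflectRoot i (D.reflectRoot i s) = s
  nlt : ∀ s < D.nroots, D.neg s < D.nroots
  nne : ∀ s < D.nroots, D.neg s ≠ s
  wneg : ∀ s < D.nroots, D.reflectRoot i (D.neg s) = D.neg (D.reflectRoot i s)
  car : ∀ s < D.nroots, ∀ j < D.rank, D.cartan j s =
    D.cartan j (D.reflectRoot i s) - D.cartan j (D.simple i) * D.cartan i (D.reflectRoot i s)
  cor : ∀ s < D.nroots, ∀ k < D.rank, (D.coroot.getD (D.reflectRoot i s) #[]).getD k 0 =
    (D.coroot.getD s #[]).getD k 0 - if k = i then corSum D s (D.simple i) else 0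
  chlt : ∀ s < D.nroots, ∀ v < D.nroots, ∀ x ∈ chainTerms D s v, x.1 < D.nroots
  chain : ∀ s < D.nroots, ∀ v < D.nroots, v ≠ s → v ≠ D.neg s →
    chainTerms D (D.reflectRoot i s) (D.reflectRoot i v) =
      (chainTerms D s v).map fun x =>
        (D.reflectRoot i x.1, x.2.1, x.2.2 * η x.1 * η v * η s ^ x.2.1)

theorem Hvec_reflect (D : ChevalleyDatum) (i : ℕ) (hi : i < D.rank) (η : ℕ → ℤ) (fa : NXFacts D η i)
    (s : ℕ) (hs : s < D.nroots) :
    (Hvec D (D.reflectRoot i s) : D.Idx → F) =
      Hvec D s - ((corSum D s (D.simple i) : ℤ) : F) • bvec D (.inl i) := by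
  unfold Hvec
  have h1 : (List.range D.rank).map (fun k =>
        ((((D.coroot.getD (D.reflectRoot i s) #[]).getD k 0 : ℤ) : F)) • (bvec D (.inl k) : D.Idx → F)) =
      (List.range D.rank).map (fun k =>
        ((((D.coroot.getD s #[]).getD k 0 : ℤ) : F)) • (bvec D (.inl k) : D.Idx → F) -
          (if k = i then ((corSum D s (D.simple i) : ℤ) : F) • (bvec D (.inl i) : D.Idx → F) else 0)) := by
    apply List.map_congr_left
    intro k hk
    rw [fa.cor s hs k (List.mem_range.1 hk)]
    by_cases h : k = i
    · subst h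
      simp only [if_true]
      push_cast
      module
    · simp [h]
  rw [h1, list_sum_map_sub]
  congr 1
  have h2 : ∀ (n : ℕ) (w : D.Idx → F),
      ((List.range n).map fun k => if k = i then w else 0).sum = if i < n then w else 0 := by
    intro n w
    induction n with
    | zero => simp
    | succ n ih =>
      rw [List.range_succ, List.map_append, List.sum_append, ih]
      by_cases a : i < n
      · have : n ≠ i := by omega
        have b : i < n + 1 := by omega
        simp [a, this, b]
      · by_cases c : n = i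
        · have b : i < n + 1 := by omega
          simp [a, c, b]
        · have b : ¬ i < n + 1 := by omega
          simp [a, c, b]
  rw [h2, if_pos hi]

theorem NForm_mulVec_Hvec (D : ChevalleyDatum) (i : ℕ) (η : ℕ → ℤ) (s : ℕ) :
    (NForm D F i η).mulVec (Hvec D s) =
      Hvec D s - ((corSum D s (D.simple i) : ℤ) : F) • bvec D (.inl i) := by
  unfold Hvec
  rw [mulVec_list_sum]
  have h1 : (List.range D.rank).map (fun k => (NForm D F i η).mulVec
        (((((D.coroot.getD s #[]).getD k 0 : ℤ) : F)) • (bvec D (.inl k) : D.Idx → F))) =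
      (List.range D.rank).map (fun k =>
        ((((D.coroot.getD s #[]).getD k 0 : ℤ) : F)) • (bvec D (.inl k) : D.Idx → F) -
          ((((D.coroot.getD s #[]).getD k 0 * D.cartan k (D.simple i) : ℤ) : F)) •
            (bvec D (.inl i) : D.Idx → F)) := by
    apply List.map_congr_left
    intro k hk
    rw [Matrix.mulVec_smul, NForm_mulVec_inl D i η k (List.mem_range.1 hk)]
    push_cast
    module
  rw [h1, list_sum_map_sub]
  congr 1
  unfold corSum
  generalize (List.range D.rank) = l
  induction l with
  | nil => simp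
  | cons a l ih =>
    simp only [List.map_cons, List.sum_cons, ih]
    push_cast
    module

theorem eta_cast_sq (η : ℕ → ℤ) (s : ℕ) (h : η s = 1 ∨ η s = -1) : ((η s : ℤ) : F) * ((η s : ℤ) : F) = 1 := by
  rcases h with h | h <;> rw [h] <;> simp

theorem eta_cast_pow_sq (η : ℕ → ℤ) (s : ℕ) (h : η s = 1 ∨ η s = -1) (k : ℕ) :
    ((η s : ℤ) : F) ^ k * ((η s : ℤ) : F) ^ k = 1 := by
  rw [← mul_pow, eta_cast_sq η s h, one_pow]

theorem NForm_conj_x (D : ChevalleyDatum) (i : ℕ) (hi : i < D.rank) (η : ℕ → ℤ)
    (hη : ∀ s < D.nroots, η s = 1 ∨ η s = -1) (hηn : ∀ s < D.nroots, η s * η (D.neg s) = 1)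
    (fa : NXFacts D η i) (s : ℕ) (hs : s < D.nroots) (t : F) :
    NForm D F i η * D.x F s t =
      D.x F (D.reflectRoot i s) (((η s : ℤ) : F) * t) * NForm D F i η := by
  have hws := fa.wlt s hs
  apply mat_eq_of_cols
  intro idx
  rw [← Matrix.mulVec_mulVec, ← Matrix.mulVec_mulVec, ← bvec_codeOf]
  rcases idx with j | v
  · -- column `h_j`
    have hc : codeOf D (Sum.inl j) = (Sum.inl j.val : Code) := rfl
    rw [hc, x_mulVec_bvec_inl D s hs t j.val j.2, NForm_mulVec_inl D i η j.val j.2,
      Matrix.mulVec_sub, Matrix.mulVec_sub, Matrix.mulVec_smul, Matrix.mulVec_smul,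
      NForm_mulVec_inl D i η j.val j.2, NForm_mulVec_inr D i η s hs,
      x_mulVec_bvec_inl D _ hws _ j.val j.2, x_mulVec_bvec_inl D _ hws _ i hi]
    have hcar := fa.car s hs j.val j.2
    have hcar' : (((D.cartanSR.getD j.val #[]).getD s 0 : ℤ) : F) =
        (((D.cartanSR.getD j.val #[]).getD (D.reflectRoot i s) 0 : ℤ) : F) -
          ((D.cartan j.val (D.simple i) : ℤ) : F) *
            (((D.cartanSR.getD i #[]).getD (D.reflectRoot i s) 0 : ℤ) : F) := by
      have := congrArg (fun z : ℤ => (z : F)) hcar
      simp only [ChevalleyDatum.cartan] at this ⊢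
      push_cast at this
      exact this
    rw [hcar']
    module
  · have hc : codeOf D (Sum.inr v) = (Sum.inr v.val : Code) := rfl
    rw [hc]
    have hv := v.2
    by_cases hvs : v.val = s
    · -- column `e_s`
      rw [hvs, x_mulVec_bvec_self D s hs, NForm_mulVec_inr D i η s hs, Matrix.mulVec_smul,
        x_mulVec_bvec_self D _ hws]
    · by_cases hvn : v.val = D.neg s
      · -- column `e_{-s}`
        have hns := fa.nlt s hs
        have hwn : D.reflectRoot i (D.neg s) = D.neg (D.reflectRoot i s) := fa.wneg s hs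
        have e1 := x_mulVec_bvec_neg D s hs t (D.neg s) hns (fa.nne s hs) rfl
        have e2 := x_mulVec_bvec_neg D _ hws (((η s : ℤ) : F) * t) (D.neg (D.reflectRoot i s))
          (fa.nlt _ hws) (fa.nne _ hws) rfl
        rw [list_sum_mul_smul] at e1 e2
        change _ = _ - _ + t • Hvec D s at e1
        change _ = _ - _ + (((η s : ℤ) : F) * t) • Hvec D (D.reflectRoot i s) at e2
        rw [hvn, e1, NForm_mulVec_inr D i η _ hns, hwn, Matrix.mulVec_smul, e2,
          Matrix.mulVec_add, Matrix.mulVec_sub, Matrix.mulVec_smul, Matrix.mulVec_smul,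
          NForm_mulVec_inr D i η _ hns, hwn, NForm_mulVec_inr D i η s hs, NForm_mulVec_Hvec,
          Hvec_reflect D i hi η fa s hs]
        have hnn : η (D.neg s) = η s := by
          have := hηn s hs
          rcases hη s hs with h | h <;> rw [h] at this ⊢ <;> omega
        rw [hnn]
        rcases hη s hs with h | h <;> rw [h] <;> push_cast <;> module
      · -- column `e_v`, `v ≠ ± s`
        have hwv := fa.wlt v.val hv
        have hne1 : D.reflectRoot i v.val ≠ D.reflectRoot i s := by
          intro h
          apply hvs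
          rw [← fa.winv v.val hv, h, fa.winv s hs]
        have hne2 : D.reflectRoot i v.val ≠ D.negIdx.getD (D.reflectRoot i s) 0 := by
          intro h
          apply hvn
          have h' : D.reflectRoot i v.val = D.neg (D.reflectRoot i s) := h
          rw [← fa.wneg s hs] at h'
          rw [← fa.winv v.val hv, h', fa.winv _ (fa.nlt s hs)]
        rw [x_mulVec_bvec_chain D s hs t v.val hv hvs hvn, Matrix.mulVec_add,
          NForm_mulVec_inr D i η v.val hv, Matrix.mulVec_smul,
          x_mulVec_bvec_chain D _ hws _ _ hwv hne1 hne2, smul_add, mulVec_list_sum,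
          fa.chain s hs v.val hv hvs hvn, List.map_map, List.smul_sum, List.map_map]
        congr 2
        apply List.map_congr_left
        intro x hx
        have hxlt := fa.chlt s hs v.val hv x hx
        simp only [Function.comp]
        rw [Matrix.mulVec_smul, NForm_mulVec_inr D i η x.1 hxlt, smul_smul, smul_smul]
        congr 1
        push_cast
        have h1 := eta_cast_sq (F := F) η v.val (hη v.val hv)
        have h2 := eta_cast_pow_sq (F := F) η s (hη s hs) x.2.1
        rw [mul_pow]
        calc ((x.2.2 : ℤ) : F) * t ^ x.2.1 * ((η x.1 : ℤ) : F)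
            = ((x.2.2 : ℤ) : F) * t ^ x.2.1 * ((η x.1 : ℤ) : F) *
                (((η v.val : ℤ) : F) * ((η v.val : ℤ) : F)) *
                (((η s : ℤ) : F) ^ x.2.1 * ((η s : ℤ) : F) ^ x.2.1) := by rw [h1, h2]; ring
          _ = _ := by ring

end Cfsg.Agent.Lead.Chev
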