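import Mathlib
import Cfsg.Agent.Lib.Lead.ChevN
import Cfsg.Agent.Lib.Lead.ChevNH
import Cfsg.Agent.Lib.Lead.ChevNX

/-!
Boolean table test for the facts `NXFacts` on the reflection `w_p` in a fundamental root, and the specific
monomial form of `n_p` with the signs given by a bit mask.
-/

set_option autoImplicit false
set_option linter.unusedSectionVars false
set_option linter.unusedSimpArgs false
set_option linter.unusedVariables false

namespace Cfsg.Agent.Lead.Chev

open Cfsg Cfsg.Lie

/-! ### packed lists of small naturals -/

/-- pack a list of naturals below 256, base 256 -/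
def pack8 (l : List ℕ) : ℕ := l.foldr (fun a acc => a + 256 * acc) 0

/-- look up a packed list -/
def unpack8 (P v : ℕ) : ℕ := P / 256 ^ v % 256

theorem unpack8_pack8 (l : List ℕ) (hl : ∀ a ∈ l, a < 256) (v : ℕ) (hv : v < l.length) :
    unpack8 (pack8 l) v = l[v] := by
  induction l generalizing v with
  | nil => simp at hv
  | cons a t ih =>
    have ha := hl a (List.mem_cons_self)
    have hp : pack8 (a :: t) = a + 256 * pack8 t := rfl
    cases v with
    | zero =>
      unfold unpack8
      rw [hp, pow_zero, Nat.div_one, Nat.add_mul_mod_self_left, Nat.mod_eq_of_lt ha]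
      simp
    | succ v =>
      have hv' : v < t.length := by simpa using hv
      have := ih (fun b hb => hl b (List.mem_cons_of_mem _ hb)) v hv'
      unfold unpack8 at this ⊢
      rw [hp, pow_succ, mul_comm (256 ^ v) 256, ← Nat.div_div_eq_div_mul,
        Nat.add_mul_div_left _ _ (by norm_num : 0 < 256), Nat.div_eq_of_lt ha, zero_add]
      simpa using this

/-! ### the test -/

/-- the terms of one entry of a chain row -/
def chainT (e : ℕ × Array (ℕ × ℤ)) : List (ℕ × ℕ × ℤ) :=
  e.2.toList.zipIdx.map fun q => (q.1.1, q.2 + 1, q.1.2)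

/-- the chain row of the root `r` -/
def chainRow (D : ChevalleyDatum) (r : ℕ) : List (ℕ × Array (ℕ × ℤ)) := (D.chain.getD r #[]).toList

theorem chainTerms_eq (D : ChevalleyDatum) (r s : ℕ) :
    chainTerms D r s = ((chainRow D r).filter (fun e => e.1 = s)).flatMap chainT := rfl

theorem toList_getD_eq {α : Type} (a : Array α) (k : ℕ) (d : α) : a.toList.getD k d = a.getD k d := by
  simp [List.getD_eq_getElem?_getD]

/-- evaluate a list to weak head normal form before use -/
def withList {α : Type} (l : List α) (k : List α → Bool) : Bool :=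
  match l with
  | [] => k []
  | a :: t => k (a :: t)

theorem withList_eq {α : Type} (l : List α) (k : List α → Bool) : withList l k = k l := by
  cases l <;> rfl

/-- the keys of a row are strictly increasing, starting at least at `lo` -/
def keysGt {α : Type} : ℕ → List (ℕ × α) → Bool
  | _, [] => true
  | lo, a :: t => decide (lo ≤ a.1) && keysGt (a.1 + 1) t

theorem keysGt_le {α : Type} (lo : ℕ) (row : List (ℕ × α)) (h : keysGt lo row = true) :
    ∀ e ∈ row, lo ≤ e.1 := by
  induction row generalizing lo with
  | nil => simp
  | cons a t ih =>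
    simp only [keysGt, Bool.and_eq_true, decide_eq_true_eq] at h
    intro e he
    rcases List.mem_cons.1 he with rfl | he
    · exact h.1
    · have := ih _ h.2 e he
      omega

theorem filter_eq_singleton_of_keysGt {α : Type} (lo : ℕ) (row : List (ℕ × α))
    (h : keysGt lo row = true) (e : ℕ × α) (he : e ∈ row) :
    row.filter (fun e' => e'.1 = e.1) = [e] := by
  induction row generalizing lo with
  | nil => simp at he
  | cons a t ih =>
    simp only [keysGt, Bool.and_eq_true, decide_eq_true_eq] at h
    rcases List.mem_cons.1 he with rfl | he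
    · rw [List.filter_cons_of_pos (by simp)]
      congr 1
      rw [List.filter_eq_nil_iff]
      intro e' he'
      have := keysGt_le _ t h.2 e' he'
      simp only [decide_eq_true_eq]
      omega
    · have h1 := keysGt_le _ t h.2 e he
      rw [List.filter_cons_of_neg (by simp only [decide_eq_true_eq]; omega)]
      exact ih _ h.2 he

/-- the test of the chain rows at `s`: every entry `(v, chain)` of the row of `s` corresponds to the entry at
`w v` of the row of `w s`, with the signs `η` -/
def nxChainChk (D : ChevalleyDatum) (mask W s ws : ℕ) : Bool :=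
  withList (chainRow D s) fun row =>
  withList (chainRow D ws) fun row' =>
  keysGt 0 row && keysGt 0 row' &&
  row.all fun e =>
    decide (e.1 < D.nroots) &&
    (chainT e).all (fun x => decide (x.1 < D.nroots)) &&
    fNat (unpack8 W e.1) fun wv =>
      match row'.find? (fun e' => Nat.beq e'.1 wv) with
      | none => false
      | some e' => decide (chainT e' = (chainT e).map fun x =>
        (unpack8 W x.1, x.2.1, x.2.2 * etaM mask x.1 * etaM mask e.1 * etaM mask s ^ x.2.1))

/-- the test at the root `s`, with `ws = w_p(s)` -/
def nxP (D : ChevalleyDatum) (i mask W : ℕ) (Ps : List ℕ) (Ap : List ℤ) (Pi : ℕ) (s ws : ℕ) : Bool :=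
  decide (ws < D.nroots) &&
    decide (unpack8 W ws = s) &&
    fNat (D.neg s) (fun ns => decide (ns < D.nroots) && decide (ns ≠ s) &&
      decide (unpack8 W ns = D.neg ws)) &&
    fInt (unpackZ Pi ws) (fun aiws => (List.range D.rank).all fun j =>
      decide (unpackZ (Ps.getD j 0) s = unpackZ (Ps.getD j 0) ws - Ap.getD j 0 * aiws)) &&
    withList (D.coroot.getD s #[]).toList (fun cs =>
      withList (D.coroot.getD ws #[]).toList fun cws =>
        fInt (((List.range D.rank).map fun k => cs.getD k 0 * Ap.getD k 0).sum)
          (fun σ => (List.range D.rank).all fun k =>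
            decide (cws.getD k 0 = cs.getD k 0 - if k = i then σ else 0))) &&
    nxChainChk D mask W s ws

/-- the test for the fundamental root `p_i`, for the roots `s` in the block `[b k, b k + b)` -/
def nxChk (D : ChevalleyDatum) (masks : List ℕ) (i b k : ℕ) : Bool :=
  fNat (masks.getD i 0) fun mask =>
  fList fNat ((List.range D.nroots).map (D.reflectRoot i)) fun wl =>
  fNat (pack8 wl) fun W =>
  fList fNat (packedRows D) fun Ps =>
  fList fInt ((List.range D.rank).map fun j => D.cartan j (D.simple i)) fun Ap =>
  fNat (Ps.getD i 0) fun Pi =>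
  wl.all (fun a => decide (a < 256)) &&
  allFrom (nxP D i mask W Ps Ap Pi) (b * k) ((wl.drop (b * k)).take b)

theorem nxChk_eq (D : ChevalleyDatum) (masks : List ℕ) (i b k : ℕ) :
    nxChk D masks i b k =
      (((List.range D.nroots).map (D.reflectRoot i)).all (fun a => decide (a < 256)) &&
        allFrom (nxP D i (masks.getD i 0) (pack8 ((List.range D.nroots).map (D.reflectRoot i)))
          (packedRows D) ((List.range D.rank).map fun j => D.cartan j (D.simple i))
          ((packedRows D).getD i 0)) (b * k)
          ((((List.range D.nroots).map (D.reflectRoot i)).drop (b * k)).take b)) := by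
  rw [nxChk, fNat_eq, fList_eq fNat (fun a k => fNat_eq a k), fNat_eq,
    fList_eq fNat (fun a k => fNat_eq a k), fList_eq fInt (fun a k => fInt_eq a k), fNat_eq]

theorem chainTerms_ne_nil (D : ChevalleyDatum) (s v : ℕ) (h : chainTerms D s v ≠ []) :
    ∃ e ∈ (D.chain.getD s #[]).toList, e.1 = v := by
  unfold chainTerms at h
  by_contra hcon
  push_neg at hcon
  apply h
  have : (D.chain.getD s #[]).toList.filter (fun e => e.1 = v) = [] := by
    rw [List.filter_eq_nil_iff]
    intro e he
    simpa using hcon e he
  rw [this]
  rfl

theorem allFrom_drop_take {α : Type} (p : ℕ → α → Bool) (l : List α) (b k : ℕ)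
    (h : allFrom p (b * k) ((l.drop (b * k)).take b) = true) (s : ℕ) (hs : s < l.length)
    (h1 : b * k ≤ s) (h2 : s < b * k + b) : p s l[s] = true := by
  have hlen : s - b * k < ((l.drop (b * k)).take b).length := by
    simp only [List.length_take, List.length_drop]
    omega
  have := allFrom_getElem p _ (b * k) h (s - b * k) hlen
  have e : b * k + (s - b * k) = s := by omega
  rw [e] at this
  simpa [e] using this

theorem nxFacts_of_chk (D : ChevalleyDatum) (hrow : ∀ i < D.rank, rowOK D i = true)
    (masks : List ℕ) (i : ℕ) (hi : i < D.rank) (b K : ℕ) (hb : 0 < b) (hK0 : 0 < K)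
    (hK : D.nroots ≤ b * K) (hblk : ∀ k < K, nxChk D masks i b k = true) :
    NXFacts D (etaM (masks.getD i 0)) i := by
  simp only [nxChk_eq, Bool.and_eq_true] at hblk
  have h256 := (hblk 0 hK0).1
  have h := fun s (hs : s < D.nroots) =>
    allFrom_drop_take _ _ b (s / b) (hblk (s / b) (by
      apply Nat.div_lt_of_lt_mul
      omega)).2 s (by simpa using hs) (Nat.mul_div_le s b) (by
        have := Nat.lt_mul_div_succ s hb
        rw [Nat.mul_succ] at this
        exact this)
  set wl := (List.range D.nroots).map (D.reflectRoot i) with hwl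
  set W := pack8 wl with hW
  set mask := masks.getD i 0 with hmask
  have hlen : wl.length = D.nroots := by simp [hwl]
  have hWv : ∀ v < D.nroots, unpack8 W v = D.reflectRoot i v := by
    intro v hv
    rw [hW, unpack8_pack8 wl (fun a ha => by simpa using List.all_eq_true.1 h256 a ha) v
      (by rw [hlen]; exact hv)]
    simp [hwl]
  have hall := h
  simp only [nxP, Bool.and_eq_true, decide_eq_true_eq, fNat_eq, fInt_eq, List.all_eq_true,
    List.mem_range, List.getElem_map, List.getElem_range, withList_eq, toList_getD_eq] at hall
  have hwlt : ∀ s < D.nroots, D.reflectRoot i s < D.nroots := fun s hs => (hall s hs).1.1.1.1.1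
  have hwinv : ∀ s < D.nroots, D.reflectRoot i (D.reflectRoot i s) = s := by
    intro s hs
    rw [← hWv _ (hwlt s hs)]
    exact (hall s hs).1.1.1.1.2
  have hAp : ∀ j < D.rank, ((List.range D.rank).map fun j => D.cartan j (D.simple i)).getD j 0 =
      D.cartan j (D.simple i) := by
    intro j hj
    simp [List.getD, hj]
  have hPs : ∀ j < D.rank, (packedRows D).getD j 0 = packRow (cartanRow D j) := by
    intro j hj
    simp [packedRows, List.getD, hj]
  have hcar : ∀ j < D.rank, ∀ v < D.nroots, unpackZ ((packedRows D).getD j 0) v = D.cartan j v := by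
    intro j hj v hv
    rw [hPs j hj]
    exact cartanP_eq D j (hrow j hj) v hv
  -- the chain facts, nonempty case
  have hch : ∀ s < D.nroots, ∀ v < D.nroots, chainTerms D s v ≠ [] →
      (∀ x ∈ chainTerms D s v, x.1 < D.nroots) ∧
      chainTerms D (D.reflectRoot i s) (D.reflectRoot i v) =
        (chainTerms D s v).map fun x =>
          (D.reflectRoot i x.1, x.2.1, x.2.2 * etaM mask x.1 * etaM mask v * etaM mask s ^ x.2.1) := by
    intro s hs v hv hne
    obtain ⟨e, he, hev⟩ := chainTerms_ne_nil D s v hne
    have hc := (hall s hs).2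
    rw [nxChainChk, withList_eq, withList_eq, Bool.and_eq_true, Bool.and_eq_true,
      List.all_eq_true] at hc
    obtain ⟨⟨hsorted, hsorted'⟩, hc⟩ := hc
    have := hc e he
    simp only [Bool.and_eq_true, decide_eq_true_eq, List.all_eq_true, fNat_eq] at this
    obtain ⟨⟨_, hx⟩, heq⟩ := this
    have hT : chainTerms D s v = chainT e := by
      rw [chainTerms_eq, ← hev, filter_eq_singleton_of_keysGt 0 _ hsorted e he]
      simp
    rw [hev, hWv v hv] at heq
    have heq' : chainTerms D (D.reflectRoot i s) (D.reflectRoot i v) = (chainT e).map fun x =>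
        (unpack8 W x.1, x.2.1, x.2.2 * etaM mask x.1 * etaM mask v * etaM mask s ^ x.2.1) := by
      cases hf : (chainRow D (D.reflectRoot i s)).find? (fun e' => Nat.beq e'.1 (D.reflectRoot i v)) with
      | none => rw [hf] at heq; exact absurd heq (by simp)
      | some e' =>
        rw [hf] at heq
        simp only [decide_eq_true_eq] at heq
        have hm := List.mem_of_find?_eq_some hf
        have hk : e'.1 = D.reflectRoot i v := by
          have := List.find?_some hf
          exact Nat.eq_of_beq_eq_true this
        rw [chainTerms_eq, ← hk, filter_eq_singleton_of_keysGt 0 _ hsorted' e' hm]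
        simpa using heq
    clear heq
    have heq := heq'
    rw [hT]
    refine ⟨hx, ?_⟩
    rw [heq]
    apply List.map_congr_left
    intro x hxm
    rw [hWv x.1 (hx x hxm)]
  refine ⟨hwlt, hwinv, fun s hs => (hall s hs).1.1.1.2.1.1, fun s hs => (hall s hs).1.1.1.2.1.2, ?_, ?_, ?_,
    ?_, ?_⟩
  · intro s hs
    have := (hall s hs).1.1.1.2
    rw [← hWv _ this.1.1]
    exact this.2
  · intro s hs j hj
    have := (hall s hs).1.1.2 j hj
    rw [hcar j hj s hs, hcar j hj _ (hwlt s hs), hAp j hj, hcar i hi _ (hwlt s hs)] at this
    exact this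
  · intro s hs k hk
    have := (hall s hs).1.2 k hk
    rw [this]
    congr 2
    unfold corSum
    congr 1
    apply List.map_congr_left
    intro m hm
    rw [hAp m (List.mem_range.1 hm)]
  · intro s hs v hv x hx
    exact (hch s hs v hv (List.ne_nil_of_mem hx)).1 x hx
  · intro s hs v hv _ _
    by_cases hne : chainTerms D s v = []
    · rw [hne, List.map_nil]
      by_contra hcon
      have := (hch _ (hwlt s hs) _ (hwlt v hv) hcon).2
      rw [hwinv s hs, hwinv v hv, hne] at this
      exact hcon (List.map_eq_nil_iff.1 this.symm)
    · exact (hch s hs v hv hne).2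

/-! ### the monomial form of `n_p` with the signs of the mask -/

theorem nMat_eq_NForm {F : Type*} [Field F] (D : ChevalleyDatum) (masks : List ℕ) (i : ℕ)
    (hL : ∀ j < D.rank, nChkL D i j = true) (hR : ∀ s < D.nroots, nChkR D masks i s = true) :
    D.nMat F (D.simple i) 1 = NForm D F i (etaM (masks.getD i 0)) := by
  unfold NForm
  let v : Val F := ⟨1, one_ne_zero, 0, 0⟩
  have hw : evalWord v (nWordS D (D.simple i)) = D.nWord (D.simple i) (1 : F) :=
    evalWord_nWordS D v _
  unfold ChevalleyDatum.nMat
  rw [← hw]
  apply mat_eq_of_cols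
  intro idx
  rcases idx with a | s
  · have h := hL a.val a.2
    rw [nChkL] at h
    have hc' : (Sum.inl a.val : Code) = codeOf D (Sum.inl a) := rfl
    rw [hc'] at h
    rw [mulVec_of_colEq D v _ _ _ h]
    funext row
    rcases row with j' | s'
    · simp only [evalV_apply_cons, evalV_nil, Pi.zero_apply, add_zero, codeOf, Sum.map_inl,
        Sum.inl.injEq, evalP_pconst, Matrix.mulVec, dotProduct, Matrix.of_apply, Pi.single_apply,
        Sum.elim_inl]
      rw [Finset.sum_eq_single (Sum.inl a)]
      · simp only [Sum.elim_inl, if_true, mul_one]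
        have e1 : (a.val = j'.val) ↔ (j' = a) := by
          constructor
          · intro h; exact Fin.ext h.symm
          · intro h; rw [h]
        have e2 : (i = j'.val) ↔ (j'.val = i) := ⟨Eq.symm, Eq.symm⟩
        simp only [e1, e2]
        push_cast
        split_ifs <;> ring
      · intro b _ hb
        simp [hb]
      · intro h
        exact absurd (Finset.mem_univ _) h
    · simp only [evalV_apply_cons, evalV_nil, Pi.zero_apply, add_zero, codeOf, Sum.map_inl,
        Sum.map_inr, reduceCtorEq, if_false, Matrix.mulVec, dotProduct, Matrix.of_apply,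
        Pi.single_apply, Sum.elim_inr]
      rw [Finset.sum_eq_single (Sum.inl a)]
      · simp
      · intro b _ hb
        simp [hb]
      · intro h
        exact absurd (Finset.mem_univ _) h
  · have h := hR s.val s.2
    simp only [nChkR, Bool.and_eq_true] at h
    have h1 := h.1.1
    have hc' : (Sum.inr s.val : Code) = codeOf D (Sum.inr s) := rfl
    rw [hc'] at h1
    rw [mulVec_of_colEq D v _ _ _ h1]
    funext row
    rcases row with j' | s'
    · simp only [evalV_apply_cons, evalV_nil, Pi.zero_apply, add_zero, codeOf, Sum.map_inl,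
        Sum.map_inr, reduceCtorEq, if_false, Matrix.mulVec, dotProduct, Matrix.of_apply,
        Pi.single_apply, Sum.elim_inl]
      rw [Finset.sum_eq_single (Sum.inr s)]
      · simp
      · intro b _ hb
        simp [hb]
      · intro h
        exact absurd (Finset.mem_univ _) h
    · simp only [evalV_apply_cons, evalV_nil, Pi.zero_apply, add_zero, codeOf,
        Sum.map_inr, Sum.inr.injEq, evalP_pconst, Matrix.mulVec, dotProduct, Matrix.of_apply,
        Pi.single_apply, Sum.elim_inr]
      rw [Finset.sum_eq_single (Sum.inr s)]
      · simp only [Sum.elim_inr, if_true, mul_one]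
        have e1 : (D.reflectRoot i s.val = s'.val) ↔ (s'.val = D.reflectRoot i s.val) :=
          ⟨Eq.symm, Eq.symm⟩
        simp only [e1]
      · intro b _ hb
        simp [hb]
      · intro h
        exact absurd (Finset.mem_univ _) h

theorem etaM_mul_neg_of_chk (D : ChevalleyDatum) (masks : List ℕ) (i : ℕ)
    (hR : ∀ s < D.nroots, nChkR D masks i s = true) (s : ℕ) (hs : s < D.nroots) :
    etaM (masks.getD i 0) s * etaM (masks.getD i 0) (D.neg s) = 1 := by
  have h := hR s hs
  simp only [nChkR, Bool.and_eq_true, decide_eq_true_eq] at h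
  exact h.2

/-- `n_p x_s(t) = x_{w_p(s)}(η_s t) n_p` from the Boolean tests -/
theorem n_conj_x_of_chk {F : Type*} [Field F] (D : ChevalleyDatum)
    (hrow : ∀ i < D.rank, rowOK D i = true) (masks : List ℕ) (i : ℕ) (hi : i < D.rank)
    (hL : ∀ j < D.rank, nChkL D i j = true) (hR : ∀ s < D.nroots, nChkR D masks i s = true)
    (b K : ℕ) (hb : 0 < b) (hK0 : 0 < K) (hK : D.nroots ≤ b * K)
    (hblk : ∀ k < K, nxChk D masks i b k = true) (s : ℕ) (hs : s < D.nroots) (t : F) :
    D.nMat F (D.simple i) 1 * D.x F s t =
      D.x F (D.reflectRoot i s) (((etaM (masks.getD i 0) s : ℤ) : F) * t) * D.nMat F (D.simple i) 1 := by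
  rw [nMat_eq_NForm D masks i hL hR]
  exact NForm_conj_x D i hi _ (fun s _ => etaM_eq _ s) (etaM_mul_neg_of_chk D masks i hR)
    (nxFacts_of_chk D hrow masks i hi b K hb hK0 hK hblk) s hs t

end Cfsg.Agent.Lead.Chev
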