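import Mathlib
import Cfsg.Agent.Lib.Lead.ChevRefl

/-!
Chevalley's commutator formula by conjugation: if the formula holds for the pair `(r', s')` then, conjugating by
`n_p` (`p` fundamental), it holds for `(w_p r', w_p s')`, provided the terms of the formula correspond (a table
test). All pairs are reached from a few base pairs, which are verified by the calculator.
-/

set_option autoImplicit false
set_option linter.unusedSectionVars false
set_option linter.unusedSimpArgs false
set_option linter.unusedVariables false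

namespace Cfsg.Agent.Lead.Chev

open Cfsg Cfsg.Lie

variable {F : Type*} [Field F]

/-- the commutator formula for the pair `(r, s)` -/
def CommOK (D : ChevalleyDatum) (F : Type*) [Field F] (r s : ℕ) : Prop :=
  ∀ t u : F, D.x F s u * D.x F r t = D.x F r t * D.x F s u * D.wordMat F (D.commWord F r s t u)

theorem wordMat_cons (D : ChevalleyDatum) (q : ℕ × F) (l : List (ℕ × F)) :
    D.wordMat F (q :: l) = D.x F q.1 q.2 * D.wordMat F l := by
  simp [ChevalleyDatum.wordMat]

theorem wordMat_nil (D : ChevalleyDatum) : D.wordMat F ([] : List (ℕ × F)) = 1 := by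
  simp [ChevalleyDatum.wordMat]

/-- conjugating a word by a matrix `N` with `N x_s(t) = x_{w s}(η_s t) N` -/
theorem conj_wordMat (D : ChevalleyDatum) (w : ℕ → ℕ) (η : ℕ → ℤ) (N : Matrix D.Idx D.Idx F)
    (hconj : ∀ s < D.nroots, ∀ t : F, N * D.x F s t = D.x F (w s) (((η s : ℤ) : F) * t) * N)
    (l : List (ℕ × F)) (hl : ∀ q ∈ l, q.1 < D.nroots) :
    N * D.wordMat F l = D.wordMat F (l.map fun q => (w q.1, ((η q.1 : ℤ) : F) * q.2)) * N := by
  induction l with
  | nil => simp [wordMat_nil]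
  | cons q l ih =>
    rw [wordMat_cons, List.map_cons, wordMat_cons, ← mul_assoc,
      hconj q.1 (hl q List.mem_cons_self) q.2, mul_assoc,
      ih (fun q' hq' => hl q' (List.mem_cons_of_mem _ hq')), mul_assoc]

theorem inter_mul {n : Type*} [Fintype n] [DecidableEq n] {N A A' B B' : Matrix n n F}
    (hA : N * A = A' * N) (hB : N * B = B' * N) : N * (A * B) = (A' * B') * N := by
  rw [← mul_assoc, hA, mul_assoc, hB, mul_assoc]

theorem eta_pow_cast_sq (η : ℕ → ℤ) (s : ℕ) (h : η s = 1 ∨ η s = -1) :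
    ((η s : ℤ) : F) * (((η s : ℤ) : F) * (1 : F)) = 1 := by
  rcases h with h | h <;> rw [h] <;> simp

theorem commOK_conj (D : ChevalleyDatum) (w : ℕ → ℕ) (η : ℕ → ℤ)
    (hη : ∀ s, η s = 1 ∨ η s = -1) (N N' : Matrix D.Idx D.Idx F) (hNN' : N * N' = 1)
    (hconj : ∀ s < D.nroots, ∀ t : F, N * D.x F s t = D.x F (w s) (((η s : ℤ) : F) * t) * N)
    (r' s' : ℕ) (hr' : r' < D.nroots) (hs' : s' < D.nroots) (hok : CommOK D F r' s')
    (hlt : ∀ c ∈ D.commTerms r' s', c.1 < D.nroots)
    (htab : D.commTerms (w r') (w s') = (D.commTerms r' s').map fun c =>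
      (w c.1, c.2.1 * η c.1 * η r' ^ c.2.2.1 * η s' ^ c.2.2.2, c.2.2.1, c.2.2.2)) :
    CommOK D F (w r') (w s') := by
  intro t u
  have hr2 : ((η r' : ℤ) : F) * (((η r' : ℤ) : F) * t) = t := by
    rcases hη r' with h | h <;> rw [h] <;> simp
  have hs2 : ((η s' : ℤ) : F) * (((η s' : ℤ) : F) * u) = u := by
    rcases hη s' with h | h <;> rw [h] <;> simp
  have h0 := hok (((η r' : ℤ) : F) * t) (((η s' : ℤ) : F) * u)
  have hW := conj_wordMat D w η N hconj
    (D.commWord F r' s' (((η r' : ℤ) : F) * t) (((η s' : ℤ) : F) * u)) (by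
      intro q hq
      unfold ChevalleyDatum.commWord at hq
      obtain ⟨c, hc, rfl⟩ := List.mem_map.1 hq
      exact hlt c hc)
  have hA := hconj s' hs' (((η s' : ℤ) : F) * u)
  have hB := hconj r' hr' (((η r' : ℤ) : F) * t)
  rw [hs2] at hA
  rw [hr2] at hB
  have hL := inter_mul hA hB
  have hR := inter_mul (inter_mul hB hA) hW
  rw [h0, hR] at hL
  -- cancel `N`
  have h2 := congrArg (fun M => M * N') hL
  beta_reduce at h2
  simp only [mul_assoc, hNN', mul_one] at h2
  rw [← h2, mul_assoc]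
  congr 2
  -- the words agree
  unfold ChevalleyDatum.commWord
  rw [htab, List.map_map, List.map_map]
  congr 1
  apply List.map_congr_left
  intro c hc
  simp only [Function.comp]
  congr 1
  push_cast
  have e1 : (-(((η r' : ℤ) : F) * t)) ^ c.2.2.1 = ((η r' : ℤ) : F) ^ c.2.2.1 * (-t) ^ c.2.2.1 := by
    rw [← mul_pow]; congr 1; ring
  have e2 : (((η s' : ℤ) : F) * u) ^ c.2.2.2 = ((η s' : ℤ) : F) ^ c.2.2.2 * u ^ c.2.2.2 := mul_pow _ _ _
  rw [e1, e2]
  ring

/-! ### the pair test -/

/-- the image of a term of the commutator formula under `w_p`, with signs -/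
def commMapW (W mask r' s' : ℕ) (c : ℕ × ℤ × ℕ × ℕ) : ℕ × ℤ × ℕ × ℕ :=
  (unpack8 W c.1, c.2.1 * etaM mask c.1 * etaM mask r' ^ c.2.2.1 * etaM mask s' ^ c.2.2.2,
    c.2.2.1, c.2.2.2)

/-- the measure that decreases towards the base pairs -/
def nuP (H r s : ℕ) : ℕ := 3 * unpack8 H r + unpack8 H s

/-- the pair `(r, s)` is the image under `w_{p_i}` of a pair of smaller measure, with corresponding terms -/
def pairStep (D : ChevalleyDatum) (masks Ws : List ℕ) (H r s i : ℕ) : Bool :=
  fNat (Ws.getD i 0) fun W => fNat (unpack8 W r) fun r' => fNat (unpack8 W s) fun s' =>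
    decide (nuP H r' s' < nuP H r s) && decide (r' < D.nroots) && decide (s' < D.nroots) &&
    decide (unpack8 W r' = r) && decide (unpack8 W s' = s) &&
    (D.commTerms r' s').all (fun c => decide (c.1 < D.nroots)) &&
    decide (D.commTerms r s = (D.commTerms r' s').map (commMapW W (masks.getD i 0) r' s'))

/-- the test for the pair `(r, s)` -/
def pairChk (D : ChevalleyDatum) (masks Ws : List ℕ) (H : ℕ) (base : List (ℕ × ℕ)) (r s : ℕ) : Bool :=
  decide (s = r) || decide (s = D.neg r) || base.contains (r, s) ||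
    (List.range D.rank).any (pairStep D masks Ws H r s)

/-! ### the induction -/

/-- `n_r(1)` is invertible -/
theorem nMat_mul_inv (D : ChevalleyDatum) (r : ℕ) (hr : r < D.nroots) (hn : D.neg r < D.nroots)
    (hadd : ∀ r < D.nroots, ∀ t₁ t₂ : F, D.x F r t₁ * D.x F r t₂ = D.x F r (t₁ + t₂))
    (hzero : ∀ r < D.nroots, D.x F r (0 : F) = 1) :
    D.nMat F r 1 * (D.x F r (-1) * (D.x F (D.neg r) 1 * D.x F r (-1))) = 1 := by
  have e1 : D.nMat F r 1 = D.x F r 1 * (D.x F (D.neg r) (-1) * D.x F r 1) := by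
    simp [ChevalleyDatum.nMat, ChevalleyDatum.nWord, ChevalleyDatum.wordMat]
  rw [e1]
  have h1 : D.x F r 1 * D.x F r (-1) = 1 := by rw [hadd r hr, add_neg_cancel, hzero r hr]
  have h2 : D.x F (D.neg r) (-1) * D.x F (D.neg r) 1 = 1 := by
    rw [hadd _ hn, neg_add_cancel, hzero _ hn]
  calc D.x F r 1 * (D.x F (D.neg r) (-1) * D.x F r 1) *
        (D.x F r (-1) * (D.x F (D.neg r) 1 * D.x F r (-1)))
      = D.x F r 1 * (D.x F (D.neg r) (-1) * ((D.x F r 1 * D.x F r (-1)) *
          (D.x F (D.neg r) 1 * D.x F r (-1)))) := by simp only [mul_assoc]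
    _ = D.x F r 1 * ((D.x F (D.neg r) (-1) * D.x F (D.neg r) 1) * D.x F r (-1)) := by
        rw [h1, one_mul, mul_assoc]
    _ = 1 := by rw [h2, one_mul, h1]

/-- the facts on `n_p` needed for the conjugation (a part of `NSimple`) -/
structure NConj (D : ChevalleyDatum) (F : Type*) [Field F] (i : ℕ) (η : ℕ → ℤ) : Prop where
  sign : ∀ s, η s = 1 ∨ η s = -1
  facts : NXFacts D η i
  conj : ∀ s < D.nroots, ∀ t : F, D.nMat F (D.simple i) 1 * D.x F s t =
    D.x F (D.reflectRoot i s) (((η s : ℤ) : F) * t) * D.nMat F (D.simple i) 1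

theorem commOK_all (D : ChevalleyDatum) (η : ℕ → ℕ → ℤ)
    (hNS : ∀ i < D.rank, NConj D F i (η i))
    (hsimple : ∀ i < D.rank, D.simple i < D.nroots)
    (hadd : ∀ r < D.nroots, ∀ t₁ t₂ : F, D.x F r t₁ * D.x F r t₂ = D.x F r (t₁ + t₂))
    (hzero : ∀ r < D.nroots, D.x F r (0 : F) = 1)
    (H : ℕ) (base : List (ℕ × ℕ)) (hbase : ∀ p ∈ base, CommOK D F p.1 p.2)
    (hstep : ∀ r < D.nroots, ∀ s < D.nroots, s ≠ r → s ≠ D.neg r → (r, s) ∉ base → ∃ i < D.rank,
      nuP H (D.reflectRoot i r) (D.reflectRoot i s) < nuP H r s ∧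
      (∀ c ∈ D.commTerms (D.reflectRoot i r) (D.reflectRoot i s), c.1 < D.nroots) ∧
      D.commTerms r s = (D.commTerms (D.reflectRoot i r) (D.reflectRoot i s)).map fun c =>
        (D.reflectRoot i c.1,
          c.2.1 * η i c.1 * η i (D.reflectRoot i r) ^ c.2.2.1 * η i (D.reflectRoot i s) ^ c.2.2.2,
          c.2.2.1, c.2.2.2)) :
    ∀ r < D.nroots, ∀ s < D.nroots, s ≠ r → s ≠ D.neg r → CommOK D F r s := by
  intro r hr s hs
  induction' hν : nuP H r s using Nat.strong_induction_on with ν ih generalizing r s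
  intro hsr hsn
  by_cases hb : (r, s) ∈ base
  · exact hbase (r, s) hb
  · obtain ⟨i, hi, hlt, hcl, htab⟩ := hstep r hr s hs hsr hsn hb
    have hN := hNS i hi
    have fa := hN.facts
    set r' := D.reflectRoot i r with hr'
    set s' := D.reflectRoot i s with hs'
    have hr'lt : r' < D.nroots := fa.wlt r hr
    have hs'lt : s' < D.nroots := fa.wlt s hs
    have hwr : D.reflectRoot i r' = r := fa.winv r hr
    have hws : D.reflectRoot i s' = s := fa.winv s hs
    have hne1 : s' ≠ r' := by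
      intro h
      apply hsr
      rw [← hws, h, hwr]
    have hne2 : s' ≠ D.neg r' := by
      intro h
      apply hsn
      rw [← hws, h, fa.wneg r' hr'lt, hwr]
    have hok' : CommOK D F r' s' := ih _ (by rw [← hν]; exact hlt) r' hr'lt s' hs'lt rfl hne1 hne2
    have hp := hsimple i hi
    have hnp := fa.nlt _ hp
    have key := commOK_conj D (D.reflectRoot i) (η i) hN.sign (D.nMat F (D.simple i) 1) _
      (nMat_mul_inv D (D.simple i) hp hnp hadd hzero) hN.conj r' s' hr'lt hs'lt hok' hcl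
      (by rw [hwr, hws]; exact htab)
    rw [hwr, hws] at key
    exact key

/-- the step hypothesis of `commOK_all` from the Boolean pair test -/
theorem hstep_of_pairChk (D : ChevalleyDatum) (masks Ws : List ℕ) (H : ℕ) (base : List (ℕ × ℕ))
    (hWs : ∀ i < D.rank, ∀ v < D.nroots, unpack8 (Ws.getD i 0) v = D.reflectRoot i v)
    (hchk : ∀ r < D.nroots, ∀ s < D.nroots, pairChk D masks Ws H base r s = true) :
    ∀ r < D.nroots, ∀ s < D.nroots, s ≠ r → s ≠ D.neg r → (r, s) ∉ base → ∃ i < D.rank,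
      nuP H (D.reflectRoot i r) (D.reflectRoot i s) < nuP H r s ∧
      (∀ c ∈ D.commTerms (D.reflectRoot i r) (D.reflectRoot i s), c.1 < D.nroots) ∧
      D.commTerms r s = (D.commTerms (D.reflectRoot i r) (D.reflectRoot i s)).map fun c =>
        (D.reflectRoot i c.1,
          c.2.1 * etaM (masks.getD i 0) c.1 * etaM (masks.getD i 0) (D.reflectRoot i r) ^ c.2.2.1 *
            etaM (masks.getD i 0) (D.reflectRoot i s) ^ c.2.2.2,
          c.2.2.1, c.2.2.2) := by
  intro r hr s hs hsr hsn hb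
  have h := hchk r hr s hs
  simp only [pairChk, Bool.or_eq_true, decide_eq_true_eq, List.contains_iff_mem,
    List.any_eq_true, List.mem_range] at h
  rcases h with ((h | h) | h) | ⟨i, hi, h⟩
  · exact absurd h hsr
  · exact absurd h hsn
  · exact absurd h hb
  · refine ⟨i, hi, ?_⟩
    simp only [pairStep, fNat_eq, Bool.and_eq_true, decide_eq_true_eq, List.all_eq_true] at h
    rw [hWs i hi r hr, hWs i hi s hs] at h
    obtain ⟨⟨⟨⟨⟨⟨h1, _⟩, _⟩, _⟩, _⟩, h6⟩, h7⟩ := h
    refine ⟨h1, h6, ?_⟩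
    rw [h7]
    apply List.map_congr_left
    intro c hc
    simp only [commMapW]
    rw [hWs i hi c.1 (h6 c hc)]

end Cfsg.Agent.Lead.Chev
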