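import Mathlib
import Cfsg.Agent.Lib.Lead.ChevComm

/-!
Root elements and words in root elements as elements of the general linear group, from the additivity of the
root elements (S1023, S1024).
-/

set_option autoImplicit false
set_option linter.unusedSectionVars false
set_option linter.unusedSimpArgs false
set_option linter.unusedVariables false

namespace Cfsg.Agent.Lead.Chev

open Cfsg Cfsg.Lie
open scoped commutatorElement

variable {F : Type*} [Field F]

/-- additivity of the root elements -/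
structure XAdd (D : ChevalleyDatum) (F : Type*) [Field F] : Prop where
  add : ∀ r < D.nroots, ∀ t₁ t₂ : F, D.x F r t₁ * D.x F r t₂ = D.x F r (t₁ + t₂)
  zero : ∀ r < D.nroots, D.x F r (0 : F) = 1

theorem x_of_ge (D : ChevalleyDatum) (r : ℕ) (hr : D.nroots ≤ r) (t : F) : D.x F r t = 1 := by
  unfold ChevalleyDatum.x
  rw [dif_neg (not_lt.2 hr)]

theorem x_of_lt (D : ChevalleyDatum) (r : ℕ) (hr : r < D.nroots) (t : F) :
    D.x F r t = D.xMat F ⟨r, hr⟩ t := by
  unfold ChevalleyDatum.x
  rw [dif_pos hr]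

theorem XAdd.add' {D : ChevalleyDatum} (h : XAdd D F) (r : ℕ) (t₁ t₂ : F) :
    D.x F r t₁ * D.x F r t₂ = D.x F r (t₁ + t₂) := by
  by_cases hr : r < D.nroots
  · exact h.add r hr t₁ t₂
  · rw [x_of_ge D r (not_lt.1 hr), x_of_ge D r (not_lt.1 hr), x_of_ge D r (not_lt.1 hr), mul_one]

theorem XAdd.zero' {D : ChevalleyDatum} (h : XAdd D F) (r : ℕ) : D.x F r (0 : F) = 1 := by
  by_cases hr : r < D.nroots
  · exact h.zero r hr
  · exact x_of_ge D r (not_lt.1 hr) 0

theorem XAdd.mul_neg {D : ChevalleyDatum} (h : XAdd D F) (r : ℕ) (t : F) :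
    D.x F r t * D.x F r (-t) = 1 := by
  rw [h.add', add_neg_cancel, h.zero']

theorem XAdd.neg_mul {D : ChevalleyDatum} (h : XAdd D F) (r : ℕ) (t : F) :
    D.x F r (-t) * D.x F r t = 1 := by
  rw [h.add', neg_add_cancel, h.zero']

/-- `x_r(t)` as an element of the general linear group -/
def xGL (D : ChevalleyDatum) (h : XAdd D F) (r : ℕ) (t : F) : GL D.Idx F :=
  ⟨D.x F r t, D.x F r (-t), h.mul_neg r t, h.neg_mul r t⟩

@[simp] theorem xGL_val (D : ChevalleyDatum) (h : XAdd D F) (r : ℕ) (t : F) :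
    ((xGL D h r t : GL D.Idx F) : Matrix D.Idx D.Idx F) = D.x F r t := rfl

theorem xGL_inv (D : ChevalleyDatum) (h : XAdd D F) (r : ℕ) (t : F) :
    (xGL D h r t)⁻¹ = xGL D h r (-t) := by
  apply Units.ext
  rfl

theorem xGL_mul (D : ChevalleyDatum) (h : XAdd D F) (r : ℕ) (t₁ t₂ : F) :
    xGL D h r t₁ * xGL D h r t₂ = xGL D h r (t₁ + t₂) := by
  apply Units.ext
  exact h.add' r t₁ t₂

theorem xGL_zero (D : ChevalleyDatum) (h : XAdd D F) (r : ℕ) : xGL D h r (0 : F) = 1 := by
  apply Units.ext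
  exact h.zero' r

theorem xGL_of_ge (D : ChevalleyDatum) (h : XAdd D F) (r : ℕ) (hr : D.nroots ≤ r) (t : F) :
    xGL D h r t = 1 := by
  apply Units.ext
  exact x_of_ge D r hr t

theorem xGL_eq_of_val (D : ChevalleyDatum) (h : XAdd D F) (g : GL D.Idx F) (r : ℕ) (t : F)
    (hg : (g : Matrix D.Idx D.Idx F) = D.x F r t) : g = xGL D h r t :=
  Units.ext hg

theorem xGL_mem_group (D : ChevalleyDatum) (h : XAdd D F) (r : ℕ) (t : F) : xGL D h r t ∈ D.group F := by
  by_cases hr : r < D.nroots
  · apply Subgroup.subset_closure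
    exact ⟨⟨r, hr⟩, t, x_of_lt D r hr t⟩
  · rw [xGL_of_ge D h r (not_lt.1 hr)]
    exact one_mem _

theorem group_le_of (D : ChevalleyDatum) (h : XAdd D F) (K : Subgroup (GL D.Idx F))
    (hK : ∀ r < D.nroots, ∀ t : F, xGL D h r t ∈ K) : D.group F ≤ K := by
  unfold ChevalleyDatum.group
  rw [Subgroup.closure_le]
  rintro g ⟨r, t, hg⟩
  have : g = xGL D h r.val t := Units.ext (by rw [hg]; exact (x_of_lt D r.val r.2 t).symm)
  rw [this]
  exact hK _ r.2 t

/-- a word in root elements as an element of the general linear group -/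
def wordGL (D : ChevalleyDatum) (h : XAdd D F) (w : List (ℕ × F)) : GL D.Idx F :=
  (w.map fun p => xGL D h p.1 p.2).prod

theorem wordGL_nil (D : ChevalleyDatum) (h : XAdd D F) : wordGL D h ([] : List (ℕ × F)) = 1 := rfl

theorem wordGL_cons (D : ChevalleyDatum) (h : XAdd D F) (q : ℕ × F) (w : List (ℕ × F)) :
    wordGL D h (q :: w) = xGL D h q.1 q.2 * wordGL D h w := by
  unfold wordGL
  rw [List.map_cons, List.prod_cons]

theorem wordGL_append (D : ChevalleyDatum) (h : XAdd D F) (w₁ w₂ : List (ℕ × F)) :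
    wordGL D h (w₁ ++ w₂) = wordGL D h w₁ * wordGL D h w₂ := by
  unfold wordGL
  rw [List.map_append, List.prod_append]

@[simp] theorem wordGL_val (D : ChevalleyDatum) (h : XAdd D F) (w : List (ℕ × F)) :
    ((wordGL D h w : GL D.Idx F) : Matrix D.Idx D.Idx F) = D.wordMat F w := by
  induction w with
  | nil => rw [wordGL_nil, wordMat_nil]; rfl
  | cons q w ih => rw [wordGL_cons, wordMat_cons, Units.val_mul, ih, xGL_val]

theorem wordGL_mem_group (D : ChevalleyDatum) (h : XAdd D F) (w : List (ℕ × F)) :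
    wordGL D h w ∈ D.group F := by
  induction w with
  | nil => rw [wordGL_nil]; exact one_mem _
  | cons q w ih => rw [wordGL_cons]; exact mul_mem (xGL_mem_group D h _ _) ih

theorem wordGL_singleton (D : ChevalleyDatum) (h : XAdd D F) (q : ℕ × F) :
    wordGL D h [q] = xGL D h q.1 q.2 := by
  rw [wordGL_cons, wordGL_nil, mul_one]

/-- the commutator formula in the general linear group -/
theorem comm_GL (D : ChevalleyDatum) (h : XAdd D F) (a b : ℕ) (hc : CommOK D F a b) (t u : F) :
    ⁅(xGL D h b u)⁻¹, (xGL D h a t)⁻¹⁆ = wordGL D h (D.commWord F a b t u) := by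
  have e : xGL D h b u * xGL D h a t = xGL D h a t * xGL D h b u * wordGL D h (D.commWord F a b t u) := by
    apply Units.ext
    rw [Units.val_mul, Units.val_mul, Units.val_mul, wordGL_val, xGL_val, xGL_val]
    exact hc t u
  rw [commutatorElement_def, inv_inv, inv_inv, mul_assoc _ (xGL D h b u), e]
  group

theorem commWord_mem_commutator (D : ChevalleyDatum) (h : XAdd D F) (a b : ℕ) (hc : CommOK D F a b) (t u : F) :
    wordGL D h (D.commWord F a b t u) ∈ ⁅D.group F, D.group F⁆ := by
  rw [← comm_GL D h a b hc t u]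
  exact Subgroup.commutator_mem_commutator (inv_mem (xGL_mem_group D h b u)) (inv_mem (xGL_mem_group D h a t))

end Cfsg.Agent.Lead.Chev
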