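import Mathlib
import Cfsg.Agent.Lib.Lead.ChevGL

/-!
Rank one relations in the general linear group: the elements `n_r(t)`, `h_r(t)`.
-/

set_option autoImplicit false
set_option linter.unusedSectionVars false
set_option linter.unusedSimpArgs false
set_option linter.unusedVariables false

namespace Cfsg.Agent.Lead.Chev

open Cfsg Cfsg.Lie

variable {F : Type*} [Field F]

/-- `n_r(t) = x_r(t) x_{-r}(-t⁻¹) x_r(t)` in the general linear group -/
def nGLt (D : ChevalleyDatum) (hX : XAdd D F) (r : ℕ) (t : F) : GL D.Idx F := wordGL D hX (D.nWord r t)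

/-- `h_r(t) = n_r(t) n_r(-1)` in the general linear group -/
def hGLt (D : ChevalleyDatum) (hX : XAdd D F) (r : ℕ) (t : F) : GL D.Idx F := wordGL D hX (D.hWord r t)

theorem nGLt_val (D : ChevalleyDatum) (hX : XAdd D F) (r : ℕ) (t : F) :
    ((nGLt D hX r t : GL D.Idx F) : Matrix D.Idx D.Idx F) = D.nMat F r t := by
  unfold nGLt
  rw [wordGL_val]
  rfl

theorem hGLt_val (D : ChevalleyDatum) (hX : XAdd D F) (r : ℕ) (t : F) :
    ((hGLt D hX r t : GL D.Idx F) : Matrix D.Idx D.Idx F) = D.hMat F r t := by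
  unfold hGLt
  rw [wordGL_val]
  rfl

theorem nGLt_eq (D : ChevalleyDatum) (hX : XAdd D F) (r : ℕ) (t : F) :
    nGLt D hX r t = xGL D hX r t * xGL D hX (D.neg r) (-t⁻¹) * xGL D hX r t := by
  unfold nGLt ChevalleyDatum.nWord
  rw [wordGL_cons, wordGL_cons, wordGL_singleton, mul_assoc]

theorem hGLt_eq (D : ChevalleyDatum) (hX : XAdd D F) (r : ℕ) (t : F) :
    hGLt D hX r t = nGLt D hX r t * nGLt D hX r (-1) := by
  unfold hGLt nGLt ChevalleyDatum.hWord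
  rw [wordGL_append]

theorem nGLt_inv (D : ChevalleyDatum) (hX : XAdd D F) (r : ℕ) (t : F) :
    (nGLt D hX r t)⁻¹ = nGLt D hX r (-t) := by
  rw [nGLt_eq, nGLt_eq, mul_inv_rev, mul_inv_rev, xGL_inv, xGL_inv, neg_neg, inv_neg, neg_neg, mul_assoc]

theorem nGLt_mem_group (D : ChevalleyDatum) (hX : XAdd D F) (r : ℕ) (t : F) : nGLt D hX r t ∈ D.group F :=
  wordGL_mem_group D hX _

theorem hGLt_mem_group (D : ChevalleyDatum) (hX : XAdd D F) (r : ℕ) (t : F) : hGLt D hX r t ∈ D.group F :=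
  wordGL_mem_group D hX _

theorem hGLt_mem_diagonal (D : ChevalleyDatum) (hX : XAdd D F) (r : ℕ) (hr : r < D.nroots) (t : F)
    (ht : t ≠ 0) : hGLt D hX r t ∈ D.diagonalSubgroup F := by
  unfold ChevalleyDatum.diagonalSubgroup
  apply Subgroup.subset_closure
  exact ⟨r, t, hr, ht, hGLt_val D hX r t⟩

/-- `n_r(a) n_r(b) ∈ H` -/
theorem nGLt_mul_nGLt_mem (D : ChevalleyDatum) (hX : XAdd D F) (r : ℕ) (hr : r < D.nroots) (a b : F)
    (ha : a ≠ 0) (hb : b ≠ 0) : nGLt D hX r a * nGLt D hX r b ∈ D.diagonalSubgroup F := by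
  have h1 := hGLt_mem_diagonal D hX r hr a ha
  have h2 := hGLt_mem_diagonal D hX r hr (-b) (neg_ne_zero.2 hb)
  have e : nGLt D hX r a * nGLt D hX r b = hGLt D hX r a * (hGLt D hX r (-b))⁻¹ := by
    rw [hGLt_eq, hGLt_eq, mul_inv_rev, nGLt_inv, nGLt_inv, neg_neg, neg_neg]
    have : nGLt D hX r (-1) * nGLt D hX r 1 = 1 := by
      rw [← nGLt_inv]
      exact inv_mul_cancel _
    rw [mul_assoc, ← mul_assoc (nGLt D hX r (-1)), this, one_mul]
  rw [e]
  exact mul_mem h1 (inv_mem h2)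

/-- `n_r(t) = h_r(t) n_r(1)` -/
theorem nGLt_eq_hGLt_mul (D : ChevalleyDatum) (hX : XAdd D F) (r : ℕ) (t : F) :
    nGLt D hX r t = hGLt D hX r t * nGLt D hX r 1 := by
  rw [hGLt_eq, mul_assoc]
  have : nGLt D hX r (-1) * nGLt D hX r 1 = 1 := by
    rw [← nGLt_inv]
    exact inv_mul_cancel _
  rw [this, mul_one]

/-- `x_{-r}(-t) = x_r(-t⁻¹) n_r(t⁻¹) x_r(-t⁻¹)` -/
theorem xGL_neg_eq (D : ChevalleyDatum) (hX : XAdd D F) (r : ℕ) (t : F) :
    xGL D hX (D.neg r) (-t) = xGL D hX r (-t⁻¹) * nGLt D hX r t⁻¹ * xGL D hX r (-t⁻¹) := by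
  rw [nGLt_eq, inv_inv]
  have e1 : xGL D hX r (-t⁻¹) * xGL D hX r t⁻¹ = 1 := by rw [xGL_mul, neg_add_cancel, xGL_zero]
  have e2 : xGL D hX r t⁻¹ * xGL D hX r (-t⁻¹) = 1 := by rw [xGL_mul, add_neg_cancel, xGL_zero]
  calc xGL D hX (D.neg r) (-t)
      = (xGL D hX r (-t⁻¹) * xGL D hX r t⁻¹) * xGL D hX (D.neg r) (-t) *
          (xGL D hX r t⁻¹ * xGL D hX r (-t⁻¹)) := by rw [e1, e2, one_mul, mul_one]
    _ = _ := by simp only [mul_assoc]

end Cfsg.Agent.Lead.Chev
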