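import Mathlib
import Cfsg.Agent.Lib.Lead.ChevExp
import Cfsg.Prelude.Def_ChevE6

set_option autoImplicit false

namespace Cfsg.Agent.Lead.Chev

open Cfsg Cfsg.Lie

theorem expOK_E6_0_0 : (List.range' (8 * 0) 8).all ((fun _ => expChk chevE6) 0) = true := by decide +kernel
theorem expOK_E6_0_1 : (List.range' (8 * 1) 8).all ((fun _ => expChk chevE6) 0) = true := by decide +kernel
theorem expOK_E6_0_2 : (List.range' (8 * 2) 8).all ((fun _ => expChk chevE6) 0) = true := by decide +kernel
theorem expOK_E6_0_3 : (List.range' (8 * 3) 8).all ((fun _ => expChk chevE6) 0) = true := by decide +kernel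
theorem expOK_E6_0_4 : (List.range' (8 * 4) 8).all ((fun _ => expChk chevE6) 0) = true := by decide +kernel
theorem expOK_E6_0_5 : (List.range' (8 * 5) 8).all ((fun _ => expChk chevE6) 0) = true := by decide +kernel
theorem expOK_E6_0_6 : (List.range' (8 * 6) 8).all ((fun _ => expChk chevE6) 0) = true := by decide +kernel
theorem expOK_E6_0_7 : (List.range' (8 * 7) 8).all ((fun _ => expChk chevE6) 0) = true := by decide +kernel
theorem expOK_E6_0_8 : (List.range' (8 * 8) 8).all ((fun _ => expChk chevE6) 0) = true := by decide +kernel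

theorem expOK_E6 : ∀ a < 1, ∀ s < 72, (fun _ => expChk chevE6) a s = true :=
  forall_forall_lt_of_blocks ((fun _ => expChk chevE6)) 1 72 8 9 (by norm_num) (by norm_num) (by
    intro a ha k hk
    interval_cases a <;> interval_cases k
    · exact expOK_E6_0_0
    · exact expOK_E6_0_1
    · exact expOK_E6_0_2
    · exact expOK_E6_0_3
    · exact expOK_E6_0_4
    · exact expOK_E6_0_5
    · exact expOK_E6_0_6
    · exact expOK_E6_0_7
    · exact expOK_E6_0_8)

end Cfsg.Agent.Lead.Chev
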