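import Mathlib
import Cfsg.Agent.Lib.Lead.ChevExp
import Cfsg.Prelude.Def_ChevE7

set_option autoImplicit false

namespace Cfsg.Agent.Lead.Chev

open Cfsg Cfsg.Lie

theorem expOK_E7_0_0 : (List.range' (3 * 0) 3).all ((fun _ => expChk chevE7) 0) = true := by decide +kernel
theorem expOK_E7_0_1 : (List.range' (3 * 1) 3).all ((fun _ => expChk chevE7) 0) = true := by decide +kernel
theorem expOK_E7_0_2 : (List.range' (3 * 2) 3).all ((fun _ => expChk chevE7) 0) = true := by decide +kernel
theorem expOK_E7_0_3 : (List.range' (3 * 3) 3).all ((fun _ => expChk chevE7) 0) = true := by decide +kernel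
theorem expOK_E7_0_4 : (List.range' (3 * 4) 3).all ((fun _ => expChk chevE7) 0) = true := by decide +kernel
theorem expOK_E7_0_5 : (List.range' (3 * 5) 3).all ((fun _ => expChk chevE7) 0) = true := by decide +kernel
theorem expOK_E7_0_6 : (List.range' (3 * 6) 3).all ((fun _ => expChk chevE7) 0) = true := by decide +kernel
theorem expOK_E7_0_7 : (List.range' (3 * 7) 3).all ((fun _ => expChk chevE7) 0) = true := by decide +kernel
theorem expOK_E7_0_8 : (List.range' (3 * 8) 3).all ((fun _ => expChk chevE7) 0) = true := by decide +kernel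
theorem expOK_E7_0_9 : (List.range' (3 * 9) 3).all ((fun _ => expChk chevE7) 0) = true := by decide +kernel
theorem expOK_E7_0_10 : (List.range' (3 * 10) 3).all ((fun _ => expChk chevE7) 0) = true := by decide +kernel
theorem expOK_E7_0_11 : (List.range' (3 * 11) 3).all ((fun _ => expChk chevE7) 0) = true := by decide +kernel
theorem expOK_E7_0_12 : (List.range' (3 * 12) 3).all ((fun _ => expChk chevE7) 0) = true := by decide +kernel
theorem expOK_E7_0_13 : (List.range' (3 * 13) 3).all ((fun _ => expChk chevE7) 0) = true := by decide +kernel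
theorem expOK_E7_0_14 : (List.range' (3 * 14) 3).all ((fun _ => expChk chevE7) 0) = true := by decide +kernel
theorem expOK_E7_0_15 : (List.range' (3 * 15) 3).all ((fun _ => expChk chevE7) 0) = true := by decide +kernel
theorem expOK_E7_0_16 : (List.range' (3 * 16) 3).all ((fun _ => expChk chevE7) 0) = true := by decide +kernel
theorem expOK_E7_0_17 : (List.range' (3 * 17) 3).all ((fun _ => expChk chevE7) 0) = true := by decide +kernel
theorem expOK_E7_0_18 : (List.range' (3 * 18) 3).all ((fun _ => expChk chevE7) 0) = true := by decide +kernel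
theorem expOK_E7_0_19 : (List.range' (3 * 19) 3).all ((fun _ => expChk chevE7) 0) = true := by decide +kernel
theorem expOK_E7_0_20 : (List.range' (3 * 20) 3).all ((fun _ => expChk chevE7) 0) = true := by decide +kernel
theorem expOK_E7_0_21 : (List.range' (3 * 21) 3).all ((fun _ => expChk chevE7) 0) = true := by decide +kernel
theorem expOK_E7_0_22 : (List.range' (3 * 22) 3).all ((fun _ => expChk chevE7) 0) = true := by decide +kernel
theorem expOK_E7_0_23 : (List.range' (3 * 23) 3).all ((fun _ => expChk chevE7) 0) = true := by decide +kernel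
theorem expOK_E7_0_24 : (List.range' (3 * 24) 3).all ((fun _ => expChk chevE7) 0) = true := by decide +kernel
theorem expOK_E7_0_25 : (List.range' (3 * 25) 3).all ((fun _ => expChk chevE7) 0) = true := by decide +kernel
theorem expOK_E7_0_26 : (List.range' (3 * 26) 3).all ((fun _ => expChk chevE7) 0) = true := by decide +kernel
theorem expOK_E7_0_27 : (List.range' (3 * 27) 3).all ((fun _ => expChk chevE7) 0) = true := by decide +kernel
theorem expOK_E7_0_28 : (List.range' (3 * 28) 3).all ((fun _ => expChk chevE7) 0) = true := by decide +kernel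
theorem expOK_E7_0_29 : (List.range' (3 * 29) 3).all ((fun _ => expChk chevE7) 0) = true := by decide +kernel
theorem expOK_E7_0_30 : (List.range' (3 * 30) 3).all ((fun _ => expChk chevE7) 0) = true := by decide +kernel
theorem expOK_E7_0_31 : (List.range' (3 * 31) 3).all ((fun _ => expChk chevE7) 0) = true := by decide +kernel
theorem expOK_E7_0_32 : (List.range' (3 * 32) 3).all ((fun _ => expChk chevE7) 0) = true := by decide +kernel
theorem expOK_E7_0_33 : (List.range' (3 * 33) 3).all ((fun _ => expChk chevE7) 0) = true := by decide +kernel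
theorem expOK_E7_0_34 : (List.range' (3 * 34) 3).all ((fun _ => expChk chevE7) 0) = true := by decide +kernel
theorem expOK_E7_0_35 : (List.range' (3 * 35) 3).all ((fun _ => expChk chevE7) 0) = true := by decide +kernel
theorem expOK_E7_0_36 : (List.range' (3 * 36) 3).all ((fun _ => expChk chevE7) 0) = true := by decide +kernel
theorem expOK_E7_0_37 : (List.range' (3 * 37) 3).all ((fun _ => expChk chevE7) 0) = true := by decide +kernel
theorem expOK_E7_0_38 : (List.range' (3 * 38) 3).all ((fun _ => expChk chevE7) 0) = true := by decide +kernel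
theorem expOK_E7_0_39 : (List.range' (3 * 39) 3).all ((fun _ => expChk chevE7) 0) = true := by decide +kernel
theorem expOK_E7_0_40 : (List.range' (3 * 40) 3).all ((fun _ => expChk chevE7) 0) = true := by decide +kernel
theorem expOK_E7_0_41 : (List.range' (3 * 41) 3).all ((fun _ => expChk chevE7) 0) = true := by decide +kernel

theorem expOK_E7 : ∀ a < 1, ∀ s < 126, (fun _ => expChk chevE7) a s = true :=
  forall_forall_lt_of_blocks ((fun _ => expChk chevE7)) 1 126 3 42 (by norm_num) (by norm_num) (by
    intro a ha k hk
    interval_cases a <;> interval_cases k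
    · exact expOK_E7_0_0
    · exact expOK_E7_0_1
    · exact expOK_E7_0_2
    · exact expOK_E7_0_3
    · exact expOK_E7_0_4
    · exact expOK_E7_0_5
    · exact expOK_E7_0_6
    · exact expOK_E7_0_7
    · exact expOK_E7_0_8
    · exact expOK_E7_0_9
    · exact expOK_E7_0_10
    · exact expOK_E7_0_11
    · exact expOK_E7_0_12
    · exact expOK_E7_0_13
    · exact expOK_E7_0_14
    · exact expOK_E7_0_15
    · exact expOK_E7_0_16
    · exact expOK_E7_0_17
    · exact expOK_E7_0_18
    · exact expOK_E7_0_19
    · exact expOK_E7_0_20
    · exact expOK_E7_0_21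
    · exact expOK_E7_0_22
    · exact expOK_E7_0_23
    · exact expOK_E7_0_24
    · exact expOK_E7_0_25
    · exact expOK_E7_0_26
    · exact expOK_E7_0_27
    · exact expOK_E7_0_28
    · exact expOK_E7_0_29
    · exact expOK_E7_0_30
    · exact expOK_E7_0_31
    · exact expOK_E7_0_32
    · exact expOK_E7_0_33
    · exact expOK_E7_0_34
    · exact expOK_E7_0_35
    · exact expOK_E7_0_36
    · exact expOK_E7_0_37
    · exact expOK_E7_0_38
    · exact expOK_E7_0_39
    · exact expOK_E7_0_40
    · exact expOK_E7_0_41)

end Cfsg.Agent.Lead.Chev
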