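import Mathlib
import Cfsg.Agent.Lib.Lead.ChevExp
import Cfsg.Prelude.Def_ChevE8

set_option autoImplicit false

namespace Cfsg.Agent.Lead.Chev

open Cfsg Cfsg.Lie

theorem expOK_E8_0_0 : (List.range' (1 * 0) 1).all ((fun _ => expChk chevE8) 0) = true := by decide +kernel
theorem expOK_E8_0_1 : (List.range' (1 * 1) 1).all ((fun _ => expChk chevE8) 0) = true := by decide +kernel
theorem expOK_E8_0_2 : (List.range' (1 * 2) 1).all ((fun _ => expChk chevE8) 0) = true := by decide +kernel
theorem expOK_E8_0_3 : (List.range' (1 * 3) 1).all ((fun _ => expChk chevE8) 0) = true := by decide +kernel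
theorem expOK_E8_0_4 : (List.range' (1 * 4) 1).all ((fun _ => expChk chevE8) 0) = true := by decide +kernel
theorem expOK_E8_0_5 : (List.range' (1 * 5) 1).all ((fun _ => expChk chevE8) 0) = true := by decide +kernel
theorem expOK_E8_0_6 : (List.range' (1 * 6) 1).all ((fun _ => expChk chevE8) 0) = true := by decide +kernel
theorem expOK_E8_0_7 : (List.range' (1 * 7) 1).all ((fun _ => expChk chevE8) 0) = true := by decide +kernel
theorem expOK_E8_0_8 : (List.range' (1 * 8) 1).all ((fun _ => expChk chevE8) 0) = true := by decide +kernel
theorem expOK_E8_0_9 : (List.range' (1 * 9) 1).all ((fun _ => expChk chevE8) 0) = true := by decide +kernel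
theorem expOK_E8_0_10 : (List.range' (1 * 10) 1).all ((fun _ => expChk chevE8) 0) = true := by decide +kernel
theorem expOK_E8_0_11 : (List.range' (1 * 11) 1).all ((fun _ => expChk chevE8) 0) = true := by decide +kernel
theorem expOK_E8_0_12 : (List.range' (1 * 12) 1).all ((fun _ => expChk chevE8) 0) = true := by decide +kernel
theorem expOK_E8_0_13 : (List.range' (1 * 13) 1).all ((fun _ => expChk chevE8) 0) = true := by decide +kernel
theorem expOK_E8_0_14 : (List.range' (1 * 14) 1).all ((fun _ => expChk chevE8) 0) = true := by decide +kernel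
theorem expOK_E8_0_15 : (List.range' (1 * 15) 1).all ((fun _ => expChk chevE8) 0) = true := by decide +kernel
theorem expOK_E8_0_16 : (List.range' (1 * 16) 1).all ((fun _ => expChk chevE8) 0) = true := by decide +kernel
theorem expOK_E8_0_17 : (List.range' (1 * 17) 1).all ((fun _ => expChk chevE8) 0) = true := by decide +kernel
theorem expOK_E8_0_18 : (List.range' (1 * 18) 1).all ((fun _ => expChk chevE8) 0) = true := by decide +kernel
theorem expOK_E8_0_19 : (List.range' (1 * 19) 1).all ((fun _ => expChk chevE8) 0) = true := by decide +kernel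
theorem expOK_E8_0_20 : (List.range' (1 * 20) 1).all ((fun _ => expChk chevE8) 0) = true := by decide +kernel
theorem expOK_E8_0_21 : (List.range' (1 * 21) 1).all ((fun _ => expChk chevE8) 0) = true := by decide +kernel
theorem expOK_E8_0_22 : (List.range' (1 * 22) 1).all ((fun _ => expChk chevE8) 0) = true := by decide +kernel
theorem expOK_E8_0_23 : (List.range' (1 * 23) 1).all ((fun _ => expChk chevE8) 0) = true := by decide +kernel
theorem expOK_E8_0_24 : (List.range' (1 * 24) 1).all ((fun _ => expChk chevE8) 0) = true := by decide +kernel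
theorem expOK_E8_0_25 : (List.range' (1 * 25) 1).all ((fun _ => expChk chevE8) 0) = true := by decide +kernel
theorem expOK_E8_0_26 : (List.range' (1 * 26) 1).all ((fun _ => expChk chevE8) 0) = true := by decide +kernel
theorem expOK_E8_0_27 : (List.range' (1 * 27) 1).all ((fun _ => expChk chevE8) 0) = true := by decide +kernel
theorem expOK_E8_0_28 : (List.range' (1 * 28) 1).all ((fun _ => expChk chevE8) 0) = true := by decide +kernel
theorem expOK_E8_0_29 : (List.range' (1 * 29) 1).all ((fun _ => expChk chevE8) 0) = true := by decide +kernel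
theorem expOK_E8_0_30 : (List.range' (1 * 30) 1).all ((fun _ => expChk chevE8) 0) = true := by decide +kernel
theorem expOK_E8_0_31 : (List.range' (1 * 31) 1).all ((fun _ => expChk chevE8) 0) = true := by decide +kernel
theorem expOK_E8_0_32 : (List.range' (1 * 32) 1).all ((fun _ => expChk chevE8) 0) = true := by decide +kernel
theorem expOK_E8_0_33 : (List.range' (1 * 33) 1).all ((fun _ => expChk chevE8) 0) = true := by decide +kernel
theorem expOK_E8_0_34 : (List.range' (1 * 34) 1).all ((fun _ => expChk chevE8) 0) = true := by decide +kernel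
theorem expOK_E8_0_35 : (List.range' (1 * 35) 1).all ((fun _ => expChk chevE8) 0) = true := by decide +kernel
theorem expOK_E8_0_36 : (List.range' (1 * 36) 1).all ((fun _ => expChk chevE8) 0) = true := by decide +kernel
theorem expOK_E8_0_37 : (List.range' (1 * 37) 1).all ((fun _ => expChk chevE8) 0) = true := by decide +kernel
theorem expOK_E8_0_38 : (List.range' (1 * 38) 1).all ((fun _ => expChk chevE8) 0) = true := by decide +kernel
theorem expOK_E8_0_39 : (List.range' (1 * 39) 1).all ((fun _ => expChk chevE8) 0) = true := by decide +kernel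
theorem expOK_E8_0_40 : (List.range' (1 * 40) 1).all ((fun _ => expChk chevE8) 0) = true := by decide +kernel
theorem expOK_E8_0_41 : (List.range' (1 * 41) 1).all ((fun _ => expChk chevE8) 0) = true := by decide +kernel
theorem expOK_E8_0_42 : (List.range' (1 * 42) 1).all ((fun _ => expChk chevE8) 0) = true := by decide +kernel
theorem expOK_E8_0_43 : (List.range' (1 * 43) 1).all ((fun _ => expChk chevE8) 0) = true := by decide +kernel
theorem expOK_E8_0_44 : (List.range' (1 * 44) 1).all ((fun _ => expChk chevE8) 0) = true := by decide +kernel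
theorem expOK_E8_0_45 : (List.range' (1 * 45) 1).all ((fun _ => expChk chevE8) 0) = true := by decide +kernel
theorem expOK_E8_0_46 : (List.range' (1 * 46) 1).all ((fun _ => expChk chevE8) 0) = true := by decide +kernel
theorem expOK_E8_0_47 : (List.range' (1 * 47) 1).all ((fun _ => expChk chevE8) 0) = true := by decide +kernel
theorem expOK_E8_0_48 : (List.range' (1 * 48) 1).all ((fun _ => expChk chevE8) 0) = true := by decide +kernel
theorem expOK_E8_0_49 : (List.range' (1 * 49) 1).all ((fun _ => expChk chevE8) 0) = true := by decide +kernel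
theorem expOK_E8_0_50 : (List.range' (1 * 50) 1).all ((fun _ => expChk chevE8) 0) = true := by decide +kernel
theorem expOK_E8_0_51 : (List.range' (1 * 51) 1).all ((fun _ => expChk chevE8) 0) = true := by decide +kernel
theorem expOK_E8_0_52 : (List.range' (1 * 52) 1).all ((fun _ => expChk chevE8) 0) = true := by decide +kernel
theorem expOK_E8_0_53 : (List.range' (1 * 53) 1).all ((fun _ => expChk chevE8) 0) = true := by decide +kernel
theorem expOK_E8_0_54 : (List.range' (1 * 54) 1).all ((fun _ => expChk chevE8) 0) = true := by decide +kernel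
theorem expOK_E8_0_55 : (List.range' (1 * 55) 1).all ((fun _ => expChk chevE8) 0) = true := by decide +kernel
theorem expOK_E8_0_56 : (List.range' (1 * 56) 1).all ((fun _ => expChk chevE8) 0) = true := by decide +kernel
theorem expOK_E8_0_57 : (List.range' (1 * 57) 1).all ((fun _ => expChk chevE8) 0) = true := by decide +kernel
theorem expOK_E8_0_58 : (List.range' (1 * 58) 1).all ((fun _ => expChk chevE8) 0) = true := by decide +kernel
theorem expOK_E8_0_59 : (List.range' (1 * 59) 1).all ((fun _ => expChk chevE8) 0) = true := by decide +kernel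
theorem expOK_E8_0_60 : (List.range' (1 * 60) 1).all ((fun _ => expChk chevE8) 0) = true := by decide +kernel
theorem expOK_E8_0_61 : (List.range' (1 * 61) 1).all ((fun _ => expChk chevE8) 0) = true := by decide +kernel
theorem expOK_E8_0_62 : (List.range' (1 * 62) 1).all ((fun _ => expChk chevE8) 0) = true := by decide +kernel
theorem expOK_E8_0_63 : (List.range' (1 * 63) 1).all ((fun _ => expChk chevE8) 0) = true := by decide +kernel
theorem expOK_E8_0_64 : (List.range' (1 * 64) 1).all ((fun _ => expChk chevE8) 0) = true := by decide +kernel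
theorem expOK_E8_0_65 : (List.range' (1 * 65) 1).all ((fun _ => expChk chevE8) 0) = true := by decide +kernel
theorem expOK_E8_0_66 : (List.range' (1 * 66) 1).all ((fun _ => expChk chevE8) 0) = true := by decide +kernel
theorem expOK_E8_0_67 : (List.range' (1 * 67) 1).all ((fun _ => expChk chevE8) 0) = true := by decide +kernel
theorem expOK_E8_0_68 : (List.range' (1 * 68) 1).all ((fun _ => expChk chevE8) 0) = true := by decide +kernel
theorem expOK_E8_0_69 : (List.range' (1 * 69) 1).all ((fun _ => expChk chevE8) 0) = true := by decide +kernel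
theorem expOK_E8_0_70 : (List.range' (1 * 70) 1).all ((fun _ => expChk chevE8) 0) = true := by decide +kernel
theorem expOK_E8_0_71 : (List.range' (1 * 71) 1).all ((fun _ => expChk chevE8) 0) = true := by decide +kernel
theorem expOK_E8_0_72 : (List.range' (1 * 72) 1).all ((fun _ => expChk chevE8) 0) = true := by decide +kernel
theorem expOK_E8_0_73 : (List.range' (1 * 73) 1).all ((fun _ => expChk chevE8) 0) = true := by decide +kernel
theorem expOK_E8_0_74 : (List.range' (1 * 74) 1).all ((fun _ => expChk chevE8) 0) = true := by decide +kernel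
theorem expOK_E8_0_75 : (List.range' (1 * 75) 1).all ((fun _ => expChk chevE8) 0) = true := by decide +kernel
theorem expOK_E8_0_76 : (List.range' (1 * 76) 1).all ((fun _ => expChk chevE8) 0) = true := by decide +kernel
theorem expOK_E8_0_77 : (List.range' (1 * 77) 1).all ((fun _ => expChk chevE8) 0) = true := by decide +kernel
theorem expOK_E8_0_78 : (List.range' (1 * 78) 1).all ((fun _ => expChk chevE8) 0) = true := by decide +kernel
theorem expOK_E8_0_79 : (List.range' (1 * 79) 1).all ((fun _ => expChk chevE8) 0) = true := by decide +kernel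
theorem expOK_E8_0_80 : (List.range' (1 * 80) 1).all ((fun _ => expChk chevE8) 0) = true := by decide +kernel
theorem expOK_E8_0_81 : (List.range' (1 * 81) 1).all ((fun _ => expChk chevE8) 0) = true := by decide +kernel
theorem expOK_E8_0_82 : (List.range' (1 * 82) 1).all ((fun _ => expChk chevE8) 0) = true := by decide +kernel
theorem expOK_E8_0_83 : (List.range' (1 * 83) 1).all ((fun _ => expChk chevE8) 0) = true := by decide +kernel
theorem expOK_E8_0_84 : (List.range' (1 * 84) 1).all ((fun _ => expChk chevE8) 0) = true := by decide +kernel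
theorem expOK_E8_0_85 : (List.range' (1 * 85) 1).all ((fun _ => expChk chevE8) 0) = true := by decide +kernel
theorem expOK_E8_0_86 : (List.range' (1 * 86) 1).all ((fun _ => expChk chevE8) 0) = true := by decide +kernel
theorem expOK_E8_0_87 : (List.range' (1 * 87) 1).all ((fun _ => expChk chevE8) 0) = true := by decide +kernel
theorem expOK_E8_0_88 : (List.range' (1 * 88) 1).all ((fun _ => expChk chevE8) 0) = true := by decide +kernel
theorem expOK_E8_0_89 : (List.range' (1 * 89) 1).all ((fun _ => expChk chevE8) 0) = true := by decide +kernel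
theorem expOK_E8_0_90 : (List.range' (1 * 90) 1).all ((fun _ => expChk chevE8) 0) = true := by decide +kernel
theorem expOK_E8_0_91 : (List.range' (1 * 91) 1).all ((fun _ => expChk chevE8) 0) = true := by decide +kernel
theorem expOK_E8_0_92 : (List.range' (1 * 92) 1).all ((fun _ => expChk chevE8) 0) = true := by decide +kernel
theorem expOK_E8_0_93 : (List.range' (1 * 93) 1).all ((fun _ => expChk chevE8) 0) = true := by decide +kernel
theorem expOK_E8_0_94 : (List.range' (1 * 94) 1).all ((fun _ => expChk chevE8) 0) = true := by decide +kernel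
theorem expOK_E8_0_95 : (List.range' (1 * 95) 1).all ((fun _ => expChk chevE8) 0) = true := by decide +kernel
theorem expOK_E8_0_96 : (List.range' (1 * 96) 1).all ((fun _ => expChk chevE8) 0) = true := by decide +kernel
theorem expOK_E8_0_97 : (List.range' (1 * 97) 1).all ((fun _ => expChk chevE8) 0) = true := by decide +kernel
theorem expOK_E8_0_98 : (List.range' (1 * 98) 1).all ((fun _ => expChk chevE8) 0) = true := by decide +kernel
theorem expOK_E8_0_99 : (List.range' (1 * 99) 1).all ((fun _ => expChk chevE8) 0) = true := by decide +kernel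
theorem expOK_E8_0_100 : (List.range' (1 * 100) 1).all ((fun _ => expChk chevE8) 0) = true := by decide +kernel
theorem expOK_E8_0_101 : (List.range' (1 * 101) 1).all ((fun _ => expChk chevE8) 0) = true := by decide +kernel
theorem expOK_E8_0_102 : (List.range' (1 * 102) 1).all ((fun _ => expChk chevE8) 0) = true := by decide +kernel
theorem expOK_E8_0_103 : (List.range' (1 * 103) 1).all ((fun _ => expChk chevE8) 0) = true := by decide +kernel
theorem expOK_E8_0_104 : (List.range' (1 * 104) 1).all ((fun _ => expChk chevE8) 0) = true := by decide +kernel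
theorem expOK_E8_0_105 : (List.range' (1 * 105) 1).all ((fun _ => expChk chevE8) 0) = true := by decide +kernel
theorem expOK_E8_0_106 : (List.range' (1 * 106) 1).all ((fun _ => expChk chevE8) 0) = true := by decide +kernel
theorem expOK_E8_0_107 : (List.range' (1 * 107) 1).all ((fun _ => expChk chevE8) 0) = true := by decide +kernel
theorem expOK_E8_0_108 : (List.range' (1 * 108) 1).all ((fun _ => expChk chevE8) 0) = true := by decide +kernel
theorem expOK_E8_0_109 : (List.range' (1 * 109) 1).all ((fun _ => expChk chevE8) 0) = true := by decide +kernel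
theorem expOK_E8_0_110 : (List.range' (1 * 110) 1).all ((fun _ => expChk chevE8) 0) = true := by decide +kernel
theorem expOK_E8_0_111 : (List.range' (1 * 111) 1).all ((fun _ => expChk chevE8) 0) = true := by decide +kernel
theorem expOK_E8_0_112 : (List.range' (1 * 112) 1).all ((fun _ => expChk chevE8) 0) = true := by decide +kernel
theorem expOK_E8_0_113 : (List.range' (1 * 113) 1).all ((fun _ => expChk chevE8) 0) = true := by decide +kernel
theorem expOK_E8_0_114 : (List.range' (1 * 114) 1).all ((fun _ => expChk chevE8) 0) = true := by decide +kernel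
theorem expOK_E8_0_115 : (List.range' (1 * 115) 1).all ((fun _ => expChk chevE8) 0) = true := by decide +kernel
theorem expOK_E8_0_116 : (List.range' (1 * 116) 1).all ((fun _ => expChk chevE8) 0) = true := by decide +kernel
theorem expOK_E8_0_117 : (List.range' (1 * 117) 1).all ((fun _ => expChk chevE8) 0) = true := by decide +kernel
theorem expOK_E8_0_118 : (List.range' (1 * 118) 1).all ((fun _ => expChk chevE8) 0) = true := by decide +kernel
theorem expOK_E8_0_119 : (List.range' (1 * 119) 1).all ((fun _ => expChk chevE8) 0) = true := by decide +kernel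
theorem expOK_E8_0_120 : (List.range' (1 * 120) 1).all ((fun _ => expChk chevE8) 0) = true := by decide +kernel
theorem expOK_E8_0_121 : (List.range' (1 * 121) 1).all ((fun _ => expChk chevE8) 0) = true := by decide +kernel
theorem expOK_E8_0_122 : (List.range' (1 * 122) 1).all ((fun _ => expChk chevE8) 0) = true := by decide +kernel
theorem expOK_E8_0_123 : (List.range' (1 * 123) 1).all ((fun _ => expChk chevE8) 0) = true := by decide +kernel
theorem expOK_E8_0_124 : (List.range' (1 * 124) 1).all ((fun _ => expChk chevE8) 0) = true := by decide +kernel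
theorem expOK_E8_0_125 : (List.range' (1 * 125) 1).all ((fun _ => expChk chevE8) 0) = true := by decide +kernel
theorem expOK_E8_0_126 : (List.range' (1 * 126) 1).all ((fun _ => expChk chevE8) 0) = true := by decide +kernel
theorem expOK_E8_0_127 : (List.range' (1 * 127) 1).all ((fun _ => expChk chevE8) 0) = true := by decide +kernel
theorem expOK_E8_0_128 : (List.range' (1 * 128) 1).all ((fun _ => expChk chevE8) 0) = true := by decide +kernel
theorem expOK_E8_0_129 : (List.range' (1 * 129) 1).all ((fun _ => expChk chevE8) 0) = true := by decide +kernel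
theorem expOK_E8_0_130 : (List.range' (1 * 130) 1).all ((fun _ => expChk chevE8) 0) = true := by decide +kernel
theorem expOK_E8_0_131 : (List.range' (1 * 131) 1).all ((fun _ => expChk chevE8) 0) = true := by decide +kernel
theorem expOK_E8_0_132 : (List.range' (1 * 132) 1).all ((fun _ => expChk chevE8) 0) = true := by decide +kernel
theorem expOK_E8_0_133 : (List.range' (1 * 133) 1).all ((fun _ => expChk chevE8) 0) = true := by decide +kernel
theorem expOK_E8_0_134 : (List.range' (1 * 134) 1).all ((fun _ => expChk chevE8) 0) = true := by decide +kernel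
theorem expOK_E8_0_135 : (List.range' (1 * 135) 1).all ((fun _ => expChk chevE8) 0) = true := by decide +kernel
theorem expOK_E8_0_136 : (List.range' (1 * 136) 1).all ((fun _ => expChk chevE8) 0) = true := by decide +kernel
theorem expOK_E8_0_137 : (List.range' (1 * 137) 1).all ((fun _ => expChk chevE8) 0) = true := by decide +kernel
theorem expOK_E8_0_138 : (List.range' (1 * 138) 1).all ((fun _ => expChk chevE8) 0) = true := by decide +kernel
theorem expOK_E8_0_139 : (List.range' (1 * 139) 1).all ((fun _ => expChk chevE8) 0) = true := by decide +kernel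
theorem expOK_E8_0_140 : (List.range' (1 * 140) 1).all ((fun _ => expChk chevE8) 0) = true := by decide +kernel
theorem expOK_E8_0_141 : (List.range' (1 * 141) 1).all ((fun _ => expChk chevE8) 0) = true := by decide +kernel
theorem expOK_E8_0_142 : (List.range' (1 * 142) 1).all ((fun _ => expChk chevE8) 0) = true := by decide +kernel
theorem expOK_E8_0_143 : (List.range' (1 * 143) 1).all ((fun _ => expChk chevE8) 0) = true := by decide +kernel
theorem expOK_E8_0_144 : (List.range' (1 * 144) 1).all ((fun _ => expChk chevE8) 0) = true := by decide +kernel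
theorem expOK_E8_0_145 : (List.range' (1 * 145) 1).all ((fun _ => expChk chevE8) 0) = true := by decide +kernel
theorem expOK_E8_0_146 : (List.range' (1 * 146) 1).all ((fun _ => expChk chevE8) 0) = true := by decide +kernel
theorem expOK_E8_0_147 : (List.range' (1 * 147) 1).all ((fun _ => expChk chevE8) 0) = true := by decide +kernel
theorem expOK_E8_0_148 : (List.range' (1 * 148) 1).all ((fun _ => expChk chevE8) 0) = true := by decide +kernel
theorem expOK_E8_0_149 : (List.range' (1 * 149) 1).all ((fun _ => expChk chevE8) 0) = true := by decide +kernel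
theorem expOK_E8_0_150 : (List.range' (1 * 150) 1).all ((fun _ => expChk chevE8) 0) = true := by decide +kernel
theorem expOK_E8_0_151 : (List.range' (1 * 151) 1).all ((fun _ => expChk chevE8) 0) = true := by decide +kernel
theorem expOK_E8_0_152 : (List.range' (1 * 152) 1).all ((fun _ => expChk chevE8) 0) = true := by decide +kernel
theorem expOK_E8_0_153 : (List.range' (1 * 153) 1).all ((fun _ => expChk chevE8) 0) = true := by decide +kernel
theorem expOK_E8_0_154 : (List.range' (1 * 154) 1).all ((fun _ => expChk chevE8) 0) = true := by decide +kernel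
theorem expOK_E8_0_155 : (List.range' (1 * 155) 1).all ((fun _ => expChk chevE8) 0) = true := by decide +kernel
theorem expOK_E8_0_156 : (List.range' (1 * 156) 1).all ((fun _ => expChk chevE8) 0) = true := by decide +kernel
theorem expOK_E8_0_157 : (List.range' (1 * 157) 1).all ((fun _ => expChk chevE8) 0) = true := by decide +kernel
theorem expOK_E8_0_158 : (List.range' (1 * 158) 1).all ((fun _ => expChk chevE8) 0) = true := by decide +kernel
theorem expOK_E8_0_159 : (List.range' (1 * 159) 1).all ((fun _ => expChk chevE8) 0) = true := by decide +kernel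
theorem expOK_E8_0_160 : (List.range' (1 * 160) 1).all ((fun _ => expChk chevE8) 0) = true := by decide +kernel
theorem expOK_E8_0_161 : (List.range' (1 * 161) 1).all ((fun _ => expChk chevE8) 0) = true := by decide +kernel
theorem expOK_E8_0_162 : (List.range' (1 * 162) 1).all ((fun _ => expChk chevE8) 0) = true := by decide +kernel
theorem expOK_E8_0_163 : (List.range' (1 * 163) 1).all ((fun _ => expChk chevE8) 0) = true := by decide +kernel
theorem expOK_E8_0_164 : (List.range' (1 * 164) 1).all ((fun _ => expChk chevE8) 0) = true := by decide +kernel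
theorem expOK_E8_0_165 : (List.range' (1 * 165) 1).all ((fun _ => expChk chevE8) 0) = true := by decide +kernel
theorem expOK_E8_0_166 : (List.range' (1 * 166) 1).all ((fun _ => expChk chevE8) 0) = true := by decide +kernel
theorem expOK_E8_0_167 : (List.range' (1 * 167) 1).all ((fun _ => expChk chevE8) 0) = true := by decide +kernel
theorem expOK_E8_0_168 : (List.range' (1 * 168) 1).all ((fun _ => expChk chevE8) 0) = true := by decide +kernel
theorem expOK_E8_0_169 : (List.range' (1 * 169) 1).all ((fun _ => expChk chevE8) 0) = true := by decide +kernel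
theorem expOK_E8_0_170 : (List.range' (1 * 170) 1).all ((fun _ => expChk chevE8) 0) = true := by decide +kernel
theorem expOK_E8_0_171 : (List.range' (1 * 171) 1).all ((fun _ => expChk chevE8) 0) = true := by decide +kernel
theorem expOK_E8_0_172 : (List.range' (1 * 172) 1).all ((fun _ => expChk chevE8) 0) = true := by decide +kernel
theorem expOK_E8_0_173 : (List.range' (1 * 173) 1).all ((fun _ => expChk chevE8) 0) = true := by decide +kernel
theorem expOK_E8_0_174 : (List.range' (1 * 174) 1).all ((fun _ => expChk chevE8) 0) = true := by decide +kernel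
theorem expOK_E8_0_175 : (List.range' (1 * 175) 1).all ((fun _ => expChk chevE8) 0) = true := by decide +kernel
theorem expOK_E8_0_176 : (List.range' (1 * 176) 1).all ((fun _ => expChk chevE8) 0) = true := by decide +kernel
theorem expOK_E8_0_177 : (List.range' (1 * 177) 1).all ((fun _ => expChk chevE8) 0) = true := by decide +kernel
theorem expOK_E8_0_178 : (List.range' (1 * 178) 1).all ((fun _ => expChk chevE8) 0) = true := by decide +kernel
theorem expOK_E8_0_179 : (List.range' (1 * 179) 1).all ((fun _ => expChk chevE8) 0) = true := by decide +kernel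
theorem expOK_E8_0_180 : (List.range' (1 * 180) 1).all ((fun _ => expChk chevE8) 0) = true := by decide +kernel
theorem expOK_E8_0_181 : (List.range' (1 * 181) 1).all ((fun _ => expChk chevE8) 0) = true := by decide +kernel
theorem expOK_E8_0_182 : (List.range' (1 * 182) 1).all ((fun _ => expChk chevE8) 0) = true := by decide +kernel
theorem expOK_E8_0_183 : (List.range' (1 * 183) 1).all ((fun _ => expChk chevE8) 0) = true := by decide +kernel
theorem expOK_E8_0_184 : (List.range' (1 * 184) 1).all ((fun _ => expChk chevE8) 0) = true := by decide +kernel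
theorem expOK_E8_0_185 : (List.range' (1 * 185) 1).all ((fun _ => expChk chevE8) 0) = true := by decide +kernel
theorem expOK_E8_0_186 : (List.range' (1 * 186) 1).all ((fun _ => expChk chevE8) 0) = true := by decide +kernel
theorem expOK_E8_0_187 : (List.range' (1 * 187) 1).all ((fun _ => expChk chevE8) 0) = true := by decide +kernel
theorem expOK_E8_0_188 : (List.range' (1 * 188) 1).all ((fun _ => expChk chevE8) 0) = true := by decide +kernel
theorem expOK_E8_0_189 : (List.range' (1 * 189) 1).all ((fun _ => expChk chevE8) 0) = true := by decide +kernel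
theorem expOK_E8_0_190 : (List.range' (1 * 190) 1).all ((fun _ => expChk chevE8) 0) = true := by decide +kernel
theorem expOK_E8_0_191 : (List.range' (1 * 191) 1).all ((fun _ => expChk chevE8) 0) = true := by decide +kernel
theorem expOK_E8_0_192 : (List.range' (1 * 192) 1).all ((fun _ => expChk chevE8) 0) = true := by decide +kernel
theorem expOK_E8_0_193 : (List.range' (1 * 193) 1).all ((fun _ => expChk chevE8) 0) = true := by decide +kernel
theorem expOK_E8_0_194 : (List.range' (1 * 194) 1).all ((fun _ => expChk chevE8) 0) = true := by decide +kernel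
theorem expOK_E8_0_195 : (List.range' (1 * 195) 1).all ((fun _ => expChk chevE8) 0) = true := by decide +kernel
theorem expOK_E8_0_196 : (List.range' (1 * 196) 1).all ((fun _ => expChk chevE8) 0) = true := by decide +kernel
theorem expOK_E8_0_197 : (List.range' (1 * 197) 1).all ((fun _ => expChk chevE8) 0) = true := by decide +kernel
theorem expOK_E8_0_198 : (List.range' (1 * 198) 1).all ((fun _ => expChk chevE8) 0) = true := by decide +kernel
theorem expOK_E8_0_199 : (List.range' (1 * 199) 1).all ((fun _ => expChk chevE8) 0) = true := by decide +kernel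
theorem expOK_E8_0_200 : (List.range' (1 * 200) 1).all ((fun _ => expChk chevE8) 0) = true := by decide +kernel
theorem expOK_E8_0_201 : (List.range' (1 * 201) 1).all ((fun _ => expChk chevE8) 0) = true := by decide +kernel
theorem expOK_E8_0_202 : (List.range' (1 * 202) 1).all ((fun _ => expChk chevE8) 0) = true := by decide +kernel
theorem expOK_E8_0_203 : (List.range' (1 * 203) 1).all ((fun _ => expChk chevE8) 0) = true := by decide +kernel
theorem expOK_E8_0_204 : (List.range' (1 * 204) 1).all ((fun _ => expChk chevE8) 0) = true := by decide +kernel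
theorem expOK_E8_0_205 : (List.range' (1 * 205) 1).all ((fun _ => expChk chevE8) 0) = true := by decide +kernel
theorem expOK_E8_0_206 : (List.range' (1 * 206) 1).all ((fun _ => expChk chevE8) 0) = true := by decide +kernel
theorem expOK_E8_0_207 : (List.range' (1 * 207) 1).all ((fun _ => expChk chevE8) 0) = true := by decide +kernel
theorem expOK_E8_0_208 : (List.range' (1 * 208) 1).all ((fun _ => expChk chevE8) 0) = true := by decide +kernel
theorem expOK_E8_0_209 : (List.range' (1 * 209) 1).all ((fun _ => expChk chevE8) 0) = true := by decide +kernel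
theorem expOK_E8_0_210 : (List.range' (1 * 210) 1).all ((fun _ => expChk chevE8) 0) = true := by decide +kernel
theorem expOK_E8_0_211 : (List.range' (1 * 211) 1).all ((fun _ => expChk chevE8) 0) = true := by decide +kernel
theorem expOK_E8_0_212 : (List.range' (1 * 212) 1).all ((fun _ => expChk chevE8) 0) = true := by decide +kernel
theorem expOK_E8_0_213 : (List.range' (1 * 213) 1).all ((fun _ => expChk chevE8) 0) = true := by decide +kernel
theorem expOK_E8_0_214 : (List.range' (1 * 214) 1).all ((fun _ => expChk chevE8) 0) = true := by decide +kernel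
theorem expOK_E8_0_215 : (List.range' (1 * 215) 1).all ((fun _ => expChk chevE8) 0) = true := by decide +kernel
theorem expOK_E8_0_216 : (List.range' (1 * 216) 1).all ((fun _ => expChk chevE8) 0) = true := by decide +kernel
theorem expOK_E8_0_217 : (List.range' (1 * 217) 1).all ((fun _ => expChk chevE8) 0) = true := by decide +kernel
theorem expOK_E8_0_218 : (List.range' (1 * 218) 1).all ((fun _ => expChk chevE8) 0) = true := by decide +kernel
theorem expOK_E8_0_219 : (List.range' (1 * 219) 1).all ((fun _ => expChk chevE8) 0) = true := by decide +kernel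
theorem expOK_E8_0_220 : (List.range' (1 * 220) 1).all ((fun _ => expChk chevE8) 0) = true := by decide +kernel
theorem expOK_E8_0_221 : (List.range' (1 * 221) 1).all ((fun _ => expChk chevE8) 0) = true := by decide +kernel
theorem expOK_E8_0_222 : (List.range' (1 * 222) 1).all ((fun _ => expChk chevE8) 0) = true := by decide +kernel
theorem expOK_E8_0_223 : (List.range' (1 * 223) 1).all ((fun _ => expChk chevE8) 0) = true := by decide +kernel
theorem expOK_E8_0_224 : (List.range' (1 * 224) 1).all ((fun _ => expChk chevE8) 0) = true := by decide +kernel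
theorem expOK_E8_0_225 : (List.range' (1 * 225) 1).all ((fun _ => expChk chevE8) 0) = true := by decide +kernel
theorem expOK_E8_0_226 : (List.range' (1 * 226) 1).all ((fun _ => expChk chevE8) 0) = true := by decide +kernel
theorem expOK_E8_0_227 : (List.range' (1 * 227) 1).all ((fun _ => expChk chevE8) 0) = true := by decide +kernel
theorem expOK_E8_0_228 : (List.range' (1 * 228) 1).all ((fun _ => expChk chevE8) 0) = true := by decide +kernel
theorem expOK_E8_0_229 : (List.range' (1 * 229) 1).all ((fun _ => expChk chevE8) 0) = true := by decide +kernel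
theorem expOK_E8_0_230 : (List.range' (1 * 230) 1).all ((fun _ => expChk chevE8) 0) = true := by decide +kernel
theorem expOK_E8_0_231 : (List.range' (1 * 231) 1).all ((fun _ => expChk chevE8) 0) = true := by decide +kernel
theorem expOK_E8_0_232 : (List.range' (1 * 232) 1).all ((fun _ => expChk chevE8) 0) = true := by decide +kernel
theorem expOK_E8_0_233 : (List.range' (1 * 233) 1).all ((fun _ => expChk chevE8) 0) = true := by decide +kernel
theorem expOK_E8_0_234 : (List.range' (1 * 234) 1).all ((fun _ => expChk chevE8) 0) = true := by decide +kernel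
theorem expOK_E8_0_235 : (List.range' (1 * 235) 1).all ((fun _ => expChk chevE8) 0) = true := by decide +kernel
theorem expOK_E8_0_236 : (List.range' (1 * 236) 1).all ((fun _ => expChk chevE8) 0) = true := by decide +kernel
theorem expOK_E8_0_237 : (List.range' (1 * 237) 1).all ((fun _ => expChk chevE8) 0) = true := by decide +kernel
theorem expOK_E8_0_238 : (List.range' (1 * 238) 1).all ((fun _ => expChk chevE8) 0) = true := by decide +kernel
theorem expOK_E8_0_239 : (List.range' (1 * 239) 1).all ((fun _ => expChk chevE8) 0) = true := by decide +kernel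

theorem expOK_E8 : ∀ a < 1, ∀ s < 240, (fun _ => expChk chevE8) a s = true :=
  forall_forall_lt_of_blocks ((fun _ => expChk chevE8)) 1 240 1 240 (by norm_num) (by norm_num) (by
    intro a ha k hk
    interval_cases a <;> interval_cases k
    · exact expOK_E8_0_0
    · exact expOK_E8_0_1
    · exact expOK_E8_0_2
    · exact expOK_E8_0_3
    · exact expOK_E8_0_4
    · exact expOK_E8_0_5
    · exact expOK_E8_0_6
    · exact expOK_E8_0_7
    · exact expOK_E8_0_8
    · exact expOK_E8_0_9
    · exact expOK_E8_0_10
    · exact expOK_E8_0_11
    · exact expOK_E8_0_12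
    · exact expOK_E8_0_13
    · exact expOK_E8_0_14
    · exact expOK_E8_0_15
    · exact expOK_E8_0_16
    · exact expOK_E8_0_17
    · exact expOK_E8_0_18
    · exact expOK_E8_0_19
    · exact expOK_E8_0_20
    · exact expOK_E8_0_21
    · exact expOK_E8_0_22
    · exact expOK_E8_0_23
    · exact expOK_E8_0_24
    · exact expOK_E8_0_25
    · exact expOK_E8_0_26
    · exact expOK_E8_0_27
    · exact expOK_E8_0_28
    · exact expOK_E8_0_29
    · exact expOK_E8_0_30
    · exact expOK_E8_0_31
    · exact expOK_E8_0_32
    · exact expOK_E8_0_33
    · exact expOK_E8_0_34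
    · exact expOK_E8_0_35
    · exact expOK_E8_0_36
    · exact expOK_E8_0_37
    · exact expOK_E8_0_38
    · exact expOK_E8_0_39
    · exact expOK_E8_0_40
    · exact expOK_E8_0_41
    · exact expOK_E8_0_42
    · exact expOK_E8_0_43
    · exact expOK_E8_0_44
    · exact expOK_E8_0_45
    · exact expOK_E8_0_46
    · exact expOK_E8_0_47
    · exact expOK_E8_0_48
    · exact expOK_E8_0_49
    · exact expOK_E8_0_50
    · exact expOK_E8_0_51
    · exact expOK_E8_0_52
    · exact expOK_E8_0_53
    · exact expOK_E8_0_54
    · exact expOK_E8_0_55
    · exact expOK_E8_0_56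
    · exact expOK_E8_0_57
    · exact expOK_E8_0_58
    · exact expOK_E8_0_59
    · exact expOK_E8_0_60
    · exact expOK_E8_0_61
    · exact expOK_E8_0_62
    · exact expOK_E8_0_63
    · exact expOK_E8_0_64
    · exact expOK_E8_0_65
    · exact expOK_E8_0_66
    · exact expOK_E8_0_67
    · exact expOK_E8_0_68
    · exact expOK_E8_0_69
    · exact expOK_E8_0_70
    · exact expOK_E8_0_71
    · exact expOK_E8_0_72
    · exact expOK_E8_0_73
    · exact expOK_E8_0_74
    · exact expOK_E8_0_75
    · exact expOK_E8_0_76
    · exact expOK_E8_0_77
    · exact expOK_E8_0_78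
    · exact expOK_E8_0_79
    · exact expOK_E8_0_80
    · exact expOK_E8_0_81
    · exact expOK_E8_0_82
    · exact expOK_E8_0_83
    · exact expOK_E8_0_84
    · exact expOK_E8_0_85
    · exact expOK_E8_0_86
    · exact expOK_E8_0_87
    · exact expOK_E8_0_88
    · exact expOK_E8_0_89
    · exact expOK_E8_0_90
    · exact expOK_E8_0_91
    · exact expOK_E8_0_92
    · exact expOK_E8_0_93
    · exact expOK_E8_0_94
    · exact expOK_E8_0_95
    · exact expOK_E8_0_96
    · exact expOK_E8_0_97
    · exact expOK_E8_0_98
    · exact expOK_E8_0_99
    · exact expOK_E8_0_100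
    · exact expOK_E8_0_101
    · exact expOK_E8_0_102
    · exact expOK_E8_0_103
    · exact expOK_E8_0_104
    · exact expOK_E8_0_105
    · exact expOK_E8_0_106
    · exact expOK_E8_0_107
    · exact expOK_E8_0_108
    · exact expOK_E8_0_109
    · exact expOK_E8_0_110
    · exact expOK_E8_0_111
    · exact expOK_E8_0_112
    · exact expOK_E8_0_113
    · exact expOK_E8_0_114
    · exact expOK_E8_0_115
    · exact expOK_E8_0_116
    · exact expOK_E8_0_117
    · exact expOK_E8_0_118
    · exact expOK_E8_0_119
    · exact expOK_E8_0_120
    · exact expOK_E8_0_121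
    · exact expOK_E8_0_122
    · exact expOK_E8_0_123
    · exact expOK_E8_0_124
    · exact expOK_E8_0_125
    · exact expOK_E8_0_126
    · exact expOK_E8_0_127
    · exact expOK_E8_0_128
    · exact expOK_E8_0_129
    · exact expOK_E8_0_130
    · exact expOK_E8_0_131
    · exact expOK_E8_0_132
    · exact expOK_E8_0_133
    · exact expOK_E8_0_134
    · exact expOK_E8_0_135
    · exact expOK_E8_0_136
    · exact expOK_E8_0_137
    · exact expOK_E8_0_138
    · exact expOK_E8_0_139
    · exact expOK_E8_0_140
    · exact expOK_E8_0_141
    · exact expOK_E8_0_142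
    · exact expOK_E8_0_143
    · exact expOK_E8_0_144
    · exact expOK_E8_0_145
    · exact expOK_E8_0_146
    · exact expOK_E8_0_147
    · exact expOK_E8_0_148
    · exact expOK_E8_0_149
    · exact expOK_E8_0_150
    · exact expOK_E8_0_151
    · exact expOK_E8_0_152
    · exact expOK_E8_0_153
    · exact expOK_E8_0_154
    · exact expOK_E8_0_155
    · exact expOK_E8_0_156
    · exact expOK_E8_0_157
    · exact expOK_E8_0_158
    · exact expOK_E8_0_159
    · exact expOK_E8_0_160
    · exact expOK_E8_0_161
    · exact expOK_E8_0_162
    · exact expOK_E8_0_163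
    · exact expOK_E8_0_164
    · exact expOK_E8_0_165
    · exact expOK_E8_0_166
    · exact expOK_E8_0_167
    · exact expOK_E8_0_168
    · exact expOK_E8_0_169
    · exact expOK_E8_0_170
    · exact expOK_E8_0_171
    · exact expOK_E8_0_172
    · exact expOK_E8_0_173
    · exact expOK_E8_0_174
    · exact expOK_E8_0_175
    · exact expOK_E8_0_176
    · exact expOK_E8_0_177
    · exact expOK_E8_0_178
    · exact expOK_E8_0_179
    · exact expOK_E8_0_180
    · exact expOK_E8_0_181
    · exact expOK_E8_0_182
    · exact expOK_E8_0_183
    · exact expOK_E8_0_184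
    · exact expOK_E8_0_185
    · exact expOK_E8_0_186
    · exact expOK_E8_0_187
    · exact expOK_E8_0_188
    · exact expOK_E8_0_189
    · exact expOK_E8_0_190
    · exact expOK_E8_0_191
    · exact expOK_E8_0_192
    · exact expOK_E8_0_193
    · exact expOK_E8_0_194
    · exact expOK_E8_0_195
    · exact expOK_E8_0_196
    · exact expOK_E8_0_197
    · exact expOK_E8_0_198
    · exact expOK_E8_0_199
    · exact expOK_E8_0_200
    · exact expOK_E8_0_201
    · exact expOK_E8_0_202
    · exact expOK_E8_0_203
    · exact expOK_E8_0_204
    · exact expOK_E8_0_205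
    · exact expOK_E8_0_206
    · exact expOK_E8_0_207
    · exact expOK_E8_0_208
    · exact expOK_E8_0_209
    · exact expOK_E8_0_210
    · exact expOK_E8_0_211
    · exact expOK_E8_0_212
    · exact expOK_E8_0_213
    · exact expOK_E8_0_214
    · exact expOK_E8_0_215
    · exact expOK_E8_0_216
    · exact expOK_E8_0_217
    · exact expOK_E8_0_218
    · exact expOK_E8_0_219
    · exact expOK_E8_0_220
    · exact expOK_E8_0_221
    · exact expOK_E8_0_222
    · exact expOK_E8_0_223
    · exact expOK_E8_0_224
    · exact expOK_E8_0_225
    · exact expOK_E8_0_226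
    · exact expOK_E8_0_227
    · exact expOK_E8_0_228
    · exact expOK_E8_0_229
    · exact expOK_E8_0_230
    · exact expOK_E8_0_231
    · exact expOK_E8_0_232
    · exact expOK_E8_0_233
    · exact expOK_E8_0_234
    · exact expOK_E8_0_235
    · exact expOK_E8_0_236
    · exact expOK_E8_0_237
    · exact expOK_E8_0_238
    · exact expOK_E8_0_239)

end Cfsg.Agent.Lead.Chev
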