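import Mathlib
import Cfsg.Agent.Lib.Lead.ChevExp
import Cfsg.Prelude.Def_ChevF4

set_option autoImplicit false

namespace Cfsg.Agent.Lead.Chev

open Cfsg Cfsg.Lie

theorem expOK_F4_0_0 : (List.range' (16 * 0) 16).all ((fun _ => expChk chevF4) 0) = true := by decide +kernel
theorem expOK_F4_0_1 : (List.range' (16 * 1) 16).all ((fun _ => expChk chevF4) 0) = true := by decide +kernel
theorem expOK_F4_0_2 : (List.range' (16 * 2) 16).all ((fun _ => expChk chevF4) 0) = true := by decide +kernel

theorem expOK_F4 : ∀ a < 1, ∀ s < 48, (fun _ => expChk chevF4) a s = true :=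
  forall_forall_lt_of_blocks ((fun _ => expChk chevF4)) 1 48 16 3 (by norm_num) (by norm_num) (by
    intro a ha k hk
    interval_cases a <;> interval_cases k
    · exact expOK_F4_0_0
    · exact expOK_F4_0_1
    · exact expOK_F4_0_2)

end Cfsg.Agent.Lead.Chev
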