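import Mathlib
import Cfsg.Agent.Lib.Lead.ChevHAll
import Cfsg.Prelude.Def_ChevB2

set_option autoImplicit false

namespace Cfsg.Agent.Lead.Chev

open Cfsg Cfsg.Lie

theorem hAllL_B2_0_0 : (List.range' (2 * 0) 2).all (hAllChkL chevB2 0) = true := by decide +kernel
theorem hAllL_B2_1_0 : (List.range' (2 * 0) 2).all (hAllChkL chevB2 1) = true := by decide +kernel
theorem hAllL_B2_2_0 : (List.range' (2 * 0) 2).all (hAllChkL chevB2 2) = true := by decide +kernel
theorem hAllL_B2_3_0 : (List.range' (2 * 0) 2).all (hAllChkL chevB2 3) = true := by decide +kernel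
theorem hAllL_B2_4_0 : (List.range' (2 * 0) 2).all (hAllChkL chevB2 4) = true := by decide +kernel
theorem hAllL_B2_5_0 : (List.range' (2 * 0) 2).all (hAllChkL chevB2 5) = true := by decide +kernel
theorem hAllL_B2_6_0 : (List.range' (2 * 0) 2).all (hAllChkL chevB2 6) = true := by decide +kernel
theorem hAllL_B2_7_0 : (List.range' (2 * 0) 2).all (hAllChkL chevB2 7) = true := by decide +kernel

theorem hAllL_B2 : ∀ a < 8, ∀ s < 2, hAllChkL chevB2 a s = true :=
  forall_forall_lt_of_blocks (hAllChkL chevB2) 8 2 2 1 (by norm_num) (by norm_num) (by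
    intro a ha k hk
    interval_cases a <;> interval_cases k
    · exact hAllL_B2_0_0
    · exact hAllL_B2_1_0
    · exact hAllL_B2_2_0
    · exact hAllL_B2_3_0
    · exact hAllL_B2_4_0
    · exact hAllL_B2_5_0
    · exact hAllL_B2_6_0
    · exact hAllL_B2_7_0)

theorem hAllR_B2_0_0 : (List.range' (8 * 0) 8).all (hAllChkR chevB2 0) = true := by decide +kernel
theorem hAllR_B2_1_0 : (List.range' (8 * 0) 8).all (hAllChkR chevB2 1) = true := by decide +kernel
theorem hAllR_B2_2_0 : (List.range' (8 * 0) 8).all (hAllChkR chevB2 2) = true := by decide +kernel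
theorem hAllR_B2_3_0 : (List.range' (8 * 0) 8).all (hAllChkR chevB2 3) = true := by decide +kernel
theorem hAllR_B2_4_0 : (List.range' (8 * 0) 8).all (hAllChkR chevB2 4) = true := by decide +kernel
theorem hAllR_B2_5_0 : (List.range' (8 * 0) 8).all (hAllChkR chevB2 5) = true := by decide +kernel
theorem hAllR_B2_6_0 : (List.range' (8 * 0) 8).all (hAllChkR chevB2 6) = true := by decide +kernel
theorem hAllR_B2_7_0 : (List.range' (8 * 0) 8).all (hAllChkR chevB2 7) = true := by decide +kernel

theorem hAllR_B2 : ∀ a < 8, ∀ s < 8, hAllChkR chevB2 a s = true :=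
  forall_forall_lt_of_blocks (hAllChkR chevB2) 8 8 8 1 (by norm_num) (by norm_num) (by
    intro a ha k hk
    interval_cases a <;> interval_cases k
    · exact hAllR_B2_0_0
    · exact hAllR_B2_1_0
    · exact hAllR_B2_2_0
    · exact hAllR_B2_3_0
    · exact hAllR_B2_4_0
    · exact hAllR_B2_5_0
    · exact hAllR_B2_6_0
    · exact hAllR_B2_7_0)

end Cfsg.Agent.Lead.Chev
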