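import Mathlib
import Cfsg.Agent.Lib.Lead.ChevHAll
import Cfsg.Prelude.Def_ChevG2

set_option autoImplicit false

namespace Cfsg.Agent.Lead.Chev

open Cfsg Cfsg.Lie

theorem hAllL_G2_0_0 : (List.range' (2 * 0) 2).all (hAllChkL chevG2 0) = true := by decide +kernel
theorem hAllL_G2_1_0 : (List.range' (2 * 0) 2).all (hAllChkL chevG2 1) = true := by decide +kernel
theorem hAllL_G2_2_0 : (List.range' (2 * 0) 2).all (hAllChkL chevG2 2) = true := by decide +kernel
theorem hAllL_G2_3_0 : (List.range' (2 * 0) 2).all (hAllChkL chevG2 3) = true := by decide +kernel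
theorem hAllL_G2_4_0 : (List.range' (2 * 0) 2).all (hAllChkL chevG2 4) = true := by decide +kernel
theorem hAllL_G2_5_0 : (List.range' (2 * 0) 2).all (hAllChkL chevG2 5) = true := by decide +kernel
theorem hAllL_G2_6_0 : (List.range' (2 * 0) 2).all (hAllChkL chevG2 6) = true := by decide +kernel
theorem hAllL_G2_7_0 : (List.range' (2 * 0) 2).all (hAllChkL chevG2 7) = true := by decide +kernel
theorem hAllL_G2_8_0 : (List.range' (2 * 0) 2).all (hAllChkL chevG2 8) = true := by decide +kernel
theorem hAllL_G2_9_0 : (List.range' (2 * 0) 2).all (hAllChkL chevG2 9) = true := by decide +kernel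
theorem hAllL_G2_10_0 : (List.range' (2 * 0) 2).all (hAllChkL chevG2 10) = true := by decide +kernel
theorem hAllL_G2_11_0 : (List.range' (2 * 0) 2).all (hAllChkL chevG2 11) = true := by decide +kernel

theorem hAllL_G2 : ∀ a < 12, ∀ s < 2, hAllChkL chevG2 a s = true :=
  forall_forall_lt_of_blocks (hAllChkL chevG2) 12 2 2 1 (by norm_num) (by norm_num) (by
    intro a ha k hk
    interval_cases a <;> interval_cases k
    · exact hAllL_G2_0_0
    · exact hAllL_G2_1_0
    · exact hAllL_G2_2_0
    · exact hAllL_G2_3_0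
    · exact hAllL_G2_4_0
    · exact hAllL_G2_5_0
    · exact hAllL_G2_6_0
    · exact hAllL_G2_7_0
    · exact hAllL_G2_8_0
    · exact hAllL_G2_9_0
    · exact hAllL_G2_10_0
    · exact hAllL_G2_11_0)

theorem hAllR_G2_0_0 : (List.range' (12 * 0) 12).all (hAllChkR chevG2 0) = true := by decide +kernel
theorem hAllR_G2_1_0 : (List.range' (12 * 0) 12).all (hAllChkR chevG2 1) = true := by decide +kernel
theorem hAllR_G2_2_0 : (List.range' (12 * 0) 12).all (hAllChkR chevG2 2) = true := by decide +kernel
theorem hAllR_G2_3_0 : (List.range' (12 * 0) 12).all (hAllChkR chevG2 3) = true := by decide +kernel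
theorem hAllR_G2_4_0 : (List.range' (12 * 0) 12).all (hAllChkR chevG2 4) = true := by decide +kernel
theorem hAllR_G2_5_0 : (List.range' (12 * 0) 12).all (hAllChkR chevG2 5) = true := by decide +kernel
theorem hAllR_G2_6_0 : (List.range' (12 * 0) 12).all (hAllChkR chevG2 6) = true := by decide +kernel
theorem hAllR_G2_7_0 : (List.range' (12 * 0) 12).all (hAllChkR chevG2 7) = true := by decide +kernel
theorem hAllR_G2_8_0 : (List.range' (12 * 0) 12).all (hAllChkR chevG2 8) = true := by decide +kernel
theorem hAllR_G2_9_0 : (List.range' (12 * 0) 12).all (hAllChkR chevG2 9) = true := by decide +kernel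
theorem hAllR_G2_10_0 : (List.range' (12 * 0) 12).all (hAllChkR chevG2 10) = true := by decide +kernel
theorem hAllR_G2_11_0 : (List.range' (12 * 0) 12).all (hAllChkR chevG2 11) = true := by decide +kernel

theorem hAllR_G2 : ∀ a < 12, ∀ s < 12, hAllChkR chevG2 a s = true :=
  forall_forall_lt_of_blocks (hAllChkR chevG2) 12 12 12 1 (by norm_num) (by norm_num) (by
    intro a ha k hk
    interval_cases a <;> interval_cases k
    · exact hAllR_G2_0_0
    · exact hAllR_G2_1_0
    · exact hAllR_G2_2_0
    · exact hAllR_G2_3_0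
    · exact hAllR_G2_4_0
    · exact hAllR_G2_5_0
    · exact hAllR_G2_6_0
    · exact hAllR_G2_7_0
    · exact hAllR_G2_8_0
    · exact hAllR_G2_9_0
    · exact hAllR_G2_10_0
    · exact hAllR_G2_11_0)

end Cfsg.Agent.Lead.Chev
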