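import Mathlib
import Cfsg.Agent.Lib.Lead.ChevSL
import Cfsg.Prelude.Def_ChevD4

set_option autoImplicit false

namespace Cfsg.Agent.Lead.Chev

open Cfsg Cfsg.Lie

theorem slOK_D4_0_0 : (List.range' (24 * 0) 24).all ((fun _ => slRootOK chevD4) 0) = true := by decide +kernel

theorem slOK_D4 : ∀ a < 1, ∀ s < 24, (fun _ => slRootOK chevD4) a s = true :=
  forall_forall_lt_of_blocks ((fun _ => slRootOK chevD4)) 1 24 24 1 (by norm_num) (by norm_num) (by
    intro a ha k hk
    interval_cases a; interval_cases k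
    exact slOK_D4_0_0)

end Cfsg.Agent.Lead.Chev
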