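import Mathlib
import Cfsg.Agent.Lib.Lead.ChevSL
import Cfsg.Prelude.Def_ChevE6

set_option autoImplicit false

namespace Cfsg.Agent.Lead.Chev

open Cfsg Cfsg.Lie

theorem slOK_E6_0_0 : (List.range' (12 * 0) 12).all ((fun _ => slRootOK chevE6) 0) = true := by decide +kernel
theorem slOK_E6_0_1 : (List.range' (12 * 1) 12).all ((fun _ => slRootOK chevE6) 0) = true := by decide +kernel
theorem slOK_E6_0_2 : (List.range' (12 * 2) 12).all ((fun _ => slRootOK chevE6) 0) = true := by decide +kernel
theorem slOK_E6_0_3 : (List.range' (12 * 3) 12).all ((fun _ => slRootOK chevE6) 0) = true := by decide +kernel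
theorem slOK_E6_0_4 : (List.range' (12 * 4) 12).all ((fun _ => slRootOK chevE6) 0) = true := by decide +kernel
theorem slOK_E6_0_5 : (List.range' (12 * 5) 12).all ((fun _ => slRootOK chevE6) 0) = true := by decide +kernel

theorem slOK_E6 : ∀ a < 1, ∀ s < 72, (fun _ => slRootOK chevE6) a s = true :=
  forall_forall_lt_of_blocks ((fun _ => slRootOK chevE6)) 1 72 12 6 (by norm_num) (by norm_num) (by
    intro a ha k hk
    interval_cases a <;> interval_cases k
    · exact slOK_E6_0_0
    · exact slOK_E6_0_1
    · exact slOK_E6_0_2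
    · exact slOK_E6_0_3
    · exact slOK_E6_0_4
    · exact slOK_E6_0_5)

end Cfsg.Agent.Lead.Chev
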