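import Mathlib
import Cfsg.Agent.Lib.Lead.ChevSL
import Cfsg.Prelude.Def_ChevE7

set_option autoImplicit false

namespace Cfsg.Agent.Lead.Chev

open Cfsg Cfsg.Lie

theorem slOK_E7_0_0 : (List.range' (6 * 0) 6).all ((fun _ => slRootOK chevE7) 0) = true := by decide +kernel
theorem slOK_E7_0_1 : (List.range' (6 * 1) 6).all ((fun _ => slRootOK chevE7) 0) = true := by decide +kernel
theorem slOK_E7_0_2 : (List.range' (6 * 2) 6).all ((fun _ => slRootOK chevE7) 0) = true := by decide +kernel
theorem slOK_E7_0_3 : (List.range' (6 * 3) 6).all ((fun _ => slRootOK chevE7) 0) = true := by decide +kernel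
theorem slOK_E7_0_4 : (List.range' (6 * 4) 6).all ((fun _ => slRootOK chevE7) 0) = true := by decide +kernel
theorem slOK_E7_0_5 : (List.range' (6 * 5) 6).all ((fun _ => slRootOK chevE7) 0) = true := by decide +kernel
theorem slOK_E7_0_6 : (List.range' (6 * 6) 6).all ((fun _ => slRootOK chevE7) 0) = true := by decide +kernel
theorem slOK_E7_0_7 : (List.range' (6 * 7) 6).all ((fun _ => slRootOK chevE7) 0) = true := by decide +kernel
theorem slOK_E7_0_8 : (List.range' (6 * 8) 6).all ((fun _ => slRootOK chevE7) 0) = true := by decide +kernel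
theorem slOK_E7_0_9 : (List.range' (6 * 9) 6).all ((fun _ => slRootOK chevE7) 0) = true := by decide +kernel
theorem slOK_E7_0_10 : (List.range' (6 * 10) 6).all ((fun _ => slRootOK chevE7) 0) = true := by decide +kernel
theorem slOK_E7_0_11 : (List.range' (6 * 11) 6).all ((fun _ => slRootOK chevE7) 0) = true := by decide +kernel
theorem slOK_E7_0_12 : (List.range' (6 * 12) 6).all ((fun _ => slRootOK chevE7) 0) = true := by decide +kernel
theorem slOK_E7_0_13 : (List.range' (6 * 13) 6).all ((fun _ => slRootOK chevE7) 0) = true := by decide +kernel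
theorem slOK_E7_0_14 : (List.range' (6 * 14) 6).all ((fun _ => slRootOK chevE7) 0) = true := by decide +kernel
theorem slOK_E7_0_15 : (List.range' (6 * 15) 6).all ((fun _ => slRootOK chevE7) 0) = true := by decide +kernel
theorem slOK_E7_0_16 : (List.range' (6 * 16) 6).all ((fun _ => slRootOK chevE7) 0) = true := by decide +kernel
theorem slOK_E7_0_17 : (List.range' (6 * 17) 6).all ((fun _ => slRootOK chevE7) 0) = true := by decide +kernel
theorem slOK_E7_0_18 : (List.range' (6 * 18) 6).all ((fun _ => slRootOK chevE7) 0) = true := by decide +kernel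
theorem slOK_E7_0_19 : (List.range' (6 * 19) 6).all ((fun _ => slRootOK chevE7) 0) = true := by decide +kernel
theorem slOK_E7_0_20 : (List.range' (6 * 20) 6).all ((fun _ => slRootOK chevE7) 0) = true := by decide +kernel

theorem slOK_E7 : ∀ a < 1, ∀ s < 126, (fun _ => slRootOK chevE7) a s = true :=
  forall_forall_lt_of_blocks ((fun _ => slRootOK chevE7)) 1 126 6 21 (by norm_num) (by norm_num) (by
    intro a ha k hk
    interval_cases a <;> interval_cases k
    · exact slOK_E7_0_0
    · exact slOK_E7_0_1
    · exact slOK_E7_0_2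
    · exact slOK_E7_0_3
    · exact slOK_E7_0_4
    · exact slOK_E7_0_5
    · exact slOK_E7_0_6
    · exact slOK_E7_0_7
    · exact slOK_E7_0_8
    · exact slOK_E7_0_9
    · exact slOK_E7_0_10
    · exact slOK_E7_0_11
    · exact slOK_E7_0_12
    · exact slOK_E7_0_13
    · exact slOK_E7_0_14
    · exact slOK_E7_0_15
    · exact slOK_E7_0_16
    · exact slOK_E7_0_17
    · exact slOK_E7_0_18
    · exact slOK_E7_0_19
    · exact slOK_E7_0_20)

end Cfsg.Agent.Lead.Chev
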