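import Mathlib
import Cfsg.Agent.Lib.Lead.ChevSL
import Cfsg.Prelude.Def_ChevE8

set_option autoImplicit false

namespace Cfsg.Agent.Lead.Chev

open Cfsg Cfsg.Lie

theorem slOK_E8_0_0 : (List.range' (2 * 0) 2).all ((fun _ => slRootOK chevE8) 0) = true := by decide +kernel
theorem slOK_E8_0_1 : (List.range' (2 * 1) 2).all ((fun _ => slRootOK chevE8) 0) = true := by decide +kernel
theorem slOK_E8_0_2 : (List.range' (2 * 2) 2).all ((fun _ => slRootOK chevE8) 0) = true := by decide +kernel
theorem slOK_E8_0_3 : (List.range' (2 * 3) 2).all ((fun _ => slRootOK chevE8) 0) = true := by decide +kernel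
theorem slOK_E8_0_4 : (List.range' (2 * 4) 2).all ((fun _ => slRootOK chevE8) 0) = true := by decide +kernel
theorem slOK_E8_0_5 : (List.range' (2 * 5) 2).all ((fun _ => slRootOK chevE8) 0) = true := by decide +kernel
theorem slOK_E8_0_6 : (List.range' (2 * 6) 2).all ((fun _ => slRootOK chevE8) 0) = true := by decide +kernel
theorem slOK_E8_0_7 : (List.range' (2 * 7) 2).all ((fun _ => slRootOK chevE8) 0) = true := by decide +kernel
theorem slOK_E8_0_8 : (List.range' (2 * 8) 2).all ((fun _ => slRootOK chevE8) 0) = true := by decide +kernel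
theorem slOK_E8_0_9 : (List.range' (2 * 9) 2).all ((fun _ => slRootOK chevE8) 0) = true := by decide +kernel
theorem slOK_E8_0_10 : (List.range' (2 * 10) 2).all ((fun _ => slRootOK chevE8) 0) = true := by decide +kernel
theorem slOK_E8_0_11 : (List.range' (2 * 11) 2).all ((fun _ => slRootOK chevE8) 0) = true := by decide +kernel
theorem slOK_E8_0_12 : (List.range' (2 * 12) 2).all ((fun _ => slRootOK chevE8) 0) = true := by decide +kernel
theorem slOK_E8_0_13 : (List.range' (2 * 13) 2).all ((fun _ => slRootOK chevE8) 0) = true := by decide +kernel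
theorem slOK_E8_0_14 : (List.range' (2 * 14) 2).all ((fun _ => slRootOK chevE8) 0) = true := by decide +kernel
theorem slOK_E8_0_15 : (List.range' (2 * 15) 2).all ((fun _ => slRootOK chevE8) 0) = true := by decide +kernel
theorem slOK_E8_0_16 : (List.range' (2 * 16) 2).all ((fun _ => slRootOK chevE8) 0) = true := by decide +kernel
theorem slOK_E8_0_17 : (List.range' (2 * 17) 2).all ((fun _ => slRootOK chevE8) 0) = true := by decide +kernel
theorem slOK_E8_0_18 : (List.range' (2 * 18) 2).all ((fun _ => slRootOK chevE8) 0) = true := by decide +kernel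
theorem slOK_E8_0_19 : (List.range' (2 * 19) 2).all ((fun _ => slRootOK chevE8) 0) = true := by decide +kernel
theorem slOK_E8_0_20 : (List.range' (2 * 20) 2).all ((fun _ => slRootOK chevE8) 0) = true := by decide +kernel
theorem slOK_E8_0_21 : (List.range' (2 * 21) 2).all ((fun _ => slRootOK chevE8) 0) = true := by decide +kernel
theorem slOK_E8_0_22 : (List.range' (2 * 22) 2).all ((fun _ => slRootOK chevE8) 0) = true := by decide +kernel
theorem slOK_E8_0_23 : (List.range' (2 * 23) 2).all ((fun _ => slRootOK chevE8) 0) = true := by decide +kernel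
theorem slOK_E8_0_24 : (List.range' (2 * 24) 2).all ((fun _ => slRootOK chevE8) 0) = true := by decide +kernel
theorem slOK_E8_0_25 : (List.range' (2 * 25) 2).all ((fun _ => slRootOK chevE8) 0) = true := by decide +kernel
theorem slOK_E8_0_26 : (List.range' (2 * 26) 2).all ((fun _ => slRootOK chevE8) 0) = true := by decide +kernel
theorem slOK_E8_0_27 : (List.range' (2 * 27) 2).all ((fun _ => slRootOK chevE8) 0) = true := by decide +kernel
theorem slOK_E8_0_28 : (List.range' (2 * 28) 2).all ((fun _ => slRootOK chevE8) 0) = true := by decide +kernel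
theorem slOK_E8_0_29 : (List.range' (2 * 29) 2).all ((fun _ => slRootOK chevE8) 0) = true := by decide +kernel
theorem slOK_E8_0_30 : (List.range' (2 * 30) 2).all ((fun _ => slRootOK chevE8) 0) = true := by decide +kernel
theorem slOK_E8_0_31 : (List.range' (2 * 31) 2).all ((fun _ => slRootOK chevE8) 0) = true := by decide +kernel
theorem slOK_E8_0_32 : (List.range' (2 * 32) 2).all ((fun _ => slRootOK chevE8) 0) = true := by decide +kernel
theorem slOK_E8_0_33 : (List.range' (2 * 33) 2).all ((fun _ => slRootOK chevE8) 0) = true := by decide +kernel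
theorem slOK_E8_0_34 : (List.range' (2 * 34) 2).all ((fun _ => slRootOK chevE8) 0) = true := by decide +kernel
theorem slOK_E8_0_35 : (List.range' (2 * 35) 2).all ((fun _ => slRootOK chevE8) 0) = true := by decide +kernel
theorem slOK_E8_0_36 : (List.range' (2 * 36) 2).all ((fun _ => slRootOK chevE8) 0) = true := by decide +kernel
theorem slOK_E8_0_37 : (List.range' (2 * 37) 2).all ((fun _ => slRootOK chevE8) 0) = true := by decide +kernel
theorem slOK_E8_0_38 : (List.range' (2 * 38) 2).all ((fun _ => slRootOK chevE8) 0) = true := by decide +kernel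
theorem slOK_E8_0_39 : (List.range' (2 * 39) 2).all ((fun _ => slRootOK chevE8) 0) = true := by decide +kernel
theorem slOK_E8_0_40 : (List.range' (2 * 40) 2).all ((fun _ => slRootOK chevE8) 0) = true := by decide +kernel
theorem slOK_E8_0_41 : (List.range' (2 * 41) 2).all ((fun _ => slRootOK chevE8) 0) = true := by decide +kernel
theorem slOK_E8_0_42 : (List.range' (2 * 42) 2).all ((fun _ => slRootOK chevE8) 0) = true := by decide +kernel
theorem slOK_E8_0_43 : (List.range' (2 * 43) 2).all ((fun _ => slRootOK chevE8) 0) = true := by decide +kernel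
theorem slOK_E8_0_44 : (List.range' (2 * 44) 2).all ((fun _ => slRootOK chevE8) 0) = true := by decide +kernel
theorem slOK_E8_0_45 : (List.range' (2 * 45) 2).all ((fun _ => slRootOK chevE8) 0) = true := by decide +kernel
theorem slOK_E8_0_46 : (List.range' (2 * 46) 2).all ((fun _ => slRootOK chevE8) 0) = true := by decide +kernel
theorem slOK_E8_0_47 : (List.range' (2 * 47) 2).all ((fun _ => slRootOK chevE8) 0) = true := by decide +kernel
theorem slOK_E8_0_48 : (List.range' (2 * 48) 2).all ((fun _ => slRootOK chevE8) 0) = true := by decide +kernel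
theorem slOK_E8_0_49 : (List.range' (2 * 49) 2).all ((fun _ => slRootOK chevE8) 0) = true := by decide +kernel
theorem slOK_E8_0_50 : (List.range' (2 * 50) 2).all ((fun _ => slRootOK chevE8) 0) = true := by decide +kernel
theorem slOK_E8_0_51 : (List.range' (2 * 51) 2).all ((fun _ => slRootOK chevE8) 0) = true := by decide +kernel
theorem slOK_E8_0_52 : (List.range' (2 * 52) 2).all ((fun _ => slRootOK chevE8) 0) = true := by decide +kernel
theorem slOK_E8_0_53 : (List.range' (2 * 53) 2).all ((fun _ => slRootOK chevE8) 0) = true := by decide +kernel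
theorem slOK_E8_0_54 : (List.range' (2 * 54) 2).all ((fun _ => slRootOK chevE8) 0) = true := by decide +kernel
theorem slOK_E8_0_55 : (List.range' (2 * 55) 2).all ((fun _ => slRootOK chevE8) 0) = true := by decide +kernel
theorem slOK_E8_0_56 : (List.range' (2 * 56) 2).all ((fun _ => slRootOK chevE8) 0) = true := by decide +kernel
theorem slOK_E8_0_57 : (List.range' (2 * 57) 2).all ((fun _ => slRootOK chevE8) 0) = true := by decide +kernel
theorem slOK_E8_0_58 : (List.range' (2 * 58) 2).all ((fun _ => slRootOK chevE8) 0) = true := by decide +kernel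
theorem slOK_E8_0_59 : (List.range' (2 * 59) 2).all ((fun _ => slRootOK chevE8) 0) = true := by decide +kernel
theorem slOK_E8_0_60 : (List.range' (2 * 60) 2).all ((fun _ => slRootOK chevE8) 0) = true := by decide +kernel
theorem slOK_E8_0_61 : (List.range' (2 * 61) 2).all ((fun _ => slRootOK chevE8) 0) = true := by decide +kernel
theorem slOK_E8_0_62 : (List.range' (2 * 62) 2).all ((fun _ => slRootOK chevE8) 0) = true := by decide +kernel
theorem slOK_E8_0_63 : (List.range' (2 * 63) 2).all ((fun _ => slRootOK chevE8) 0) = true := by decide +kernel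
theorem slOK_E8_0_64 : (List.range' (2 * 64) 2).all ((fun _ => slRootOK chevE8) 0) = true := by decide +kernel
theorem slOK_E8_0_65 : (List.range' (2 * 65) 2).all ((fun _ => slRootOK chevE8) 0) = true := by decide +kernel
theorem slOK_E8_0_66 : (List.range' (2 * 66) 2).all ((fun _ => slRootOK chevE8) 0) = true := by decide +kernel
theorem slOK_E8_0_67 : (List.range' (2 * 67) 2).all ((fun _ => slRootOK chevE8) 0) = true := by decide +kernel
theorem slOK_E8_0_68 : (List.range' (2 * 68) 2).all ((fun _ => slRootOK chevE8) 0) = true := by decide +kernel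
theorem slOK_E8_0_69 : (List.range' (2 * 69) 2).all ((fun _ => slRootOK chevE8) 0) = true := by decide +kernel
theorem slOK_E8_0_70 : (List.range' (2 * 70) 2).all ((fun _ => slRootOK chevE8) 0) = true := by decide +kernel
theorem slOK_E8_0_71 : (List.range' (2 * 71) 2).all ((fun _ => slRootOK chevE8) 0) = true := by decide +kernel
theorem slOK_E8_0_72 : (List.range' (2 * 72) 2).all ((fun _ => slRootOK chevE8) 0) = true := by decide +kernel
theorem slOK_E8_0_73 : (List.range' (2 * 73) 2).all ((fun _ => slRootOK chevE8) 0) = true := by decide +kernel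
theorem slOK_E8_0_74 : (List.range' (2 * 74) 2).all ((fun _ => slRootOK chevE8) 0) = true := by decide +kernel
theorem slOK_E8_0_75 : (List.range' (2 * 75) 2).all ((fun _ => slRootOK chevE8) 0) = true := by decide +kernel
theorem slOK_E8_0_76 : (List.range' (2 * 76) 2).all ((fun _ => slRootOK chevE8) 0) = true := by decide +kernel
theorem slOK_E8_0_77 : (List.range' (2 * 77) 2).all ((fun _ => slRootOK chevE8) 0) = true := by decide +kernel
theorem slOK_E8_0_78 : (List.range' (2 * 78) 2).all ((fun _ => slRootOK chevE8) 0) = true := by decide +kernel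
theorem slOK_E8_0_79 : (List.range' (2 * 79) 2).all ((fun _ => slRootOK chevE8) 0) = true := by decide +kernel
theorem slOK_E8_0_80 : (List.range' (2 * 80) 2).all ((fun _ => slRootOK chevE8) 0) = true := by decide +kernel
theorem slOK_E8_0_81 : (List.range' (2 * 81) 2).all ((fun _ => slRootOK chevE8) 0) = true := by decide +kernel
theorem slOK_E8_0_82 : (List.range' (2 * 82) 2).all ((fun _ => slRootOK chevE8) 0) = true := by decide +kernel
theorem slOK_E8_0_83 : (List.range' (2 * 83) 2).all ((fun _ => slRootOK chevE8) 0) = true := by decide +kernel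
theorem slOK_E8_0_84 : (List.range' (2 * 84) 2).all ((fun _ => slRootOK chevE8) 0) = true := by decide +kernel
theorem slOK_E8_0_85 : (List.range' (2 * 85) 2).all ((fun _ => slRootOK chevE8) 0) = true := by decide +kernel
theorem slOK_E8_0_86 : (List.range' (2 * 86) 2).all ((fun _ => slRootOK chevE8) 0) = true := by decide +kernel
theorem slOK_E8_0_87 : (List.range' (2 * 87) 2).all ((fun _ => slRootOK chevE8) 0) = true := by decide +kernel
theorem slOK_E8_0_88 : (List.range' (2 * 88) 2).all ((fun _ => slRootOK chevE8) 0) = true := by decide +kernel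
theorem slOK_E8_0_89 : (List.range' (2 * 89) 2).all ((fun _ => slRootOK chevE8) 0) = true := by decide +kernel
theorem slOK_E8_0_90 : (List.range' (2 * 90) 2).all ((fun _ => slRootOK chevE8) 0) = true := by decide +kernel
theorem slOK_E8_0_91 : (List.range' (2 * 91) 2).all ((fun _ => slRootOK chevE8) 0) = true := by decide +kernel
theorem slOK_E8_0_92 : (List.range' (2 * 92) 2).all ((fun _ => slRootOK chevE8) 0) = true := by decide +kernel
theorem slOK_E8_0_93 : (List.range' (2 * 93) 2).all ((fun _ => slRootOK chevE8) 0) = true := by decide +kernel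
theorem slOK_E8_0_94 : (List.range' (2 * 94) 2).all ((fun _ => slRootOK chevE8) 0) = true := by decide +kernel
theorem slOK_E8_0_95 : (List.range' (2 * 95) 2).all ((fun _ => slRootOK chevE8) 0) = true := by decide +kernel
theorem slOK_E8_0_96 : (List.range' (2 * 96) 2).all ((fun _ => slRootOK chevE8) 0) = true := by decide +kernel
theorem slOK_E8_0_97 : (List.range' (2 * 97) 2).all ((fun _ => slRootOK chevE8) 0) = true := by decide +kernel
theorem slOK_E8_0_98 : (List.range' (2 * 98) 2).all ((fun _ => slRootOK chevE8) 0) = true := by decide +kernel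
theorem slOK_E8_0_99 : (List.range' (2 * 99) 2).all ((fun _ => slRootOK chevE8) 0) = true := by decide +kernel
theorem slOK_E8_0_100 : (List.range' (2 * 100) 2).all ((fun _ => slRootOK chevE8) 0) = true := by decide +kernel
theorem slOK_E8_0_101 : (List.range' (2 * 101) 2).all ((fun _ => slRootOK chevE8) 0) = true := by decide +kernel
theorem slOK_E8_0_102 : (List.range' (2 * 102) 2).all ((fun _ => slRootOK chevE8) 0) = true := by decide +kernel
theorem slOK_E8_0_103 : (List.range' (2 * 103) 2).all ((fun _ => slRootOK chevE8) 0) = true := by decide +kernel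
theorem slOK_E8_0_104 : (List.range' (2 * 104) 2).all ((fun _ => slRootOK chevE8) 0) = true := by decide +kernel
theorem slOK_E8_0_105 : (List.range' (2 * 105) 2).all ((fun _ => slRootOK chevE8) 0) = true := by decide +kernel
theorem slOK_E8_0_106 : (List.range' (2 * 106) 2).all ((fun _ => slRootOK chevE8) 0) = true := by decide +kernel
theorem slOK_E8_0_107 : (List.range' (2 * 107) 2).all ((fun _ => slRootOK chevE8) 0) = true := by decide +kernel
theorem slOK_E8_0_108 : (List.range' (2 * 108) 2).all ((fun _ => slRootOK chevE8) 0) = true := by decide +kernel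
theorem slOK_E8_0_109 : (List.range' (2 * 109) 2).all ((fun _ => slRootOK chevE8) 0) = true := by decide +kernel
theorem slOK_E8_0_110 : (List.range' (2 * 110) 2).all ((fun _ => slRootOK chevE8) 0) = true := by decide +kernel
theorem slOK_E8_0_111 : (List.range' (2 * 111) 2).all ((fun _ => slRootOK chevE8) 0) = true := by decide +kernel
theorem slOK_E8_0_112 : (List.range' (2 * 112) 2).all ((fun _ => slRootOK chevE8) 0) = true := by decide +kernel
theorem slOK_E8_0_113 : (List.range' (2 * 113) 2).all ((fun _ => slRootOK chevE8) 0) = true := by decide +kernel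
theorem slOK_E8_0_114 : (List.range' (2 * 114) 2).all ((fun _ => slRootOK chevE8) 0) = true := by decide +kernel
theorem slOK_E8_0_115 : (List.range' (2 * 115) 2).all ((fun _ => slRootOK chevE8) 0) = true := by decide +kernel
theorem slOK_E8_0_116 : (List.range' (2 * 116) 2).all ((fun _ => slRootOK chevE8) 0) = true := by decide +kernel
theorem slOK_E8_0_117 : (List.range' (2 * 117) 2).all ((fun _ => slRootOK chevE8) 0) = true := by decide +kernel
theorem slOK_E8_0_118 : (List.range' (2 * 118) 2).all ((fun _ => slRootOK chevE8) 0) = true := by decide +kernel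
theorem slOK_E8_0_119 : (List.range' (2 * 119) 2).all ((fun _ => slRootOK chevE8) 0) = true := by decide +kernel

theorem slOK_E8 : ∀ a < 1, ∀ s < 240, (fun _ => slRootOK chevE8) a s = true :=
  forall_forall_lt_of_blocks ((fun _ => slRootOK chevE8)) 1 240 2 120 (by norm_num) (by norm_num) (by
    intro a ha k hk
    interval_cases a <;> interval_cases k
    · exact slOK_E8_0_0
    · exact slOK_E8_0_1
    · exact slOK_E8_0_2
    · exact slOK_E8_0_3
    · exact slOK_E8_0_4
    · exact slOK_E8_0_5
    · exact slOK_E8_0_6
    · exact slOK_E8_0_7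
    · exact slOK_E8_0_8
    · exact slOK_E8_0_9
    · exact slOK_E8_0_10
    · exact slOK_E8_0_11
    · exact slOK_E8_0_12
    · exact slOK_E8_0_13
    · exact slOK_E8_0_14
    · exact slOK_E8_0_15
    · exact slOK_E8_0_16
    · exact slOK_E8_0_17
    · exact slOK_E8_0_18
    · exact slOK_E8_0_19
    · exact slOK_E8_0_20
    · exact slOK_E8_0_21
    · exact slOK_E8_0_22
    · exact slOK_E8_0_23
    · exact slOK_E8_0_24
    · exact slOK_E8_0_25
    · exact slOK_E8_0_26
    · exact slOK_E8_0_27
    · exact slOK_E8_0_28
    · exact slOK_E8_0_29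
    · exact slOK_E8_0_30
    · exact slOK_E8_0_31
    · exact slOK_E8_0_32
    · exact slOK_E8_0_33
    · exact slOK_E8_0_34
    · exact slOK_E8_0_35
    · exact slOK_E8_0_36
    · exact slOK_E8_0_37
    · exact slOK_E8_0_38
    · exact slOK_E8_0_39
    · exact slOK_E8_0_40
    · exact slOK_E8_0_41
    · exact slOK_E8_0_42
    · exact slOK_E8_0_43
    · exact slOK_E8_0_44
    · exact slOK_E8_0_45
    · exact slOK_E8_0_46
    · exact slOK_E8_0_47
    · exact slOK_E8_0_48
    · exact slOK_E8_0_49
    · exact slOK_E8_0_50
    · exact slOK_E8_0_51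
    · exact slOK_E8_0_52
    · exact slOK_E8_0_53
    · exact slOK_E8_0_54
    · exact slOK_E8_0_55
    · exact slOK_E8_0_56
    · exact slOK_E8_0_57
    · exact slOK_E8_0_58
    · exact slOK_E8_0_59
    · exact slOK_E8_0_60
    · exact slOK_E8_0_61
    · exact slOK_E8_0_62
    · exact slOK_E8_0_63
    · exact slOK_E8_0_64
    · exact slOK_E8_0_65
    · exact slOK_E8_0_66
    · exact slOK_E8_0_67
    · exact slOK_E8_0_68
    · exact slOK_E8_0_69
    · exact slOK_E8_0_70
    · exact slOK_E8_0_71
    · exact slOK_E8_0_72
    · exact slOK_E8_0_73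
    · exact slOK_E8_0_74
    · exact slOK_E8_0_75
    · exact slOK_E8_0_76
    · exact slOK_E8_0_77
    · exact slOK_E8_0_78
    · exact slOK_E8_0_79
    · exact slOK_E8_0_80
    · exact slOK_E8_0_81
    · exact slOK_E8_0_82
    · exact slOK_E8_0_83
    · exact slOK_E8_0_84
    · exact slOK_E8_0_85
    · exact slOK_E8_0_86
    · exact slOK_E8_0_87
    · exact slOK_E8_0_88
    · exact slOK_E8_0_89
    · exact slOK_E8_0_90
    · exact slOK_E8_0_91
    · exact slOK_E8_0_92
    · exact slOK_E8_0_93
    · exact slOK_E8_0_94
    · exact slOK_E8_0_95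
    · exact slOK_E8_0_96
    · exact slOK_E8_0_97
    · exact slOK_E8_0_98
    · exact slOK_E8_0_99
    · exact slOK_E8_0_100
    · exact slOK_E8_0_101
    · exact slOK_E8_0_102
    · exact slOK_E8_0_103
    · exact slOK_E8_0_104
    · exact slOK_E8_0_105
    · exact slOK_E8_0_106
    · exact slOK_E8_0_107
    · exact slOK_E8_0_108
    · exact slOK_E8_0_109
    · exact slOK_E8_0_110
    · exact slOK_E8_0_111
    · exact slOK_E8_0_112
    · exact slOK_E8_0_113
    · exact slOK_E8_0_114
    · exact slOK_E8_0_115
    · exact slOK_E8_0_116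
    · exact slOK_E8_0_117
    · exact slOK_E8_0_118
    · exact slOK_E8_0_119)

end Cfsg.Agent.Lead.Chev
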