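import Mathlib
import Cfsg.Agent.Lib.Lead.ChevHAll_G2
import Cfsg.Agent.Lib.Lead.ChevHAll_B2
import Cfsg.Agent.Lib.Lead.ChevHAll_F4
import Cfsg.Agent.Lib.Lead.ChevSL_D4
import Cfsg.Agent.Lib.Lead.ChevSL_E6
import Cfsg.Agent.Lib.Lead.ChevSL_E7
import Cfsg.Agent.Lib.Lead.ChevSL_E8

/-!
For all seven tabulated data, every root `r` and `c ≠ 0`: `h_r(c)` is the diagonal matrix with entries
`1` on the coroots and `c ^ chainExp D r v` on `e_v`.
-/

set_option autoImplicit false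

namespace Cfsg.Agent.Lead.Chev

open Cfsg Cfsg.Lie

theorem hMat_diag_of_slOK {F : Type*} [Field F] (D : ChevalleyDatum)
    (hok : ∀ r < D.nroots, slRootOK D r = true) (r : ℕ) (hr : r < D.nroots) (c : F) (hc : c ≠ 0) :
    D.hMat F r c =
      Matrix.diagonal (Sum.elim (fun _ => (1 : F)) (fun s : Fin D.nroots => c ^ chainExp D r s.val)) := by
  have h := slRoot_of_ok D r (hok r hr)
  have hn := h.hn
  exact hMat_diag_of_SL D r h (slRoot_of_ok D _ (hok _ hn)) (nodup_of_slRootOK D r (hok r hr))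
    (nodup_of_slRootOK D _ (hok _ hn)) c hc

theorem hMat_diag {F : Type*} [Field F] (D : ChevalleyDatum)
    (hD : D ∈ [chevG2, chevB2, chevD4, chevF4, chevE6, chevE7, chevE8]) (r : ℕ) (hr : r < D.nroots)
    (c : F) (hc : c ≠ 0) :
    D.hMat F r c =
      Matrix.diagonal (Sum.elim (fun _ => (1 : F)) (fun s : Fin D.nroots => c ^ chainExp D r s.val)) := by
  simp only [List.mem_cons, List.mem_nil_iff, or_false] at hD
  rcases hD with rfl | rfl | rfl | rfl | rfl | rfl | rfl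
  · exact hMat_diag_of_chk _ r (hAllL_G2 r hr) (hAllR_G2 r hr) c hc
  · exact hMat_diag_of_chk _ r (hAllL_B2 r hr) (hAllR_B2 r hr) c hc
  · exact hMat_diag_of_slOK _ (fun r hr => slOK_D4 0 (by norm_num) r hr) r hr c hc
  · exact hMat_diag_of_chk _ r (hAllL_F4 r hr) (hAllR_F4 r hr) c hc
  · exact hMat_diag_of_slOK _ (fun r hr => slOK_E6 0 (by norm_num) r hr) r hr c hc
  · exact hMat_diag_of_slOK _ (fun r hr => slOK_E7 0 (by norm_num) r hr) r hr c hc
  · exact hMat_diag_of_slOK _ (fun r hr => slOK_E8 0 (by norm_num) r hr) r hr c hc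

end Cfsg.Agent.Lead.Chev
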