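import Mathlib
import Cfsg.Agent.Lib.Lead.ChevWt
import Cfsg.Prelude.Def_ChevE6

set_option autoImplicit false

namespace Cfsg.Agent.Lead.Chev

open Cfsg Cfsg.Lie

theorem wRow_E6 : ∀ a < 6, rowOK chevE6 a = true := by decide +kernel

theorem wNeg_E6 : ∀ a < 6, negChk chevE6 a = true := by decide +kernel

theorem wW_E6_0_0 : (List.range' (72 * 0) 72).all (wtChk chevE6 0) = true := by decide +kernel
theorem wW_E6_1_0 : (List.range' (72 * 0) 72).all (wtChk chevE6 1) = true := by decide +kernel
theorem wW_E6_2_0 : (List.range' (72 * 0) 72).all (wtChk chevE6 2) = true := by decide +kernel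
theorem wW_E6_3_0 : (List.range' (72 * 0) 72).all (wtChk chevE6 3) = true := by decide +kernel
theorem wW_E6_4_0 : (List.range' (72 * 0) 72).all (wtChk chevE6 4) = true := by decide +kernel
theorem wW_E6_5_0 : (List.range' (72 * 0) 72).all (wtChk chevE6 5) = true := by decide +kernel

theorem wW_E6 : ∀ a < 6, ∀ s < 72, wtChk chevE6 a s = true :=
  forall_forall_lt_of_blocks (wtChk chevE6) 6 72 72 1 (by norm_num) (by norm_num) (by
    intro a ha k hk
    interval_cases a <;> interval_cases k
    · exact wW_E6_0_0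
    · exact wW_E6_1_0
    · exact wW_E6_2_0
    · exact wW_E6_3_0
    · exact wW_E6_4_0
    · exact wW_E6_5_0)

end Cfsg.Agent.Lead.Chev
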