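import Mathlib
import Cfsg.Agent.Lib.Lead.ChevWt
import Cfsg.Prelude.Def_ChevE7

set_option autoImplicit false

namespace Cfsg.Agent.Lead.Chev

open Cfsg Cfsg.Lie

theorem wRow_E7 : ∀ a < 7, rowOK chevE7 a = true := by decide +kernel

theorem wNeg_E7 : ∀ a < 7, negChk chevE7 a = true := by decide +kernel

theorem wW_E7_0_0 : (List.range' (63 * 0) 63).all (wtChk chevE7 0) = true := by decide +kernel
theorem wW_E7_0_1 : (List.range' (63 * 1) 63).all (wtChk chevE7 0) = true := by decide +kernel
theorem wW_E7_1_0 : (List.range' (63 * 0) 63).all (wtChk chevE7 1) = true := by decide +kernel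
theorem wW_E7_1_1 : (List.range' (63 * 1) 63).all (wtChk chevE7 1) = true := by decide +kernel
theorem wW_E7_2_0 : (List.range' (63 * 0) 63).all (wtChk chevE7 2) = true := by decide +kernel
theorem wW_E7_2_1 : (List.range' (63 * 1) 63).all (wtChk chevE7 2) = true := by decide +kernel
theorem wW_E7_3_0 : (List.range' (63 * 0) 63).all (wtChk chevE7 3) = true := by decide +kernel
theorem wW_E7_3_1 : (List.range' (63 * 1) 63).all (wtChk chevE7 3) = true := by decide +kernel
theorem wW_E7_4_0 : (List.range' (63 * 0) 63).all (wtChk chevE7 4) = true := by decide +kernel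
theorem wW_E7_4_1 : (List.range' (63 * 1) 63).all (wtChk chevE7 4) = true := by decide +kernel
theorem wW_E7_5_0 : (List.range' (63 * 0) 63).all (wtChk chevE7 5) = true := by decide +kernel
theorem wW_E7_5_1 : (List.range' (63 * 1) 63).all (wtChk chevE7 5) = true := by decide +kernel
theorem wW_E7_6_0 : (List.range' (63 * 0) 63).all (wtChk chevE7 6) = true := by decide +kernel
theorem wW_E7_6_1 : (List.range' (63 * 1) 63).all (wtChk chevE7 6) = true := by decide +kernel

theorem wW_E7 : ∀ a < 7, ∀ s < 126, wtChk chevE7 a s = true :=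
  forall_forall_lt_of_blocks (wtChk chevE7) 7 126 63 2 (by norm_num) (by norm_num) (by
    intro a ha k hk
    interval_cases a <;> interval_cases k
    · exact wW_E7_0_0
    · exact wW_E7_0_1
    · exact wW_E7_1_0
    · exact wW_E7_1_1
    · exact wW_E7_2_0
    · exact wW_E7_2_1
    · exact wW_E7_3_0
    · exact wW_E7_3_1
    · exact wW_E7_4_0
    · exact wW_E7_4_1
    · exact wW_E7_5_0
    · exact wW_E7_5_1
    · exact wW_E7_6_0
    · exact wW_E7_6_1)

end Cfsg.Agent.Lead.Chev
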