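import Mathlib
import Cfsg.Agent.Lib.Lead.ChevWt
import Cfsg.Prelude.Def_ChevE8

set_option autoImplicit false

namespace Cfsg.Agent.Lead.Chev

open Cfsg Cfsg.Lie

theorem wRow_E8 : ∀ a < 8, rowOK chevE8 a = true := by decide +kernel

theorem wNeg_E8 : ∀ a < 8, negChk chevE8 a = true := by decide +kernel

theorem wW_E8_0_0 : (List.range' (60 * 0) 60).all (wtChk chevE8 0) = true := by decide +kernel
theorem wW_E8_0_1 : (List.range' (60 * 1) 60).all (wtChk chevE8 0) = true := by decide +kernel
theorem wW_E8_0_2 : (List.range' (60 * 2) 60).all (wtChk chevE8 0) = true := by decide +kernel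
theorem wW_E8_0_3 : (List.range' (60 * 3) 60).all (wtChk chevE8 0) = true := by decide +kernel
theorem wW_E8_1_0 : (List.range' (60 * 0) 60).all (wtChk chevE8 1) = true := by decide +kernel
theorem wW_E8_1_1 : (List.range' (60 * 1) 60).all (wtChk chevE8 1) = true := by decide +kernel
theorem wW_E8_1_2 : (List.range' (60 * 2) 60).all (wtChk chevE8 1) = true := by decide +kernel
theorem wW_E8_1_3 : (List.range' (60 * 3) 60).all (wtChk chevE8 1) = true := by decide +kernel
theorem wW_E8_2_0 : (List.range' (60 * 0) 60).all (wtChk chevE8 2) = true := by decide +kernel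
theorem wW_E8_2_1 : (List.range' (60 * 1) 60).all (wtChk chevE8 2) = true := by decide +kernel
theorem wW_E8_2_2 : (List.range' (60 * 2) 60).all (wtChk chevE8 2) = true := by decide +kernel
theorem wW_E8_2_3 : (List.range' (60 * 3) 60).all (wtChk chevE8 2) = true := by decide +kernel
theorem wW_E8_3_0 : (List.range' (60 * 0) 60).all (wtChk chevE8 3) = true := by decide +kernel
theorem wW_E8_3_1 : (List.range' (60 * 1) 60).all (wtChk chevE8 3) = true := by decide +kernel
theorem wW_E8_3_2 : (List.range' (60 * 2) 60).all (wtChk chevE8 3) = true := by decide +kernel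
theorem wW_E8_3_3 : (List.range' (60 * 3) 60).all (wtChk chevE8 3) = true := by decide +kernel
theorem wW_E8_4_0 : (List.range' (60 * 0) 60).all (wtChk chevE8 4) = true := by decide +kernel
theorem wW_E8_4_1 : (List.range' (60 * 1) 60).all (wtChk chevE8 4) = true := by decide +kernel
theorem wW_E8_4_2 : (List.range' (60 * 2) 60).all (wtChk chevE8 4) = true := by decide +kernel
theorem wW_E8_4_3 : (List.range' (60 * 3) 60).all (wtChk chevE8 4) = true := by decide +kernel
theorem wW_E8_5_0 : (List.range' (60 * 0) 60).all (wtChk chevE8 5) = true := by decide +kernel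
theorem wW_E8_5_1 : (List.range' (60 * 1) 60).all (wtChk chevE8 5) = true := by decide +kernel
theorem wW_E8_5_2 : (List.range' (60 * 2) 60).all (wtChk chevE8 5) = true := by decide +kernel
theorem wW_E8_5_3 : (List.range' (60 * 3) 60).all (wtChk chevE8 5) = true := by decide +kernel
theorem wW_E8_6_0 : (List.range' (60 * 0) 60).all (wtChk chevE8 6) = true := by decide +kernel
theorem wW_E8_6_1 : (List.range' (60 * 1) 60).all (wtChk chevE8 6) = true := by decide +kernel
theorem wW_E8_6_2 : (List.range' (60 * 2) 60).all (wtChk chevE8 6) = true := by decide +kernel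
theorem wW_E8_6_3 : (List.range' (60 * 3) 60).all (wtChk chevE8 6) = true := by decide +kernel
theorem wW_E8_7_0 : (List.range' (60 * 0) 60).all (wtChk chevE8 7) = true := by decide +kernel
theorem wW_E8_7_1 : (List.range' (60 * 1) 60).all (wtChk chevE8 7) = true := by decide +kernel
theorem wW_E8_7_2 : (List.range' (60 * 2) 60).all (wtChk chevE8 7) = true := by decide +kernel
theorem wW_E8_7_3 : (List.range' (60 * 3) 60).all (wtChk chevE8 7) = true := by decide +kernel

theorem wW_E8 : ∀ a < 8, ∀ s < 240, wtChk chevE8 a s = true :=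
  forall_forall_lt_of_blocks (wtChk chevE8) 8 240 60 4 (by norm_num) (by norm_num) (by
    intro a ha k hk
    interval_cases a <;> interval_cases k
    · exact wW_E8_0_0
    · exact wW_E8_0_1
    · exact wW_E8_0_2
    · exact wW_E8_0_3
    · exact wW_E8_1_0
    · exact wW_E8_1_1
    · exact wW_E8_1_2
    · exact wW_E8_1_3
    · exact wW_E8_2_0
    · exact wW_E8_2_1
    · exact wW_E8_2_2
    · exact wW_E8_2_3
    · exact wW_E8_3_0
    · exact wW_E8_3_1
    · exact wW_E8_3_2
    · exact wW_E8_3_3
    · exact wW_E8_4_0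
    · exact wW_E8_4_1
    · exact wW_E8_4_2
    · exact wW_E8_4_3
    · exact wW_E8_5_0
    · exact wW_E8_5_1
    · exact wW_E8_5_2
    · exact wW_E8_5_3
    · exact wW_E8_6_0
    · exact wW_E8_6_1
    · exact wW_E8_6_2
    · exact wW_E8_6_3
    · exact wW_E8_7_0
    · exact wW_E8_7_1
    · exact wW_E8_7_2
    · exact wW_E8_7_3)

end Cfsg.Agent.Lead.Chev
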