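import Mathlib
import Cfsg.Agent.Lib.Lead.ChevWt
import Cfsg.Prelude.Def_ChevF4

set_option autoImplicit false

namespace Cfsg.Agent.Lead.Chev

open Cfsg Cfsg.Lie

theorem wRow_F4 : ∀ a < 4, rowOK chevF4 a = true := by decide +kernel

theorem wNeg_F4 : ∀ a < 4, negChk chevF4 a = true := by decide +kernel

theorem wW_F4_0_0 : (List.range' (48 * 0) 48).all (wtChk chevF4 0) = true := by decide +kernel
theorem wW_F4_1_0 : (List.range' (48 * 0) 48).all (wtChk chevF4 1) = true := by decide +kernel
theorem wW_F4_2_0 : (List.range' (48 * 0) 48).all (wtChk chevF4 2) = true := by decide +kernel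
theorem wW_F4_3_0 : (List.range' (48 * 0) 48).all (wtChk chevF4 3) = true := by decide +kernel

theorem wW_F4 : ∀ a < 4, ∀ s < 48, wtChk chevF4 a s = true :=
  forall_forall_lt_of_blocks (wtChk chevF4) 4 48 48 1 (by norm_num) (by norm_num) (by
    intro a ha k hk
    interval_cases a <;> interval_cases k
    · exact wW_F4_0_0
    · exact wW_F4_1_0
    · exact wW_F4_2_0
    · exact wW_F4_3_0)

end Cfsg.Agent.Lead.Chev
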