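import Mathlib
import Cfsg.Agent.Lib.Lead.ChevH
import Cfsg.Prelude.Def_ChevB2

set_option autoImplicit false

namespace Cfsg.Agent.Lead.Chev

open Cfsg Cfsg.Lie

theorem hL_B2_0_0 : (List.range' (2 * 0) 2).all (hChkL chevB2 0) = true := by decide +kernel
theorem hL_B2_1_0 : (List.range' (2 * 0) 2).all (hChkL chevB2 1) = true := by decide +kernel

theorem hL_B2 : ∀ a < 2, ∀ s < 2, hChkL chevB2 a s = true :=
  forall_forall_lt_of_blocks (hChkL chevB2) 2 2 2 1 (by norm_num) (by norm_num) (by
    intro a ha k hk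
    interval_cases a <;> interval_cases k
    · exact hL_B2_0_0
    · exact hL_B2_1_0)

theorem hR_B2_0_0 : (List.range' (8 * 0) 8).all (hChkR chevB2 0) = true := by decide +kernel
theorem hR_B2_1_0 : (List.range' (8 * 0) 8).all (hChkR chevB2 1) = true := by decide +kernel

theorem hR_B2 : ∀ a < 2, ∀ s < 8, hChkR chevB2 a s = true :=
  forall_forall_lt_of_blocks (hChkR chevB2) 2 8 8 1 (by norm_num) (by norm_num) (by
    intro a ha k hk
    interval_cases a <;> interval_cases k
    · exact hR_B2_0_0
    · exact hR_B2_1_0)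

end Cfsg.Agent.Lead.Chev
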