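import Mathlib
import Cfsg.Agent.Lib.Lead.ChevH
import Cfsg.Prelude.Def_ChevD4

set_option autoImplicit false

namespace Cfsg.Agent.Lead.Chev

open Cfsg Cfsg.Lie

theorem hL_D4_0_0 : (List.range' (4 * 0) 4).all (hChkL chevD4 0) = true := by decide +kernel
theorem hL_D4_1_0 : (List.range' (4 * 0) 4).all (hChkL chevD4 1) = true := by decide +kernel
theorem hL_D4_2_0 : (List.range' (4 * 0) 4).all (hChkL chevD4 2) = true := by decide +kernel
theorem hL_D4_3_0 : (List.range' (4 * 0) 4).all (hChkL chevD4 3) = true := by decide +kernel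

theorem hL_D4 : ∀ a < 4, ∀ s < 4, hChkL chevD4 a s = true :=
  forall_forall_lt_of_blocks (hChkL chevD4) 4 4 4 1 (by norm_num) (by norm_num) (by
    intro a ha k hk
    interval_cases a <;> interval_cases k
    · exact hL_D4_0_0
    · exact hL_D4_1_0
    · exact hL_D4_2_0
    · exact hL_D4_3_0)

theorem hR_D4_0_0 : (List.range' (24 * 0) 24).all (hChkR chevD4 0) = true := by decide +kernel
theorem hR_D4_1_0 : (List.range' (24 * 0) 24).all (hChkR chevD4 1) = true := by decide +kernel
theorem hR_D4_2_0 : (List.range' (24 * 0) 24).all (hChkR chevD4 2) = true := by decide +kernel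
theorem hR_D4_3_0 : (List.range' (24 * 0) 24).all (hChkR chevD4 3) = true := by decide +kernel

theorem hR_D4 : ∀ a < 4, ∀ s < 24, hChkR chevD4 a s = true :=
  forall_forall_lt_of_blocks (hChkR chevD4) 4 24 24 1 (by norm_num) (by norm_num) (by
    intro a ha k hk
    interval_cases a <;> interval_cases k
    · exact hR_D4_0_0
    · exact hR_D4_1_0
    · exact hR_D4_2_0
    · exact hR_D4_3_0)

end Cfsg.Agent.Lead.Chev
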