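import Mathlib
import Cfsg.Agent.Lib.Lead.ChevH
import Cfsg.Prelude.Def_ChevE6

set_option autoImplicit false

namespace Cfsg.Agent.Lead.Chev

open Cfsg Cfsg.Lie

theorem hL_E6_0_0 : (List.range' (6 * 0) 6).all (hChkL chevE6 0) = true := by decide +kernel
theorem hL_E6_1_0 : (List.range' (6 * 0) 6).all (hChkL chevE6 1) = true := by decide +kernel
theorem hL_E6_2_0 : (List.range' (6 * 0) 6).all (hChkL chevE6 2) = true := by decide +kernel
theorem hL_E6_3_0 : (List.range' (6 * 0) 6).all (hChkL chevE6 3) = true := by decide +kernel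
theorem hL_E6_4_0 : (List.range' (6 * 0) 6).all (hChkL chevE6 4) = true := by decide +kernel
theorem hL_E6_5_0 : (List.range' (6 * 0) 6).all (hChkL chevE6 5) = true := by decide +kernel

theorem hL_E6 : ∀ a < 6, ∀ s < 6, hChkL chevE6 a s = true :=
  forall_forall_lt_of_blocks (hChkL chevE6) 6 6 6 1 (by norm_num) (by norm_num) (by
    intro a ha k hk
    interval_cases a <;> interval_cases k
    · exact hL_E6_0_0
    · exact hL_E6_1_0
    · exact hL_E6_2_0
    · exact hL_E6_3_0
    · exact hL_E6_4_0
    · exact hL_E6_5_0)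

theorem hR_E6_0_0 : (List.range' (36 * 0) 36).all (hChkR chevE6 0) = true := by decide +kernel
theorem hR_E6_0_1 : (List.range' (36 * 1) 36).all (hChkR chevE6 0) = true := by decide +kernel
theorem hR_E6_1_0 : (List.range' (36 * 0) 36).all (hChkR chevE6 1) = true := by decide +kernel
theorem hR_E6_1_1 : (List.range' (36 * 1) 36).all (hChkR chevE6 1) = true := by decide +kernel
theorem hR_E6_2_0 : (List.range' (36 * 0) 36).all (hChkR chevE6 2) = true := by decide +kernel
theorem hR_E6_2_1 : (List.range' (36 * 1) 36).all (hChkR chevE6 2) = true := by decide +kernel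
theorem hR_E6_3_0 : (List.range' (36 * 0) 36).all (hChkR chevE6 3) = true := by decide +kernel
theorem hR_E6_3_1 : (List.range' (36 * 1) 36).all (hChkR chevE6 3) = true := by decide +kernel
theorem hR_E6_4_0 : (List.range' (36 * 0) 36).all (hChkR chevE6 4) = true := by decide +kernel
theorem hR_E6_4_1 : (List.range' (36 * 1) 36).all (hChkR chevE6 4) = true := by decide +kernel
theorem hR_E6_5_0 : (List.range' (36 * 0) 36).all (hChkR chevE6 5) = true := by decide +kernel
theorem hR_E6_5_1 : (List.range' (36 * 1) 36).all (hChkR chevE6 5) = true := by decide +kernel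

theorem hR_E6 : ∀ a < 6, ∀ s < 72, hChkR chevE6 a s = true :=
  forall_forall_lt_of_blocks (hChkR chevE6) 6 72 36 2 (by norm_num) (by norm_num) (by
    intro a ha k hk
    interval_cases a <;> interval_cases k
    · exact hR_E6_0_0
    · exact hR_E6_0_1
    · exact hR_E6_1_0
    · exact hR_E6_1_1
    · exact hR_E6_2_0
    · exact hR_E6_2_1
    · exact hR_E6_3_0
    · exact hR_E6_3_1
    · exact hR_E6_4_0
    · exact hR_E6_4_1
    · exact hR_E6_5_0
    · exact hR_E6_5_1)

end Cfsg.Agent.Lead.Chev
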