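import Mathlib
import Cfsg.Agent.Lib.Lead.ChevH
import Cfsg.Prelude.Def_ChevE7

set_option autoImplicit false

namespace Cfsg.Agent.Lead.Chev

open Cfsg Cfsg.Lie

theorem hL_E7_0_0 : (List.range' (7 * 0) 7).all (hChkL chevE7 0) = true := by decide +kernel
theorem hL_E7_1_0 : (List.range' (7 * 0) 7).all (hChkL chevE7 1) = true := by decide +kernel
theorem hL_E7_2_0 : (List.range' (7 * 0) 7).all (hChkL chevE7 2) = true := by decide +kernel
theorem hL_E7_3_0 : (List.range' (7 * 0) 7).all (hChkL chevE7 3) = true := by decide +kernel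
theorem hL_E7_4_0 : (List.range' (7 * 0) 7).all (hChkL chevE7 4) = true := by decide +kernel
theorem hL_E7_5_0 : (List.range' (7 * 0) 7).all (hChkL chevE7 5) = true := by decide +kernel
theorem hL_E7_6_0 : (List.range' (7 * 0) 7).all (hChkL chevE7 6) = true := by decide +kernel

theorem hL_E7 : ∀ a < 7, ∀ s < 7, hChkL chevE7 a s = true :=
  forall_forall_lt_of_blocks (hChkL chevE7) 7 7 7 1 (by norm_num) (by norm_num) (by
    intro a ha k hk
    interval_cases a <;> interval_cases k
    · exact hL_E7_0_0
    · exact hL_E7_1_0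
    · exact hL_E7_2_0
    · exact hL_E7_3_0
    · exact hL_E7_4_0
    · exact hL_E7_5_0
    · exact hL_E7_6_0)

theorem hR_E7_0_0 : (List.range' (42 * 0) 42).all (hChkR chevE7 0) = true := by decide +kernel
theorem hR_E7_0_1 : (List.range' (42 * 1) 42).all (hChkR chevE7 0) = true := by decide +kernel
theorem hR_E7_0_2 : (List.range' (42 * 2) 42).all (hChkR chevE7 0) = true := by decide +kernel
theorem hR_E7_1_0 : (List.range' (42 * 0) 42).all (hChkR chevE7 1) = true := by decide +kernel
theorem hR_E7_1_1 : (List.range' (42 * 1) 42).all (hChkR chevE7 1) = true := by decide +kernel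
theorem hR_E7_1_2 : (List.range' (42 * 2) 42).all (hChkR chevE7 1) = true := by decide +kernel
theorem hR_E7_2_0 : (List.range' (42 * 0) 42).all (hChkR chevE7 2) = true := by decide +kernel
theorem hR_E7_2_1 : (List.range' (42 * 1) 42).all (hChkR chevE7 2) = true := by decide +kernel
theorem hR_E7_2_2 : (List.range' (42 * 2) 42).all (hChkR chevE7 2) = true := by decide +kernel
theorem hR_E7_3_0 : (List.range' (42 * 0) 42).all (hChkR chevE7 3) = true := by decide +kernel
theorem hR_E7_3_1 : (List.range' (42 * 1) 42).all (hChkR chevE7 3) = true := by decide +kernel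
theorem hR_E7_3_2 : (List.range' (42 * 2) 42).all (hChkR chevE7 3) = true := by decide +kernel
theorem hR_E7_4_0 : (List.range' (42 * 0) 42).all (hChkR chevE7 4) = true := by decide +kernel
theorem hR_E7_4_1 : (List.range' (42 * 1) 42).all (hChkR chevE7 4) = true := by decide +kernel
theorem hR_E7_4_2 : (List.range' (42 * 2) 42).all (hChkR chevE7 4) = true := by decide +kernel
theorem hR_E7_5_0 : (List.range' (42 * 0) 42).all (hChkR chevE7 5) = true := by decide +kernel
theorem hR_E7_5_1 : (List.range' (42 * 1) 42).all (hChkR chevE7 5) = true := by decide +kernel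
theorem hR_E7_5_2 : (List.range' (42 * 2) 42).all (hChkR chevE7 5) = true := by decide +kernel
theorem hR_E7_6_0 : (List.range' (42 * 0) 42).all (hChkR chevE7 6) = true := by decide +kernel
theorem hR_E7_6_1 : (List.range' (42 * 1) 42).all (hChkR chevE7 6) = true := by decide +kernel
theorem hR_E7_6_2 : (List.range' (42 * 2) 42).all (hChkR chevE7 6) = true := by decide +kernel

theorem hR_E7 : ∀ a < 7, ∀ s < 126, hChkR chevE7 a s = true :=
  forall_forall_lt_of_blocks (hChkR chevE7) 7 126 42 3 (by norm_num) (by norm_num) (by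
    intro a ha k hk
    interval_cases a <;> interval_cases k
    · exact hR_E7_0_0
    · exact hR_E7_0_1
    · exact hR_E7_0_2
    · exact hR_E7_1_0
    · exact hR_E7_1_1
    · exact hR_E7_1_2
    · exact hR_E7_2_0
    · exact hR_E7_2_1
    · exact hR_E7_2_2
    · exact hR_E7_3_0
    · exact hR_E7_3_1
    · exact hR_E7_3_2
    · exact hR_E7_4_0
    · exact hR_E7_4_1
    · exact hR_E7_4_2
    · exact hR_E7_5_0
    · exact hR_E7_5_1
    · exact hR_E7_5_2
    · exact hR_E7_6_0
    · exact hR_E7_6_1
    · exact hR_E7_6_2)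

end Cfsg.Agent.Lead.Chev
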