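import Mathlib
import Cfsg.Agent.Lib.Lead.ChevH
import Cfsg.Prelude.Def_ChevE8

set_option autoImplicit false

namespace Cfsg.Agent.Lead.Chev

open Cfsg Cfsg.Lie

theorem hL_E8_0_0 : (List.range' (8 * 0) 8).all (hChkL chevE8 0) = true := by decide +kernel
theorem hL_E8_1_0 : (List.range' (8 * 0) 8).all (hChkL chevE8 1) = true := by decide +kernel
theorem hL_E8_2_0 : (List.range' (8 * 0) 8).all (hChkL chevE8 2) = true := by decide +kernel
theorem hL_E8_3_0 : (List.range' (8 * 0) 8).all (hChkL chevE8 3) = true := by decide +kernel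
theorem hL_E8_4_0 : (List.range' (8 * 0) 8).all (hChkL chevE8 4) = true := by decide +kernel
theorem hL_E8_5_0 : (List.range' (8 * 0) 8).all (hChkL chevE8 5) = true := by decide +kernel
theorem hL_E8_6_0 : (List.range' (8 * 0) 8).all (hChkL chevE8 6) = true := by decide +kernel
theorem hL_E8_7_0 : (List.range' (8 * 0) 8).all (hChkL chevE8 7) = true := by decide +kernel

theorem hL_E8 : ∀ a < 8, ∀ s < 8, hChkL chevE8 a s = true :=
  forall_forall_lt_of_blocks (hChkL chevE8) 8 8 8 1 (by norm_num) (by norm_num) (by
    intro a ha k hk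
    interval_cases a <;> interval_cases k
    · exact hL_E8_0_0
    · exact hL_E8_1_0
    · exact hL_E8_2_0
    · exact hL_E8_3_0
    · exact hL_E8_4_0
    · exact hL_E8_5_0
    · exact hL_E8_6_0
    · exact hL_E8_7_0)

theorem hR_E8_0_0 : (List.range' (30 * 0) 30).all (hChkR chevE8 0) = true := by decide +kernel
theorem hR_E8_0_1 : (List.range' (30 * 1) 30).all (hChkR chevE8 0) = true := by decide +kernel
theorem hR_E8_0_2 : (List.range' (30 * 2) 30).all (hChkR chevE8 0) = true := by decide +kernel
theorem hR_E8_0_3 : (List.range' (30 * 3) 30).all (hChkR chevE8 0) = true := by decide +kernel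
theorem hR_E8_0_4 : (List.range' (30 * 4) 30).all (hChkR chevE8 0) = true := by decide +kernel
theorem hR_E8_0_5 : (List.range' (30 * 5) 30).all (hChkR chevE8 0) = true := by decide +kernel
theorem hR_E8_0_6 : (List.range' (30 * 6) 30).all (hChkR chevE8 0) = true := by decide +kernel
theorem hR_E8_0_7 : (List.range' (30 * 7) 30).all (hChkR chevE8 0) = true := by decide +kernel
theorem hR_E8_1_0 : (List.range' (30 * 0) 30).all (hChkR chevE8 1) = true := by decide +kernel
theorem hR_E8_1_1 : (List.range' (30 * 1) 30).all (hChkR chevE8 1) = true := by decide +kernel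
theorem hR_E8_1_2 : (List.range' (30 * 2) 30).all (hChkR chevE8 1) = true := by decide +kernel
theorem hR_E8_1_3 : (List.range' (30 * 3) 30).all (hChkR chevE8 1) = true := by decide +kernel
theorem hR_E8_1_4 : (List.range' (30 * 4) 30).all (hChkR chevE8 1) = true := by decide +kernel
theorem hR_E8_1_5 : (List.range' (30 * 5) 30).all (hChkR chevE8 1) = true := by decide +kernel
theorem hR_E8_1_6 : (List.range' (30 * 6) 30).all (hChkR chevE8 1) = true := by decide +kernel
theorem hR_E8_1_7 : (List.range' (30 * 7) 30).all (hChkR chevE8 1) = true := by decide +kernel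
theorem hR_E8_2_0 : (List.range' (30 * 0) 30).all (hChkR chevE8 2) = true := by decide +kernel
theorem hR_E8_2_1 : (List.range' (30 * 1) 30).all (hChkR chevE8 2) = true := by decide +kernel
theorem hR_E8_2_2 : (List.range' (30 * 2) 30).all (hChkR chevE8 2) = true := by decide +kernel
theorem hR_E8_2_3 : (List.range' (30 * 3) 30).all (hChkR chevE8 2) = true := by decide +kernel
theorem hR_E8_2_4 : (List.range' (30 * 4) 30).all (hChkR chevE8 2) = true := by decide +kernel
theorem hR_E8_2_5 : (List.range' (30 * 5) 30).all (hChkR chevE8 2) = true := by decide +kernel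
theorem hR_E8_2_6 : (List.range' (30 * 6) 30).all (hChkR chevE8 2) = true := by decide +kernel
theorem hR_E8_2_7 : (List.range' (30 * 7) 30).all (hChkR chevE8 2) = true := by decide +kernel
theorem hR_E8_3_0 : (List.range' (30 * 0) 30).all (hChkR chevE8 3) = true := by decide +kernel
theorem hR_E8_3_1 : (List.range' (30 * 1) 30).all (hChkR chevE8 3) = true := by decide +kernel
theorem hR_E8_3_2 : (List.range' (30 * 2) 30).all (hChkR chevE8 3) = true := by decide +kernel
theorem hR_E8_3_3 : (List.range' (30 * 3) 30).all (hChkR chevE8 3) = true := by decide +kernel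
theorem hR_E8_3_4 : (List.range' (30 * 4) 30).all (hChkR chevE8 3) = true := by decide +kernel
theorem hR_E8_3_5 : (List.range' (30 * 5) 30).all (hChkR chevE8 3) = true := by decide +kernel
theorem hR_E8_3_6 : (List.range' (30 * 6) 30).all (hChkR chevE8 3) = true := by decide +kernel
theorem hR_E8_3_7 : (List.range' (30 * 7) 30).all (hChkR chevE8 3) = true := by decide +kernel
theorem hR_E8_4_0 : (List.range' (30 * 0) 30).all (hChkR chevE8 4) = true := by decide +kernel
theorem hR_E8_4_1 : (List.range' (30 * 1) 30).all (hChkR chevE8 4) = true := by decide +kernel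
theorem hR_E8_4_2 : (List.range' (30 * 2) 30).all (hChkR chevE8 4) = true := by decide +kernel
theorem hR_E8_4_3 : (List.range' (30 * 3) 30).all (hChkR chevE8 4) = true := by decide +kernel
theorem hR_E8_4_4 : (List.range' (30 * 4) 30).all (hChkR chevE8 4) = true := by decide +kernel
theorem hR_E8_4_5 : (List.range' (30 * 5) 30).all (hChkR chevE8 4) = true := by decide +kernel
theorem hR_E8_4_6 : (List.range' (30 * 6) 30).all (hChkR chevE8 4) = true := by decide +kernel
theorem hR_E8_4_7 : (List.range' (30 * 7) 30).all (hChkR chevE8 4) = true := by decide +kernel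
theorem hR_E8_5_0 : (List.range' (30 * 0) 30).all (hChkR chevE8 5) = true := by decide +kernel
theorem hR_E8_5_1 : (List.range' (30 * 1) 30).all (hChkR chevE8 5) = true := by decide +kernel
theorem hR_E8_5_2 : (List.range' (30 * 2) 30).all (hChkR chevE8 5) = true := by decide +kernel
theorem hR_E8_5_3 : (List.range' (30 * 3) 30).all (hChkR chevE8 5) = true := by decide +kernel
theorem hR_E8_5_4 : (List.range' (30 * 4) 30).all (hChkR chevE8 5) = true := by decide +kernel
theorem hR_E8_5_5 : (List.range' (30 * 5) 30).all (hChkR chevE8 5) = true := by decide +kernel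
theorem hR_E8_5_6 : (List.range' (30 * 6) 30).all (hChkR chevE8 5) = true := by decide +kernel
theorem hR_E8_5_7 : (List.range' (30 * 7) 30).all (hChkR chevE8 5) = true := by decide +kernel
theorem hR_E8_6_0 : (List.range' (30 * 0) 30).all (hChkR chevE8 6) = true := by decide +kernel
theorem hR_E8_6_1 : (List.range' (30 * 1) 30).all (hChkR chevE8 6) = true := by decide +kernel
theorem hR_E8_6_2 : (List.range' (30 * 2) 30).all (hChkR chevE8 6) = true := by decide +kernel
theorem hR_E8_6_3 : (List.range' (30 * 3) 30).all (hChkR chevE8 6) = true := by decide +kernel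
theorem hR_E8_6_4 : (List.range' (30 * 4) 30).all (hChkR chevE8 6) = true := by decide +kernel
theorem hR_E8_6_5 : (List.range' (30 * 5) 30).all (hChkR chevE8 6) = true := by decide +kernel
theorem hR_E8_6_6 : (List.range' (30 * 6) 30).all (hChkR chevE8 6) = true := by decide +kernel
theorem hR_E8_6_7 : (List.range' (30 * 7) 30).all (hChkR chevE8 6) = true := by decide +kernel
theorem hR_E8_7_0 : (List.range' (30 * 0) 30).all (hChkR chevE8 7) = true := by decide +kernel
theorem hR_E8_7_1 : (List.range' (30 * 1) 30).all (hChkR chevE8 7) = true := by decide +kernel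
theorem hR_E8_7_2 : (List.range' (30 * 2) 30).all (hChkR chevE8 7) = true := by decide +kernel
theorem hR_E8_7_3 : (List.range' (30 * 3) 30).all (hChkR chevE8 7) = true := by decide +kernel
theorem hR_E8_7_4 : (List.range' (30 * 4) 30).all (hChkR chevE8 7) = true := by decide +kernel
theorem hR_E8_7_5 : (List.range' (30 * 5) 30).all (hChkR chevE8 7) = true := by decide +kernel
theorem hR_E8_7_6 : (List.range' (30 * 6) 30).all (hChkR chevE8 7) = true := by decide +kernel
theorem hR_E8_7_7 : (List.range' (30 * 7) 30).all (hChkR chevE8 7) = true := by decide +kernel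

theorem hR_E8 : ∀ a < 8, ∀ s < 240, hChkR chevE8 a s = true :=
  forall_forall_lt_of_blocks (hChkR chevE8) 8 240 30 8 (by norm_num) (by norm_num) (by
    intro a ha k hk
    interval_cases a <;> interval_cases k
    · exact hR_E8_0_0
    · exact hR_E8_0_1
    · exact hR_E8_0_2
    · exact hR_E8_0_3
    · exact hR_E8_0_4
    · exact hR_E8_0_5
    · exact hR_E8_0_6
    · exact hR_E8_0_7
    · exact hR_E8_1_0
    · exact hR_E8_1_1
    · exact hR_E8_1_2
    · exact hR_E8_1_3
    · exact hR_E8_1_4
    · exact hR_E8_1_5
    · exact hR_E8_1_6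
    · exact hR_E8_1_7
    · exact hR_E8_2_0
    · exact hR_E8_2_1
    · exact hR_E8_2_2
    · exact hR_E8_2_3
    · exact hR_E8_2_4
    · exact hR_E8_2_5
    · exact hR_E8_2_6
    · exact hR_E8_2_7
    · exact hR_E8_3_0
    · exact hR_E8_3_1
    · exact hR_E8_3_2
    · exact hR_E8_3_3
    · exact hR_E8_3_4
    · exact hR_E8_3_5
    · exact hR_E8_3_6
    · exact hR_E8_3_7
    · exact hR_E8_4_0
    · exact hR_E8_4_1
    · exact hR_E8_4_2
    · exact hR_E8_4_3
    · exact hR_E8_4_4
    · exact hR_E8_4_5
    · exact hR_E8_4_6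
    · exact hR_E8_4_7
    · exact hR_E8_5_0
    · exact hR_E8_5_1
    · exact hR_E8_5_2
    · exact hR_E8_5_3
    · exact hR_E8_5_4
    · exact hR_E8_5_5
    · exact hR_E8_5_6
    · exact hR_E8_5_7
    · exact hR_E8_6_0
    · exact hR_E8_6_1
    · exact hR_E8_6_2
    · exact hR_E8_6_3
    · exact hR_E8_6_4
    · exact hR_E8_6_5
    · exact hR_E8_6_6
    · exact hR_E8_6_7
    · exact hR_E8_7_0
    · exact hR_E8_7_1
    · exact hR_E8_7_2
    · exact hR_E8_7_3
    · exact hR_E8_7_4
    · exact hR_E8_7_5
    · exact hR_E8_7_6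
    · exact hR_E8_7_7)

end Cfsg.Agent.Lead.Chev
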