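import Mathlib
import Cfsg.Agent.S1033
import Cfsg.Agent.Lib.Lead.ChevHDiag
import Cfsg.Agent.Lib.Lead.ChevDiagGroup
import Cfsg.Agent.Lib.Lead.ChevBorel
import Cfsg.Agent.Lib.Lead.ChevExp_G2
import Cfsg.Agent.Lib.Lead.ChevExp_B2
import Cfsg.Agent.Lib.Lead.ChevExp_D4
import Cfsg.Agent.Lib.Lead.ChevExp_F4
import Cfsg.Agent.Lib.Lead.ChevExp_E6
import Cfsg.Agent.Lib.Lead.ChevExp_E7
import Cfsg.Agent.Lib.Lead.ChevExp_E8
import Cfsg.Agent.Lib.Lead.ChevWt_G2
import Cfsg.Agent.Lib.Lead.ChevWt_B2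
import Cfsg.Agent.Lib.Lead.ChevWt_D4
import Cfsg.Agent.Lib.Lead.ChevWt_F4
import Cfsg.Agent.Lib.Lead.ChevWt_E6
import Cfsg.Agent.Lib.Lead.ChevWt_E7
import Cfsg.Agent.Lib.Lead.ChevWt_E8

/-!
For the seven tabulated data: `HSimple` (S1033), the identity `chainExp = corSum`, and `HAll`.
-/

set_option autoImplicit false

namespace Cfsg.Agent.Lead.Chev

open Cfsg Cfsg.Lie

theorem hSimple_of_mem {F : Type*} [Field F] (D : ChevalleyDatum)
    (hD : D ∈ [chevG2, chevB2, chevD4, chevF4, chevE6, chevE7, chevE8]) : HSimple D F :=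
  fun i hi c hc => Cfsg.Agent.S1033.result D hD i hi c hc

theorem rowOK_of_mem (D : ChevalleyDatum)
    (hD : D ∈ [chevG2, chevB2, chevD4, chevF4, chevE6, chevE7, chevE8]) :
    ∀ i < D.rank, rowOK D i = true := by
  simp only [List.mem_cons, List.mem_nil_iff, or_false] at hD
  rcases hD with rfl | rfl | rfl | rfl | rfl | rfl | rfl
  · exact wRow_G2
  · exact wRow_B2
  · exact wRow_D4
  · exact wRow_F4
  · exact wRow_E6
  · exact wRow_E7
  · exact wRow_E8

theorem chainExp_eq_corSum (D : ChevalleyDatum)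
    (hD : D ∈ [chevG2, chevB2, chevD4, chevF4, chevE6, chevE7, chevE8]) (r : ℕ) (hr : r < D.nroots)
    (v : ℕ) (hv : v < D.nroots) : chainExp D r v = corSum D r v := by
  have hrow := rowOK_of_mem D hD
  simp only [List.mem_cons, List.mem_nil_iff, or_false] at hD
  rcases hD with rfl | rfl | rfl | rfl | rfl | rfl | rfl
  · exact corSum_eq_of_expChk _ hrow r (expOK_G2 0 (by norm_num) r hr) v hv
  · exact corSum_eq_of_expChk _ hrow r (expOK_B2 0 (by norm_num) r hr) v hv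
  · exact corSum_eq_of_expChk _ hrow r (expOK_D4 0 (by norm_num) r hr) v hv
  · exact corSum_eq_of_expChk _ hrow r (expOK_F4 0 (by norm_num) r hr) v hv
  · exact corSum_eq_of_expChk _ hrow r (expOK_E6 0 (by norm_num) r hr) v hv
  · exact corSum_eq_of_expChk _ hrow r (expOK_E7 0 (by norm_num) r hr) v hv
  · exact corSum_eq_of_expChk _ hrow r (expOK_E8 0 (by norm_num) r hr) v hv

theorem hAll_of_mem {F : Type*} [Field F] (D : ChevalleyDatum)
    (hD : D ∈ [chevG2, chevB2, chevD4, chevF4, chevE6, chevE7, chevE8]) : HAll D F := by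
  intro r hr c hc
  rw [hMat_diag D hD r hr c hc]
  congr 1
  funext idx
  rcases idx with j | v
  · rfl
  · simp only [Sum.elim_inr]
    rw [chainExp_eq_corSum D hD r hr v.val v.2]

theorem hConj_of_mem {F : Type*} [Field F] (D : ChevalleyDatum)
    (hD : D ∈ [chevG2, chevB2, chevD4, chevF4, chevE6, chevE7, chevE8]) : HConj D F := by
  intro i hi s hs c hc t
  simp only [List.mem_cons, List.mem_nil_iff, or_false] at hD
  rcases hD with rfl | rfl | rfl | rfl | rfl | rfl | rfl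
  · exact diag_conj_x _ i (wRow_G2 i hi) (wNeg_G2 i hi) s hs (wW_G2 i hi s hs) c hc t
  · exact diag_conj_x _ i (wRow_B2 i hi) (wNeg_B2 i hi) s hs (wW_B2 i hi s hs) c hc t
  · exact diag_conj_x _ i (wRow_D4 i hi) (wNeg_D4 i hi) s hs (wW_D4 i hi s hs) c hc t
  · exact diag_conj_x _ i (wRow_F4 i hi) (wNeg_F4 i hi) s hs (wW_F4 i hi s hs) c hc t
  · exact diag_conj_x _ i (wRow_E6 i hi) (wNeg_E6 i hi) s hs (wW_E6 i hi s hs) c hc t
  · exact diag_conj_x _ i (wRow_E7 i hi) (wNeg_E7 i hi) s hs (wW_E7 i hi s hs) c hc t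
  · exact diag_conj_x _ i (wRow_E8 i hi) (wNeg_E8 i hi) s hs (wW_E8 i hi s hs) c hc t

end Cfsg.Agent.Lead.Chev
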