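import Mathlib
import Cfsg.Agent.Lib.Lead.ChevN
import Cfsg.Prelude.Def_ChevB2

set_option autoImplicit false

namespace Cfsg.Agent.Lead.Chev

open Cfsg Cfsg.Lie

/-- sign masks of `n_p` for the fundamental roots -/
def nMasks_B2 : List ℕ := [255, 90]

theorem nP_B2 : ∀ a < 2, nChkP chevB2 nMasks_B2 a = true := by decide +kernel

theorem nL_B2_0_0 : (List.range' (2 * 0) 2).all (nChkL chevB2 0) = true := by decide +kernel
theorem nL_B2_1_0 : (List.range' (2 * 0) 2).all (nChkL chevB2 1) = true := by decide +kernel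

theorem nL_B2 : ∀ a < 2, ∀ s < 2, nChkL chevB2 a s = true :=
  forall_forall_lt_of_blocks (nChkL chevB2) 2 2 2 1 (by norm_num) (by norm_num) (by
    intro a ha k hk
    interval_cases a <;> interval_cases k
    · exact nL_B2_0_0
    · exact nL_B2_1_0)

theorem nR_B2_0_0 : (List.range' (8 * 0) 8).all (nChkR chevB2 nMasks_B2 0) = true := by decide +kernel
theorem nR_B2_1_0 : (List.range' (8 * 0) 8).all (nChkR chevB2 nMasks_B2 1) = true := by decide +kernel

theorem nR_B2 : ∀ a < 2, ∀ s < 8, nChkR chevB2 nMasks_B2 a s = true :=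
  forall_forall_lt_of_blocks (nChkR chevB2 nMasks_B2) 2 8 8 1 (by norm_num) (by norm_num) (by
    intro a ha k hk
    interval_cases a <;> interval_cases k
    · exact nR_B2_0_0
    · exact nR_B2_1_0)

end Cfsg.Agent.Lead.Chev
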