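import Mathlib
import Cfsg.Agent.Lib.Lead.ChevN
import Cfsg.Prelude.Def_ChevD4

set_option autoImplicit false

namespace Cfsg.Agent.Lead.Chev

open Cfsg Cfsg.Lie

/-- sign masks of `n_p` for the fundamental roots -/
def nMasks_D4 : List ℕ := [508896, 8945169, 6497478, 5413194]

theorem nP_D4 : ∀ a < 4, nChkP chevD4 nMasks_D4 a = true := by decide +kernel

theorem nL_D4_0_0 : (List.range' (4 * 0) 4).all (nChkL chevD4 0) = true := by decide +kernel
theorem nL_D4_1_0 : (List.range' (4 * 0) 4).all (nChkL chevD4 1) = true := by decide +kernel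
theorem nL_D4_2_0 : (List.range' (4 * 0) 4).all (nChkL chevD4 2) = true := by decide +kernel
theorem nL_D4_3_0 : (List.range' (4 * 0) 4).all (nChkL chevD4 3) = true := by decide +kernel

theorem nL_D4 : ∀ a < 4, ∀ s < 4, nChkL chevD4 a s = true :=
  forall_forall_lt_of_blocks (nChkL chevD4) 4 4 4 1 (by norm_num) (by norm_num) (by
    intro a ha k hk
    interval_cases a <;> interval_cases k
    · exact nL_D4_0_0
    · exact nL_D4_1_0
    · exact nL_D4_2_0
    · exact nL_D4_3_0)

theorem nR_D4_0_0 : (List.range' (24 * 0) 24).all (nChkR chevD4 nMasks_D4 0) = true := by decide +kernel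
theorem nR_D4_1_0 : (List.range' (24 * 0) 24).all (nChkR chevD4 nMasks_D4 1) = true := by decide +kernel
theorem nR_D4_2_0 : (List.range' (24 * 0) 24).all (nChkR chevD4 nMasks_D4 2) = true := by decide +kernel
theorem nR_D4_3_0 : (List.range' (24 * 0) 24).all (nChkR chevD4 nMasks_D4 3) = true := by decide +kernel

theorem nR_D4 : ∀ a < 4, ∀ s < 24, nChkR chevD4 nMasks_D4 a s = true :=
  forall_forall_lt_of_blocks (nChkR chevD4 nMasks_D4) 4 24 24 1 (by norm_num) (by norm_num) (by
    intro a ha k hk
    interval_cases a <;> interval_cases k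
    · exact nR_D4_0_0
    · exact nR_D4_1_0
    · exact nR_D4_2_0
    · exact nR_D4_3_0)

end Cfsg.Agent.Lead.Chev
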