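import Mathlib
import Cfsg.Agent.Lib.Lead.ChevN
import Cfsg.Prelude.Def_ChevE7

set_option autoImplicit false

namespace Cfsg.Agent.Lead.Chev

open Cfsg Cfsg.Lie

/-- sign masks of `n_p` for the fundamental roots -/
def nMasks_E7 : List ℕ := [42535295884914969941661665728038699009, 9969219475911752942880135688992325752, 21308537290271745760265171479237359618, 10924663619488793363045094406352799492, 5665040612189914454778297062204911752, 2847024252714933557071685096178878736, 1425493702456110909934783426152649248]

theorem nP_E7 : ∀ a < 7, nChkP chevE7 nMasks_E7 a = true := by decide +kernel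

theorem nL_E7_0_0 : (List.range' (7 * 0) 7).all (nChkL chevE7 0) = true := by decide +kernel
theorem nL_E7_1_0 : (List.range' (7 * 0) 7).all (nChkL chevE7 1) = true := by decide +kernel
theorem nL_E7_2_0 : (List.range' (7 * 0) 7).all (nChkL chevE7 2) = true := by decide +kernel
theorem nL_E7_3_0 : (List.range' (7 * 0) 7).all (nChkL chevE7 3) = true := by decide +kernel
theorem nL_E7_4_0 : (List.range' (7 * 0) 7).all (nChkL chevE7 4) = true := by decide +kernel
theorem nL_E7_5_0 : (List.range' (7 * 0) 7).all (nChkL chevE7 5) = true := by decide +kernel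
theorem nL_E7_6_0 : (List.range' (7 * 0) 7).all (nChkL chevE7 6) = true := by decide +kernel

theorem nL_E7 : ∀ a < 7, ∀ s < 7, nChkL chevE7 a s = true :=
  forall_forall_lt_of_blocks (nChkL chevE7) 7 7 7 1 (by norm_num) (by norm_num) (by
    intro a ha k hk
    interval_cases a <;> interval_cases k
    · exact nL_E7_0_0
    · exact nL_E7_1_0
    · exact nL_E7_2_0
    · exact nL_E7_3_0
    · exact nL_E7_4_0
    · exact nL_E7_5_0
    · exact nL_E7_6_0)

theorem nR_E7_0_0 : (List.range' (42 * 0) 42).all (nChkR chevE7 nMasks_E7 0) = true := by decide +kernel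
theorem nR_E7_0_1 : (List.range' (42 * 1) 42).all (nChkR chevE7 nMasks_E7 0) = true := by decide +kernel
theorem nR_E7_0_2 : (List.range' (42 * 2) 42).all (nChkR chevE7 nMasks_E7 0) = true := by decide +kernel
theorem nR_E7_1_0 : (List.range' (42 * 0) 42).all (nChkR chevE7 nMasks_E7 1) = true := by decide +kernel
theorem nR_E7_1_1 : (List.range' (42 * 1) 42).all (nChkR chevE7 nMasks_E7 1) = true := by decide +kernel
theorem nR_E7_1_2 : (List.range' (42 * 2) 42).all (nChkR chevE7 nMasks_E7 1) = true := by decide +kernel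
theorem nR_E7_2_0 : (List.range' (42 * 0) 42).all (nChkR chevE7 nMasks_E7 2) = true := by decide +kernel
theorem nR_E7_2_1 : (List.range' (42 * 1) 42).all (nChkR chevE7 nMasks_E7 2) = true := by decide +kernel
theorem nR_E7_2_2 : (List.range' (42 * 2) 42).all (nChkR chevE7 nMasks_E7 2) = true := by decide +kernel
theorem nR_E7_3_0 : (List.range' (42 * 0) 42).all (nChkR chevE7 nMasks_E7 3) = true := by decide +kernel
theorem nR_E7_3_1 : (List.range' (42 * 1) 42).all (nChkR chevE7 nMasks_E7 3) = true := by decide +kernel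
theorem nR_E7_3_2 : (List.range' (42 * 2) 42).all (nChkR chevE7 nMasks_E7 3) = true := by decide +kernel
theorem nR_E7_4_0 : (List.range' (42 * 0) 42).all (nChkR chevE7 nMasks_E7 4) = true := by decide +kernel
theorem nR_E7_4_1 : (List.range' (42 * 1) 42).all (nChkR chevE7 nMasks_E7 4) = true := by decide +kernel
theorem nR_E7_4_2 : (List.range' (42 * 2) 42).all (nChkR chevE7 nMasks_E7 4) = true := by decide +kernel
theorem nR_E7_5_0 : (List.range' (42 * 0) 42).all (nChkR chevE7 nMasks_E7 5) = true := by decide +kernel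
theorem nR_E7_5_1 : (List.range' (42 * 1) 42).all (nChkR chevE7 nMasks_E7 5) = true := by decide +kernel
theorem nR_E7_5_2 : (List.range' (42 * 2) 42).all (nChkR chevE7 nMasks_E7 5) = true := by decide +kernel
theorem nR_E7_6_0 : (List.range' (42 * 0) 42).all (nChkR chevE7 nMasks_E7 6) = true := by decide +kernel
theorem nR_E7_6_1 : (List.range' (42 * 1) 42).all (nChkR chevE7 nMasks_E7 6) = true := by decide +kernel
theorem nR_E7_6_2 : (List.range' (42 * 2) 42).all (nChkR chevE7 nMasks_E7 6) = true := by decide +kernel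

theorem nR_E7 : ∀ a < 7, ∀ s < 126, nChkR chevE7 nMasks_E7 a s = true :=
  forall_forall_lt_of_blocks (nChkR chevE7 nMasks_E7) 7 126 42 3 (by norm_num) (by norm_num) (by
    intro a ha k hk
    interval_cases a <;> interval_cases k
    · exact nR_E7_0_0
    · exact nR_E7_0_1
    · exact nR_E7_0_2
    · exact nR_E7_1_0
    · exact nR_E7_1_1
    · exact nR_E7_1_2
    · exact nR_E7_2_0
    · exact nR_E7_2_1
    · exact nR_E7_2_2
    · exact nR_E7_3_0
    · exact nR_E7_3_1
    · exact nR_E7_3_2
    · exact nR_E7_4_0
    · exact nR_E7_4_1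
    · exact nR_E7_4_2
    · exact nR_E7_5_0
    · exact nR_E7_5_1
    · exact nR_E7_5_2
    · exact nR_E7_6_0
    · exact nR_E7_6_1
    · exact nR_E7_6_2)

end Cfsg.Agent.Lead.Chev
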