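import Mathlib
import Cfsg.Agent.Lib.Lead.ChevRefl
import Cfsg.Agent.Lib.Lead.ChevN_E7

set_option autoImplicit false

namespace Cfsg.Agent.Lead.Chev

open Cfsg Cfsg.Lie

theorem nxOK_E7_0_0 : (List.range' (1 * 0) 1).all ((fun i k => nxChk chevE7 nMasks_E7 i 63 k) 0) = true := by decide +kernel
theorem nxOK_E7_0_1 : (List.range' (1 * 1) 1).all ((fun i k => nxChk chevE7 nMasks_E7 i 63 k) 0) = true := by decide +kernel
theorem nxOK_E7_1_0 : (List.range' (1 * 0) 1).all ((fun i k => nxChk chevE7 nMasks_E7 i 63 k) 1) = true := by decide +kernel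
theorem nxOK_E7_1_1 : (List.range' (1 * 1) 1).all ((fun i k => nxChk chevE7 nMasks_E7 i 63 k) 1) = true := by decide +kernel
theorem nxOK_E7_2_0 : (List.range' (1 * 0) 1).all ((fun i k => nxChk chevE7 nMasks_E7 i 63 k) 2) = true := by decide +kernel
theorem nxOK_E7_2_1 : (List.range' (1 * 1) 1).all ((fun i k => nxChk chevE7 nMasks_E7 i 63 k) 2) = true := by decide +kernel
theorem nxOK_E7_3_0 : (List.range' (1 * 0) 1).all ((fun i k => nxChk chevE7 nMasks_E7 i 63 k) 3) = true := by decide +kernel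
theorem nxOK_E7_3_1 : (List.range' (1 * 1) 1).all ((fun i k => nxChk chevE7 nMasks_E7 i 63 k) 3) = true := by decide +kernel
theorem nxOK_E7_4_0 : (List.range' (1 * 0) 1).all ((fun i k => nxChk chevE7 nMasks_E7 i 63 k) 4) = true := by decide +kernel
theorem nxOK_E7_4_1 : (List.range' (1 * 1) 1).all ((fun i k => nxChk chevE7 nMasks_E7 i 63 k) 4) = true := by decide +kernel
theorem nxOK_E7_5_0 : (List.range' (1 * 0) 1).all ((fun i k => nxChk chevE7 nMasks_E7 i 63 k) 5) = true := by decide +kernel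
theorem nxOK_E7_5_1 : (List.range' (1 * 1) 1).all ((fun i k => nxChk chevE7 nMasks_E7 i 63 k) 5) = true := by decide +kernel
theorem nxOK_E7_6_0 : (List.range' (1 * 0) 1).all ((fun i k => nxChk chevE7 nMasks_E7 i 63 k) 6) = true := by decide +kernel
theorem nxOK_E7_6_1 : (List.range' (1 * 1) 1).all ((fun i k => nxChk chevE7 nMasks_E7 i 63 k) 6) = true := by decide +kernel

theorem nxOK_E7 : ∀ a < 7, ∀ s < 2, (fun i k => nxChk chevE7 nMasks_E7 i 63 k) a s = true :=
  forall_forall_lt_of_blocks ((fun i k => nxChk chevE7 nMasks_E7 i 63 k)) 7 2 1 2 (by norm_num) (by norm_num) (by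
    intro a ha k hk
    interval_cases a <;> interval_cases k
    · exact nxOK_E7_0_0
    · exact nxOK_E7_0_1
    · exact nxOK_E7_1_0
    · exact nxOK_E7_1_1
    · exact nxOK_E7_2_0
    · exact nxOK_E7_2_1
    · exact nxOK_E7_3_0
    · exact nxOK_E7_3_1
    · exact nxOK_E7_4_0
    · exact nxOK_E7_4_1
    · exact nxOK_E7_5_0
    · exact nxOK_E7_5_1
    · exact nxOK_E7_6_0
    · exact nxOK_E7_6_1)

end Cfsg.Agent.Lead.Chev
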