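import Mathlib
import Cfsg.Agent.Lib.Lead.ChevN
import Cfsg.Prelude.Def_ChevE8

set_option autoImplicit false

namespace Cfsg.Agent.Lead.Chev

open Cfsg Cfsg.Lie

/-- sign masks of `n_p` for the fundamental roots -/
def nMasks_E8 : List ℕ := [20597399253703088803137291363919720476649811351842022074600809197223744, 41464424276439592458547658795802407934099191135292454134463122888474720, 34534849182311705006499453394853494570293073576682290393498244893048992, 58692198817062529918959764646698662451337801727423465191247917552271632, 112167290887630127568134548647500768953880284869065220113818780602270216, 221725565796465234069846255712747878990393484658275795028023269379933188, 442146608110382968443535400616058046441516637287510334612417353510815746, 883640953424295284539211242083837250739230978062844892341602038697168897]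

theorem nP_E8 : ∀ a < 8, nChkP chevE8 nMasks_E8 a = true := by decide +kernel

theorem nL_E8_0_0 : (List.range' (8 * 0) 8).all (nChkL chevE8 0) = true := by decide +kernel
theorem nL_E8_1_0 : (List.range' (8 * 0) 8).all (nChkL chevE8 1) = true := by decide +kernel
theorem nL_E8_2_0 : (List.range' (8 * 0) 8).all (nChkL chevE8 2) = true := by decide +kernel
theorem nL_E8_3_0 : (List.range' (8 * 0) 8).all (nChkL chevE8 3) = true := by decide +kernel
theorem nL_E8_4_0 : (List.range' (8 * 0) 8).all (nChkL chevE8 4) = true := by decide +kernel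
theorem nL_E8_5_0 : (List.range' (8 * 0) 8).all (nChkL chevE8 5) = true := by decide +kernel
theorem nL_E8_6_0 : (List.range' (8 * 0) 8).all (nChkL chevE8 6) = true := by decide +kernel
theorem nL_E8_7_0 : (List.range' (8 * 0) 8).all (nChkL chevE8 7) = true := by decide +kernel

theorem nL_E8 : ∀ a < 8, ∀ s < 8, nChkL chevE8 a s = true :=
  forall_forall_lt_of_blocks (nChkL chevE8) 8 8 8 1 (by norm_num) (by norm_num) (by
    intro a ha k hk
    interval_cases a <;> interval_cases k
    · exact nL_E8_0_0
    · exact nL_E8_1_0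
    · exact nL_E8_2_0
    · exact nL_E8_3_0
    · exact nL_E8_4_0
    · exact nL_E8_5_0
    · exact nL_E8_6_0
    · exact nL_E8_7_0)

theorem nR_E8_0_0 : (List.range' (30 * 0) 30).all (nChkR chevE8 nMasks_E8 0) = true := by decide +kernel
theorem nR_E8_0_1 : (List.range' (30 * 1) 30).all (nChkR chevE8 nMasks_E8 0) = true := by decide +kernel
theorem nR_E8_0_2 : (List.range' (30 * 2) 30).all (nChkR chevE8 nMasks_E8 0) = true := by decide +kernel
theorem nR_E8_0_3 : (List.range' (30 * 3) 30).all (nChkR chevE8 nMasks_E8 0) = true := by decide +kernel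
theorem nR_E8_0_4 : (List.range' (30 * 4) 30).all (nChkR chevE8 nMasks_E8 0) = true := by decide +kernel
theorem nR_E8_0_5 : (List.range' (30 * 5) 30).all (nChkR chevE8 nMasks_E8 0) = true := by decide +kernel
theorem nR_E8_0_6 : (List.range' (30 * 6) 30).all (nChkR chevE8 nMasks_E8 0) = true := by decide +kernel
theorem nR_E8_0_7 : (List.range' (30 * 7) 30).all (nChkR chevE8 nMasks_E8 0) = true := by decide +kernel
theorem nR_E8_1_0 : (List.range' (30 * 0) 30).all (nChkR chevE8 nMasks_E8 1) = true := by decide +kernel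
theorem nR_E8_1_1 : (List.range' (30 * 1) 30).all (nChkR chevE8 nMasks_E8 1) = true := by decide +kernel
theorem nR_E8_1_2 : (List.range' (30 * 2) 30).all (nChkR chevE8 nMasks_E8 1) = true := by decide +kernel
theorem nR_E8_1_3 : (List.range' (30 * 3) 30).all (nChkR chevE8 nMasks_E8 1) = true := by decide +kernel
theorem nR_E8_1_4 : (List.range' (30 * 4) 30).all (nChkR chevE8 nMasks_E8 1) = true := by decide +kernel
theorem nR_E8_1_5 : (List.range' (30 * 5) 30).all (nChkR chevE8 nMasks_E8 1) = true := by decide +kernel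
theorem nR_E8_1_6 : (List.range' (30 * 6) 30).all (nChkR chevE8 nMasks_E8 1) = true := by decide +kernel
theorem nR_E8_1_7 : (List.range' (30 * 7) 30).all (nChkR chevE8 nMasks_E8 1) = true := by decide +kernel
theorem nR_E8_2_0 : (List.range' (30 * 0) 30).all (nChkR chevE8 nMasks_E8 2) = true := by decide +kernel
theorem nR_E8_2_1 : (List.range' (30 * 1) 30).all (nChkR chevE8 nMasks_E8 2) = true := by decide +kernel
theorem nR_E8_2_2 : (List.range' (30 * 2) 30).all (nChkR chevE8 nMasks_E8 2) = true := by decide +kernel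
theorem nR_E8_2_3 : (List.range' (30 * 3) 30).all (nChkR chevE8 nMasks_E8 2) = true := by decide +kernel
theorem nR_E8_2_4 : (List.range' (30 * 4) 30).all (nChkR chevE8 nMasks_E8 2) = true := by decide +kernel
theorem nR_E8_2_5 : (List.range' (30 * 5) 30).all (nChkR chevE8 nMasks_E8 2) = true := by decide +kernel
theorem nR_E8_2_6 : (List.range' (30 * 6) 30).all (nChkR chevE8 nMasks_E8 2) = true := by decide +kernel
theorem nR_E8_2_7 : (List.range' (30 * 7) 30).all (nChkR chevE8 nMasks_E8 2) = true := by decide +kernel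
theorem nR_E8_3_0 : (List.range' (30 * 0) 30).all (nChkR chevE8 nMasks_E8 3) = true := by decide +kernel
theorem nR_E8_3_1 : (List.range' (30 * 1) 30).all (nChkR chevE8 nMasks_E8 3) = true := by decide +kernel
theorem nR_E8_3_2 : (List.range' (30 * 2) 30).all (nChkR chevE8 nMasks_E8 3) = true := by decide +kernel
theorem nR_E8_3_3 : (List.range' (30 * 3) 30).all (nChkR chevE8 nMasks_E8 3) = true := by decide +kernel
theorem nR_E8_3_4 : (List.range' (30 * 4) 30).all (nChkR chevE8 nMasks_E8 3) = true := by decide +kernel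
theorem nR_E8_3_5 : (List.range' (30 * 5) 30).all (nChkR chevE8 nMasks_E8 3) = true := by decide +kernel
theorem nR_E8_3_6 : (List.range' (30 * 6) 30).all (nChkR chevE8 nMasks_E8 3) = true := by decide +kernel
theorem nR_E8_3_7 : (List.range' (30 * 7) 30).all (nChkR chevE8 nMasks_E8 3) = true := by decide +kernel
theorem nR_E8_4_0 : (List.range' (30 * 0) 30).all (nChkR chevE8 nMasks_E8 4) = true := by decide +kernel
theorem nR_E8_4_1 : (List.range' (30 * 1) 30).all (nChkR chevE8 nMasks_E8 4) = true := by decide +kernel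
theorem nR_E8_4_2 : (List.range' (30 * 2) 30).all (nChkR chevE8 nMasks_E8 4) = true := by decide +kernel
theorem nR_E8_4_3 : (List.range' (30 * 3) 30).all (nChkR chevE8 nMasks_E8 4) = true := by decide +kernel
theorem nR_E8_4_4 : (List.range' (30 * 4) 30).all (nChkR chevE8 nMasks_E8 4) = true := by decide +kernel
theorem nR_E8_4_5 : (List.range' (30 * 5) 30).all (nChkR chevE8 nMasks_E8 4) = true := by decide +kernel
theorem nR_E8_4_6 : (List.range' (30 * 6) 30).all (nChkR chevE8 nMasks_E8 4) = true := by decide +kernel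
theorem nR_E8_4_7 : (List.range' (30 * 7) 30).all (nChkR chevE8 nMasks_E8 4) = true := by decide +kernel
theorem nR_E8_5_0 : (List.range' (30 * 0) 30).all (nChkR chevE8 nMasks_E8 5) = true := by decide +kernel
theorem nR_E8_5_1 : (List.range' (30 * 1) 30).all (nChkR chevE8 nMasks_E8 5) = true := by decide +kernel
theorem nR_E8_5_2 : (List.range' (30 * 2) 30).all (nChkR chevE8 nMasks_E8 5) = true := by decide +kernel
theorem nR_E8_5_3 : (List.range' (30 * 3) 30).all (nChkR chevE8 nMasks_E8 5) = true := by decide +kernel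
theorem nR_E8_5_4 : (List.range' (30 * 4) 30).all (nChkR chevE8 nMasks_E8 5) = true := by decide +kernel
theorem nR_E8_5_5 : (List.range' (30 * 5) 30).all (nChkR chevE8 nMasks_E8 5) = true := by decide +kernel
theorem nR_E8_5_6 : (List.range' (30 * 6) 30).all (nChkR chevE8 nMasks_E8 5) = true := by decide +kernel
theorem nR_E8_5_7 : (List.range' (30 * 7) 30).all (nChkR chevE8 nMasks_E8 5) = true := by decide +kernel
theorem nR_E8_6_0 : (List.range' (30 * 0) 30).all (nChkR chevE8 nMasks_E8 6) = true := by decide +kernel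
theorem nR_E8_6_1 : (List.range' (30 * 1) 30).all (nChkR chevE8 nMasks_E8 6) = true := by decide +kernel
theorem nR_E8_6_2 : (List.range' (30 * 2) 30).all (nChkR chevE8 nMasks_E8 6) = true := by decide +kernel
theorem nR_E8_6_3 : (List.range' (30 * 3) 30).all (nChkR chevE8 nMasks_E8 6) = true := by decide +kernel
theorem nR_E8_6_4 : (List.range' (30 * 4) 30).all (nChkR chevE8 nMasks_E8 6) = true := by decide +kernel
theorem nR_E8_6_5 : (List.range' (30 * 5) 30).all (nChkR chevE8 nMasks_E8 6) = true := by decide +kernel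
theorem nR_E8_6_6 : (List.range' (30 * 6) 30).all (nChkR chevE8 nMasks_E8 6) = true := by decide +kernel
theorem nR_E8_6_7 : (List.range' (30 * 7) 30).all (nChkR chevE8 nMasks_E8 6) = true := by decide +kernel
theorem nR_E8_7_0 : (List.range' (30 * 0) 30).all (nChkR chevE8 nMasks_E8 7) = true := by decide +kernel
theorem nR_E8_7_1 : (List.range' (30 * 1) 30).all (nChkR chevE8 nMasks_E8 7) = true := by decide +kernel
theorem nR_E8_7_2 : (List.range' (30 * 2) 30).all (nChkR chevE8 nMasks_E8 7) = true := by decide +kernel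
theorem nR_E8_7_3 : (List.range' (30 * 3) 30).all (nChkR chevE8 nMasks_E8 7) = true := by decide +kernel
theorem nR_E8_7_4 : (List.range' (30 * 4) 30).all (nChkR chevE8 nMasks_E8 7) = true := by decide +kernel
theorem nR_E8_7_5 : (List.range' (30 * 5) 30).all (nChkR chevE8 nMasks_E8 7) = true := by decide +kernel
theorem nR_E8_7_6 : (List.range' (30 * 6) 30).all (nChkR chevE8 nMasks_E8 7) = true := by decide +kernel
theorem nR_E8_7_7 : (List.range' (30 * 7) 30).all (nChkR chevE8 nMasks_E8 7) = true := by decide +kernel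

theorem nR_E8 : ∀ a < 8, ∀ s < 240, nChkR chevE8 nMasks_E8 a s = true :=
  forall_forall_lt_of_blocks (nChkR chevE8 nMasks_E8) 8 240 30 8 (by norm_num) (by norm_num) (by
    intro a ha k hk
    interval_cases a <;> interval_cases k
    · exact nR_E8_0_0
    · exact nR_E8_0_1
    · exact nR_E8_0_2
    · exact nR_E8_0_3
    · exact nR_E8_0_4
    · exact nR_E8_0_5
    · exact nR_E8_0_6
    · exact nR_E8_0_7
    · exact nR_E8_1_0
    · exact nR_E8_1_1
    · exact nR_E8_1_2
    · exact nR_E8_1_3
    · exact nR_E8_1_4
    · exact nR_E8_1_5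
    · exact nR_E8_1_6
    · exact nR_E8_1_7
    · exact nR_E8_2_0
    · exact nR_E8_2_1
    · exact nR_E8_2_2
    · exact nR_E8_2_3
    · exact nR_E8_2_4
    · exact nR_E8_2_5
    · exact nR_E8_2_6
    · exact nR_E8_2_7
    · exact nR_E8_3_0
    · exact nR_E8_3_1
    · exact nR_E8_3_2
    · exact nR_E8_3_3
    · exact nR_E8_3_4
    · exact nR_E8_3_5
    · exact nR_E8_3_6
    · exact nR_E8_3_7
    · exact nR_E8_4_0
    · exact nR_E8_4_1
    · exact nR_E8_4_2
    · exact nR_E8_4_3
    · exact nR_E8_4_4
    · exact nR_E8_4_5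
    · exact nR_E8_4_6
    · exact nR_E8_4_7
    · exact nR_E8_5_0
    · exact nR_E8_5_1
    · exact nR_E8_5_2
    · exact nR_E8_5_3
    · exact nR_E8_5_4
    · exact nR_E8_5_5
    · exact nR_E8_5_6
    · exact nR_E8_5_7
    · exact nR_E8_6_0
    · exact nR_E8_6_1
    · exact nR_E8_6_2
    · exact nR_E8_6_3
    · exact nR_E8_6_4
    · exact nR_E8_6_5
    · exact nR_E8_6_6
    · exact nR_E8_6_7
    · exact nR_E8_7_0
    · exact nR_E8_7_1
    · exact nR_E8_7_2
    · exact nR_E8_7_3
    · exact nR_E8_7_4
    · exact nR_E8_7_5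
    · exact nR_E8_7_6
    · exact nR_E8_7_7)

end Cfsg.Agent.Lead.Chev
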