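import Mathlib
import Cfsg.Agent.Lib.Lead.ChevRefl
import Cfsg.Agent.Lib.Lead.ChevN_G2

set_option autoImplicit false

namespace Cfsg.Agent.Lead.Chev

open Cfsg Cfsg.Lie

theorem nxOK_G2_0_0 : (List.range' (1 * 0) 1).all ((fun i k => nxChk chevG2 nMasks_G2 i 12 k) 0) = true := by decide +kernel
theorem nxOK_G2_1_0 : (List.range' (1 * 0) 1).all ((fun i k => nxChk chevG2 nMasks_G2 i 12 k) 1) = true := by decide +kernel

theorem nxOK_G2 : ∀ a < 2, ∀ s < 1, (fun i k => nxChk chevG2 nMasks_G2 i 12 k) a s = true :=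
  forall_forall_lt_of_blocks ((fun i k => nxChk chevG2 nMasks_G2 i 12 k)) 2 1 1 1 (by norm_num) (by norm_num) (by
    intro a ha k hk
    interval_cases a <;> interval_cases k
    · exact nxOK_G2_0_0
    · exact nxOK_G2_1_0)

end Cfsg.Agent.Lead.Chev
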