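import Mathlib
import Cfsg.Agent.Lib.Lead.ChevHFacts
import Cfsg.Agent.Lib.Lead.ChevRefl_G2
import Cfsg.Agent.Lib.Lead.ChevRefl_B2
import Cfsg.Agent.Lib.Lead.ChevRefl_D4
import Cfsg.Agent.Lib.Lead.ChevRefl_F4
import Cfsg.Agent.Lib.Lead.ChevRefl_E6
import Cfsg.Agent.Lib.Lead.ChevRefl_E7
import Cfsg.Agent.Lib.Lead.ChevRefl_E8

/-!
For the seven tabulated data and a fundamental root `p = p_{i+1}`: one sign function `η` such that `n_p` is the
signed monomial matrix `NForm i η`, with all the sign relations, the table facts `NXFacts` on `w_p`, and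
`n_p x_s(t) = x_{w_p s}(η_s t) n_p` for every root `s`.
-/

set_option autoImplicit false

namespace Cfsg.Agent.Lead.Chev

open Cfsg Cfsg.Lie

/-- the package of facts on `n_p` for a fundamental root -/
structure NSimple (D : ChevalleyDatum) (F : Type*) [Field F] (i : ℕ) (η : ℕ → ℤ) : Prop where
  sign : ∀ s, η s = 1 ∨ η s = -1
  sign_p : η (D.simple i) = -1
  sign_np : η (D.neg (D.simple i)) = -1
  sign_w : ∀ s < D.nroots, η s * η (D.reflectRoot i s) = (-1) ^ (D.cartan i s).natAbs
  sign_neg : ∀ s < D.nroots, η s * η (D.neg s) = 1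
  form : D.nMat F (D.simple i) 1 = NForm D F i η
  facts : NXFacts D η i
  conj : ∀ s < D.nroots, ∀ t : F, D.nMat F (D.simple i) 1 * D.x F s t =
    D.x F (D.reflectRoot i s) (((η s : ℤ) : F) * t) * D.nMat F (D.simple i) 1

theorem nSimple_of_chk {F : Type*} [Field F] (D : ChevalleyDatum)
    (hrow : ∀ i < D.rank, rowOK D i = true) (masks : List ℕ) (i : ℕ) (hi : i < D.rank)
    (hP : nChkP D masks i = true)
    (hL : ∀ j < D.rank, nChkL D i j = true) (hR : ∀ s < D.nroots, nChkR D masks i s = true)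
    (b K : ℕ) (hb : 0 < b) (hK0 : 0 < K) (hK : D.nroots ≤ b * K)
    (hblk : ∀ k < K, nxChk D masks i b k = true) :
    NSimple D F i (etaM (masks.getD i 0)) := by
  simp only [nChkP, Bool.and_eq_true, decide_eq_true_eq] at hP
  have hR' : ∀ s < D.nroots, _ := fun s hs => hR s hs
  simp only [nChkR, Bool.and_eq_true, decide_eq_true_eq] at hR'
  exact
    { sign := fun s => etaM_eq _ s
      sign_p := hP.1
      sign_np := hP.2
      sign_w := fun s hs => (hR' s hs).1.2
      sign_neg := fun s hs => (hR' s hs).2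
      form := nMat_eq_NForm D masks i hL hR
      facts := nxFacts_of_chk D hrow masks i hi b K hb hK0 hK hblk
      conj := fun s hs t => n_conj_x_of_chk D hrow masks i hi hL hR b K hb hK0 hK hblk s hs t }

/-- the sign masks of the seven data -/
def masksOf (D : ChevalleyDatum) : List ℕ :=
  if D.nroots = 12 then nMasks_G2 else if D.nroots = 8 then nMasks_B2 else if D.nroots = 24 then nMasks_D4
  else if D.nroots = 48 then nMasks_F4 else if D.nroots = 72 then nMasks_E6
  else if D.nroots = 126 then nMasks_E7 else nMasks_E8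

/-- the sign function of `n_{p_{i+1}}` -/
def etaOf (D : ChevalleyDatum) (i : ℕ) : ℕ → ℤ := etaM ((masksOf D).getD i 0)

theorem nSimple_of_mem {F : Type*} [Field F] (D : ChevalleyDatum)
    (hD : D ∈ [chevG2, chevB2, chevD4, chevF4, chevE6, chevE7, chevE8]) (i : ℕ) (hi : i < D.rank) :
    NSimple D F i (etaOf D i) := by
  have hrow := rowOK_of_mem D hD
  simp only [List.mem_cons, List.mem_nil_iff, or_false] at hD
  rcases hD with rfl | rfl | rfl | rfl | rfl | rfl | rfl
  · exact nSimple_of_chk _ hrow nMasks_G2 i hi (nP_G2 i hi) (nL_G2 i hi) (nR_G2 i hi) 12 1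
      (by norm_num) (by norm_num) (by decide) (nxOK_G2 i hi)
  · exact nSimple_of_chk _ hrow nMasks_B2 i hi (nP_B2 i hi) (nL_B2 i hi) (nR_B2 i hi) 8 1
      (by norm_num) (by norm_num) (by decide) (nxOK_B2 i hi)
  · exact nSimple_of_chk _ hrow nMasks_D4 i hi (nP_D4 i hi) (nL_D4 i hi) (nR_D4 i hi) 24 1
      (by norm_num) (by norm_num) (by decide) (nxOK_D4 i hi)
  · exact nSimple_of_chk _ hrow nMasks_F4 i hi (nP_F4 i hi) (nL_F4 i hi) (nR_F4 i hi) 48 1
      (by norm_num) (by norm_num) (by decide) (nxOK_F4 i hi)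
  · exact nSimple_of_chk _ hrow nMasks_E6 i hi (nP_E6 i hi) (nL_E6 i hi) (nR_E6 i hi) 72 1
      (by norm_num) (by norm_num) (by decide) (nxOK_E6 i hi)
  · exact nSimple_of_chk _ hrow nMasks_E7 i hi (nP_E7 i hi) (nL_E7 i hi) (nR_E7 i hi) 63 2
      (by norm_num) (by norm_num) (by decide) (nxOK_E7 i hi)
  · exact nSimple_of_chk _ hrow nMasks_E8 i hi (nP_E8 i hi) (nL_E8 i hi) (nR_E8 i hi) 60 4
      (by norm_num) (by norm_num) (by decide) (nxOK_E8 i hi)

end Cfsg.Agent.Lead.Chev
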