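import Mathlib
import Cfsg.Agent.Lib.Lead.ChevGL
import Cfsg.Agent.Lib.Lead.ChevNXAll

/-!
Words in the fundamental reflections: the elements `n_w = n_{i_1} ⋯ n_{i_k}` of `N`, the permutation
`w = w_{i_1} ∘ ⋯ ∘ w_{i_k}` of the roots, and `n_w x_s(t) n_w⁻¹ = x_{w s}(± t)`.
-/

set_option autoImplicit false
set_option linter.unusedSectionVars false
set_option linter.unusedSimpArgs false
set_option linter.unusedVariables false

namespace Cfsg.Agent.Lead.Chev

open Cfsg Cfsg.Lie

variable {F : Type*} [Field F]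

/-- `n_r = n_r(1)` as an element of the general linear group -/
def nGL (D : ChevalleyDatum) (hX : XAdd D F) (r : ℕ) : GL D.Idx F := wordGL D hX (D.nWord r (1 : F))

theorem nGL_val (D : ChevalleyDatum) (hX : XAdd D F) (r : ℕ) :
    ((nGL D hX r : GL D.Idx F) : Matrix D.Idx D.Idx F) = D.nMat F r 1 := by
  unfold nGL
  rw [wordGL_val]
  rfl

theorem nGL_mem_group (D : ChevalleyDatum) (hX : XAdd D F) (r : ℕ) : nGL D hX r ∈ D.group F :=
  wordGL_mem_group D hX _

theorem nGL_mem_monomial (D : ChevalleyDatum) (hX : XAdd D F) (r : ℕ) (hr : r < D.nroots) :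
    nGL D hX r ∈ D.monomialSubgroup F := by
  unfold ChevalleyDatum.monomialSubgroup
  apply Subgroup.mem_sup_right
  apply Subgroup.subset_closure
  exact ⟨r, hr, nGL_val D hX r⟩

/-- the composite `w_{i_1} ∘ ⋯ ∘ w_{i_k}` of fundamental reflections on root indices -/
def reflWord (D : ChevalleyDatum) : List ℕ → ℕ → ℕ
  | [], s => s
  | i :: w, s => D.reflectRoot i (reflWord D w s)

/-- the sign picked up by `x_s(t)` under conjugation by `n_w` -/
def signWord (D : ChevalleyDatum) (η : ℕ → ℕ → ℤ) : List ℕ → ℕ → ℤ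
  | [], _ => 1
  | i :: w, s => η i (reflWord D w s) * signWord D η w s

/-- `n_w = n_{i_1} ⋯ n_{i_k}` -/
def nWordGL (D : ChevalleyDatum) (hX : XAdd D F) (w : List ℕ) : GL D.Idx F :=
  (w.map fun i => nGL D hX (D.simple i)).prod

theorem nWordGL_nil (D : ChevalleyDatum) (hX : XAdd D F) : nWordGL D hX [] = 1 := rfl

theorem nWordGL_cons (D : ChevalleyDatum) (hX : XAdd D F) (i : ℕ) (w : List ℕ) :
    nWordGL D hX (i :: w) = nGL D hX (D.simple i) * nWordGL D hX w := by
  unfold nWordGL
  rw [List.map_cons, List.prod_cons]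

theorem nWordGL_append (D : ChevalleyDatum) (hX : XAdd D F) (w₁ w₂ : List ℕ) :
    nWordGL D hX (w₁ ++ w₂) = nWordGL D hX w₁ * nWordGL D hX w₂ := by
  unfold nWordGL
  rw [List.map_append, List.prod_append]

theorem reflWord_append (D : ChevalleyDatum) (w₁ w₂ : List ℕ) (s : ℕ) :
    reflWord D (w₁ ++ w₂) s = reflWord D w₁ (reflWord D w₂ s) := by
  induction w₁ with
  | nil => rfl
  | cons i w ih => simp only [List.cons_append, reflWord, ih]

theorem nWordGL_mem_monomial (D : ChevalleyDatum) (hX : XAdd D F) (hsl : ∀ i < D.rank, D.simple i < D.nroots)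
    (w : List ℕ) (hw : ∀ i ∈ w, i < D.rank) : nWordGL D hX w ∈ D.monomialSubgroup F := by
  induction w with
  | nil => rw [nWordGL_nil]; exact one_mem _
  | cons i w ih =>
    rw [nWordGL_cons]
    exact mul_mem (nGL_mem_monomial D hX _ (hsl i (hw i List.mem_cons_self)))
      (ih fun j hj => hw j (List.mem_cons_of_mem _ hj))

theorem nWordGL_mem_group (D : ChevalleyDatum) (hX : XAdd D F) (w : List ℕ) : nWordGL D hX w ∈ D.group F := by
  induction w with
  | nil => rw [nWordGL_nil]; exact one_mem _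
  | cons i w ih =>
    rw [nWordGL_cons]
    exact mul_mem (nGL_mem_group D hX _) ih

theorem reflWord_lt (D : ChevalleyDatum) (η : ℕ → ℕ → ℤ) (hfa : ∀ i < D.rank, NXFacts D (η i) i)
    (w : List ℕ) (hw : ∀ i ∈ w, i < D.rank) (s : ℕ) (hs : s < D.nroots) : reflWord D w s < D.nroots := by
  induction w with
  | nil => exact hs
  | cons i w ih =>
    exact (hfa i (hw i List.mem_cons_self)).wlt _ (ih fun j hj => hw j (List.mem_cons_of_mem _ hj))

theorem signWord_sq (D : ChevalleyDatum) (η : ℕ → ℕ → ℤ)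
    (w : List ℕ) (hη : ∀ i ∈ w, ∀ s, η i s = 1 ∨ η i s = -1) (s : ℕ) :
    signWord D η w s = 1 ∨ signWord D η w s = -1 := by
  induction w with
  | nil => exact Or.inl rfl
  | cons i w ih =>
    simp only [signWord]
    have ih' := ih fun j hj => hη j (List.mem_cons_of_mem _ hj)
    rcases hη i List.mem_cons_self (reflWord D w s) with h | h <;> rcases ih' with h' | h' <;>
      rw [h, h'] <;> simp

/-- conjugation of a root element by a fundamental `n_p` -/
theorem nGL_conj (D : ChevalleyDatum) (hX : XAdd D F) (i : ℕ) (η : ℕ → ℤ) (hN : NSimple D F i η)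
    (s : ℕ) (hs : s < D.nroots) (t : F) :
    nGL D hX (D.simple i) * xGL D hX s t * (nGL D hX (D.simple i))⁻¹ =
      xGL D hX (D.reflectRoot i s) (((η s : ℤ) : F) * t) := by
  rw [mul_inv_eq_iff_eq_mul]
  apply Units.ext
  rw [Units.val_mul, Units.val_mul, nGL_val, xGL_val, xGL_val]
  exact hN.conj s hs t

/-- conjugation of a root element by `n_w` -/
theorem nWordGL_conj (D : ChevalleyDatum) (hX : XAdd D F) (η : ℕ → ℕ → ℤ)
    (hN : ∀ i < D.rank, NSimple D F i (η i)) (w : List ℕ) (hw : ∀ i ∈ w, i < D.rank)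
    (s : ℕ) (hs : s < D.nroots) (t : F) :
    nWordGL D hX w * xGL D hX s t * (nWordGL D hX w)⁻¹ =
      xGL D hX (reflWord D w s) (((signWord D η w s : ℤ) : F) * t) := by
  induction w with
  | nil => simp [nWordGL_nil, reflWord, signWord]
  | cons i w ih =>
    have hw' : ∀ j ∈ w, j < D.rank := fun j hj => hw j (List.mem_cons_of_mem _ hj)
    have hi := hw i List.mem_cons_self
    have hlt := reflWord_lt D η (fun i hi => (hN i hi).facts) w hw' s hs
    rw [nWordGL_cons, mul_inv_rev]
    have e : nGL D hX (D.simple i) * nWordGL D hX w * xGL D hX s t *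
        ((nWordGL D hX w)⁻¹ * (nGL D hX (D.simple i))⁻¹) =
        nGL D hX (D.simple i) * (nWordGL D hX w * xGL D hX s t * (nWordGL D hX w)⁻¹) *
          (nGL D hX (D.simple i))⁻¹ := by group
    rw [e, ih hw', nGL_conj D hX i (η i) (hN i hi) _ hlt]
    simp only [reflWord, signWord]
    congr 1
    push_cast
    ring

/-- if `w` maps the positive roots onto the negative roots, then `n_w U n_w⁻¹ = V` -/
theorem map_conj_posUnipotent (D : ChevalleyDatum) (hX : XAdd D F) (η : ℕ → ℕ → ℤ)
    (hN : ∀ i < D.rank, NSimple D F i (η i)) (w : List ℕ) (hw : ∀ i ∈ w, i < D.rank)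
    (h1 : ∀ s, D.IsPosRoot s → D.IsNegRoot (reflWord D w s))
    (h2 : ∀ s, D.IsNegRoot s → ∃ r, D.IsPosRoot r ∧ reflWord D w r = s) :
    (D.posUnipotent F).map (MulAut.conj (nWordGL D hX w)).toMonoidHom = D.negUnipotent F := by
  have hσ : ∀ s, signWord D η w s = 1 ∨ signWord D η w s = -1 :=
    fun s => signWord_sq D η w (fun i hi s => (hN i (hw i hi)).sign s) s
  unfold ChevalleyDatum.posUnipotent ChevalleyDatum.negUnipotent
  rw [MonoidHom.map_closure]
  apply le_antisymm
  · rw [Subgroup.closure_le]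
    rintro g ⟨x, ⟨r, t, hr, hx⟩, rfl⟩
    apply Subgroup.subset_closure
    have hxe : x = xGL D hX r t := Units.ext hx
    refine ⟨reflWord D w r, ((signWord D η w r : ℤ) : F) * t, h1 r hr, ?_⟩
    simp only [MulEquiv.coe_toMonoidHom, MulAut.conj_apply]
    rw [hxe, nWordGL_conj D hX η hN w hw r hr.1 t]
    rfl
  · rw [Subgroup.closure_le]
    rintro g ⟨s, t, hs, hg⟩
    obtain ⟨r, hr, hrs⟩ := h2 s hs
    refine Subgroup.subset_closure
      ⟨xGL D hX r (((signWord D η w r : ℤ) : F) * t), ⟨r, _, hr, rfl⟩, ?_⟩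
    simp only [MulEquiv.coe_toMonoidHom, MulAut.conj_apply]
    rw [nWordGL_conj D hX η hN w hw r hr.1, hrs]
    apply Units.ext
    rw [hg, xGL_val]
    congr 1
    rcases hσ r with h | h <;> rw [h] <;> simp

end Cfsg.Agent.Lead.Chev
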