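import Mathlib
import Cfsg.Agent.Lib.Lead.ChevRank1
import Cfsg.Agent.Lib.Lead.ChevWeyl

/-!
The fundamental `n_p` (and words in them) conjugate `n_r(t)` to `n_{w r}(± t)`, normalise `H`, and the structure of
`N`: every element of `N` is `h n_w` for a word `w` in the fundamental reflections.
-/

set_option autoImplicit false
set_option linter.unusedSectionVars false
set_option linter.unusedSimpArgs false
set_option linter.unusedVariables false

namespace Cfsg.Agent.Lead.Chev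

open Cfsg Cfsg.Lie

variable {F : Type*} [Field F]

theorem nGL_eq_nGLt (D : ChevalleyDatum) (hX : XAdd D F) (r : ℕ) : nGL D hX r = nGLt D hX r 1 := rfl

theorem eta_neg_eq (D : ChevalleyDatum) (i : ℕ) (η : ℕ → ℤ) (hN : NSimple D F i η) (s : ℕ)
    (hs : s < D.nroots) : η (D.neg s) = η s := by
  have h := hN.sign_neg s hs
  rcases hN.sign s with h1 | h1 <;> rcases hN.sign (D.neg s) with h2 | h2 <;> rw [h1, h2] at h <;>
    simp_all

theorem cast_eta_inv (η : ℤ) (h : η = 1 ∨ η = -1) (t : F) : (((η : ℤ) : F) * t)⁻¹ = ((η : ℤ) : F) * t⁻¹ := by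
  rcases h with rfl | rfl <;> simp [inv_neg]

/-- conjugation of `n_r(t)` by a fundamental `n_p` -/
theorem nGL_conj_nGLt (D : ChevalleyDatum) (hX : XAdd D F) (i : ℕ) (η : ℕ → ℤ) (hN : NSimple D F i η)
    (r : ℕ) (hr : r < D.nroots) (t : F) :
    nGL D hX (D.simple i) * nGLt D hX r t * (nGL D hX (D.simple i))⁻¹ =
      nGLt D hX (D.reflectRoot i r) (((η r : ℤ) : F) * t) := by
  have hnr := hN.facts.nlt r hr
  rw [nGLt_eq, nGLt_eq]
  have e : ∀ a b c : GL D.Idx F, nGL D hX (D.simple i) * (a * b * c) * (nGL D hX (D.simple i))⁻¹ =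
      (nGL D hX (D.simple i) * a * (nGL D hX (D.simple i))⁻¹) *
      (nGL D hX (D.simple i) * b * (nGL D hX (D.simple i))⁻¹) *
      (nGL D hX (D.simple i) * c * (nGL D hX (D.simple i))⁻¹) := by
    intro a b c
    group
  rw [e, nGL_conj D hX i η hN r hr, nGL_conj D hX i η hN _ hnr, hN.facts.wneg r hr,
    eta_neg_eq D i η hN r hr, cast_eta_inv _ (hN.sign r)]
  congr 3
  ring

/-- conjugation by a fundamental `n_p` maps `H` into `H` -/
theorem nGL_conj_mem_diagonal (D : ChevalleyDatum) (hX : XAdd D F) (i : ℕ) (η : ℕ → ℤ)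
    (hN : NSimple D F i η) (h : GL D.Idx F) (hh : h ∈ D.diagonalSubgroup F) :
    nGL D hX (D.simple i) * h * (nGL D hX (D.simple i))⁻¹ ∈ D.diagonalSubgroup F := by
  unfold ChevalleyDatum.diagonalSubgroup at hh
  induction hh using Subgroup.closure_induction with
  | mem x hx =>
    obtain ⟨r, t, hr, ht, hx⟩ := hx
    have hxe : x = hGLt D hX r t := Units.ext (by rw [hx, hGLt_val])
    rw [hxe, hGLt_eq]
    have e : nGL D hX (D.simple i) * (nGLt D hX r t * nGLt D hX r (-1)) * (nGL D hX (D.simple i))⁻¹ =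
        (nGL D hX (D.simple i) * nGLt D hX r t * (nGL D hX (D.simple i))⁻¹) *
        (nGL D hX (D.simple i) * nGLt D hX r (-1) * (nGL D hX (D.simple i))⁻¹) := by group
    rw [e, nGL_conj_nGLt D hX i η hN r hr, nGL_conj_nGLt D hX i η hN r hr]
    have hη : ((η r : ℤ) : F) ≠ 0 := by
      rcases hN.sign r with h1 | h1 <;> rw [h1] <;> simp
    exact nGLt_mul_nGLt_mem D hX _ (hN.facts.wlt r hr) _ _ (mul_ne_zero hη ht)
      (mul_ne_zero hη (neg_ne_zero.2 one_ne_zero))
  | one =>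
    rw [mul_one, mul_inv_cancel]
    exact one_mem _
  | mul x y _ _ hx hy =>
    have e : nGL D hX (D.simple i) * (x * y) * (nGL D hX (D.simple i))⁻¹ =
        (nGL D hX (D.simple i) * x * (nGL D hX (D.simple i))⁻¹) *
        (nGL D hX (D.simple i) * y * (nGL D hX (D.simple i))⁻¹) := by group
    rw [e]
    exact mul_mem hx hy
  | inv x _ hx =>
    have e : nGL D hX (D.simple i) * x⁻¹ * (nGL D hX (D.simple i))⁻¹ =
        (nGL D hX (D.simple i) * x * (nGL D hX (D.simple i))⁻¹)⁻¹ := by group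
    rw [e]
    exact inv_mem hx


/-- conjugation by `n_w` maps `H` into `H` -/
theorem nWordGL_conj_mem_diagonal (D : ChevalleyDatum) (hX : XAdd D F) (η : ℕ → ℕ → ℤ)
    (hN : ∀ i < D.rank, NSimple D F i (η i)) (w : List ℕ) (hw : ∀ i ∈ w, i < D.rank)
    (h : GL D.Idx F) (hh : h ∈ D.diagonalSubgroup F) :
    nWordGL D hX w * h * (nWordGL D hX w)⁻¹ ∈ D.diagonalSubgroup F := by
  induction w with
  | nil => simpa [nWordGL_nil] using hh
  | cons i w ih =>
    have hw' : ∀ j ∈ w, j < D.rank := fun j hj => hw j (List.mem_cons_of_mem _ hj)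
    have hi := hw i List.mem_cons_self
    rw [nWordGL_cons, mul_inv_rev]
    have e : nGL D hX (D.simple i) * nWordGL D hX w * h *
        ((nWordGL D hX w)⁻¹ * (nGL D hX (D.simple i))⁻¹) =
        nGL D hX (D.simple i) * (nWordGL D hX w * h * (nWordGL D hX w)⁻¹) *
          (nGL D hX (D.simple i))⁻¹ := by group
    rw [e]
    exact nGL_conj_mem_diagonal D hX i (η i) (hN i hi) _ (ih hw')

theorem nGL_sq_mem_diagonal (D : ChevalleyDatum) (hX : XAdd D F) (r : ℕ) (hr : r < D.nroots) :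
    nGL D hX r * nGL D hX r ∈ D.diagonalSubgroup F :=
  nGLt_mul_nGLt_mem D hX r hr 1 1 one_ne_zero one_ne_zero

theorem nGL_inv_eq (D : ChevalleyDatum) (hX : XAdd D F) (r : ℕ) (hr : r < D.nroots) :
    ∃ h ∈ D.diagonalSubgroup F, (nGL D hX r)⁻¹ = nGL D hX r * h :=
  ⟨(nGL D hX r * nGL D hX r)⁻¹, inv_mem (nGL_sq_mem_diagonal D hX r hr), by group⟩

/-- `h n_w = n_w h'` -/
theorem nWordGL_mul_diagonal (D : ChevalleyDatum) (hX : XAdd D F) (η : ℕ → ℕ → ℤ)
    (hN : ∀ i < D.rank, NSimple D F i (η i)) (w : List ℕ) (hw : ∀ i ∈ w, i < D.rank)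
    (h : GL D.Idx F) (hh : h ∈ D.diagonalSubgroup F) :
    ∃ h' ∈ D.diagonalSubgroup F, nWordGL D hX w * h = h' * nWordGL D hX w :=
  ⟨_, nWordGL_conj_mem_diagonal D hX η hN w hw h hh, by group⟩

/-- `n_w⁻¹ = h n_{w reversed}` -/
theorem nWordGL_inv (D : ChevalleyDatum) (hX : XAdd D F) (η : ℕ → ℕ → ℤ)
    (hN : ∀ i < D.rank, NSimple D F i (η i)) (hsl : ∀ i < D.rank, D.simple i < D.nroots)
    (w : List ℕ) (hw : ∀ i ∈ w, i < D.rank) :
    ∃ h ∈ D.diagonalSubgroup F, (nWordGL D hX w)⁻¹ = h * nWordGL D hX w.reverse := by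
  induction w with
  | nil => exact ⟨1, one_mem _, by simp [nWordGL_nil]⟩
  | cons i w ih =>
    have hw' : ∀ j ∈ w, j < D.rank := fun j hj => hw j (List.mem_cons_of_mem _ hj)
    have hi := hw i List.mem_cons_self
    obtain ⟨h1, hh1, e1⟩ := ih hw'
    obtain ⟨h2, hh2, e2⟩ := nGL_inv_eq D hX (D.simple i) (hsl i hi)
    have hwr : ∀ j ∈ w.reverse ++ [i], j < D.rank := by
      intro j hj
      rcases List.mem_append.1 hj with hj | hj
      · exact hw' j (List.mem_reverse.1 hj)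
      · rw [List.mem_singleton.1 hj]; exact hi
    obtain ⟨h3, hh3, e3⟩ := nWordGL_mul_diagonal D hX η hN (w.reverse ++ [i]) hwr h2 hh2
    refine ⟨h1 * h3, mul_mem hh1 hh3, ?_⟩
    rw [nWordGL_cons, mul_inv_rev, e1, e2, List.reverse_cons, mul_assoc h1 h3, ← e3, nWordGL_append]
    have : nWordGL D hX [i] = nGL D hX (D.simple i) := by
      rw [nWordGL_cons, nWordGL_nil, mul_one]
    rw [this]
    simp only [mul_assoc]

/-- conjugation of `n_r(t)` by `n_w` -/
theorem nWordGL_conj_nGLt (D : ChevalleyDatum) (hX : XAdd D F) (η : ℕ → ℕ → ℤ)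
    (hN : ∀ i < D.rank, NSimple D F i (η i)) (w : List ℕ) (hw : ∀ i ∈ w, i < D.rank)
    (r : ℕ) (hr : r < D.nroots) (t : F) :
    nWordGL D hX w * nGLt D hX r t * (nWordGL D hX w)⁻¹ =
      nGLt D hX (reflWord D w r) (((signWord D η w r : ℤ) : F) * t) := by
  induction w with
  | nil => simp [nWordGL_nil, reflWord, signWord]
  | cons i w ih =>
    have hw' : ∀ j ∈ w, j < D.rank := fun j hj => hw j (List.mem_cons_of_mem _ hj)
    have hi := hw i List.mem_cons_self
    have hlt := reflWord_lt D η (fun i hi => (hN i hi).facts) w hw' r hr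
    rw [nWordGL_cons, mul_inv_rev]
    have e : nGL D hX (D.simple i) * nWordGL D hX w * nGLt D hX r t *
        ((nWordGL D hX w)⁻¹ * (nGL D hX (D.simple i))⁻¹) =
        nGL D hX (D.simple i) * (nWordGL D hX w * nGLt D hX r t * (nWordGL D hX w)⁻¹) *
          (nGL D hX (D.simple i))⁻¹ := by group
    rw [e, ih hw', nGL_conj_nGLt D hX i (η i) (hN i hi) _ hlt]
    simp only [reflWord, signWord]
    congr 1
    push_cast
    ring

/-- the subgroup generated by the fundamental `n_p` -/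
def simpleN (D : ChevalleyDatum) (F : Type*) [Field F] : Subgroup (GL D.Idx F) :=
  Subgroup.closure {g : GL D.Idx F | ∃ i < D.rank, (g : Matrix D.Idx D.Idx F) = D.nMat F (D.simple i) 1}

theorem nGL_mem_simpleN (D : ChevalleyDatum) (hX : XAdd D F) (i : ℕ) (hi : i < D.rank) :
    nGL D hX (D.simple i) ∈ simpleN D F :=
  Subgroup.subset_closure ⟨i, hi, nGL_val D hX _⟩

theorem nWordGL_mem_simpleN (D : ChevalleyDatum) (hX : XAdd D F) (w : List ℕ) (hw : ∀ i ∈ w, i < D.rank) :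
    nWordGL D hX w ∈ simpleN D F := by
  induction w with
  | nil => rw [nWordGL_nil]; exact one_mem _
  | cons i w ih =>
    rw [nWordGL_cons]
    exact mul_mem (nGL_mem_simpleN D hX i (hw i List.mem_cons_self))
      (ih fun j hj => hw j (List.mem_cons_of_mem _ hj))

/-- every root is conjugate to a fundamental root under a word of fundamental reflections -/
def RootOrbit (D : ChevalleyDatum) : Prop :=
  ∀ r < D.nroots, ∃ i < D.rank, ∃ w : List ℕ, (∀ j ∈ w, j < D.rank) ∧ reflWord D w (D.simple i) = r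

theorem nGL_mem_simpleN_of_orbit (D : ChevalleyDatum) (hX : XAdd D F) (η : ℕ → ℕ → ℤ)
    (hN : ∀ i < D.rank, NSimple D F i (η i)) (hsl : ∀ i < D.rank, D.simple i < D.nroots)
    (hO : RootOrbit D) (r : ℕ) (hr : r < D.nroots) : nGL D hX r ∈ simpleN D F := by
  obtain ⟨i, hi, w, hw, hwr⟩ := hO r hr
  have h1 := nWordGL_conj_nGLt D hX η hN w hw (D.simple i) (hsl i hi) 1
  rw [hwr, mul_one] at h1
  have hmem : nWordGL D hX w * nGLt D hX (D.simple i) 1 * (nWordGL D hX w)⁻¹ ∈ simpleN D F :=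
    mul_mem (mul_mem (nWordGL_mem_simpleN D hX w hw) (nGL_mem_simpleN D hX i hi))
      (inv_mem (nWordGL_mem_simpleN D hX w hw))
  rw [h1] at hmem
  rcases signWord_sq D η w (fun j hj s => (hN j (hw j hj)).sign s) (D.simple i) with h2 | h2
  · rw [h2] at hmem
    rw [nGL_eq_nGLt]
    simpa using hmem
  · rw [h2] at hmem
    have : nGL D hX r = (nGLt D hX r (-1))⁻¹ := by rw [nGLt_inv, neg_neg]; rfl
    rw [this]
    apply inv_mem
    simpa using hmem

/-- `N = H ⊔ ⟨n_p : p fundamental⟩` -/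
theorem monomialSubgroup_eq (D : ChevalleyDatum) (hX : XAdd D F) (η : ℕ → ℕ → ℤ)
    (hN : ∀ i < D.rank, NSimple D F i (η i)) (hsl : ∀ i < D.rank, D.simple i < D.nroots)
    (hO : RootOrbit D) : D.monomialSubgroup F = D.diagonalSubgroup F ⊔ simpleN D F := by
  unfold ChevalleyDatum.monomialSubgroup
  apply le_antisymm
  · apply sup_le le_sup_left
    rw [Subgroup.closure_le]
    rintro g ⟨r, hr, hg⟩
    have : g = nGL D hX r := Units.ext (by rw [hg, nGL_val])
    rw [this]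
    exact Subgroup.mem_sup_right (nGL_mem_simpleN_of_orbit D hX η hN hsl hO r hr)
  · apply sup_le le_sup_left
    apply le_trans _ le_sup_right
    unfold simpleN
    apply Subgroup.closure_mono
    rintro g ⟨i, hi, hg⟩
    exact ⟨D.simple i, hsl i hi, hg⟩

/-- every element of `⟨n_p⟩` is `h n_w` -/
theorem exists_word_of_mem_simpleN (D : ChevalleyDatum) (hX : XAdd D F) (η : ℕ → ℕ → ℤ)
    (hN : ∀ i < D.rank, NSimple D F i (η i)) (hsl : ∀ i < D.rank, D.simple i < D.nroots)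
    (n : GL D.Idx F) (hn : n ∈ simpleN D F) :
    ∃ h ∈ D.diagonalSubgroup F, ∃ w : List ℕ, (∀ i ∈ w, i < D.rank) ∧ n = h * nWordGL D hX w := by
  unfold simpleN at hn
  induction hn using Subgroup.closure_induction with
  | mem x hx =>
    obtain ⟨i, hi, hx⟩ := hx
    refine ⟨1, one_mem _, [i], ?_, ?_⟩
    · intro j hj
      rw [List.mem_singleton.1 hj]; exact hi
    · rw [one_mul, nWordGL_cons, nWordGL_nil, mul_one]
      exact Units.ext (by rw [hx, nGL_val])
  | one => exact ⟨1, one_mem _, [], by simp, by simp [nWordGL_nil]⟩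
  | mul x y _ _ hx hy =>
    obtain ⟨h1, hh1, w1, hw1, rfl⟩ := hx
    obtain ⟨h2, hh2, w2, hw2, rfl⟩ := hy
    obtain ⟨h3, hh3, e3⟩ := nWordGL_mul_diagonal D hX η hN w1 hw1 h2 hh2
    refine ⟨h1 * h3, mul_mem hh1 hh3, w1 ++ w2, ?_, ?_⟩
    · intro j hj
      rcases List.mem_append.1 hj with hj | hj
      · exact hw1 j hj
      · exact hw2 j hj
    · rw [nWordGL_append, mul_assoc h1 h3, ← mul_assoc h3, ← e3]
      simp only [mul_assoc]
  | inv x _ hx =>
    obtain ⟨h1, hh1, w1, hw1, rfl⟩ := hx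
    obtain ⟨h2, hh2, e2⟩ := nWordGL_inv D hX η hN hsl w1 hw1
    have hwr : ∀ j ∈ w1.reverse, j < D.rank := fun j hj => hw1 j (List.mem_reverse.1 hj)
    obtain ⟨h3, hh3, e3⟩ := nWordGL_mul_diagonal D hX η hN w1.reverse hwr h1⁻¹ (inv_mem hh1)
    refine ⟨h2 * h3, mul_mem hh2 hh3, w1.reverse, hwr, ?_⟩
    rw [mul_inv_rev, e2, mul_assoc, e3, mul_assoc]

/-- every element of `N` is `h n_w` -/
theorem exists_word_of_mem_monomial (D : ChevalleyDatum) (hX : XAdd D F) (η : ℕ → ℕ → ℤ)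
    (hN : ∀ i < D.rank, NSimple D F i (η i)) (hsl : ∀ i < D.rank, D.simple i < D.nroots)
    (hO : RootOrbit D) (n : GL D.Idx F) (hn : n ∈ D.monomialSubgroup F) :
    ∃ h ∈ D.diagonalSubgroup F, ∃ w : List ℕ, (∀ i ∈ w, i < D.rank) ∧ n = h * nWordGL D hX w := by
  rw [monomialSubgroup_eq D hX η hN hsl hO] at hn
  have hle : simpleN D F ≤ Subgroup.normalizer (D.diagonalSubgroup F : Set (GL D.Idx F)) := by
    rw [Subgroup.le_normalizer_iff]
    intro g hg k hk
    obtain ⟨h, hh, w, hw, rfl⟩ := exists_word_of_mem_simpleN D hX η hN hsl g hg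
    have h1 := nWordGL_conj_mem_diagonal D hX η hN w hw k hk
    have e : h * nWordGL D hX w * k * (h * nWordGL D hX w)⁻¹ =
        h * (nWordGL D hX w * k * (nWordGL D hX w)⁻¹) * h⁻¹ := by group
    rw [e]
    exact mul_mem (mul_mem hh h1) (inv_mem hh)
  have hcoe := Subgroup.coe_mul_of_right_le_normalizer_left (D.diagonalSubgroup F) (simpleN D F) hle
  have hn' : n ∈ ((D.diagonalSubgroup F ⊔ simpleN D F : Subgroup (GL D.Idx F)) : Set (GL D.Idx F)) := hn
  rw [hcoe] at hn'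
  obtain ⟨h, hh, m, hm, rfl⟩ := hn'
  obtain ⟨h2, hh2, w, hw, rfl⟩ := exists_word_of_mem_simpleN D hX η hN hsl m hm
  exact ⟨h * h2, mul_mem hh hh2, w, hw, by rw [mul_assoc]⟩

end Cfsg.Agent.Lead.Chev
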