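import Mathlib
import Cfsg.Agent.Lib.Helper5.ChevUnipotent

/-!
The subgroup `V` generated by the negative root elements consists of upper unitriangular matrices with respect to
the level function `Helper5.chevLevel` (the mirror image of `Helper5.posUnipotent_le_chevLower`).
-/

set_option autoImplicit false
set_option linter.unusedSectionVars false
set_option linter.unusedSimpArgs false
set_option linter.unusedVariables false

namespace Cfsg.Agent.Lead.Chev

open Cfsg Cfsg.Lie Cfsg.Agent.Helper5

/-- table check: negative roots have index `< N`, their negatives index `≥ N`, and chains go down -/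
def NegOk (D : ChevalleyDatum) : Prop :=
  ∀ r < D.nroots, D.IsNegRoot r →
    (r < D.nroots / 2 ∧ D.nroots / 2 ≤ D.negIdx.getD r 0 ∧
      ∀ e ∈ (D.chain.getD r #[]).toList, ∀ q ∈ e.2.toList, q.1 < e.1)

instance instDecidableNegOk (D : ChevalleyDatum) : Decidable (NegOk D) := by unfold NegOk; infer_instance

/-- the reversed level function -/
def revLevel (D : ChevalleyDatum) (idx : D.Idx) : ℕ := D.rank + D.nroots - chevLevel D idx

theorem revLevel_lt (D : ChevalleyDatum) (idx : D.Idx) : revLevel D idx < D.rank + D.nroots + 1 := by
  unfold revLevel
  omega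

theorem lowers_revLevel_iff {F : Type*} [Field F] (D : ChevalleyDatum) (A : Matrix D.Idx D.Idx F) :
    Lowers (revLevel D) 1 A ↔ ∀ i j, chevLevel D j ≤ chevLevel D i → A i j = 0 := by
  constructor
  · intro h i j hij
    apply h i j
    have h1 := chevLevel_lt D i
    have h2 := chevLevel_lt D j
    unfold revLevel
    omega
  · intro h i j hij
    apply h i j
    have h1 := chevLevel_lt D i
    have h2 := chevLevel_lt D j
    unfold revLevel at hij
    omega

/-- For a negative root `r` (and a datum passing the table check), `x_r(t) - 1` is strictly upper triangular. -/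
theorem xMat_sub_one_upper {F : Type*} [Field F] (D : ChevalleyDatum) (hD : NegOk D)
    (r : Fin D.nroots) (hr : D.IsNegRoot r.val) (t : F) (row col : D.Idx)
    (hlt : chevLevel D col ≤ chevLevel D row) : (D.xMat F r t - 1) row col = 0 := by
  obtain ⟨hrN, hnegN, hchain⟩ := hD r.val r.2 hr
  rw [Matrix.sub_apply]
  rcases col with i | s
  · rcases row with i' | u
    · simp [ChevalleyDatum.xMat, Matrix.one_apply]
    · by_cases hur : u = r
      · exfalso
        subst hur
        have := i.2
        simp only [chevLevel] at hlt
        split_ifs at hlt <;> omega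
      · simp [ChevalleyDatum.xMat, Matrix.one_apply, hur]
  · by_cases hsr : s = r
    · rcases row with i' | u
      · simp [ChevalleyDatum.xMat, Matrix.one_apply, hsr]
      · simp [ChevalleyDatum.xMat, Matrix.one_apply, hsr]
    · by_cases hneg : s.val = D.negIdx.getD r.val 0
      · rcases row with i' | u
        · exfalso
          have := i'.2
          simp only [chevLevel] at hlt
          split_ifs at hlt <;> omega
        · by_cases hus : u = s
          · simp [ChevalleyDatum.xMat, Matrix.one_apply, hsr, hneg, hus]
          · by_cases hur : u = r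
            · exfalso
              subst hur
              simp only [chevLevel] at hlt
              split_ifs at hlt <;> omega
            · simp [ChevalleyDatum.xMat, Matrix.one_apply, hsr, hneg, hus, hur]
      · rcases row with i' | u
        · simp only [ChevalleyDatum.xMat, Matrix.of_apply, hsr, hneg, if_false, Matrix.one_apply]
          simp
        · have hnil : D.chainCoeff r.val s.val u.val = [] := by
            rw [List.eq_nil_iff_forall_not_mem]
            intro km hkm
            obtain ⟨e, he, hes, q, hq, hqu⟩ := chainCoeff_mem D _ _ _ km hkm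
            have h1 := hchain e he q hq
            rw [hes, hqu] at h1
            have h2 := chevLevel_inr_lt D u s h1
            omega
          simp only [ChevalleyDatum.xMat, Matrix.of_apply, hsr, hneg, if_false, hnil, List.map_nil,
            List.sum_nil, add_zero, Matrix.one_apply, Sum.inr.injEq]
          simp

/-- the subgroup of upper unitriangular matrices -/
noncomputable def chevUpper (D : ChevalleyDatum) (F : Type*) [Field F] : Subgroup (GL D.Idx F) :=
  lowerSubgroup (R := F) (revLevel D) (D.rank + D.nroots + 1) (revLevel_lt D) 1 le_rfl

theorem negUnipotent_le_chevUpper {F : Type*} [Field F] (D : ChevalleyDatum) (hD : NegOk D) :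
    D.negUnipotent F ≤ chevUpper D F := by
  unfold ChevalleyDatum.negUnipotent
  rw [Subgroup.closure_le]
  rintro g ⟨r, t, hr, hg⟩
  show Lowers (revLevel D) 1 ((g : Matrix D.Idx D.Idx F) - 1)
  rw [lowers_revLevel_iff, hg]
  unfold ChevalleyDatum.x
  rw [dif_pos hr.1]
  exact xMat_sub_one_upper D hD ⟨r, hr.1⟩ hr t

/-- entries of elements of `V` on and below the diagonal -/
theorem negUnipotent_entry {F : Type*} [Field F] (D : ChevalleyDatum) (hD : NegOk D) (v : GL D.Idx F)
    (hv : v ∈ D.negUnipotent F) (i j : D.Idx) (h : chevLevel D j ≤ chevLevel D i) :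
    (v : Matrix D.Idx D.Idx F) i j = if i = j then 1 else 0 := by
  have h1 := (lowers_revLevel_iff D _).1 (negUnipotent_le_chevUpper D hD hv) i j h
  rw [Matrix.sub_apply, sub_eq_zero] at h1
  rw [h1, Matrix.one_apply]

set_option maxRecDepth 1000000 in
theorem negOk_G2 : NegOk chevG2 := by decide +kernel
set_option maxRecDepth 1000000 in
theorem negOk_B2 : NegOk chevB2 := by decide +kernel
set_option maxRecDepth 1000000 in
theorem negOk_D4 : NegOk chevD4 := by decide +kernel
set_option maxRecDepth 1000000 in
theorem negOk_F4 : NegOk chevF4 := by decide +kernel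
set_option maxRecDepth 1000000 in
theorem negOk_E6 : NegOk chevE6 := by decide +kernel
set_option maxRecDepth 1000000 in
theorem negOk_E7 : NegOk chevE7 := by decide +kernel
set_option maxRecDepth 1000000 in
theorem negOk_E8 : NegOk chevE8 := by decide +kernel

theorem negOk_of_mem (D : ChevalleyDatum)
    (hD : D ∈ [chevG2, chevB2, chevD4, chevF4, chevE6, chevE7, chevE8]) : NegOk D := by
  simp only [List.mem_cons, List.mem_nil_iff, or_false] at hD
  rcases hD with rfl | rfl | rfl | rfl | rfl | rfl | rfl
  · exact negOk_G2
  · exact negOk_B2
  · exact negOk_D4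
  · exact negOk_F4
  · exact negOk_E6
  · exact negOk_E7
  · exact negOk_E8

end Cfsg.Agent.Lead.Chev
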