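import Mathlib
import Cfsg.Agent.Lib.Lead.ChevComm
import Cfsg.Agent.Lib.Lead.ChevSLH

/-!
For simply-laced data (all chains of length at most one) the terms of the commutator formula are read off a single
chain entry, and their behaviour under a fundamental reflection follows from `NXFacts`.
-/

set_option autoImplicit false
set_option linter.unusedSectionVars false
set_option linter.unusedSimpArgs false
set_option linter.unusedVariables false

namespace Cfsg.Agent.Lead.Chev

open Cfsg Cfsg.Lie

theorem chainTerms_eq_of_entry (D : ChevalleyDatum) (r s : ℕ)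
    (hnd : ((rowOf D r).map Prod.fst).Nodup) :
    chainTerms D r s = (D.chainEntry r s).zipIdx.map fun q => (q.1.1, q.2 + 1, q.1.2) := by
  unfold ChevalleyDatum.chainEntry
  cases hf : (D.chain.getD r #[]).toList.find? (fun e => e.1 = s) with
  | none =>
    simp only [List.zipIdx_nil, List.map_nil]
    apply chainTerms_of_not_mem
    intro e he
    have := List.find?_eq_none.1 hf e he
    simpa using this
  | some e =>
    have he : e ∈ rowOf D r := List.mem_of_find?_eq_some hf
    have hes : e.1 = s := by simpa using List.find?_some hf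
    have := chainTerms_of_mem D r hnd e he
    rw [hes] at this
    exact this

/-- in a simply-laced datum a chain entry has at most one term -/
theorem chainEntry_SL (D : ChevalleyDatum) (r : ℕ) (h : SLRoot D r)
    (hnd : ((rowOf D r).map Prod.fst).Nodup) (s : ℕ) (hs : s < D.nroots) (hsr : s ≠ r)
    (hsn : s ≠ D.neg r) :
    (D.chainEntry r s = [] ∧ chainTerms D r s = []) ∨
      ∃ u M, D.chainEntry r s = [(u, M)] ∧ chainTerms D r s = [(u, 1, M)] := by
  have hE := chainTerms_eq_of_entry D r s hnd
  rcases h.hchain s hs hsr hsn with h0 | ⟨u, M, h1, -⟩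
  · left
    refine ⟨?_, h0⟩
    rw [h0] at hE
    cases hl : D.chainEntry r s with
    | nil => rfl
    | cons a l => rw [hl] at hE; simp at hE
  · right
    rw [h1] at hE
    cases hl : D.chainEntry r s with
    | nil => rw [hl] at hE; simp at hE
    | cons a l =>
      cases l with
      | nil =>
        rw [hl] at hE
        simp at hE
        refine ⟨a.1, a.2, rfl, ?_⟩
        rw [h1, hE.1, hE.2]
      | cons b l' =>
        rw [hl] at hE
        simp at hE

theorem commTerms_of_short (D : ChevalleyDatum) (r s : ℕ) (h1 : (D.chainEntry r s).length ≤ 1)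
    (h2 : (D.chainEntry s r).length ≤ 1) :
    D.commTerms r s = (D.chainEntry r s).map fun q => (q.1, q.2, 1, 1) := by
  unfold ChevalleyDatum.commTerms ChevalleyDatum.chainRoot ChevalleyDatum.chainM
  match hl1 : D.chainEntry r s, hl2 : D.chainEntry s r with
  | [], [] => simp
  | [], [b] => simp
  | [a], [] => simp
  | [a], [b] => simp
  | _ :: _ :: _, _ => rw [hl1] at h1; simp at h1
  | _, _ :: _ :: _ => rw [hl2] at h2; simp at h2

/-- the terms of the commutator formula under a fundamental reflection, simply-laced case -/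
theorem commTerms_reflect_SL (D : ChevalleyDatum) (hSL : ∀ r < D.nroots, SLRoot D r)
    (hnd : ∀ r < D.nroots, ((rowOf D r).map Prod.fst).Nodup) (i : ℕ) (η : ℕ → ℤ)
    (fa : NXFacts D η i) (r' s' : ℕ) (hr' : r' < D.nroots) (hs' : s' < D.nroots) (hne : s' ≠ r')
    (hnn : s' ≠ D.neg r') :
    (∀ c ∈ D.commTerms r' s', c.1 < D.nroots) ∧
      D.commTerms (D.reflectRoot i r') (D.reflectRoot i s') = (D.commTerms r' s').map fun c =>
        (D.reflectRoot i c.1, c.2.1 * η c.1 * η r' ^ c.2.2.1 * η s' ^ c.2.2.2, c.2.2.1, c.2.2.2) := by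
  have hwr := fa.wlt r' hr'
  have hws := fa.wlt s' hs'
  have hne' : r' ≠ s' := fun h => hne h.symm
  have hnn' : r' ≠ D.neg s' := by
    intro h
    apply hnn
    rw [h, (hSL s' hs').hnn]
  -- the reflected pair is again a pair of distinct, non-opposite roots
  have hwne : D.reflectRoot i s' ≠ D.reflectRoot i r' := by
    intro h
    apply hne
    rw [← fa.winv s' hs', h, fa.winv r' hr']
  have hwnn : D.reflectRoot i s' ≠ D.neg (D.reflectRoot i r') := by
    intro h
    apply hnn
    rw [← fa.wneg r' hr'] at h
    rw [← fa.winv s' hs', h, fa.winv _ (fa.nlt r' hr')]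
  have hwne' : D.reflectRoot i r' ≠ D.reflectRoot i s' := fun h => hwne h.symm
  have hwnn' : D.reflectRoot i r' ≠ D.neg (D.reflectRoot i s') := by
    intro h
    apply hwnn
    rw [h, (hSL _ hws).hnn]
  -- the four chain entries are short
  have A := chainEntry_SL D r' (hSL r' hr') (hnd r' hr') s' hs' hne hnn
  have B := chainEntry_SL D s' (hSL s' hs') (hnd s' hs') r' hr' hne' hnn'
  have A' := chainEntry_SL D _ (hSL _ hwr) (hnd _ hwr) _ hws hwne hwnn
  have B' := chainEntry_SL D _ (hSL _ hws) (hnd _ hws) _ hwr hwne' hwnn'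
  have lenle : ∀ {x y : ℕ}, ((D.chainEntry x y = [] ∧ chainTerms D x y = []) ∨
      ∃ u M, D.chainEntry x y = [(u, M)] ∧ chainTerms D x y = [(u, 1, M)]) →
      (D.chainEntry x y).length ≤ 1 := by
    intro x y h
    rcases h with ⟨h, -⟩ | ⟨u, M, h, -⟩ <;> rw [h] <;> simp
  rw [commTerms_of_short D r' s' (lenle A) (lenle B),
    commTerms_of_short D _ _ (lenle A') (lenle B')]
  have hch := fa.chain r' hr' s' hs' hne hnn
  rcases A with ⟨a1, a2⟩ | ⟨u, M, a1, a2⟩
  · rw [a2, List.map_nil] at hch
    rcases A' with ⟨b1, b2⟩ | ⟨u', M', b1, b2⟩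
    · rw [a1, b1]
      simp
    · rw [b2] at hch
      simp at hch
  · rw [a2] at hch
    have hu : u < D.nroots := fa.chlt r' hr' s' hs' (u, 1, M) (by rw [a2]; simp)
    rcases A' with ⟨b1, b2⟩ | ⟨u', M', b1, b2⟩
    · rw [b2] at hch
      simp at hch
    · rw [b2] at hch
      simp only [List.map_cons, List.map_nil, List.cons.injEq, Prod.mk.injEq, and_true,
        true_and] at hch
      rw [a1, b1]
      refine ⟨by simpa using hu, ?_⟩
      simp only [List.map_cons, List.map_nil, List.cons.injEq, Prod.mk.injEq, and_true, true_and]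
      refine ⟨hch.1, ?_⟩
      rw [hch.2]
      ring

end Cfsg.Agent.Lead.Chev
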