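import Mathlib
import Cfsg.Agent.Lib.Lead.ChevComm
import Cfsg.Agent.Lib.Lead.ChevDiagGroup

/-!
Ordered products `∏_{r ∈ L} x_r(t_r)` over a list of roots: if the list is "closed from the right" under the
commutator formula, the set of such products is closed under right multiplication by the root elements of the
list (the collection process).
-/

set_option autoImplicit false
set_option linter.unusedSectionVars false
set_option linter.unusedSimpArgs false
set_option linter.unusedVariables false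

namespace Cfsg.Agent.Lead.Chev

open Cfsg Cfsg.Lie

variable {F : Type*} [Field F]

/-- the ordered product `∏_{r ∈ L} x_r(t_r)` -/
def prodL (D : ChevalleyDatum) (L : List ℕ) (t : ℕ → F) : Matrix D.Idx D.Idx F :=
  D.wordMat F (L.map fun r => (r, t r))

theorem prodL_nil (D : ChevalleyDatum) (t : ℕ → F) : prodL D [] t = 1 := by
  simp [prodL, wordMat_nil]

theorem prodL_cons (D : ChevalleyDatum) (r : ℕ) (L : List ℕ) (t : ℕ → F) :
    prodL D (r :: L) t = D.x F r (t r) * prodL D L t := by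
  simp [prodL, wordMat_cons]

theorem prodL_congr (D : ChevalleyDatum) (L : List ℕ) (t t' : ℕ → F) (h : ∀ r ∈ L, t r = t' r) :
    prodL D L t = prodL D L t' := by
  unfold prodL
  congr 1
  apply List.map_congr_left
  intro r hr
  rw [h r hr]

theorem prodL_update (D : ChevalleyDatum) (L : List ℕ) (t : ℕ → F) (r : ℕ) (c : F) (hr : r ∉ L) :
    prodL D L (Function.update t r c) = prodL D L t := by
  apply prodL_congr
  intro s hs
  have : s ≠ r := fun h => hr (h ▸ hs)
  simp [Function.update, this]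

theorem prodL_zero (D : ChevalleyDatum) (L : List ℕ) (hL : ∀ s ∈ L, s < D.nroots)
    (hzero : ∀ r < D.nroots, D.x F r (0 : F) = 1) : prodL D L (fun _ => (0 : F)) = 1 := by
  induction L with
  | nil => exact prodL_nil D _
  | cons r L ih =>
    rw [prodL_cons, hzero r (hL r List.mem_cons_self),
      ih (fun s hs => hL s (List.mem_cons_of_mem _ hs)), one_mul]

/-- the set of ordered products over `L` is closed under right multiplication by the `x_s(a)`, `s ∈ L` -/
def ClosedL (D : ChevalleyDatum) (F : Type*) [Field F] (L : List ℕ) : Prop :=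
  ∀ t : ℕ → F, ∀ s ∈ L, ∀ a : F, ∃ t' : ℕ → F, prodL D L t * D.x F s a = prodL D L t'

theorem closed_mulWord (D : ChevalleyDatum) (L : List ℕ) (hc : ClosedL D F L)
    (w : List (ℕ × F)) (hw : ∀ q ∈ w, q.1 ∈ L) (t : ℕ → F) :
    ∃ t' : ℕ → F, prodL D L t * D.wordMat F w = prodL D L t' := by
  induction w generalizing t with
  | nil => exact ⟨t, by rw [wordMat_nil, mul_one]⟩
  | cons q w ih =>
    obtain ⟨t₁, h₁⟩ := hc t q.1 (hw q List.mem_cons_self) q.2
    obtain ⟨t₂, h₂⟩ := ih (fun q' hq' => hw q' (List.mem_cons_of_mem _ hq')) t₁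
    exact ⟨t₂, by rw [wordMat_cons, ← mul_assoc, h₁, h₂]⟩

/-- moving `x_r(a)` to the left through a word over `L'` -/
theorem word_mul_x (D : ChevalleyDatum) (r : ℕ) (L' : List ℕ) (hL' : ∀ s ∈ L', s < D.nroots)
    (hzero : ∀ r < D.nroots, D.x F r (0 : F) = 1) (hc : ClosedL D F L')
    (hcomm : ∀ s ∈ L', ∀ a b : F, ∃ w : List (ℕ × F), (∀ q ∈ w, q.1 ∈ L') ∧
      D.x F s b * D.x F r a = D.x F r a * D.x F s b * D.wordMat F w)
    (a : F) (w : List (ℕ × F)) (hw : ∀ q ∈ w, q.1 ∈ L') :
    ∃ t₂ : ℕ → F, D.wordMat F w * D.x F r a = D.x F r a * prodL D L' t₂ := by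
  induction w using List.reverseRecOn with
  | nil => exact ⟨fun _ => 0, by rw [wordMat_nil, one_mul, prodL_zero D L' hL' hzero, mul_one]⟩
  | append_singleton w q ih =>
    have hq : q.1 ∈ L' := hw q (by simp)
    obtain ⟨t₁, h₁⟩ := ih (fun q' hq' => hw q' (by simp [hq']))
    obtain ⟨wq, hwq, hcq⟩ := hcomm q.1 hq a q.2
    obtain ⟨t₂, h₂⟩ := hc t₁ q.1 hq q.2
    obtain ⟨t₃, h₃⟩ := closed_mulWord D L' hc wq hwq t₂
    refine ⟨t₃, ?_⟩
    rw [wordMat_append, wordMat_cons, wordMat_nil, mul_one, mul_assoc, hcq, ← mul_assoc, ← mul_assoc,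
      h₁, mul_assoc (D.x F r a), h₂, mul_assoc, h₃]

theorem closed_cons (D : ChevalleyDatum) (r : ℕ) (L' : List ℕ) (hr : r < D.nroots)
    (hL' : ∀ s ∈ L', s < D.nroots) (hrL : r ∉ L')
    (hadd : ∀ r < D.nroots, ∀ t₁ t₂ : F, D.x F r t₁ * D.x F r t₂ = D.x F r (t₁ + t₂))
    (hzero : ∀ r < D.nroots, D.x F r (0 : F) = 1) (hc : ClosedL D F L')
    (hcomm : ∀ s ∈ L', ∀ a b : F, ∃ w : List (ℕ × F), (∀ q ∈ w, q.1 ∈ L') ∧
      D.x F s b * D.x F r a = D.x F r a * D.x F s b * D.wordMat F w) :
    ClosedL D F (r :: L') := by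
  intro t s hs a
  rcases List.mem_cons.1 hs with rfl | hs
  · -- `s = r`
    obtain ⟨t₂, h₂⟩ := word_mul_x D s L' hL' hzero hc hcomm a (L'.map fun r => (r, t r)) (by
      intro q hq
      obtain ⟨r', hr', rfl⟩ := List.mem_map.1 hq
      exact hr')
    refine ⟨Function.update t₂ s (t s + a), ?_⟩
    rw [prodL_cons, prodL_cons, prodL_update D L' t₂ s _ hrL, mul_assoc]
    change D.x F s (t s) * (D.wordMat F _ * D.x F s a) = _
    rw [h₂, ← mul_assoc, hadd s hr]
    simp [Function.update]
  · obtain ⟨t₁, h₁⟩ := hc t s hs a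
    refine ⟨Function.update t₁ r (t r), ?_⟩
    rw [prodL_cons, prodL_cons, prodL_update D L' t₁ r _ hrL, mul_assoc, h₁]
    simp [Function.update]

/-! ### the positive roots from a given index on -/

/-- the positive roots with index at least `lo`, in increasing order -/
def posFrom (D : ChevalleyDatum) (lo : ℕ) : List ℕ :=
  (List.range' lo (D.nroots - lo)).filter fun r => decide (D.IsPosRoot r)

theorem posFrom_zero (D : ChevalleyDatum) : posFrom D 0 = D.posRoots := by
  unfold posFrom ChevalleyDatum.posRoots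
  rw [Nat.sub_zero, List.range_eq_range']

theorem mem_posFrom (D : ChevalleyDatum) (lo s : ℕ) : s ∈ posFrom D lo ↔ lo ≤ s ∧ D.IsPosRoot s := by
  unfold posFrom
  rw [List.mem_filter, List.mem_range'_1, decide_eq_true_eq]
  constructor
  · rintro ⟨⟨h1, _⟩, h3⟩
    exact ⟨h1, h3⟩
  · rintro ⟨h1, h2⟩
    have := h2.1
    exact ⟨⟨h1, by omega⟩, h2⟩

theorem posFrom_ge (D : ChevalleyDatum) (lo : ℕ) (h : D.nroots ≤ lo) : posFrom D lo = [] := by
  unfold posFrom
  have : D.nroots - lo = 0 := by omega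
  rw [this]
  rfl

theorem posFrom_lt (D : ChevalleyDatum) (lo : ℕ) (h : lo < D.nroots) :
    posFrom D lo = if D.IsPosRoot lo then lo :: posFrom D (lo + 1) else posFrom D (lo + 1) := by
  unfold posFrom
  have e : D.nroots - lo = (D.nroots - (lo + 1)) + 1 := by omega
  rw [e, List.range'_succ, List.filter_cons]
  by_cases hp : D.IsPosRoot lo <;> simp [hp]

/-- the table facts for the collection process -/
def PosComm (D : ChevalleyDatum) : Prop :=
  ∀ r s, D.IsPosRoot r → D.IsPosRoot s → r < s →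
    s ≠ D.neg r ∧ ∀ c ∈ D.commTerms r s, D.IsPosRoot c.1 ∧ r < c.1

theorem closed_posFrom (D : ChevalleyDatum)
    (hadd : ∀ r < D.nroots, ∀ t₁ t₂ : F, D.x F r t₁ * D.x F r t₂ = D.x F r (t₁ + t₂))
    (hzero : ∀ r < D.nroots, D.x F r (0 : F) = 1)
    (hcomm : ∀ r < D.nroots, ∀ s < D.nroots, s ≠ r → s ≠ D.neg r → CommOK D F r s)
    (hP : PosComm D) (k : ℕ) : ClosedL D F (posFrom D (D.nroots - k)) := by
  induction k with
  | zero =>
    rw [Nat.sub_zero, posFrom_ge D _ le_rfl]
    intro t s hs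
    simp at hs
  | succ k ih =>
    by_cases hk : D.nroots ≤ k
    · have : D.nroots - (k + 1) = D.nroots - k := by omega
      rw [this]
      exact ih
    · have hlo : D.nroots - (k + 1) < D.nroots := by omega
      have e : D.nroots - (k + 1) + 1 = D.nroots - k := by omega
      rw [posFrom_lt D _ hlo, e]
      by_cases hp : D.IsPosRoot (D.nroots - (k + 1))
      · rw [if_pos hp]
        set lo := D.nroots - (k + 1) with hlo'
        apply closed_cons D lo _ hlo
          (fun s hs => ((mem_posFrom D _ s).1 hs).2.1)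
          (fun h => by have := ((mem_posFrom D _ lo).1 h).1; omega) hadd hzero ih
        intro s hs a b
        obtain ⟨hs1, hs2⟩ := (mem_posFrom D _ s).1 hs
        have hlt : lo < s := by omega
        obtain ⟨hne, hroots⟩ := hP lo s hp hs2 hlt
        refine ⟨D.commWord F lo s a b, ?_, hcomm lo hlo s hs2.1 (by omega) hne a b⟩
        intro q hq
        unfold ChevalleyDatum.commWord at hq
        obtain ⟨c, hc, rfl⟩ := List.mem_map.1 hq
        obtain ⟨h1, h2⟩ := hroots c hc
        exact (mem_posFrom D _ _).2 ⟨by simp only; omega, h1⟩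
      · rw [if_neg hp]
        exact ih

/-- existence: every element of the closure of the positive root elements is an ordered product -/
theorem exists_prodL_of_mem (D : ChevalleyDatum)
    (hadd : ∀ r < D.nroots, ∀ t₁ t₂ : F, D.x F r t₁ * D.x F r t₂ = D.x F r (t₁ + t₂))
    (hzero : ∀ r < D.nroots, D.x F r (0 : F) = 1)
    (hcomm : ∀ r < D.nroots, ∀ s < D.nroots, s ≠ r → s ≠ D.neg r → CommOK D F r s)
    (hP : PosComm D) (g : GL D.Idx F) (hg : g ∈ D.posUnipotent F) :
    ∃ t : ℕ → F, (g : Matrix D.Idx D.Idx F) = prodL D D.posRoots t := by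
  have hcl : ClosedL D F D.posRoots := by
    have := closed_posFrom D hadd hzero hcomm hP D.nroots
    rwa [Nat.sub_self, posFrom_zero] at this
  have hmem : ∀ r, D.IsPosRoot r → r ∈ D.posRoots := by
    intro r hr
    rw [← posFrom_zero, mem_posFrom]
    exact ⟨Nat.zero_le _, hr⟩
  unfold ChevalleyDatum.posUnipotent at hg
  induction hg using Subgroup.closure_induction_right with
  | one =>
    refine ⟨fun _ => 0, ?_⟩
    rw [prodL_zero D _ (fun s hs => ?_) hzero]
    · rfl
    · rw [← posFrom_zero, mem_posFrom] at hs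
      exact hs.2.1
  | mul_right x hx y hy ih =>
    obtain ⟨t, ht⟩ := ih
    obtain ⟨r, a, hr, hya⟩ := hy
    obtain ⟨t', ht'⟩ := hcl t r (hmem r hr) a
    exact ⟨t', by rw [Units.val_mul, ht, hya, ht']⟩
  | mul_inv_cancel x hx y hy ih =>
    obtain ⟨t, ht⟩ := ih
    obtain ⟨r, a, hr, hya⟩ := hy
    obtain ⟨t', ht'⟩ := hcl t r (hmem r hr) (-a)
    refine ⟨t', ?_⟩
    have hinv : ((y⁻¹ : GL D.Idx F) : Matrix D.Idx D.Idx F) = D.x F r (-a) := by
      have h1 : (y : Matrix D.Idx D.Idx F) * D.x F r (-a) = 1 := by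
        rw [hya, hadd r hr.1, add_neg_cancel, hzero r hr.1]
      have h2 : ((y⁻¹ : GL D.Idx F) : Matrix D.Idx D.Idx F) * (y : Matrix D.Idx D.Idx F) = 1 := by
        rw [← Units.val_mul, inv_mul_cancel, Units.val_one]
      calc ((y⁻¹ : GL D.Idx F) : Matrix D.Idx D.Idx F)
          = ((y⁻¹ : GL D.Idx F) : Matrix D.Idx D.Idx F) * ((y : Matrix D.Idx D.Idx F) * D.x F r (-a)) := by
            rw [h1, mul_one]
        _ = D.x F r (-a) := by rw [← mul_assoc, h2, one_mul]
    rw [Units.val_mul, ht, hinv, ht']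

end Cfsg.Agent.Lead.Chev
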