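import Mathlib
import Cfsg.Agent.Lib.Lead.ChevU1
import Cfsg.Agent.Lib.Lead.ChevCol
import Cfsg.Agent.Lib.Lead.ChevSLH

/-!
Uniqueness of the ordered product `∏_{r > 0} x_r(t_r)`: the parameter of the first factor `x_{lo}` is read off the
coefficient of `e_{lo}` in the image of `e_{-lo}`, because the later factors keep `e_{-lo}` inside
`e_{-lo} + span{e_u : u positive, u ≠ lo}`.
-/

set_option autoImplicit false
set_option linter.unusedSectionVars false
set_option linter.unusedSimpArgs false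
set_option linter.unusedVariables false

namespace Cfsg.Agent.Lead.Chev

open Cfsg Cfsg.Lie

variable {F : Type*} [Field F]

/-- the table facts for the uniqueness argument; `N2 = nroots / 2` -/
structure UFacts (D : ChevalleyDatum) : Prop where
  pos_ge : ∀ r, D.IsPosRoot r → D.nroots / 2 ≤ r
  neg_lt : ∀ r, D.IsPosRoot r → D.neg r < D.nroots / 2
  neg_neg : ∀ r < D.nroots, D.neg (D.neg r) = r
  up : ∀ s, D.IsPosRoot s → ∀ u, D.nroots / 2 ≤ u → u < D.nroots →
    ∀ x ∈ chainTerms D s u, s < x.1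
  low : ∀ lo s, D.IsPosRoot lo → D.IsPosRoot s → lo < s →
    ∀ x ∈ chainTerms D s (D.neg lo), D.nroots / 2 ≤ x.1 ∧ x.1 ≠ lo

/-- coordinates of the root vectors `e_u`, `u` in the upper half and different from `lo` -/
def goodIdx (D : ChevalleyDatum) (lo : ℕ) (idx : D.Idx) : Prop :=
  ∃ u : Fin D.nroots, idx = Sum.inr u ∧ D.nroots / 2 ≤ u.val ∧ u.val ≠ lo

/-- the vectors supported on the good coordinates -/
def suppB (D : ChevalleyDatum) (F : Type*) [Field F] (lo : ℕ) : Submodule F (D.Idx → F) where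
  carrier := {v | ∀ idx, ¬ goodIdx D lo idx → v idx = 0}
  add_mem' := by
    intro a b ha hb idx h
    simp [ha idx h, hb idx h]
  zero_mem' := by
    intro idx _
    rfl
  smul_mem' := by
    intro c a ha idx h
    simp [ha idx h]

theorem mem_suppB (D : ChevalleyDatum) (lo : ℕ) (v : D.Idx → F) :
    v ∈ suppB D F lo ↔ ∀ idx, ¬ goodIdx D lo idx → v idx = 0 := Iff.rfl

theorem bvec_mem_suppB (D : ChevalleyDatum) (lo u : ℕ) (h1 : D.nroots / 2 ≤ u) (h2 : u ≠ lo) :
    (bvec D (.inr u) : D.Idx → F) ∈ suppB D F lo := by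
  intro idx hidx
  simp only [bvec]
  rw [if_neg]
  intro hc
  apply hidx
  rcases idx with j | w
  · simp [codeOf] at hc
  · simp only [codeOf, Sum.map_inr, Sum.inr.injEq] at hc
    exact ⟨w, rfl, by rw [← hc]; exact h1, by rw [← hc]; exact h2⟩

theorem list_sum_apply' {ι : Type*} (l : List (ι → F)) (i : ι) : l.sum i = (l.map fun f => f i).sum := by
  induction l with
  | nil => rfl
  | cons a l ih => simp [ih]

theorem mulVec_eq_sum' {ι : Type*} [Fintype ι] [DecidableEq ι] (M : Matrix ι ι F) (v : ι → F) :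
    M.mulVec v = ∑ i, v i • M.mulVec (Pi.single i 1) := by
  funext row
  simp only [Matrix.mulVec, dotProduct, Finset.sum_apply, Pi.smul_apply, smul_eq_mul]
  apply Finset.sum_congr rfl
  intro i _
  rw [Finset.sum_eq_single i]
  · simp [mul_comm]
  · intro j _ hj
    simp [Pi.single_apply, hj]
  · intro h
    exact absurd (Finset.mem_univ _) h

/-- `x_s(b)`, `s ≥ lo` positive, preserves `suppB lo` -/
theorem x_mulVec_mem_suppB (D : ChevalleyDatum) (hU : UFacts D) (lo s : ℕ) (hs : D.IsPosRoot s)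
    (hlo : lo ≤ s) (b : F) (v : D.Idx → F) (hv : v ∈ suppB D F lo) :
    (D.x F s b).mulVec v ∈ suppB D F lo := by
  rw [mulVec_eq_sum']
  apply Submodule.sum_mem
  intro idx _
  by_cases hg : goodIdx D lo idx
  · apply Submodule.smul_mem
    obtain ⟨u, rfl, hu1, hu2⟩ := hg
    have hc : (Pi.single (Sum.inr u) 1 : D.Idx → F) = bvec D (.inr u.val) := (bvec_codeOf D (Sum.inr u)).symm
    rw [hc]
    have hsN := hU.pos_ge s hs
    by_cases hus : u.val = s
    · rw [hus, x_mulVec_bvec_self D s hs.1]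
      exact bvec_mem_suppB D lo s hsN (by rw [← hus]; exact hu2)
    · have hun : u.val ≠ D.negIdx.getD s 0 := by
        intro h
        have := hU.neg_lt s hs
        have h' : u.val = D.neg s := h
        omega
      rw [x_mulVec_bvec_chain D s hs.1 b u.val u.2 hus hun]
      apply Submodule.add_mem
      · exact bvec_mem_suppB D lo u.val hu1 hu2
      · apply list_sum_mem
        intro w hw
        obtain ⟨x, hx, rfl⟩ := List.mem_map.1 hw
        apply Submodule.smul_mem
        have := hU.up s hs u.val hu1 u.2 x hx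
        exact bvec_mem_suppB D lo x.1 (by omega) (by omega)
  · rw [hv idx hg, zero_smul]
    exact Submodule.zero_mem _

/-- `x_s(b)`, `s > lo` positive, maps `e_{-lo}` into `e_{-lo} + suppB lo` -/
theorem x_mulVec_neg_sub_mem (D : ChevalleyDatum) (hU : UFacts D) (lo s : ℕ) (hlo : D.IsPosRoot lo)
    (hs : D.IsPosRoot s) (hlt : lo < s) (b : F) :
    (D.x F s b).mulVec (bvec D (.inr (D.neg lo))) - bvec D (.inr (D.neg lo)) ∈ suppB D F lo := by
  have hm := hU.neg_lt lo hlo
  have hsN := hU.pos_ge s hs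
  have hmn : D.neg lo < D.nroots := by
    have := hs.1
    omega
  have h1 : D.neg lo ≠ s := by omega
  have h2 : D.neg lo ≠ D.negIdx.getD s 0 := by
    intro h
    have h' : D.neg lo = D.neg s := h
    have := congrArg D.neg h'
    rw [hU.neg_neg lo hlo.1, hU.neg_neg s hs.1] at this
    omega
  rw [x_mulVec_bvec_chain D s hs.1 b _ hmn h1 h2, add_sub_cancel_left]
  apply list_sum_mem
  intro w hw
  obtain ⟨x, hx, rfl⟩ := List.mem_map.1 hw
  apply Submodule.smul_mem
  obtain ⟨g1, g2⟩ := hU.low lo s hlo hs hlt x hx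
  exact bvec_mem_suppB D lo x.1 g1 g2

/-- a word in the `x_s`, `s > lo` positive, maps `e_{-lo}` into `e_{-lo} + suppB lo` -/
theorem word_mulVec_neg_sub_mem (D : ChevalleyDatum) (hU : UFacts D) (lo : ℕ) (hlo : D.IsPosRoot lo)
    (w : List (ℕ × F)) (hw : ∀ q ∈ w, D.IsPosRoot q.1 ∧ lo < q.1) :
    (D.wordMat F w).mulVec (bvec D (.inr (D.neg lo))) - bvec D (.inr (D.neg lo)) ∈ suppB D F lo := by
  induction w with
  | nil =>
    rw [wordMat_nil, Matrix.one_mulVec, sub_self]
    exact Submodule.zero_mem _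
  | cons q w ih =>
    have hq := hw q List.mem_cons_self
    have ih' := ih (fun q' hq' => hw q' (List.mem_cons_of_mem _ hq'))
    rw [wordMat_cons, ← Matrix.mulVec_mulVec]
    set e := (bvec D (.inr (D.neg lo)) : D.Idx → F) with he
    set y := (D.wordMat F w).mulVec e with hy
    have : (D.x F q.1 q.2).mulVec y - e =
        (D.x F q.1 q.2).mulVec (y - e) + ((D.x F q.1 q.2).mulVec e - e) := by
      rw [Matrix.mulVec_sub]
      abel
    rw [this]
    exact Submodule.add_mem _ (x_mulVec_mem_suppB D hU lo q.1 hq.1 (le_of_lt hq.2) q.2 _ ih')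
      (x_mulVec_neg_sub_mem D hU lo q.1 hlo hq.1 hq.2 q.2)

/-- the key step: `x_{lo}(c) · (word over later roots) = (word over later roots)` forces `c = 0` -/
theorem eq_zero_of_x_mul_word (D : ChevalleyDatum) (hU : UFacts D) (lo : ℕ) (hlo : D.IsPosRoot lo)
    (w w' : List (ℕ × F)) (hw : ∀ q ∈ w, D.IsPosRoot q.1 ∧ lo < q.1)
    (hw' : ∀ q ∈ w', D.IsPosRoot q.1 ∧ lo < q.1) (c : F)
    (h : D.x F lo c * D.wordMat F w = D.wordMat F w') : c = 0 := by
  have hm := hU.neg_lt lo hlo
  have hloN := hU.pos_ge lo hlo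
  have hmn : D.neg lo < D.nroots := by
    have := hlo.1
    omega
  set e := (bvec D (.inr (D.neg lo)) : D.Idx → F) with he
  have h1 := word_mulVec_neg_sub_mem D hU lo hlo w hw
  have h2 := word_mulVec_neg_sub_mem D hU lo hlo w' hw'
  rw [← he] at h1 h2
  have h3 := congrArg (fun M => M.mulVec e) h
  beta_reduce at h3
  rw [← Matrix.mulVec_mulVec] at h3
  set y := (D.wordMat F w).mulVec e with hy
  -- evaluate at the coordinate `e_{lo}`
  have hng : ¬ goodIdx D lo (Sum.inr ⟨lo, hlo.1⟩) := by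
    rintro ⟨u, hu, -, hne⟩
    apply hne
    have := Sum.inr.inj hu
    rw [← this]
  have e1 : (D.x F lo c).mulVec y = (D.x F lo c).mulVec (y - e) + (D.x F lo c).mulVec e := by
    rw [← Matrix.mulVec_add, sub_add_cancel]
  have e2 := x_mulVec_mem_suppB D hU lo lo hlo le_rfl c _ h1
  have e3 : ((D.x F lo c).mulVec (y - e)) (Sum.inr ⟨lo, hlo.1⟩) = 0 := e2 _ hng
  have e4 : ((D.wordMat F w').mulVec e) (Sum.inr ⟨lo, hlo.1⟩) = 0 := by
    have := h2 _ hng
    simp only [Pi.sub_apply] at this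
    rw [sub_eq_zero] at this
    rw [this, he]
    simp only [bvec, codeOf, Sum.map_inr, Sum.inr.injEq]
    rw [if_neg]
    omega
  have e5 := x_mulVec_bvec_neg D lo hlo.1 c (D.neg lo) hmn (by omega) rfl
  rw [← he] at e5
  have e6 := congrFun h3 (Sum.inr ⟨lo, hlo.1⟩)
  rw [e4, e1, Pi.add_apply, e3, zero_add, e5] at e6
  have v1 : e (Sum.inr ⟨lo, hlo.1⟩) = 0 := by
    rw [he]
    simp only [bvec, codeOf, Sum.map_inr, Sum.inr.injEq]
    rw [if_neg]
    omega
  have v2 : (bvec D (.inr lo) : D.Idx → F) (Sum.inr ⟨lo, hlo.1⟩) = 1 := by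
    simp [bvec, codeOf]
  have v3 : (((List.range D.rank).map fun i =>
      ((((D.coroot.getD lo #[]).getD i 0 : ℤ) : F) * c) • (bvec D (.inl i) : D.Idx → F)).sum)
      (Sum.inr ⟨lo, hlo.1⟩) = 0 := by
    rw [list_sum_apply']
    apply List.sum_eq_zero
    intro z hz
    simp only [List.mem_map] at hz
    obtain ⟨f, ⟨i, _, rfl⟩, rfl⟩ := hz
    simp [bvec, codeOf]
  simp only [Pi.add_apply, Pi.sub_apply, Pi.smul_apply, smul_eq_mul, v1, v2, v3] at e6
  have h5 : c ^ 2 = 0 := by
    have : (0 : F) - c ^ 2 * 1 + 0 = 0 := e6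
    linear_combination -this
  exact pow_eq_zero_iff (two_ne_zero) |>.1 h5

end Cfsg.Agent.Lead.Chev
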