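import Mathlib
import Cfsg.Agent.Lib.Lead.ChevU2
import Cfsg.Agent.Lib.Lead.ChevCommSL
import Cfsg.Agent.Lib.Helper5.ChevUnipotent

/-!
Uniqueness of ordered products over the positive roots, the Boolean table tests for `UFacts` and `PosComm`, and
the description of `U` as the set of ordered products.
-/

set_option autoImplicit false
set_option linter.unusedSectionVars false
set_option linter.unusedSimpArgs false
set_option linter.unusedVariables false

namespace Cfsg.Agent.Lead.Chev

open Cfsg Cfsg.Lie

variable {F : Type*} [Field F]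

/-! ### uniqueness -/

theorem prodL_posFrom_inj (D : ChevalleyDatum) (hU : UFacts D)
    (hadd : ∀ r < D.nroots, ∀ t₁ t₂ : F, D.x F r t₁ * D.x F r t₂ = D.x F r (t₁ + t₂))
    (hzero : ∀ r < D.nroots, D.x F r (0 : F) = 1) (k : ℕ) :
    ∀ t t' : ℕ → F, prodL D (posFrom D (D.nroots - k)) t = prodL D (posFrom D (D.nroots - k)) t' →
      ∀ r ∈ posFrom D (D.nroots - k), t r = t' r := by
  induction k with
  | zero =>
    intro t t' _ r hr
    rw [Nat.sub_zero, posFrom_ge D _ le_rfl] at hr
    simp at hr
  | succ k ih =>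
    by_cases hk : D.nroots ≤ k
    · have : D.nroots - (k + 1) = D.nroots - k := by omega
      rw [this]
      exact ih
    · have hlo : D.nroots - (k + 1) < D.nroots := by omega
      have e : D.nroots - (k + 1) + 1 = D.nroots - k := by omega
      rw [posFrom_lt D _ hlo, e]
      by_cases hp : D.IsPosRoot (D.nroots - (k + 1))
      · rw [if_pos hp]
        set lo := D.nroots - (k + 1) with hlo'
        intro t t' h r hr
        rw [prodL_cons, prodL_cons] at h
        have hword : ∀ t'' : ℕ → F, ∀ q ∈ (posFrom D (D.nroots - k)).map (fun r => (r, t'' r)),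
            D.IsPosRoot q.1 ∧ lo < q.1 := by
          intro t'' q hq
          obtain ⟨r', hr', rfl⟩ := List.mem_map.1 hq
          obtain ⟨h1, h2⟩ := (mem_posFrom D _ r').1 hr'
          exact ⟨h2, by simp only; omega⟩
        -- the first parameters agree
        have h1 : D.x F lo (-(t' lo)) * (D.x F lo (t lo) * prodL D (posFrom D (D.nroots - k)) t) =
            D.x F lo (-(t' lo)) * (D.x F lo (t' lo) * prodL D (posFrom D (D.nroots - k)) t') := by
          rw [h]
        rw [← mul_assoc, ← mul_assoc, hadd lo hlo, hadd lo hlo, neg_add_cancel, hzero lo hlo,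
          one_mul] at h1
        have hc := eq_zero_of_x_mul_word D hU lo hp _ _ (hword t) (hword t') _ h1
        have h0 : t lo = t' lo := by
          have : t lo = t' lo + (-(t' lo) + t lo) := by ring
          rw [this, hc, add_zero]
        rcases List.mem_cons.1 hr with rfl | hr
        · exact h0
        · rw [hc, hzero lo hlo, one_mul] at h1
          exact ih t t' h1 r hr
      · rw [if_neg hp]
        exact ih

theorem prodL_posRoots_inj (D : ChevalleyDatum) (hU : UFacts D)
    (hadd : ∀ r < D.nroots, ∀ t₁ t₂ : F, D.x F r t₁ * D.x F r t₂ = D.x F r (t₁ + t₂))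
    (hzero : ∀ r < D.nroots, D.x F r (0 : F) = 1) (t t' : ℕ → F)
    (h : prodL D D.posRoots t = prodL D D.posRoots t') : ∀ r, D.IsPosRoot r → t r = t' r := by
  intro r hr
  have := prodL_posFrom_inj D hU hadd hzero D.nroots t t'
  rw [Nat.sub_self, posFrom_zero] at this
  apply this h
  rw [← posFrom_zero, mem_posFrom]
  exact ⟨Nat.zero_le _, hr⟩

/-! ### words over positive roots lie in `U` -/

theorem exists_mem_of_posWord (D : ChevalleyDatum)
    (hadd : ∀ r < D.nroots, ∀ t₁ t₂ : F, D.x F r t₁ * D.x F r t₂ = D.x F r (t₁ + t₂))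
    (hzero : ∀ r < D.nroots, D.x F r (0 : F) = 1) (w : List (ℕ × F))
    (hw : ∀ q ∈ w, D.IsPosRoot q.1) :
    ∃ g : GL D.Idx F, g ∈ D.posUnipotent F ∧ (g : Matrix D.Idx D.Idx F) = D.wordMat F w := by
  induction w with
  | nil => exact ⟨1, Subgroup.one_mem _, by rw [wordMat_nil]; rfl⟩
  | cons q w ih =>
    obtain ⟨g, hg, hgw⟩ := ih (fun q' hq' => hw q' (List.mem_cons_of_mem _ hq'))
    have hq := hw q List.mem_cons_self
    let y : GL D.Idx F := ⟨D.x F q.1 q.2, D.x F q.1 (-q.2),
      by rw [hadd q.1 hq.1, add_neg_cancel, hzero q.1 hq.1],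
      by rw [hadd q.1 hq.1, neg_add_cancel, hzero q.1 hq.1]⟩
    have hy : y ∈ D.posUnipotent F := Subgroup.subset_closure ⟨q.1, q.2, hq, rfl⟩
    exact ⟨y * g, Subgroup.mul_mem _ hy hg, by rw [Units.val_mul, hgw, wordMat_cons]⟩

/-! ### the Boolean tests -/

/-- the test for the positive root `s`: the facts `up`, `low` of `UFacts` -/
def uChk (D : ChevalleyDatum) (s : ℕ) : Bool :=
  !(decide (D.IsPosRoot s)) ||
  (rowOf D s).all fun e =>
    (if D.nroots / 2 ≤ e.1 then e.2.toList.all fun q => decide (s < q.1) && decide (q.1 < D.nroots)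
     else fNat (D.neg e.1) fun lo =>
      if lo < s then e.2.toList.all fun q => decide (D.nroots / 2 ≤ q.1) && decide (q.1 ≠ lo)
      else true)

/-- `neg` is an involution and the upper half consists of positive roots -/
def uChk0 (D : ChevalleyDatum) (r : ℕ) : Bool :=
  decide (D.neg (D.neg r) = r) && (decide (r < D.nroots / 2) || decide (D.IsPosRoot r))

theorem mem_chainTerms (D : ChevalleyDatum) (s u : ℕ) (x : ℕ × ℕ × ℤ) (h : x ∈ chainTerms D s u) :
    ∃ e ∈ rowOf D s, e.1 = u ∧ ∃ q ∈ e.2.toList, q.1 = x.1 := by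
  unfold chainTerms at h
  simp only [List.mem_flatMap, List.mem_map, List.mem_filter, decide_eq_true_eq] at h
  obtain ⟨e, ⟨he, hes⟩, q, hq, rfl⟩ := h
  exact ⟨e, he, hes, q.1, List.fst_mem_of_mem_zipIdx hq, rfl⟩

theorem uFacts_of_chk (D : ChevalleyDatum) (hP : Cfsg.Agent.Helper5.PosOk D)
    (h0 : ∀ r < D.nroots, uChk0 D r = true) (h : ∀ s < D.nroots, uChk D s = true) : UFacts D := by
  have hnn : ∀ r < D.nroots, D.neg (D.neg r) = r := by
    intro r hr
    have := h0 r hr
    simp only [uChk0, Bool.and_eq_true, decide_eq_true_eq] at this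
    exact this.1
  refine ⟨fun r hr => (hP r hr.1 hr).1, fun r hr => (hP r hr.1 hr).2.1, hnn, ?_, ?_⟩
  · intro s hs u hu1 hu2 x hx
    obtain ⟨e, he, heu, q, hq, hqx⟩ := mem_chainTerms D s u x hx
    have := h s hs.1
    simp only [uChk, Bool.or_eq_true, Bool.not_eq_true', decide_eq_false_iff_not, List.all_eq_true] at this
    rcases this with h1 | h1
    · exact absurd hs h1
    · have h2 := h1 e he
      rw [heu, if_pos hu1, List.all_eq_true] at h2
      have h3 := h2 q hq
      simp only [Bool.and_eq_true, decide_eq_true_eq] at h3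
      rw [← hqx]
      exact h3.1
  · intro lo s hlo hs hlt x hx
    obtain ⟨e, he, heu, q, hq, hqx⟩ := mem_chainTerms D s (D.neg lo) x hx
    have := h s hs.1
    simp only [uChk, Bool.or_eq_true, Bool.not_eq_true', decide_eq_false_iff_not, List.all_eq_true] at this
    rcases this with h1 | h1
    · exact absurd hs h1
    · have h2 := h1 e he
      have hneg : ¬ D.nroots / 2 ≤ D.neg lo := by
        have := (hP lo hlo.1 hlo).2.1
        have e' : D.neg lo = D.negIdx.getD lo 0 := rfl
        omega
      rw [heu, if_neg hneg, fNat_eq, hnn lo hlo.1, if_pos hlt, List.all_eq_true] at h2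
      have h3 := h2 q hq
      simp only [Bool.and_eq_true, decide_eq_true_eq] at h3
      rw [← hqx]
      exact h3

/-- the test of `PosComm` for one pair -/
def posCommChk (D : ChevalleyDatum) (r s : ℕ) : Bool :=
  !(decide (D.IsPosRoot r) && decide (D.IsPosRoot s) && decide (r < s)) ||
    (D.commTerms r s).all fun c => decide (D.IsPosRoot c.1) && decide (r < c.1)

theorem posComm_of_chk (D : ChevalleyDatum) (hP : Cfsg.Agent.Helper5.PosOk D)
    (h : ∀ r < D.nroots, ∀ s < D.nroots, posCommChk D r s = true) : PosComm D := by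
  intro r s hr hs hlt
  constructor
  · have h1 := (hP r hr.1 hr).2.1
    have h2 := (hP s hs.1 hs).1
    have e' : D.neg r = D.negIdx.getD r 0 := rfl
    omega
  · intro c hc
    have := h r hr.1 s hs.1
    simp only [posCommChk, Bool.or_eq_true, Bool.not_eq_true', Bool.and_eq_false_iff,
      decide_eq_false_iff_not, List.all_eq_true, Bool.and_eq_true, decide_eq_true_eq] at this
    rcases this with ((h1 | h1) | h1) | h1
    · exact absurd hr h1
    · exact absurd hs h1
    · exact absurd hlt h1
    · exact h1 c hc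

/-- `PosComm` for simply-laced data, from `UFacts`-type tests -/
theorem posComm_of_SL (D : ChevalleyDatum) (hP : Cfsg.Agent.Helper5.PosOk D)
    (hSL : ∀ r < D.nroots, SLRoot D r)
    (hnd : ∀ r < D.nroots, ((rowOf D r).map Prod.fst).Nodup)
    (h0 : ∀ r < D.nroots, uChk0 D r = true) (h : ∀ s < D.nroots, uChk D s = true) : PosComm D := by
  intro r s hr hs hlt
  have hr1 := (hP r hr.1 hr).2.1
  have hr2 := (hP r hr.1 hr).1
  have hs1 := (hP s hs.1 hs).2.1
  have hs2 := (hP s hs.1 hs).1
  have e1 : D.neg r = D.negIdx.getD r 0 := rfl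
  have e2 : D.neg s = D.negIdx.getD s 0 := rfl
  have hne : s ≠ D.neg r := by omega
  refine ⟨hne, ?_⟩
  intro c hc
  have A := chainEntry_SL D r (hSL r hr.1) (hnd r hr.1) s hs.1 (by omega) hne
  have B := chainEntry_SL D s (hSL s hs.1) (hnd s hs.1) r hr.1 (by omega) (by omega)
  have lenle : ∀ {x y : ℕ}, ((D.chainEntry x y = [] ∧ chainTerms D x y = []) ∨
      ∃ u M, D.chainEntry x y = [(u, M)] ∧ chainTerms D x y = [(u, 1, M)]) →
      (D.chainEntry x y).length ≤ 1 := by
    intro x y h
    rcases h with ⟨h, -⟩ | ⟨u, M, h, -⟩ <;> rw [h] <;> simp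
  rw [commTerms_of_short D r s (lenle A) (lenle B)] at hc
  rcases A with ⟨a1, -⟩ | ⟨u, M, a1, a2⟩
  · rw [a1] at hc
    simp at hc
  · rw [a1] at hc
    simp only [List.map_cons, List.map_nil, List.mem_singleton] at hc
    rw [hc]
    simp only
    obtain ⟨e, he, heu, q, hq, hqx⟩ := mem_chainTerms D r s (u, 1, M) (by rw [a2]; simp)
    have := h r hr.1
    simp only [uChk, Bool.or_eq_true, Bool.not_eq_true', decide_eq_false_iff_not, List.all_eq_true] at this
    rcases this with h1 | h1
    · exact absurd hr h1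
    · have h2 := h1 e he
      rw [heu, if_pos hs2, List.all_eq_true] at h2
      have h3 := h2 q hq
      simp only [Bool.and_eq_true, decide_eq_true_eq] at h3
      simp only at hqx
      rw [hqx] at h3
      have h4 := h0 u h3.2
      simp only [uChk0, Bool.and_eq_true, Bool.or_eq_true, decide_eq_true_eq] at h4
      rcases h4.2 with h5 | h5
      · omega
      · exact ⟨h5, h3.1⟩

end Cfsg.Agent.Lead.Chev
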