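import Mathlib
import Cfsg.Agent.Lib.Lead.ChevGL
import Cfsg.Agent.Lib.Lead.ChevNX

/-!
For a fundamental root `p`: the subgroup `U_p` generated by the `X_s`, `s` positive and `s ≠ p`, is normalised by
`X_p` and `X_{-p}`, and `U = U_p X_p`.
-/

set_option autoImplicit false
set_option linter.unusedSectionVars false
set_option linter.unusedSimpArgs false
set_option linter.unusedVariables false

namespace Cfsg.Agent.Lead.Chev

open Cfsg Cfsg.Lie

variable {F : Type*} [Field F]

theorem closure_le_normalizer_of {G : Type*} [Group G] (S : Set G) (K : Subgroup G)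
    (hS : ∀ g ∈ S, g⁻¹ ∈ S) (h : ∀ g ∈ S, ∀ k ∈ K, g * k * g⁻¹ ∈ K) :
    Subgroup.closure S ≤ Subgroup.normalizer (K : Set G) := by
  rw [Subgroup.closure_le]
  intro g hg
  rw [SetLike.mem_coe, Subgroup.mem_normalizer_iff]
  intro k
  constructor
  · exact h g hg k
  · intro hk
    have := h g⁻¹ (hS g hg) _ hk
    have e : g⁻¹ * (g * k * g⁻¹) * g⁻¹⁻¹ = k := by group
    rwa [e] at this

/-- the subgroup `U_p` generated by the positive root subgroups other than `X_p` -/
def posExcept (D : ChevalleyDatum) (F : Type*) [Field F] (p : ℕ) : Subgroup (GL D.Idx F) :=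
  Subgroup.closure {g : GL D.Idx F | ∃ (s : ℕ) (t : F), D.IsPosRoot s ∧ s ≠ p ∧
    (g : Matrix D.Idx D.Idx F) = D.x F s t}

theorem xGL_mem_posExcept (D : ChevalleyDatum) (hX : XAdd D F) (p s : ℕ) (hs : D.IsPosRoot s) (hsp : s ≠ p)
    (t : F) : xGL D hX s t ∈ posExcept D F p :=
  Subgroup.subset_closure ⟨s, t, hs, hsp, rfl⟩

theorem wordGL_mem_posExcept (D : ChevalleyDatum) (hX : XAdd D F) (p : ℕ) (w : List (ℕ × F))
    (hw : ∀ q ∈ w, D.IsPosRoot q.1 ∧ q.1 ≠ p) : wordGL D hX w ∈ posExcept D F p := by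
  induction w with
  | nil => rw [wordGL_nil]; exact one_mem _
  | cons q w ih =>
    rw [wordGL_cons]
    exact mul_mem (xGL_mem_posExcept D hX p q.1 (hw q List.mem_cons_self).1 (hw q List.mem_cons_self).2 _)
      (ih fun q' hq' => hw q' (List.mem_cons_of_mem _ hq'))

/-- table check: for `a = ± p` and every positive `s ≠ p`, the roots `i a + j s` are positive and `≠ p` -/
def upChk (D : ChevalleyDatum) (i : ℕ) : Bool :=
  (List.range D.nroots).all fun s =>
    !decide (D.IsPosRoot s) || decide (s = D.simple i) ||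
      (decide (s ≠ D.neg (D.simple i)) &&
        (D.commTerms (D.simple i) s).all (fun c => decide (D.IsPosRoot c.1) && decide (c.1 ≠ D.simple i)) &&
        (D.commTerms (D.neg (D.simple i)) s).all
          (fun c => decide (D.IsPosRoot c.1) && decide (c.1 ≠ D.simple i)))

theorem up_of_chk (D : ChevalleyDatum) (i : ℕ) (h : upChk D i = true) (s : ℕ) (hs : D.IsPosRoot s)
    (hsp : s ≠ D.simple i) :
    s ≠ D.neg (D.simple i) ∧
      (∀ c ∈ D.commTerms (D.simple i) s, D.IsPosRoot c.1 ∧ c.1 ≠ D.simple i) ∧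
      (∀ c ∈ D.commTerms (D.neg (D.simple i)) s, D.IsPosRoot c.1 ∧ c.1 ≠ D.simple i) := by
  unfold upChk at h
  rw [List.all_eq_true] at h
  have h1 := h s (List.mem_range.2 hs.1)
  simp only [Bool.or_eq_true, Bool.and_eq_true, Bool.not_eq_true', decide_eq_false_iff_not,
    decide_eq_true_eq, List.all_eq_true] at h1
  rcases h1 with (h1 | h1) | h1
  · exact absurd hs h1
  · exact absurd h1 hsp
  · exact ⟨h1.1.1, h1.1.2, h1.2⟩

/-- conjugation by `x_a(t)`, `a = ± p`, maps `U_p` into itself -/
theorem conj_mem_posExcept (D : ChevalleyDatum) (hX : XAdd D F)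
    (hcomm : ∀ r < D.nroots, ∀ s < D.nroots, s ≠ r → s ≠ D.neg r → CommOK D F r s)
    (i : ℕ) (hchk : upChk D i = true) (hnn : D.neg (D.neg (D.simple i)) = D.simple i)
    (a : ℕ) (ha : a = D.simple i ∨ a = D.neg (D.simple i)) (halt : a < D.nroots) (t : F)
    (k : GL D.Idx F) (hk : k ∈ posExcept D F (D.simple i)) :
    xGL D hX a t * k * (xGL D hX a t)⁻¹ ∈ posExcept D F (D.simple i) := by
  unfold posExcept at hk
  induction hk using Subgroup.closure_induction with
  | mem x hx =>
    obtain ⟨s, u, hs, hsp, hx⟩ := hx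
    have hxe : x = xGL D hX s u := Units.ext hx
    obtain ⟨hsn, h1, h2⟩ := up_of_chk D i hchk s hs hsp
    have hsa : s ≠ a := by rcases ha with rfl | rfl <;> assumption
    have hsna : s ≠ D.neg a := by
      rcases ha with rfl | rfl
      · exact hsn
      · rw [hnn]; exact hsp
    have hc := hcomm a halt s hs.1 hsa hsna
    have hw : ∀ q ∈ D.commWord F a s (-t) u, D.IsPosRoot q.1 ∧ q.1 ≠ D.simple i := by
      intro q hq
      unfold ChevalleyDatum.commWord at hq
      obtain ⟨c, hc', rfl⟩ := List.mem_map.1 hq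
      rcases ha with rfl | rfl
      · exact h1 c hc'
      · exact h2 c hc'
    have e : xGL D hX a t * x * (xGL D hX a t)⁻¹ =
        xGL D hX s u * wordGL D hX (D.commWord F a s (-t) u) := by
      rw [hxe, xGL_inv]
      have e1 : xGL D hX s u * xGL D hX a (-t) =
          xGL D hX a (-t) * xGL D hX s u * wordGL D hX (D.commWord F a s (-t) u) := by
        apply Units.ext
        rw [Units.val_mul, Units.val_mul, Units.val_mul, wordGL_val, xGL_val, xGL_val]
        exact hc (-t) u
      rw [mul_assoc, e1, ← mul_assoc, ← mul_assoc, xGL_mul, add_neg_cancel, xGL_zero, one_mul]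
    rw [e]
    exact mul_mem (xGL_mem_posExcept D hX _ s hs hsp u) (wordGL_mem_posExcept D hX _ _ hw)
  | one => simp
  | mul x y _ _ hx hy =>
    have : xGL D hX a t * (x * y) * (xGL D hX a t)⁻¹ =
        (xGL D hX a t * x * (xGL D hX a t)⁻¹) * (xGL D hX a t * y * (xGL D hX a t)⁻¹) := by group
    rw [this]
    exact Subgroup.mul_mem _ hx hy
  | inv x _ hx =>
    have : xGL D hX a t * x⁻¹ * (xGL D hX a t)⁻¹ = (xGL D hX a t * x * (xGL D hX a t)⁻¹)⁻¹ := by group
    rw [this]
    exact Subgroup.inv_mem _ hx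

theorem rootSubgroup_le_normalizer_posExcept (D : ChevalleyDatum) (hX : XAdd D F)
    (hcomm : ∀ r < D.nroots, ∀ s < D.nroots, s ≠ r → s ≠ D.neg r → CommOK D F r s)
    (i : ℕ) (hchk : upChk D i = true) (hnn : D.neg (D.neg (D.simple i)) = D.simple i)
    (a : ℕ) (ha : a = D.simple i ∨ a = D.neg (D.simple i)) (halt : a < D.nroots) :
    D.rootSubgroup F a ≤ Subgroup.normalizer (posExcept D F (D.simple i) : Set (GL D.Idx F)) := by
  unfold ChevalleyDatum.rootSubgroup
  apply closure_le_normalizer_of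
  · rintro g ⟨t, hg⟩
    refine ⟨-t, ?_⟩
    have : g = xGL D hX a t := Units.ext hg
    rw [this, xGL_inv]
    rfl
  · rintro g ⟨t, hg⟩ k hk
    have : g = xGL D hX a t := Units.ext hg
    rw [this]
    exact conj_mem_posExcept D hX hcomm i hchk hnn a ha halt t k hk

theorem posExcept_sup_rootSubgroup (D : ChevalleyDatum) (p : ℕ) (hp : D.IsPosRoot p) :
    posExcept D F p ⊔ D.rootSubgroup F p = D.posUnipotent F := by
  apply le_antisymm
  · rw [sup_le_iff]
    constructor
    · unfold posExcept ChevalleyDatum.posUnipotent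
      apply Subgroup.closure_mono
      rintro g ⟨s, t, hs, -, hg⟩
      exact ⟨s, t, hs, hg⟩
    · unfold ChevalleyDatum.rootSubgroup ChevalleyDatum.posUnipotent
      apply Subgroup.closure_mono
      rintro g ⟨t, hg⟩
      exact ⟨p, t, hp, hg⟩
  · unfold ChevalleyDatum.posUnipotent
    rw [Subgroup.closure_le]
    rintro g ⟨s, t, hs, hg⟩
    by_cases hsp : s = p
    · apply Subgroup.mem_sup_right
      apply Subgroup.subset_closure
      exact ⟨t, hsp ▸ hg⟩
    · apply Subgroup.mem_sup_left
      apply Subgroup.subset_closure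
      exact ⟨s, t, hs, hsp, hg⟩

end Cfsg.Agent.Lead.Chev
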