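import Mathlib
import Cfsg.Agent.Lib.Lead.ChevNConj
import Cfsg.Agent.Lib.Lead.ChevUp
import Cfsg.Agent.Lib.Lead.ChevBorel
import Cfsg.Agent.Lib.Lead.ChevU3
import Cfsg.Agent.Lib.Lead.ChevNegTri

/-!
The package of facts on a Chevalley datum from which the structure theory (Borel subgroup, monomial subgroup,
`(B, N)`-pair, Bruhat decomposition) is derived.
-/

set_option autoImplicit false
set_option linter.unusedSectionVars false
set_option linter.unusedSimpArgs false
set_option linter.unusedVariables false

namespace Cfsg.Agent.Lead.Chev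

open Cfsg Cfsg.Lie

/-- positive and negative roots -/
structure SignFacts (D : ChevalleyDatum) : Prop where
  pos_or_neg : ∀ r < D.nroots, D.IsPosRoot r ∨ D.IsNegRoot r
  not_both : ∀ r, D.IsPosRoot r → ¬ D.IsNegRoot r
  neg_of_pos : ∀ r, D.IsPosRoot r → D.IsNegRoot (D.neg r)
  pos_of_neg : ∀ r, D.IsNegRoot r → D.IsPosRoot (D.neg r)
  neg_lt : ∀ r < D.nroots, D.neg r < D.nroots
  neg_neg : ∀ r < D.nroots, D.neg (D.neg r) = r

/-- the check of the sign facts -/
def signChk (D : ChevalleyDatum) : Bool :=
  (List.range D.nroots).all fun r =>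
    (decide (D.IsPosRoot r) || decide (D.IsNegRoot r)) &&
    !(decide (D.IsPosRoot r) && decide (D.IsNegRoot r)) &&
    (!decide (D.IsPosRoot r) || decide (D.IsNegRoot (D.neg r))) &&
    (!decide (D.IsNegRoot r) || decide (D.IsPosRoot (D.neg r))) &&
    decide (D.neg r < D.nroots) && decide (D.neg (D.neg r) = r)

theorem signFacts_of_chk (D : ChevalleyDatum) (h : signChk D = true) : SignFacts D := by
  unfold signChk at h
  rw [List.all_eq_true] at h
  have h' : ∀ r < D.nroots, _ := fun r hr => h r (List.mem_range.2 hr)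
  simp only [Bool.and_eq_true, Bool.or_eq_true, Bool.not_eq_true', decide_eq_true_eq,
    decide_eq_false_iff_not, Bool.and_eq_false_iff] at h'
  refine ⟨fun r hr => (h' r hr).1.1.1.1.1, ?_, ?_, ?_, fun r hr => (h' r hr).1.2,
    fun r hr => (h' r hr).2⟩
  · intro r hp hn
    rcases (h' r hp.1).1.1.1.1.2 with h1 | h1
    · exact h1 hp
    · exact h1 hn
  · intro r hp
    rcases (h' r hp.1).1.1.1.2 with h1 | h1
    · exact absurd hp h1
    · exact h1
  · intro r hn
    rcases (h' r hn.1).1.1.2 with h1 | h1
    · exact absurd hn h1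
    · exact h1

/-- the fundamental reflection `w_p` permutes the positive roots other than `p`; the fundamental coroots are the
unit vectors; distinct fundamental roots have distinct indices -/
structure ReflFacts (D : ChevalleyDatum) : Prop where
  refl_pos : ∀ i < D.rank, ∀ s, D.IsPosRoot s → s ≠ D.simple i → D.IsPosRoot (D.reflectRoot i s)
  simple_coroot : ∀ j < D.rank, ∀ k < D.rank,
    (D.coroot.getD (D.simple j) #[]).getD k 0 = if k = j then 1 else 0
  simple_inj : ∀ i < D.rank, ∀ j < D.rank, D.simple i = D.simple j → i = j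

/-- the check of `ReflFacts` -/
def reflChk (D : ChevalleyDatum) : Bool :=
  (List.range D.rank).all fun i =>
    ((List.range D.nroots).all fun s =>
      !decide (D.IsPosRoot s) || decide (s = D.simple i) || decide (D.IsPosRoot (D.reflectRoot i s))) &&
    ((List.range D.rank).all fun k =>
      decide ((D.coroot.getD (D.simple i) #[]).getD k 0 = if k = i then 1 else 0)) &&
    ((List.range D.rank).all fun j => decide (D.simple i ≠ D.simple j) || decide (i = j))

theorem reflFacts_of_chk (D : ChevalleyDatum) (h : reflChk D = true) : ReflFacts D := by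
  unfold reflChk at h
  rw [List.all_eq_true] at h
  have h' : ∀ i < D.rank, _ := fun i hi => h i (List.mem_range.2 hi)
  simp only [Bool.and_eq_true, List.all_eq_true, List.mem_range, Bool.or_eq_true, Bool.not_eq_true',
    decide_eq_true_eq, decide_eq_false_iff_not] at h'
  refine ⟨?_, ?_, ?_⟩
  · intro i hi s hs hne
    rcases (h' i hi).1.1 s hs.1 with (h1 | h1) | h1
    · exact absurd hs h1
    · exact absurd h1 hne
    · exact h1
  · intro j hj k hk
    exact (h' j hj).1.2 k hk
  · intro i hi j hj he
    rcases (h' i hi).2 j hj with h1 | h1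
    · exact absurd he h1
    · exact h1

/-- the facts on a datum and a field -/
structure ChevFacts (D : ChevalleyDatum) (F : Type*) [Field F] : Prop where
  xadd : XAdd D F
  nsimple : ∀ i < D.rank, NSimple D F i (etaOf D i)
  comm : ∀ r < D.nroots, ∀ s < D.nroots, s ≠ r → s ≠ D.neg r → CommOK D F r s
  hsimple : HSimple D F
  hall : HAll D F
  hconj : HConj D F
  up : ∀ i < D.rank, upChk D i = true
  simple_pos : ∀ i < D.rank, D.IsPosRoot (D.simple i)
  orbit : RootOrbit D
  sign : SignFacts D
  ufacts : UFacts D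
  poscomm : PosComm D
  posok : Cfsg.Agent.Helper5.PosOk D
  refl : ReflFacts D
  negok : NegOk D
  w0 : ∃ w : List ℕ, (∀ i ∈ w, i < D.rank) ∧ (∀ s, D.IsPosRoot s → D.IsNegRoot (reflWord D w s)) ∧
    (∀ s, D.IsNegRoot s → ∃ r, D.IsPosRoot r ∧ reflWord D w r = s)
  cartan_neg : ∀ i < D.rank, ∀ s < D.nroots, D.cartan i (D.neg s) = - D.cartan i s

namespace ChevFacts

variable {D : ChevalleyDatum} {F : Type*} [Field F] (hF : ChevFacts D F)
include hF

theorem simple_lt (i : ℕ) (hi : i < D.rank) : D.simple i < D.nroots := (hF.simple_pos i hi).1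

theorem facts (i : ℕ) (hi : i < D.rank) : NXFacts D (etaOf D i) i := (hF.nsimple i hi).facts

theorem neg_simple_lt (i : ℕ) (hi : i < D.rank) : D.neg (D.simple i) < D.nroots :=
  hF.sign.neg_lt _ (hF.simple_lt i hi)

end ChevFacts

end Cfsg.Agent.Lead.Chev
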