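import Mathlib
import Cfsg.Agent.Lib.Lead.ChevFacts

/-!
Towards the `(B, N)`-pair: the structure of `B = U H = U_p X_p H`, and the double coset rule
`n_p B n ⊆ B n_p n B ∪ B n B`.
-/

set_option autoImplicit false
set_option linter.unusedSectionVars false
set_option linter.unusedSimpArgs false
set_option linter.unusedVariables false

namespace Cfsg.Agent.Lead.Chev

open Cfsg Cfsg.Lie

variable {F : Type*} [Field F]

theorem mem_rootSubgroup_iff (D : ChevalleyDatum) (hX : XAdd D F) (r : ℕ) (g : GL D.Idx F) :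
    g ∈ D.rootSubgroup F r ↔ ∃ t : F, g = xGL D hX r t := by
  constructor
  · intro hg
    unfold ChevalleyDatum.rootSubgroup at hg
    induction hg using Subgroup.closure_induction with
    | mem x hx =>
      obtain ⟨t, hx⟩ := hx
      exact ⟨t, Units.ext hx⟩
    | one => exact ⟨0, (xGL_zero D hX r).symm⟩
    | mul x y _ _ hx hy =>
      obtain ⟨t₁, rfl⟩ := hx
      obtain ⟨t₂, rfl⟩ := hy
      exact ⟨t₁ + t₂, xGL_mul D hX r t₁ t₂⟩
    | inv x _ hx =>
      obtain ⟨t, rfl⟩ := hx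
      exact ⟨-t, xGL_inv D hX r t⟩
  · rintro ⟨t, rfl⟩
    exact Subgroup.subset_closure ⟨t, rfl⟩

theorem xGL_mem_posUnipotent (D : ChevalleyDatum) (hX : XAdd D F) (r : ℕ) (hr : D.IsPosRoot r) (t : F) :
    xGL D hX r t ∈ D.posUnipotent F :=
  Subgroup.subset_closure ⟨r, t, hr, rfl⟩

theorem posUnipotent_le_borel (D : ChevalleyDatum) : D.posUnipotent F ≤ D.borelSubgroup F := le_sup_left

theorem diagonal_le_borel (D : ChevalleyDatum) : D.diagonalSubgroup F ≤ D.borelSubgroup F := le_sup_right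

theorem chi_ne_zero (D : ChevalleyDatum) (c : ℕ → F) (hc : ∀ i < D.rank, c i ≠ 0) (v : ℕ) :
    chi D c v ≠ 0 := by
  unfold chi
  apply List.prod_ne_zero
  intro h0
  obtain ⟨i, hi, hz⟩ := List.mem_map.1 h0
  exact zpow_ne_zero _ (hc i (List.mem_range.1 hi)) hz

namespace ChevFacts

variable {D : ChevalleyDatum} (hF : ChevFacts D F)
include hF

/-- every element of `B` is `u h` -/
theorem mem_borel_iff (b : GL D.Idx F) :
    b ∈ D.borelSubgroup F ↔ ∃ u ∈ D.posUnipotent F, ∃ h ∈ D.diagonalSubgroup F, b = u * h := by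
  have hle := diagonalSubgroup_le_normalizer D hF.hall hF.hconj
  have hcoe := Subgroup.coe_mul_of_right_le_normalizer_left (D.posUnipotent F) (D.diagonalSubgroup F) hle
  constructor
  · intro hb
    have hb' : b ∈ ((D.posUnipotent F ⊔ D.diagonalSubgroup F : Subgroup (GL D.Idx F)) :
        Set (GL D.Idx F)) := hb
    rw [hcoe] at hb'
    obtain ⟨u, hu, h, hh, rfl⟩ := hb'
    exact ⟨u, hu, h, hh, rfl⟩
  · rintro ⟨u, hu, h, hh, rfl⟩
    exact mul_mem (posUnipotent_le_borel D hu) (diagonal_le_borel D hh)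

theorem rootSubgroup_le_normalizer (i : ℕ) (hi : i < D.rank) (a : ℕ)
    (ha : a = D.simple i ∨ a = D.neg (D.simple i)) :
    D.rootSubgroup F a ≤ Subgroup.normalizer (posExcept D F (D.simple i) : Set (GL D.Idx F)) := by
  have halt : a < D.nroots := by
    rcases ha with rfl | rfl
    · exact hF.simple_lt i hi
    · exact hF.neg_simple_lt i hi
  exact rootSubgroup_le_normalizer_posExcept D hF.xadd hF.comm i (hF.up i hi)
    (hF.sign.neg_neg _ (hF.simple_lt i hi)) a ha halt

/-- every element of `U` is `u' x_p(t)` with `u' ∈ U_p` -/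
theorem mem_posUnipotent_iff (i : ℕ) (hi : i < D.rank) (u : GL D.Idx F) :
    u ∈ D.posUnipotent F ↔
      ∃ u' ∈ posExcept D F (D.simple i), ∃ t : F, u = u' * xGL D hF.xadd (D.simple i) t := by
  have hle := hF.rootSubgroup_le_normalizer i hi _ (Or.inl rfl)
  have hcoe := Subgroup.coe_mul_of_right_le_normalizer_left (posExcept D F (D.simple i))
    (D.rootSubgroup F (D.simple i)) hle
  rw [← posExcept_sup_rootSubgroup D _ (hF.simple_pos i hi)]
  constructor
  · intro hu
    have hu' : u ∈ ((posExcept D F (D.simple i) ⊔ D.rootSubgroup F (D.simple i) :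
        Subgroup (GL D.Idx F)) : Set (GL D.Idx F)) := hu
    rw [hcoe] at hu'
    obtain ⟨u', hu', x, hx, rfl⟩ := hu'
    obtain ⟨t, rfl⟩ := (mem_rootSubgroup_iff D hF.xadd _ x).1 hx
    exact ⟨u', hu', t, rfl⟩
  · rintro ⟨u', hu', t, rfl⟩
    exact mul_mem (Subgroup.mem_sup_left hu')
      (Subgroup.mem_sup_right ((mem_rootSubgroup_iff D hF.xadd _ _).2 ⟨t, rfl⟩))

theorem posExcept_le_posUnipotent (i : ℕ) (hi : i < D.rank) :
    posExcept D F (D.simple i) ≤ D.posUnipotent F := by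
  rw [← posExcept_sup_rootSubgroup D _ (hF.simple_pos i hi)]
  exact le_sup_left

/-- the fundamental `n_p` normalises `U_p` -/
theorem nGL_conj_posExcept (i : ℕ) (hi : i < D.rank) (u : GL D.Idx F)
    (hu : u ∈ posExcept D F (D.simple i)) :
    nGL D hF.xadd (D.simple i) * u * (nGL D hF.xadd (D.simple i))⁻¹ ∈ posExcept D F (D.simple i) := by
  have h1 := hF.rootSubgroup_le_normalizer i hi _ (Or.inl rfl)
  have h2 := hF.rootSubgroup_le_normalizer i hi _ (Or.inr rfl)
  have hn : nGL D hF.xadd (D.simple i) ∈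
      Subgroup.normalizer (posExcept D F (D.simple i) : Set (GL D.Idx F)) := by
    rw [nGL_eq_nGLt, nGLt_eq]
    exact mul_mem (mul_mem (h1 ((mem_rootSubgroup_iff D hF.xadd _ _).2 ⟨_, rfl⟩))
      (h2 ((mem_rootSubgroup_iff D hF.xadd _ _).2 ⟨_, rfl⟩)))
      (h1 ((mem_rootSubgroup_iff D hF.xadd _ _).2 ⟨_, rfl⟩))
  exact (Subgroup.mem_normalizer_iff.1 hn u).1 hu

/-- `n_p x_p(t) n_p⁻¹ = x_{-p}(-t)` -/
theorem nGL_conj_simple (i : ℕ) (hi : i < D.rank) (t : F) :
    nGL D hF.xadd (D.simple i) * xGL D hF.xadd (D.simple i) t * (nGL D hF.xadd (D.simple i))⁻¹ =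
      xGL D hF.xadd (D.neg (D.simple i)) (-t) := by
  rw [nGL_conj D hF.xadd i _ (hF.nsimple i hi) _ (hF.simple_lt i hi), (hF.nsimple i hi).sign_p]
  have : D.reflectRoot i (D.simple i) = D.neg (D.simple i) := by
    unfold ChevalleyDatum.reflectRoot
    simp
  rw [this]
  congr 1
  simp

/-- conjugation of a root element by an element of `H` -/
theorem diagonal_conj_xGL (h : GL D.Idx F) (hh : h ∈ D.diagonalSubgroup F) (s : ℕ) (hs : s < D.nroots) :
    ∃ c : F, c ≠ 0 ∧ ∀ t : F, h * xGL D hF.xadd s t * h⁻¹ = xGL D hF.xadd s (c * t) := by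
  obtain ⟨c, hc, hgc⟩ := exists_Tmat_of_mem D hF.hall h hh
  refine ⟨chi D c s, chi_ne_zero D c hc s, fun t => ?_⟩
  rw [mul_inv_eq_iff_eq_mul]
  apply Units.ext
  rw [Units.val_mul, Units.val_mul, hgc, xGL_val, xGL_val]
  exact Tmat_conj D hF.hconj s hs c hc t

end ChevFacts

end Cfsg.Agent.Lead.Chev
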