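import Mathlib
import Cfsg.Agent.Lib.Lead.ChevBN1

/-!
The double coset rule `n_p B n ⊆ B n_p n B ∪ B n B` for a fundamental root `p` and `n ∈ N`.
-/

set_option autoImplicit false
set_option linter.unusedSectionVars false
set_option linter.unusedSimpArgs false
set_option linter.unusedVariables false

namespace Cfsg.Agent.Lead.Chev

open Cfsg Cfsg.Lie

variable {F : Type*} [Field F]

theorem reflWord_reverse_cancel (D : ChevalleyDatum) (η : ℕ → ℕ → ℤ)
    (hfa : ∀ i < D.rank, NXFacts D (η i) i) (w : List ℕ) (hw : ∀ i ∈ w, i < D.rank) (s : ℕ)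
    (hs : s < D.nroots) : reflWord D w (reflWord D w.reverse s) = s := by
  induction w generalizing s with
  | nil => rfl
  | cons i w ih =>
    have hw' : ∀ j ∈ w, j < D.rank := fun j hj => hw j (List.mem_cons_of_mem _ hj)
    have hi := hw i List.mem_cons_self
    rw [List.reverse_cons, reflWord_append]
    simp only [reflWord]
    rw [ih hw' _ ((hfa i hi).wlt s hs), (hfa i hi).winv s hs]

theorem reflWord_reverse_cancel' (D : ChevalleyDatum) (η : ℕ → ℕ → ℤ)
    (hfa : ∀ i < D.rank, NXFacts D (η i) i) (w : List ℕ) (hw : ∀ i ∈ w, i < D.rank) (s : ℕ)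
    (hs : s < D.nroots) : reflWord D w.reverse (reflWord D w s) = s := by
  have h := reflWord_reverse_cancel D η hfa w.reverse
    (fun j hj => hw j (List.mem_reverse.1 hj)) s hs
  rwa [List.reverse_reverse] at h

theorem reflWord_neg (D : ChevalleyDatum) (η : ℕ → ℕ → ℤ)
    (hfa : ∀ i < D.rank, NXFacts D (η i) i) (w : List ℕ) (hw : ∀ i ∈ w, i < D.rank) (s : ℕ)
    (hs : s < D.nroots) : reflWord D w (D.neg s) = D.neg (reflWord D w s) := by
  induction w with
  | nil => rfl
  | cons i w ih =>
    have hw' : ∀ j ∈ w, j < D.rank := fun j hj => hw j (List.mem_cons_of_mem _ hj)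
    have hi := hw i List.mem_cons_self
    simp only [reflWord]
    rw [ih hw', (hfa i hi).wneg _ (reflWord_lt D η hfa w hw' s hs)]

/-- `x_p(τ) n_w = n_w x_{w⁻¹ p}(± τ)` -/
theorem xGL_mul_nWordGL (D : ChevalleyDatum) (hX : XAdd D F) (η : ℕ → ℕ → ℤ)
    (hN : ∀ i < D.rank, NSimple D F i (η i)) (w : List ℕ) (hw : ∀ i ∈ w, i < D.rank)
    (p : ℕ) (hp : p < D.nroots) (τ : F) :
    xGL D hX p τ * nWordGL D hX w = nWordGL D hX w *
      xGL D hX (reflWord D w.reverse p) (((signWord D η w (reflWord D w.reverse p) : ℤ) : F) * τ) := by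
  have hfa : ∀ i < D.rank, NXFacts D (η i) i := fun i hi => (hN i hi).facts
  have hq : reflWord D w.reverse p < D.nroots :=
    reflWord_lt D η hfa w.reverse (fun j hj => hw j (List.mem_reverse.1 hj)) p hp
  have h1 := nWordGL_conj D hX η hN w hw _ hq
    (((signWord D η w (reflWord D w.reverse p) : ℤ) : F) * τ)
  rw [reflWord_reverse_cancel D η hfa w hw p hp] at h1
  have h2 : ((signWord D η w (reflWord D w.reverse p) : ℤ) : F) *
      (((signWord D η w (reflWord D w.reverse p) : ℤ) : F) * τ) = τ := by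
    rcases signWord_sq D η w (fun j hj s => (hN j (hw j hj)).sign s) (reflWord D w.reverse p) with h | h <;>
      rw [h] <;> simp
  rw [h2] at h1
  rw [← h1]
  group

namespace ChevFacts

variable {D : ChevalleyDatum} (hF : ChevFacts D F)
include hF

theorem diagonal_le_monomial : D.diagonalSubgroup F ≤ D.monomialSubgroup F := le_sup_left

/-- the double coset rule -/
theorem nGL_mul_borel_mul (i : ℕ) (hi : i < D.rank) (b : GL D.Idx F) (hb : b ∈ D.borelSubgroup F)
    (n : GL D.Idx F) (hn : n ∈ D.monomialSubgroup F) :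
    (∃ b₁ ∈ D.borelSubgroup F, ∃ b₂ ∈ D.borelSubgroup F,
      nGL D hF.xadd (D.simple i) * b * n = b₁ * (nGL D hF.xadd (D.simple i) * n) * b₂) ∨
    (∃ b₁ ∈ D.borelSubgroup F, ∃ b₂ ∈ D.borelSubgroup F,
      nGL D hF.xadd (D.simple i) * b * n = b₁ * n * b₂) := by
  have hX := hF.xadd
  have hN := hF.nsimple
  have hfa : ∀ i < D.rank, NXFacts D (etaOf D i) i := fun i hi => (hN i hi).facts
  have hp := hF.simple_lt i hi
  have hppos := hF.simple_pos i hi
  obtain ⟨u, hu, h₁, hh₁, rfl⟩ := (hF.mem_borel_iff b).1 hb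
  obtain ⟨u', hu', t, rfl⟩ := (hF.mem_posUnipotent_iff i hi u).1 hu
  have hn₁ : h₁ * n ∈ D.monomialSubgroup F := mul_mem (hF.diagonal_le_monomial hh₁) hn
  obtain ⟨h₂, hh₂, w, hw, hnw⟩ :=
    exists_word_of_mem_monomial D hX (etaOf D) hN hF.simple_lt hF.orbit (h₁ * n) hn₁
  have hu'' := hF.nGL_conj_posExcept i hi u' hu'
  obtain ⟨c, hc, hconj⟩ := hF.diagonal_conj_xGL h₂⁻¹ (inv_mem hh₂) (D.simple i) hp
  have e1 : xGL D hX (D.simple i) t * h₂ = h₂ * xGL D hX (D.simple i) (c * t) := by
    have := hconj t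
    rw [inv_inv] at this
    rw [← this]
    group
  have hh₃ := nGL_conj_mem_diagonal D hX i (etaOf D i) (hN i hi) h₂ hh₂
  have hh₄ := nGL_conj_mem_diagonal D hX i (etaOf D i) (hN i hi) (h₂⁻¹ * h₁)
    (mul_mem (inv_mem hh₂) hh₁)
  have hnw' : nWordGL D hX w = h₂⁻¹ * h₁ * n := by
    rw [mul_assoc, hnw]
    group
  have etot : nGL D hX (D.simple i) * (u' * xGL D hX (D.simple i) t * h₁) * n =
      (nGL D hX (D.simple i) * u' * (nGL D hX (D.simple i))⁻¹) *
      (nGL D hX (D.simple i) * h₂ * (nGL D hX (D.simple i))⁻¹) *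
      (nGL D hX (D.simple i) * xGL D hX (D.simple i) (c * t) * nWordGL D hX w) := by
    calc nGL D hX (D.simple i) * (u' * xGL D hX (D.simple i) t * h₁) * n
        = nGL D hX (D.simple i) * u' * xGL D hX (D.simple i) t * (h₁ * n) := by group
      _ = nGL D hX (D.simple i) * u' * xGL D hX (D.simple i) t * (h₂ * nWordGL D hX w) := by rw [hnw]
      _ = nGL D hX (D.simple i) * u' * (xGL D hX (D.simple i) t * h₂) * nWordGL D hX w := by group
      _ = nGL D hX (D.simple i) * u' * (h₂ * xGL D hX (D.simple i) (c * t)) * nWordGL D hX w := by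
          rw [e1]
      _ = _ := by group
  rw [etot]
  have hβ : (nGL D hX (D.simple i) * u' * (nGL D hX (D.simple i))⁻¹) *
      (nGL D hX (D.simple i) * h₂ * (nGL D hX (D.simple i))⁻¹) ∈ D.borelSubgroup F :=
    mul_mem (posUnipotent_le_borel D (hF.posExcept_le_posUnipotent i hi hu'')) (diagonal_le_borel D hh₃)
  have hq : reflWord D w.reverse (D.simple i) < D.nroots :=
    reflWord_lt D (etaOf D) hfa w.reverse (fun j hj => hw j (List.mem_reverse.1 hj)) _ hp
  have e4 : nGL D hX (D.simple i) * nWordGL D hX w =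
      (nGL D hX (D.simple i) * (h₂⁻¹ * h₁) * (nGL D hX (D.simple i))⁻¹) *
        (nGL D hX (D.simple i) * n) := by
    rw [hnw']
    group
  rcases hF.sign.pos_or_neg _ hq with hqpos | hqneg
  · -- `w⁻¹ p` positive
    left
    have e5 := xGL_mul_nWordGL D hX (etaOf D) hN w hw (D.simple i) hp (c * t)
    refine ⟨(nGL D hX (D.simple i) * u' * (nGL D hX (D.simple i))⁻¹) *
        (nGL D hX (D.simple i) * h₂ * (nGL D hX (D.simple i))⁻¹) *
        (nGL D hX (D.simple i) * (h₂⁻¹ * h₁) * (nGL D hX (D.simple i))⁻¹),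
      mul_mem hβ (diagonal_le_borel D hh₄),
      xGL D hX (reflWord D w.reverse (D.simple i))
        (((signWord D (etaOf D) w (reflWord D w.reverse (D.simple i)) : ℤ) : F) * (c * t)),
      posUnipotent_le_borel D (xGL_mem_posUnipotent D hX _ hqpos _), ?_⟩
    rw [mul_assoc (nGL D hX (D.simple i)) (xGL D hX (D.simple i) (c * t)), e5,
      ← mul_assoc (nGL D hX (D.simple i)) (nWordGL D hX w), e4]
    simp only [mul_assoc]
  · by_cases ht : c * t = 0
    · left
      refine ⟨(nGL D hX (D.simple i) * u' * (nGL D hX (D.simple i))⁻¹) *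
          (nGL D hX (D.simple i) * h₂ * (nGL D hX (D.simple i))⁻¹) *
          (nGL D hX (D.simple i) * (h₂⁻¹ * h₁) * (nGL D hX (D.simple i))⁻¹),
        mul_mem hβ (diagonal_le_borel D hh₄), 1, one_mem _, ?_⟩
      rw [ht, xGL_zero, mul_one, e4]
      simp only [mul_assoc, mul_one]
    · right
      have e6 : nGL D hX (D.simple i) * xGL D hX (D.simple i) (c * t) =
          xGL D hX (D.neg (D.simple i)) (-(c * t)) * nGL D hX (D.simple i) := by
        rw [← hF.nGL_conj_simple i hi (c * t)]
        group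
      have e7 := xGL_neg_eq D hX (D.simple i) (c * t)
      have e8 := nGLt_eq_hGLt_mul D hX (D.simple i) (c * t)⁻¹
      have hwi : ∀ j ∈ i :: w, j < D.rank := by
        intro j hj
        rcases List.mem_cons.1 hj with rfl | hj
        · exact hi
        · exact hw j hj
      have e9 := xGL_mul_nWordGL D hX (etaOf D) hN (i :: w) hwi (D.simple i) hp (-(c * t)⁻¹)
      have hq' : reflWord D (i :: w).reverse (D.simple i) =
          D.neg (reflWord D w.reverse (D.simple i)) := by
        rw [List.reverse_cons, reflWord_append]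
        simp only [reflWord]
        have : D.reflectRoot i (D.simple i) = D.neg (D.simple i) := by
          unfold ChevalleyDatum.reflectRoot
          simp
        rw [this, reflWord_neg D (etaOf D) hfa w.reverse
          (fun j hj => hw j (List.mem_reverse.1 hj)) _ hp]
      rw [hq', nWordGL_cons] at e9
      have hnn := nGL_sq_mem_diagonal D hX (D.simple i) hp
      have hhh := hGLt_mem_diagonal D hX (D.simple i) hp (c * t)⁻¹ (inv_ne_zero ht)
      refine ⟨(nGL D hX (D.simple i) * u' * (nGL D hX (D.simple i))⁻¹) *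
          (nGL D hX (D.simple i) * h₂ * (nGL D hX (D.simple i))⁻¹) *
          xGL D hX (D.simple i) (-(c * t)⁻¹) * hGLt D hX (D.simple i) (c * t)⁻¹ *
          (nGL D hX (D.simple i) * nGL D hX (D.simple i)) * (h₂⁻¹ * h₁), ?_,
        xGL D hX (D.neg (reflWord D w.reverse (D.simple i)))
          (((signWord D (etaOf D) (i :: w) (D.neg (reflWord D w.reverse (D.simple i))) : ℤ) : F) *
            (-(c * t)⁻¹)),
        posUnipotent_le_borel D (xGL_mem_posUnipotent D hX _ (hF.sign.pos_of_neg _ hqneg) _), ?_⟩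
      · exact mul_mem (mul_mem (mul_mem (mul_mem hβ
          (posUnipotent_le_borel D (xGL_mem_posUnipotent D hX _ hppos _)))
          (diagonal_le_borel D hhh)) (diagonal_le_borel D hnn))
          (diagonal_le_borel D (mul_mem (inv_mem hh₂) hh₁))
      · rw [e6, e7, e8]
        have e11 : xGL D hX (D.simple i) (-(c * t)⁻¹) *
            (hGLt D hX (D.simple i) (c * t)⁻¹ * nGLt D hX (D.simple i) 1) *
            xGL D hX (D.simple i) (-(c * t)⁻¹) * nGL D hX (D.simple i) * nWordGL D hX w =
            xGL D hX (D.simple i) (-(c * t)⁻¹) * hGLt D hX (D.simple i) (c * t)⁻¹ *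
            nGL D hX (D.simple i) *
            (xGL D hX (D.simple i) (-(c * t)⁻¹) * (nGL D hX (D.simple i) * nWordGL D hX w)) := by
          rw [← nGL_eq_nGLt]
          simp only [mul_assoc]
        rw [e11, e9, hnw']
        simp only [mul_assoc]

end ChevFacts

end Cfsg.Agent.Lead.Chev
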