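import Mathlib
import Cfsg.Agent.Lib.Lead.ChevBN2

/-!
`B ∪ B n_p B` is a subgroup.
-/

set_option autoImplicit false
set_option linter.unusedSectionVars false
set_option linter.unusedSimpArgs false
set_option linter.unusedVariables false

namespace Cfsg.Agent.Lead.Chev

open Cfsg Cfsg.Lie

variable {F : Type*} [Field F]

namespace ChevFacts

variable {D : ChevalleyDatum} (hF : ChevFacts D F)
include hF

theorem nGL_simple_mem_monomial (i : ℕ) (hi : i < D.rank) :
    nGL D hF.xadd (D.simple i) ∈ D.monomialSubgroup F :=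
  nGL_mem_monomial D hF.xadd _ (hF.simple_lt i hi)

/-- the minimal parabolic subgroup `B ∪ B n_p B` -/
def minParabolic (i : ℕ) (hi : i < D.rank) : Subgroup (GL D.Idx F) where
  carrier := (D.borelSubgroup F : Set (GL D.Idx F)) ∪
    DoubleCoset.doubleCoset (nGL D hF.xadd (D.simple i)) (D.borelSubgroup F : Set (GL D.Idx F))
      (D.borelSubgroup F)
  one_mem' := Or.inl (one_mem _)
  mul_mem' := by
    intro a b ha hb
    rcases ha with ha | ha
    · rcases hb with hb | hb
      · exact Or.inl (mul_mem ha hb)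
      · obtain ⟨b₁, hb₁, b₂, hb₂, rfl⟩ := DoubleCoset.mem_doubleCoset.1 hb
        exact Or.inr (DoubleCoset.mem_doubleCoset.2 ⟨a * b₁, mul_mem ha hb₁, b₂, hb₂, by
          simp only [mul_assoc]⟩)
    · obtain ⟨a₁, ha₁, a₂, ha₂, rfl⟩ := DoubleCoset.mem_doubleCoset.1 ha
      rcases hb with hb | hb
      · exact Or.inr (DoubleCoset.mem_doubleCoset.2 ⟨a₁, ha₁, a₂ * b, mul_mem ha₂ hb, by
          simp only [mul_assoc]⟩)
      · obtain ⟨b₁, hb₁, b₂, hb₂, rfl⟩ := DoubleCoset.mem_doubleCoset.1 hb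
        have e : a₁ * nGL D hF.xadd (D.simple i) * a₂ * (b₁ * nGL D hF.xadd (D.simple i) * b₂) =
            a₁ * (nGL D hF.xadd (D.simple i) * (a₂ * b₁) * nGL D hF.xadd (D.simple i)) * b₂ := by
          simp only [mul_assoc]
        rw [e]
        rcases hF.nGL_mul_borel_mul i hi (a₂ * b₁) (mul_mem ha₂ hb₁) _
          (hF.nGL_simple_mem_monomial i hi) with ⟨c₁, hc₁, c₂, hc₂, h⟩ | ⟨c₁, hc₁, c₂, hc₂, h⟩
        · left
          rw [h]
          exact mul_mem (mul_mem ha₁ (mul_mem (mul_mem hc₁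
            (diagonal_le_borel D (nGL_sq_mem_diagonal D hF.xadd _ (hF.simple_lt i hi)))) hc₂)) hb₂
        · right
          rw [h]
          exact DoubleCoset.mem_doubleCoset.2 ⟨a₁ * c₁, mul_mem ha₁ hc₁, c₂ * b₂, mul_mem hc₂ hb₂, by
            simp only [mul_assoc]⟩
  inv_mem' := by
    intro a ha
    rcases ha with ha | ha
    · exact Or.inl (inv_mem ha)
    · obtain ⟨a₁, ha₁, a₂, ha₂, rfl⟩ := DoubleCoset.mem_doubleCoset.1 ha
      obtain ⟨h, hh, e⟩ := nGL_inv_eq D hF.xadd (D.simple i) (hF.simple_lt i hi)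
      right
      refine DoubleCoset.mem_doubleCoset.2 ⟨a₂⁻¹, inv_mem ha₂, h * a₁⁻¹,
        mul_mem (diagonal_le_borel D hh) (inv_mem ha₁), ?_⟩
      rw [mul_inv_rev, mul_inv_rev, e]
      simp only [mul_assoc]

theorem coe_minParabolic (i : ℕ) (hi : i < D.rank) :
    (hF.minParabolic i hi : Set (GL D.Idx F)) = (D.borelSubgroup F : Set (GL D.Idx F)) ∪
      DoubleCoset.doubleCoset (nGL D hF.xadd (D.simple i)) (D.borelSubgroup F : Set (GL D.Idx F))
        (D.borelSubgroup F) := rfl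

end ChevFacts

end Cfsg.Agent.Lead.Chev
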