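import Mathlib
import Cfsg.Agent.Lib.Lead.ChevBN3

/-!
Monomial matrices against triangular matrices: `U ∩ N = 1`, `B ∩ N = H`, and `x_{-p}(t) ∈ B` only for `t = 0`.
-/

set_option autoImplicit false
set_option linter.unusedSectionVars false
set_option linter.unusedSimpArgs false
set_option linter.unusedVariables false

namespace Cfsg.Agent.Lead.Chev

open Cfsg Cfsg.Lie

variable {F : Type*} [Field F]

theorem bvec_inr_eq (D : ChevalleyDatum) (r : ℕ) (hr : r < D.nroots) :
    (bvec D (.inr r) : D.Idx → F) = Pi.single (Sum.inr ⟨r, hr⟩) 1 :=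
  bvec_codeOf D (Sum.inr ⟨r, hr⟩)

theorem bvec_inl_eq (D : ChevalleyDatum) (j : ℕ) (hj : j < D.rank) :
    (bvec D (.inl j) : D.Idx → F) = Pi.single (Sum.inl ⟨j, hj⟩) 1 :=
  bvec_codeOf D (Sum.inl ⟨j, hj⟩)

theorem Tmat_mulVec_inr (D : ChevalleyDatum) (c : ℕ → F) (r : ℕ) (hr : r < D.nroots) :
    (Tmat D c).mulVec (bvec D (.inr r)) = chi D c r • (bvec D (.inr r) : D.Idx → F) := by
  rw [bvec_inr_eq D r hr]
  unfold Tmat
  rw [Matrix.diagonal_mulVec_single]
  simp only [Sum.elim_inr, mul_one]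
  funext idx
  simp [Pi.single_apply]

theorem Tmat_mulVec_inl (D : ChevalleyDatum) (c : ℕ → F) (j : ℕ) (hj : j < D.rank) :
    (Tmat D c).mulVec (bvec D (.inl j)) = (bvec D (.inl j) : D.Idx → F) := by
  rw [bvec_inl_eq D j hj]
  unfold Tmat
  rw [Matrix.diagonal_mulVec_single]
  simp only [Sum.elim_inl, mul_one]

theorem Tmat_mulVec_Hvec (D : ChevalleyDatum) (c : ℕ → F) (s : ℕ) :
    (Tmat D c).mulVec (Hvec D s) = (Hvec D s : D.Idx → F) := by
  unfold Hvec
  rw [mulVec_list_sum]
  congr 1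
  apply List.map_congr_left
  intro i hi
  rw [Matrix.mulVec_smul, Tmat_mulVec_inl D c i (List.mem_range.1 hi)]

theorem Hvec_simple (D : ChevalleyDatum) (hR : ReflFacts D) (j : ℕ) (hj : j < D.rank) :
    (Hvec D (D.simple j) : D.Idx → F) = bvec D (.inl j) := by
  unfold Hvec
  have h1 : (List.range D.rank).map (fun k =>
      ((((D.coroot.getD (D.simple j) #[]).getD k 0 : ℤ) : F)) • (bvec D (.inl k) : D.Idx → F)) =
      (List.range D.rank).map (fun k => if k = j then (bvec D (.inl j) : D.Idx → F) else 0) := by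
    apply List.map_congr_left
    intro k hk
    rw [hR.simple_coroot j hj k (List.mem_range.1 hk)]
    by_cases h : k = j
    · subst h; simp
    · simp [h]
  rw [h1]
  have h2 : ∀ (n : ℕ) (v : D.Idx → F), ((List.range n).map fun k => if k = j then v else 0).sum =
      if j < n then v else 0 := by
    intro n v
    induction n with
    | zero => simp
    | succ n ih =>
      rw [List.range_succ, List.map_append, List.sum_append, ih]
      by_cases a : j < n
      · have : n ≠ j := by omega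
        simp [a, this, Nat.lt_succ_of_lt a]
      · by_cases b : n = j
        · subst b; simp
        · have : ¬ j < n + 1 := by omega
          simp [a, b, this]
  rw [h2, if_pos hj]

namespace ChevFacts

variable {D : ChevalleyDatum} (hF : ChevFacts D F)
include hF

theorem nGL_simple_val (i : ℕ) (hi : i < D.rank) :
    ((nGL D hF.xadd (D.simple i) : GL D.Idx F) : Matrix D.Idx D.Idx F) = NForm D F i (etaOf D i) := by
  rw [nGL_val]
  exact (hF.nsimple i hi).form

/-- the column of `n_w` at a root vector -/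
theorem nWordGL_mulVec_inr (w : List ℕ) (hw : ∀ i ∈ w, i < D.rank) (r : ℕ) (hr : r < D.nroots) :
    ∃ ε : F, ε ≠ 0 ∧ ((nWordGL D hF.xadd w : GL D.Idx F) : Matrix D.Idx D.Idx F).mulVec
      (bvec D (.inr r)) = ε • (bvec D (.inr (reflWord D w r)) : D.Idx → F) := by
  induction w with
  | nil => exact ⟨1, one_ne_zero, by simp [nWordGL_nil, reflWord]⟩
  | cons i w ih =>
    have hw' : ∀ j ∈ w, j < D.rank := fun j hj => hw j (List.mem_cons_of_mem _ hj)
    have hi := hw i List.mem_cons_self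
    obtain ⟨ε, hε, h1⟩ := ih hw'
    have hlt := reflWord_lt D (etaOf D) hF.facts w hw' r hr
    refine ⟨ε * ((etaOf D i (reflWord D w r) : ℤ) : F), mul_ne_zero hε ?_, ?_⟩
    · rcases (hF.nsimple i hi).sign (reflWord D w r) with h | h <;> rw [h] <;> simp
    · rw [nWordGL_cons, Units.val_mul, ← Matrix.mulVec_mulVec, h1, Matrix.mulVec_smul,
        hF.nGL_simple_val i hi, NForm_mulVec_inr D i _ _ hlt, smul_smul]
      rfl

/-- the action of `n_w` on coroot vectors -/
theorem nWordGL_mulVec_Hvec (w : List ℕ) (hw : ∀ i ∈ w, i < D.rank) (s : ℕ) (hs : s < D.nroots) :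
    ((nWordGL D hF.xadd w : GL D.Idx F) : Matrix D.Idx D.Idx F).mulVec (Hvec D s) =
      (Hvec D (reflWord D w s) : D.Idx → F) := by
  induction w with
  | nil => simp [nWordGL_nil, reflWord]
  | cons i w ih =>
    have hw' : ∀ j ∈ w, j < D.rank := fun j hj => hw j (List.mem_cons_of_mem _ hj)
    have hi := hw i List.mem_cons_self
    have hlt := reflWord_lt D (etaOf D) hF.facts w hw' s hs
    rw [nWordGL_cons, Units.val_mul, ← Matrix.mulVec_mulVec, ih hw', hF.nGL_simple_val i hi,
      NForm_mulVec_Hvec, ← Hvec_reflect D i hi _ (hF.facts i hi) _ hlt]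
    rfl

/-- elements of `U` are unitriangular -/
theorem posUnipotent_entry (u : GL D.Idx F) (hu : u ∈ D.posUnipotent F) (i j : D.Idx)
    (h : Cfsg.Agent.Helper5.chevLevel D i ≤ Cfsg.Agent.Helper5.chevLevel D j) :
    (u : Matrix D.Idx D.Idx F) i j = if i = j then 1 else 0 := by
  have hlow := Cfsg.Agent.Helper5.posUnipotent_le_chevLower D hF.posok hu
  have h1 := hlow i j (by omega)
  rw [Matrix.sub_apply, sub_eq_zero] at h1
  rw [h1, Matrix.one_apply]

/-- if `h n_w ∈ U` then `w` fixes every root and `h n_w = 1` -/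
theorem eq_one_of_mem_posUnipotent (h : GL D.Idx F) (hh : h ∈ D.diagonalSubgroup F) (w : List ℕ)
    (hw : ∀ i ∈ w, i < D.rank) (hm : h * nWordGL D hF.xadd w ∈ D.posUnipotent F) :
    (∀ r < D.nroots, reflWord D w r = r) ∧ h * nWordGL D hF.xadd w = 1 := by
  obtain ⟨c, hc, hgc⟩ := exists_Tmat_of_mem D hF.hall h hh
  have hcol : ∀ r (hr : r < D.nroots), reflWord D w r = r ∧
      ((h * nWordGL D hF.xadd w : GL D.Idx F) : Matrix D.Idx D.Idx F).mulVec (bvec D (.inr r)) =
        (bvec D (.inr r) : D.Idx → F) := by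
    intro r hr
    obtain ⟨ε, hε, h1⟩ := hF.nWordGL_mulVec_inr w hw r hr
    have hlt := reflWord_lt D (etaOf D) hF.facts w hw r hr
    have h2 : ((h * nWordGL D hF.xadd w : GL D.Idx F) : Matrix D.Idx D.Idx F).mulVec (bvec D (.inr r)) =
        (ε * chi D c (reflWord D w r)) • (bvec D (.inr (reflWord D w r)) : D.Idx → F) := by
      rw [Units.val_mul, ← Matrix.mulVec_mulVec, h1, Matrix.mulVec_smul, hgc,
        Tmat_mulVec_inr D c _ hlt, smul_smul]
    have h3 := hF.posUnipotent_entry _ hm (Sum.inr ⟨r, hr⟩) (Sum.inr ⟨r, hr⟩) le_rfl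
    rw [if_pos rfl] at h3
    have h4 := congrFun h2 (Sum.inr ⟨r, hr⟩)
    rw [bvec_inr_eq D r hr, Matrix.mulVec_single_one, Matrix.col_apply, h3,
      bvec_inr_eq D _ hlt] at h4
    simp only [Pi.smul_apply, Pi.single_apply, smul_eq_mul, Sum.inr.injEq, Fin.mk.injEq] at h4
    by_cases hwr : r = reflWord D w r
    · rw [if_pos hwr, mul_one] at h4
      refine ⟨hwr.symm, ?_⟩
      rw [h2, ← h4, ← hwr, one_smul]
    · rw [if_neg hwr, mul_zero] at h4
      exact absurd h4 one_ne_zero
  refine ⟨fun r hr => (hcol r hr).1, ?_⟩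
  apply Units.ext
  rw [Units.val_one]
  have hcolL : ∀ j (hj : j < D.rank),
      ((h * nWordGL D hF.xadd w : GL D.Idx F) : Matrix D.Idx D.Idx F).mulVec (bvec D (.inl j)) =
        (bvec D (.inl j) : D.Idx → F) := by
    intro j hj
    rw [← Hvec_simple D hF.refl j hj, Units.val_mul, ← Matrix.mulVec_mulVec,
      hF.nWordGL_mulVec_Hvec w hw _ (hF.simple_lt j hj), (hcol _ (hF.simple_lt j hj)).1, hgc,
      Tmat_mulVec_Hvec]
  ext a b
  rcases b with j | r
  · have := congrFun (hcolL j.val j.2) a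
    rw [bvec_inl_eq D j.val j.2, Matrix.mulVec_single_one, Matrix.col_apply] at this
    rw [this, Matrix.one_apply, Pi.single_apply]
  · have := congrFun (hcol r.val r.2).2 a
    rw [bvec_inr_eq D r.val r.2, Matrix.mulVec_single_one, Matrix.col_apply] at this
    rw [this, Matrix.one_apply, Pi.single_apply]

/-- an element of `B` which is `h n_w`: then `w` fixes every root and the element lies in `H` -/
theorem mem_diagonal_of_borel_word (b : GL D.Idx F) (hb : b ∈ D.borelSubgroup F) (h : GL D.Idx F)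
    (hh : h ∈ D.diagonalSubgroup F) (w : List ℕ) (hw : ∀ i ∈ w, i < D.rank)
    (e : b = h * nWordGL D hF.xadd w) :
    (∀ r < D.nroots, reflWord D w r = r) ∧ b ∈ D.diagonalSubgroup F := by
  obtain ⟨u, hu, h', hh', rfl⟩ := (hF.mem_borel_iff b).1 hb
  have h1 := nWordGL_conj_mem_diagonal D hF.xadd (etaOf D) hF.nsimple w hw h'⁻¹ (inv_mem hh')
  have e2 : u = (h * (nWordGL D hF.xadd w * h'⁻¹ * (nWordGL D hF.xadd w)⁻¹)) * nWordGL D hF.xadd w := by
    have : u = (u * h') * h'⁻¹ := by group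
    rw [this, e]
    group
  have hu' := hu
  rw [e2] at hu'
  obtain ⟨hw1, h2⟩ := hF.eq_one_of_mem_posUnipotent _ (mul_mem hh h1) w hw hu'
  refine ⟨hw1, ?_⟩
  rw [e2, h2, one_mul]
  exact hh'

/-- `B ∩ N = H` -/
theorem borel_inf_monomial : D.borelSubgroup F ⊓ D.monomialSubgroup F = D.diagonalSubgroup F := by
  apply le_antisymm
  · rintro g ⟨hgB, hgN⟩
    obtain ⟨h, hh, w, hw, e⟩ :=
      exists_word_of_mem_monomial D hF.xadd (etaOf D) hF.nsimple hF.simple_lt hF.orbit g hgN
    exact (hF.mem_diagonal_of_borel_word g hgB h hh w hw e).2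
  · exact le_inf (diagonal_le_borel D) hF.diagonal_le_monomial

/-- `U ∩ N = 1` -/
theorem posUnipotent_inf_monomial : D.posUnipotent F ⊓ D.monomialSubgroup F = ⊥ := by
  rw [eq_bot_iff]
  rintro g ⟨hgU, hgN⟩
  obtain ⟨h, hh, w, hw, e⟩ :=
    exists_word_of_mem_monomial D hF.xadd (etaOf D) hF.nsimple hF.simple_lt hF.orbit g hgN
  rw [e] at hgU
  rw [Subgroup.mem_bot, e]
  exact (hF.eq_one_of_mem_posUnipotent h hh w hw hgU).2

/-- the entries of elements of `B` above the diagonal vanish -/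
theorem borel_entry (b : GL D.Idx F) (hb : b ∈ D.borelSubgroup F) (i j : D.Idx)
    (h : Cfsg.Agent.Helper5.chevLevel D i < Cfsg.Agent.Helper5.chevLevel D j) :
    (b : Matrix D.Idx D.Idx F) i j = 0 := by
  obtain ⟨u, hu, h', hh', rfl⟩ := (hF.mem_borel_iff b).1 hb
  obtain ⟨c, hc, hgc⟩ := exists_Tmat_of_mem D hF.hall h' hh'
  rw [Units.val_mul, hgc]
  unfold Tmat
  rw [Matrix.mul_diagonal, hF.posUnipotent_entry u hu i j (le_of_lt h)]
  have : i ≠ j := by
    rintro rfl
    exact lt_irrefl _ h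
  rw [if_neg this, zero_mul]

/-- `x_{-p}(t) ∈ B` only for `t = 0` -/
theorem eq_zero_of_xGL_neg_mem_borel (p : ℕ) (hp : D.IsPosRoot p) (t : F)
    (h : xGL D hF.xadd (D.neg p) t ∈ D.borelSubgroup F) : t = 0 := by
  have hnlt := hF.sign.neg_lt p hp.1
  have hnn := hF.sign.neg_neg p hp.1
  obtain ⟨hge, hlt, -⟩ := hF.posok p hp.1 hp
  have hlev : Cfsg.Agent.Helper5.chevLevel D (Sum.inr ⟨D.neg p, hnlt⟩) <
      Cfsg.Agent.Helper5.chevLevel D (Sum.inr ⟨p, hp.1⟩) := by
    have h1 : D.neg p < D.nroots / 2 := hlt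
    simp only [Cfsg.Agent.Helper5.chevLevel]
    rw [if_pos h1, if_neg (by omega)]
    omega
  have h0 := hF.borel_entry _ h _ _ hlev
  rw [xGL_val] at h0
  have hne : p ≠ D.neg p := by
    intro he
    have h1 : D.neg p < D.nroots / 2 := hlt
    omega
  have h1 := x_mulVec_bvec_neg D (D.neg p) hnlt t p hp.1 hne (by
    show p = D.neg (D.neg p)
    rw [hnn])
  have h2 := congrFun h1 (Sum.inr ⟨D.neg p, hnlt⟩)
  rw [bvec_inr_eq D p hp.1, Matrix.mulVec_single_one, Matrix.col_apply, h0] at h2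
  have h3 : (((List.range D.rank).map fun i =>
      ((((D.coroot.getD (D.neg p) #[]).getD i 0 : ℤ) : F) * t) • (bvec D (.inl i) : D.Idx → F)).sum)
      (Sum.inr ⟨D.neg p, hnlt⟩) = 0 := by
    generalize (List.range D.rank) = l
    induction l with
    | nil => simp
    | cons a l ih =>
      rw [List.map_cons, List.sum_cons, Pi.add_apply, ih]
      simp [bvec, codeOf]
  rw [Pi.add_apply, h3, add_zero, Pi.sub_apply, Pi.smul_apply, bvec_inr_eq D _ hnlt] at h2
  simp only [Pi.single_apply, Sum.inr.injEq, Fin.mk.injEq, if_neg hne.symm, if_true, smul_eq_mul,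
    mul_one, zero_sub] at h2
  have : t ^ 2 = 0 := by
    have := h2.symm
    rwa [neg_eq_zero] at this
  exact pow_eq_zero_iff (two_ne_zero) |>.1 this

end ChevFacts

end Cfsg.Agent.Lead.Chev
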