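import Mathlib
import Cfsg.Agent.Lib.Lead.ChevMono
import Cfsg.Prelude.Def_LieExceptional

/-!
The `(B, N)`-pair of a Chevalley group.
-/

set_option autoImplicit false
set_option linter.unusedSectionVars false
set_option linter.unusedSimpArgs false
set_option linter.unusedVariables false

namespace Cfsg.Agent.Lead.Chev

open Cfsg Cfsg.Lie

variable {F : Type*} [Field F]

namespace ChevFacts

variable {D : ChevalleyDatum} (hF : ChevFacts D F)
include hF

theorem posUnipotent_le_group : D.posUnipotent F ≤ D.group F := by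
  unfold ChevalleyDatum.posUnipotent
  rw [Subgroup.closure_le]
  rintro g ⟨r, t, hr, hg⟩
  have : g = xGL D hF.xadd r t := Units.ext hg
  rw [this]
  exact xGL_mem_group D hF.xadd r t

theorem diagonal_le_group : D.diagonalSubgroup F ≤ D.group F := by
  unfold ChevalleyDatum.diagonalSubgroup
  rw [Subgroup.closure_le]
  rintro g ⟨r, t, hr, ht, hg⟩
  have : g = hGLt D hF.xadd r t := Units.ext (by rw [hg, hGLt_val])
  rw [this]
  exact hGLt_mem_group D hF.xadd r t

theorem borel_le_group : D.borelSubgroup F ≤ D.group F :=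
  sup_le hF.posUnipotent_le_group hF.diagonal_le_group

theorem monomial_le_group : D.monomialSubgroup F ≤ D.group F := by
  unfold ChevalleyDatum.monomialSubgroup
  apply sup_le hF.diagonal_le_group
  rw [Subgroup.closure_le]
  rintro g ⟨r, hr, hg⟩
  have : g = nGL D hF.xadd r := Units.ext (by rw [hg, nGL_val])
  rw [this]
  exact nGL_mem_group D hF.xadd r

theorem group_le_sup : D.group F ≤ D.borelSubgroup F ⊔ D.monomialSubgroup F := by
  apply group_le_of D hF.xadd
  intro r hr t
  obtain ⟨i, hi, w, hw, hwr⟩ := hF.orbit r hr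
  have h1 := nWordGL_conj D hF.xadd (etaOf D) hF.nsimple w hw (D.simple i) (hF.simple_lt i hi)
    (((signWord D (etaOf D) w (D.simple i) : ℤ) : F) * t)
  have h2 : ((signWord D (etaOf D) w (D.simple i) : ℤ) : F) *
      (((signWord D (etaOf D) w (D.simple i) : ℤ) : F) * t) = t := by
    rcases signWord_sq D (etaOf D) w (fun j hj s => (hF.nsimple j (hw j hj)).sign s) (D.simple i) with h | h <;>
      rw [h] <;> simp
  rw [hwr, h2] at h1
  rw [← h1]
  have hn : nWordGL D hF.xadd w ∈ D.borelSubgroup F ⊔ D.monomialSubgroup F :=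
    Subgroup.mem_sup_right (nWordGL_mem_monomial D hF.xadd hF.simple_lt w hw)
  exact mul_mem (mul_mem hn (Subgroup.mem_sup_left (posUnipotent_le_borel D
    (xGL_mem_posUnipotent D hF.xadd _ (hF.simple_pos i hi) _)))) (inv_mem hn)

/-- conjugation by an element of `N` maps `H` into `H` -/
theorem monomial_conj_mem_diagonal (n : GL D.Idx F) (hn : n ∈ D.monomialSubgroup F) (h : GL D.Idx F)
    (hh : h ∈ D.diagonalSubgroup F) : n * h * n⁻¹ ∈ D.diagonalSubgroup F := by
  obtain ⟨h₁, hh₁, w, hw, rfl⟩ :=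
    exists_word_of_mem_monomial D hF.xadd (etaOf D) hF.nsimple hF.simple_lt hF.orbit n hn
  have h1 := nWordGL_conj_mem_diagonal D hF.xadd (etaOf D) hF.nsimple w hw h hh
  have e : h₁ * nWordGL D hF.xadd w * h * (h₁ * nWordGL D hF.xadd w)⁻¹ =
      h₁ * (nWordGL D hF.xadd w * h * (nWordGL D hF.xadd w)⁻¹) * h₁⁻¹ := by group
  rw [e]
  exact mul_mem (mul_mem hh₁ h1) (inv_mem hh₁)

/-- distinct fundamental roots give distinct cosets `n_p H` -/
theorem eq_of_nGL_inv_mul_mem_borel (i j : ℕ) (hi : i < D.rank) (hj : j < D.rank)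
    (h : (nGL D hF.xadd (D.simple i))⁻¹ * nGL D hF.xadd (D.simple j) ∈ D.borelSubgroup F) : i = j := by
  by_contra hne
  obtain ⟨h₀, hh₀, e₀⟩ := nGL_inv_eq D hF.xadd (D.simple i) (hF.simple_lt i hi)
  have hh₁ := nGL_conj_mem_diagonal D hF.xadd i _ (hF.nsimple i hi) h₀ hh₀
  have hw : ∀ k ∈ [i, j], k < D.rank := by
    intro k hk
    simp only [List.mem_cons, List.mem_nil_iff, or_false] at hk
    rcases hk with rfl | rfl <;> assumption
  have e : (nGL D hF.xadd (D.simple i))⁻¹ * nGL D hF.xadd (D.simple j) =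
      (nGL D hF.xadd (D.simple i) * h₀ * (nGL D hF.xadd (D.simple i))⁻¹) * nWordGL D hF.xadd [i, j] := by
    rw [nWordGL_cons, nWordGL_cons, nWordGL_nil, mul_one]
    conv_lhs => rw [e₀]
    group
  obtain ⟨h1, -⟩ := hF.mem_diagonal_of_borel_word _ h _ hh₁ [i, j] hw e
  have h2 := h1 (D.simple i) (hF.simple_lt i hi)
  simp only [reflWord] at h2
  have hpos := hF.refl.refl_pos j hj (D.simple i) (hF.simple_pos i hi)
    (fun he => hne (hF.refl.simple_inj i hi j hj he))
  have h3 : D.reflectRoot j (D.simple i) = D.neg (D.simple i) := by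
    have := congrArg (D.reflectRoot i) h2
    rw [(hF.facts i hi).winv _ hpos.1] at this
    rw [this]
    unfold ChevalleyDatum.reflectRoot
    simp
  rw [h3] at hpos
  exact hF.sign.not_both _ hpos (hF.sign.neg_of_pos _ (hF.simple_pos i hi))

/-- the `(B, N)`-pair -/
noncomputable def bnPair : Cfsg.BNPair ↥(D.group F) where
  B := (D.borelSubgroup F).subgroupOf (D.group F)
  N := (D.monomialSubgroup F).subgroupOf (D.group F)
  S := {n : ↥(D.group F) | ∃ i < D.rank,
    ((n : GL D.Idx F) : Matrix D.Idx D.Idx F) = D.nMat F (D.simple i) 1}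
  sup_eq_top := by
    rw [← Subgroup.subgroupOf_sup hF.borel_le_group hF.monomial_le_group, Subgroup.subgroupOf_eq_top]
    exact hF.group_le_sup
  conj_mem := by
    intro n hn t ht
    rw [Subgroup.mem_subgroupOf] at hn ⊢
    have ht' : (t : GL D.Idx F) ∈ D.borelSubgroup F ⊓ D.monomialSubgroup F := ⟨ht.1, ht.2⟩
    rw [hF.borel_inf_monomial] at ht'
    rw [Subgroup.coe_mul, Subgroup.coe_mul, Subgroup.coe_inv]
    exact diagonal_le_borel D (hF.monomial_conj_mem_diagonal _ hn _ ht')
  subset := by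
    rintro s ⟨i, hi, hs⟩
    show (s : GL D.Idx F) ∈ D.monomialSubgroup F
    have : (s : GL D.Idx F) = nGL D hF.xadd (D.simple i) := Units.ext (by rw [hs, nGL_val])
    rw [this]
    exact hF.nGL_simple_mem_monomial i hi
  sq_mem := by
    rintro s ⟨i, hi, hs⟩
    show ((s * s : ↥(D.group F)) : GL D.Idx F) ∈ D.borelSubgroup F
    have : (s : GL D.Idx F) = nGL D hF.xadd (D.simple i) := Units.ext (by rw [hs, nGL_val])
    rw [Subgroup.coe_mul, this]
    exact diagonal_le_borel D (nGL_sq_mem_diagonal D hF.xadd _ (hF.simple_lt i hi))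
  inj := by
    rintro s ⟨i, hi, hs⟩ s' ⟨j, hj, hs'⟩ h
    have h' : ((s⁻¹ * s' : ↥(D.group F)) : GL D.Idx F) ∈ D.borelSubgroup F := h
    have e1 : (s : GL D.Idx F) = nGL D hF.xadd (D.simple i) := Units.ext (by rw [hs, nGL_val])
    have e2 : (s' : GL D.Idx F) = nGL D hF.xadd (D.simple j) := Units.ext (by rw [hs', nGL_val])
    rw [Subgroup.coe_mul, Subgroup.coe_inv, e1, e2] at h'
    have hij := hF.eq_of_nGL_inv_mul_mem_borel i j hi hj h'
    subst hij
    exact Subtype.ext (e1.trans e2.symm)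
  closure_sup := by
    apply le_antisymm
    · apply sup_le
      · rw [Subgroup.closure_le]
        rintro s ⟨i, hi, hs⟩
        show (s : GL D.Idx F) ∈ D.monomialSubgroup F
        have : (s : GL D.Idx F) = nGL D hF.xadd (D.simple i) := Units.ext (by rw [hs, nGL_val])
        rw [this]
        exact hF.nGL_simple_mem_monomial i hi
      · exact inf_le_right
    · intro n hn
      have hn' : (n : GL D.Idx F) ∈ D.monomialSubgroup F := hn
      obtain ⟨h, hh, w, hw, e⟩ :=
        exists_word_of_mem_monomial D hF.xadd (etaOf D) hF.nsimple hF.simple_lt hF.orbit _ hn'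
      have hword : ∀ w : List ℕ, (∀ i ∈ w, i < D.rank) →
          (⟨nWordGL D hF.xadd w, nWordGL_mem_group D hF.xadd w⟩ : ↥(D.group F)) ∈
            Subgroup.closure {n : ↥(D.group F) | ∃ i < D.rank,
              ((n : GL D.Idx F) : Matrix D.Idx D.Idx F) = D.nMat F (D.simple i) 1} := by
        intro w
        induction w with
        | nil =>
          intro _
          exact one_mem _
        | cons i w ih =>
          intro hw
          have e : (⟨nWordGL D hF.xadd (i :: w), nWordGL_mem_group D hF.xadd (i :: w)⟩ : ↥(D.group F)) =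
              ⟨nGL D hF.xadd (D.simple i), nGL_mem_group D hF.xadd _⟩ *
                ⟨nWordGL D hF.xadd w, nWordGL_mem_group D hF.xadd w⟩ :=
            Subtype.ext (nWordGL_cons D hF.xadd i w)
          rw [e]
          exact mul_mem (Subgroup.subset_closure ⟨i, hw i List.mem_cons_self, nGL_val D hF.xadd _⟩)
            (ih fun j hj => hw j (List.mem_cons_of_mem _ hj))
      have en : n = ⟨nWordGL D hF.xadd w, nWordGL_mem_group D hF.xadd w⟩ *
          (⟨(nWordGL D hF.xadd w)⁻¹ * h * nWordGL D hF.xadd w,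
            mul_mem (mul_mem (inv_mem (nWordGL_mem_group D hF.xadd w)) (hF.diagonal_le_group hh))
              (nWordGL_mem_group D hF.xadd w)⟩ : ↥(D.group F)) := by
        apply Subtype.ext
        rw [Subgroup.coe_mul, e]
        show h * nWordGL D hF.xadd w =
          nWordGL D hF.xadd w * ((nWordGL D hF.xadd w)⁻¹ * h * nWordGL D hF.xadd w)
        group
      rw [en]
      refine mul_mem (Subgroup.mem_sup_left (hword w hw)) (Subgroup.mem_sup_right ?_)
      have hinv : (nWordGL D hF.xadd w)⁻¹ ∈ D.monomialSubgroup F :=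
        inv_mem (nWordGL_mem_monomial D hF.xadd hF.simple_lt w hw)
      have hc := hF.monomial_conj_mem_diagonal _ hinv h hh
      rw [inv_inv] at hc
      exact ⟨diagonal_le_borel D hc, hF.diagonal_le_monomial hc⟩
  mul_mem_union := by
    rintro s ⟨i, hi, hs⟩ n hn b hb
    have e1 : (s : GL D.Idx F) = nGL D hF.xadd (D.simple i) := Units.ext (by rw [hs, nGL_val])
    have hn' : (n : GL D.Idx F) ∈ D.monomialSubgroup F := hn
    have hb' : (b : GL D.Idx F) ∈ D.borelSubgroup F := hb
    rcases hF.nGL_mul_borel_mul i hi _ hb' _ hn' with ⟨b₁, hb₁, b₂, hb₂, h⟩ | ⟨b₁, hb₁, b₂, hb₂, h⟩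
    · left
      refine DoubleCoset.mem_doubleCoset.2 ⟨⟨b₁, hF.borel_le_group hb₁⟩, hb₁, ⟨b₂, hF.borel_le_group hb₂⟩, hb₂, ?_⟩
      apply Subtype.ext
      simp only [Subgroup.coe_mul]
      rw [e1]
      exact h
    · right
      refine DoubleCoset.mem_doubleCoset.2 ⟨⟨b₁, hF.borel_le_group hb₁⟩, hb₁, ⟨b₂, hF.borel_le_group hb₂⟩, hb₂, ?_⟩
      apply Subtype.ext
      simp only [Subgroup.coe_mul]
      rw [e1]
      exact h
  conj_ne := by
    rintro s ⟨i, hi, hs⟩ heq
    have e1 : (s : GL D.Idx F) = nGL D hF.xadd (D.simple i) := Units.ext (by rw [hs, nGL_val])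
    have hx : (⟨xGL D hF.xadd (D.simple i) 1, xGL_mem_group D hF.xadd _ _⟩ : ↥(D.group F)) ∈
        (((D.borelSubgroup F).subgroupOf (D.group F) : Subgroup ↥(D.group F)) : Set ↥(D.group F)) :=
      posUnipotent_le_borel D (xGL_mem_posUnipotent D hF.xadd _ (hF.simple_pos i hi) 1)
    have h1 : s * ⟨xGL D hF.xadd (D.simple i) 1, xGL_mem_group D hF.xadd _ _⟩ * s ∈
        (fun b : ↥(D.group F) => s * b * s) ''
          (((D.borelSubgroup F).subgroupOf (D.group F) : Subgroup ↥(D.group F)) : Set ↥(D.group F)) :=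
      ⟨_, hx, rfl⟩
    rw [heq] at h1
    have h2 : ((s * ⟨xGL D hF.xadd (D.simple i) 1, xGL_mem_group D hF.xadd _ _⟩ * s : ↥(D.group F)) :
        GL D.Idx F) ∈ D.borelSubgroup F := h1
    simp only [Subgroup.coe_mul] at h2
    rw [e1] at h2
    have e3 : nGL D hF.xadd (D.simple i) * xGL D hF.xadd (D.simple i) 1 * nGL D hF.xadd (D.simple i) =
        xGL D hF.xadd (D.neg (D.simple i)) (-1) *
          (nGL D hF.xadd (D.simple i) * nGL D hF.xadd (D.simple i)) := by
      rw [← hF.nGL_conj_simple i hi 1]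
      group
    rw [e3] at h2
    have h3 : xGL D hF.xadd (D.neg (D.simple i)) (-1) ∈ D.borelSubgroup F :=
      (Subgroup.mul_mem_cancel_right _
        (diagonal_le_borel D (nGL_sq_mem_diagonal D hF.xadd _ (hF.simple_lt i hi)))).1 h2
    have h4 := hF.eq_zero_of_xGL_neg_mem_borel _ (hF.simple_pos i hi) _ h3
    exact absurd h4 (by simp)

end ChevFacts

end Cfsg.Agent.Lead.Chev
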