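import Mathlib
import Cfsg.Agent.Lib.Lead.ChevCommSL

/-!
The remaining ingredients of the commutator formula: the cheap pair test for simply-laced data, the base pairs by
the calculator, and the verification of the packed reflection tables.
-/

set_option autoImplicit false
set_option linter.unusedSectionVars false
set_option linter.unusedSimpArgs false
set_option linter.unusedVariables false

namespace Cfsg.Agent.Lead.Chev

open Cfsg Cfsg.Lie

variable {F : Type*} [Field F]

/-! ### the packed reflection tables -/

/-- the packed table `Ws[i]` is the reflection `w_{p_i}` -/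
def wsChk (D : ChevalleyDatum) (Ws : List ℕ) (i : ℕ) : Bool :=
  fNat (Ws.getD i 0) fun W =>
    (List.range D.nroots).all fun v => decide (unpack8 W v = D.reflectRoot i v)

theorem ws_of_chk (D : ChevalleyDatum) (Ws : List ℕ) (h : ∀ i < D.rank, wsChk D Ws i = true) :
    ∀ i < D.rank, ∀ v < D.nroots, unpack8 (Ws.getD i 0) v = D.reflectRoot i v := by
  intro i hi v hv
  have := h i hi
  rw [wsChk, fNat_eq, List.all_eq_true] at this
  simpa using this v (List.mem_range.2 hv)

/-! ### the cheap pair test (simply-laced data) -/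

/-- the pair `(r, s)` is excluded, a base pair, or some fundamental reflection lowers the measure -/
def pairLite (D : ChevalleyDatum) (Ws : List ℕ) (H : ℕ) (base : List (ℕ × ℕ)) (r s : ℕ) : Bool :=
  decide (s = r) || decide (s = D.neg r) || base.contains (r, s) ||
    (List.range D.rank).any fun i =>
      fNat (Ws.getD i 0) fun W => decide (nuP H (unpack8 W r) (unpack8 W s) < nuP H r s)

theorem hstep_of_pairLite (D : ChevalleyDatum) (hSL : ∀ r < D.nroots, SLRoot D r)
    (hnd : ∀ r < D.nroots, ((rowOf D r).map Prod.fst).Nodup) (η : ℕ → ℕ → ℤ)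
    (hfa : ∀ i < D.rank, NXFacts D (η i) i) (Ws : List ℕ) (H : ℕ) (base : List (ℕ × ℕ))
    (hWs : ∀ i < D.rank, ∀ v < D.nroots, unpack8 (Ws.getD i 0) v = D.reflectRoot i v)
    (hchk : ∀ r < D.nroots, ∀ s < D.nroots, pairLite D Ws H base r s = true) :
    ∀ r < D.nroots, ∀ s < D.nroots, s ≠ r → s ≠ D.neg r → (r, s) ∉ base → ∃ i < D.rank,
      nuP H (D.reflectRoot i r) (D.reflectRoot i s) < nuP H r s ∧
      (∀ c ∈ D.commTerms (D.reflectRoot i r) (D.reflectRoot i s), c.1 < D.nroots) ∧
      D.commTerms r s = (D.commTerms (D.reflectRoot i r) (D.reflectRoot i s)).map fun c =>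
        (D.reflectRoot i c.1,
          c.2.1 * η i c.1 * η i (D.reflectRoot i r) ^ c.2.2.1 * η i (D.reflectRoot i s) ^ c.2.2.2,
          c.2.2.1, c.2.2.2) := by
  intro r hr s hs hsr hsn hb
  have h := hchk r hr s hs
  simp only [pairLite, Bool.or_eq_true, decide_eq_true_eq, List.contains_iff_mem,
    List.any_eq_true, List.mem_range, fNat_eq] at h
  rcases h with ((h | h) | h) | ⟨i, hi, h⟩
  · exact absurd h hsr
  · exact absurd h hsn
  · exact absurd h hb
  · refine ⟨i, hi, ?_⟩
    rw [hWs i hi r hr, hWs i hi s hs] at h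
    have fa := hfa i hi
    have hr'lt := fa.wlt r hr
    have hs'lt := fa.wlt s hs
    have hwr : D.reflectRoot i (D.reflectRoot i r) = r := fa.winv r hr
    have hws : D.reflectRoot i (D.reflectRoot i s) = s := fa.winv s hs
    have hne1 : D.reflectRoot i s ≠ D.reflectRoot i r := by
      intro h'
      apply hsr
      rw [← hws, h', hwr]
    have hne2 : D.reflectRoot i s ≠ D.neg (D.reflectRoot i r) := by
      intro h'
      apply hsn
      rw [← hws, h', fa.wneg _ hr'lt, hwr]
    have key := commTerms_reflect_SL D hSL hnd i (η i) fa _ _ hr'lt hs'lt hne1 hne2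
    rw [hwr, hws] at key
    exact ⟨h, key.1, key.2⟩

/-! ### base pairs by the calculator -/

/-- the symbolic word of the right-hand side of the commutator formula -/
def commWordS (D : ChevalleyDatum) (r s : ℕ) : List (ℕ × LPoly) :=
  (D.commTerms r s).map fun c =>
    (c.1, pmul (pmul (pconst c.2.1) (ppow (psmul (-1) pT) c.2.2.1)) (ppow pU c.2.2.2))

/-- test of one column of the commutator formula for the pair `(r, s)` -/
def commBaseChk (D : ChevalleyDatum) (r s : ℕ) (c : Code) : Bool :=
  colEq₂ D [(s, pU), (r, pT)] ((r, pT) :: (s, pU) :: commWordS D r s) c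

theorem commOK_of_baseChk (D : ChevalleyDatum) (r s : ℕ)
    (h : ∀ c ∈ allCodes D, commBaseChk D r s c = true) : CommOK D F r s := by
  intro t u
  let v : Val F := ⟨1, one_ne_zero, t, u⟩
  have h1 : D.wordMat F (evalWord v [(s, pU), (r, pT)]) = D.x F s u * D.x F r t := by
    simp [ChevalleyDatum.wordMat, evalWord, v]
  have h2 : D.wordMat F (evalWord v ((r, pT) :: (s, pU) :: commWordS D r s)) =
      D.x F r t * D.x F s u * D.wordMat F (D.commWord F r s t u) := by
    have e : evalWord v (commWordS D r s) = D.commWord F r s t u := by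
      unfold evalWord commWordS ChevalleyDatum.commWord
      rw [List.map_map]
      apply List.map_congr_left
      intro c _
      simp [v]
    simp only [evalWord, List.map_cons] at e ⊢
    rw [wordMat_cons, wordMat_cons, e]
    simp [v, mul_assoc]
  rw [← h1, ← h2]
  apply mat_eq_of_cols
  intro idx
  exact mulVec_of_colEq₂ D v _ _ idx (h _ (codeOf_mem_allCodes D idx))

end Cfsg.Agent.Lead.Chev
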