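import Mathlib
import Cfsg.Agent.Lib.Lead.ChevComm2
import Cfsg.Agent.Lib.Lead.ChevCommData
import Cfsg.Prelude.Def_ChevG2
import Cfsg.Prelude.Def_ChevB2
import Cfsg.Prelude.Def_ChevD4
import Cfsg.Prelude.Def_ChevF4
import Cfsg.Prelude.Def_ChevE6
import Cfsg.Prelude.Def_ChevE7
import Cfsg.Prelude.Def_ChevE8

/-!
The packed reflection tables `commWs_X` agree with `reflectRoot` (a light-weight copy of the check, so that
users of the tables need not import the verification of the commutator formula).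
-/

set_option autoImplicit false

namespace Cfsg.Agent.Lead.Chev

open Cfsg Cfsg.Lie

theorem wsTabOK_G2_0 : wsChk chevG2 commWs_G2 0 = true := by decide +kernel
theorem wsTabOK_G2_1 : wsChk chevG2 commWs_G2 1 = true := by decide +kernel

theorem wsTab_G2 : ∀ i < chevG2.rank, ∀ v < chevG2.nroots, unpack8 (commWs_G2.getD i 0) v = chevG2.reflectRoot i v := by
  apply ws_of_chk
  intro i hi
  have hi' : i < 2 := hi
  interval_cases i
  · exact wsTabOK_G2_0
  · exact wsTabOK_G2_1

theorem wsTabOK_B2_0 : wsChk chevB2 commWs_B2 0 = true := by decide +kernel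
theorem wsTabOK_B2_1 : wsChk chevB2 commWs_B2 1 = true := by decide +kernel

theorem wsTab_B2 : ∀ i < chevB2.rank, ∀ v < chevB2.nroots, unpack8 (commWs_B2.getD i 0) v = chevB2.reflectRoot i v := by
  apply ws_of_chk
  intro i hi
  have hi' : i < 2 := hi
  interval_cases i
  · exact wsTabOK_B2_0
  · exact wsTabOK_B2_1

theorem wsTabOK_D4_0 : wsChk chevD4 commWs_D4 0 = true := by decide +kernel
theorem wsTabOK_D4_1 : wsChk chevD4 commWs_D4 1 = true := by decide +kernel
theorem wsTabOK_D4_2 : wsChk chevD4 commWs_D4 2 = true := by decide +kernel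
theorem wsTabOK_D4_3 : wsChk chevD4 commWs_D4 3 = true := by decide +kernel

theorem wsTab_D4 : ∀ i < chevD4.rank, ∀ v < chevD4.nroots, unpack8 (commWs_D4.getD i 0) v = chevD4.reflectRoot i v := by
  apply ws_of_chk
  intro i hi
  have hi' : i < 4 := hi
  interval_cases i
  · exact wsTabOK_D4_0
  · exact wsTabOK_D4_1
  · exact wsTabOK_D4_2
  · exact wsTabOK_D4_3

theorem wsTabOK_F4_0 : wsChk chevF4 commWs_F4 0 = true := by decide +kernel
theorem wsTabOK_F4_1 : wsChk chevF4 commWs_F4 1 = true := by decide +kernel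
theorem wsTabOK_F4_2 : wsChk chevF4 commWs_F4 2 = true := by decide +kernel
theorem wsTabOK_F4_3 : wsChk chevF4 commWs_F4 3 = true := by decide +kernel

theorem wsTab_F4 : ∀ i < chevF4.rank, ∀ v < chevF4.nroots, unpack8 (commWs_F4.getD i 0) v = chevF4.reflectRoot i v := by
  apply ws_of_chk
  intro i hi
  have hi' : i < 4 := hi
  interval_cases i
  · exact wsTabOK_F4_0
  · exact wsTabOK_F4_1
  · exact wsTabOK_F4_2
  · exact wsTabOK_F4_3

theorem wsTabOK_E6_0 : wsChk chevE6 commWs_E6 0 = true := by decide +kernel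
theorem wsTabOK_E6_1 : wsChk chevE6 commWs_E6 1 = true := by decide +kernel
theorem wsTabOK_E6_2 : wsChk chevE6 commWs_E6 2 = true := by decide +kernel
theorem wsTabOK_E6_3 : wsChk chevE6 commWs_E6 3 = true := by decide +kernel
theorem wsTabOK_E6_4 : wsChk chevE6 commWs_E6 4 = true := by decide +kernel
theorem wsTabOK_E6_5 : wsChk chevE6 commWs_E6 5 = true := by decide +kernel

theorem wsTab_E6 : ∀ i < chevE6.rank, ∀ v < chevE6.nroots, unpack8 (commWs_E6.getD i 0) v = chevE6.reflectRoot i v := by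
  apply ws_of_chk
  intro i hi
  have hi' : i < 6 := hi
  interval_cases i
  · exact wsTabOK_E6_0
  · exact wsTabOK_E6_1
  · exact wsTabOK_E6_2
  · exact wsTabOK_E6_3
  · exact wsTabOK_E6_4
  · exact wsTabOK_E6_5

theorem wsTabOK_E7_0 : wsChk chevE7 commWs_E7 0 = true := by decide +kernel
theorem wsTabOK_E7_1 : wsChk chevE7 commWs_E7 1 = true := by decide +kernel
theorem wsTabOK_E7_2 : wsChk chevE7 commWs_E7 2 = true := by decide +kernel
theorem wsTabOK_E7_3 : wsChk chevE7 commWs_E7 3 = true := by decide +kernel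
theorem wsTabOK_E7_4 : wsChk chevE7 commWs_E7 4 = true := by decide +kernel
theorem wsTabOK_E7_5 : wsChk chevE7 commWs_E7 5 = true := by decide +kernel
theorem wsTabOK_E7_6 : wsChk chevE7 commWs_E7 6 = true := by decide +kernel

theorem wsTab_E7 : ∀ i < chevE7.rank, ∀ v < chevE7.nroots, unpack8 (commWs_E7.getD i 0) v = chevE7.reflectRoot i v := by
  apply ws_of_chk
  intro i hi
  have hi' : i < 7 := hi
  interval_cases i
  · exact wsTabOK_E7_0
  · exact wsTabOK_E7_1
  · exact wsTabOK_E7_2
  · exact wsTabOK_E7_3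
  · exact wsTabOK_E7_4
  · exact wsTabOK_E7_5
  · exact wsTabOK_E7_6

theorem wsTabOK_E8_0 : wsChk chevE8 commWs_E8 0 = true := by decide +kernel
theorem wsTabOK_E8_1 : wsChk chevE8 commWs_E8 1 = true := by decide +kernel
theorem wsTabOK_E8_2 : wsChk chevE8 commWs_E8 2 = true := by decide +kernel
theorem wsTabOK_E8_3 : wsChk chevE8 commWs_E8 3 = true := by decide +kernel
theorem wsTabOK_E8_4 : wsChk chevE8 commWs_E8 4 = true := by decide +kernel
theorem wsTabOK_E8_5 : wsChk chevE8 commWs_E8 5 = true := by decide +kernel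
theorem wsTabOK_E8_6 : wsChk chevE8 commWs_E8 6 = true := by decide +kernel
theorem wsTabOK_E8_7 : wsChk chevE8 commWs_E8 7 = true := by decide +kernel

theorem wsTab_E8 : ∀ i < chevE8.rank, ∀ v < chevE8.nroots, unpack8 (commWs_E8.getD i 0) v = chevE8.reflectRoot i v := by
  apply ws_of_chk
  intro i hi
  have hi' : i < 8 := hi
  interval_cases i
  · exact wsTabOK_E8_0
  · exact wsTabOK_E8_1
  · exact wsTabOK_E8_2
  · exact wsTabOK_E8_3
  · exact wsTabOK_E8_4
  · exact wsTabOK_E8_5
  · exact wsTabOK_E8_6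
  · exact wsTabOK_E8_7

/-- the packed reflection tables of the seven data -/
def wsOf (D : ChevalleyDatum) : List ℕ :=
  if D.nroots = 12 then commWs_G2 else if D.nroots = 8 then commWs_B2 else if D.nroots = 24 then commWs_D4
  else if D.nroots = 48 then commWs_F4 else if D.nroots = 72 then commWs_E6
  else if D.nroots = 126 then commWs_E7 else commWs_E8

theorem wsTab_of_mem (D : ChevalleyDatum)
    (hD : D ∈ [chevG2, chevB2, chevD4, chevF4, chevE6, chevE7, chevE8]) :
    ∀ i < D.rank, ∀ v < D.nroots, unpack8 ((wsOf D).getD i 0) v = D.reflectRoot i v := by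
  simp only [List.mem_cons, List.mem_nil_iff, or_false] at hD
  rcases hD with rfl | rfl | rfl | rfl | rfl | rfl | rfl
  · exact wsTab_G2
  · exact wsTab_B2
  · exact wsTab_D4
  · exact wsTab_F4
  · exact wsTab_E6
  · exact wsTab_E7
  · exact wsTab_E8

end Cfsg.Agent.Lead.Chev
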