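import Mathlib
import Cfsg.Agent.Lib.Lead.ChevWeyl
import Cfsg.Agent.Lib.Lead.ChevWsTab

/-!
Fast evaluation of words of reflections through the packed reflection tables, and the check that a word represents
the longest element (it maps the positive roots onto the negative roots).
-/

set_option autoImplicit false
set_option linter.unusedSectionVars false
set_option linter.unusedSimpArgs false
set_option linter.unusedVariables false

namespace Cfsg.Agent.Lead.Chev

open Cfsg Cfsg.Lie

/-- evaluation of a word of reflections through packed tables -/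
def reflWordP (Ws : List ℕ) : List ℕ → ℕ → ℕ
  | [], s => s
  | i :: w, s => unpack8 (Ws.getD i 0) (reflWordP Ws w s)

theorem reflWordP_eq (D : ChevalleyDatum) (η : ℕ → ℕ → ℤ) (hfa : ∀ i < D.rank, NXFacts D (η i) i)
    (Ws : List ℕ) (hWs : ∀ i < D.rank, ∀ v < D.nroots, unpack8 (Ws.getD i 0) v = D.reflectRoot i v)
    (w : List ℕ) (hw : ∀ i ∈ w, i < D.rank) (s : ℕ) (hs : s < D.nroots) :
    reflWordP Ws w s = reflWord D w s := by
  induction w with
  | nil => rfl
  | cons i w ih =>
    have hw' : ∀ j ∈ w, j < D.rank := fun j hj => hw j (List.mem_cons_of_mem _ hj)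
    simp only [reflWordP, reflWord]
    rw [ih hw', hWs i (hw i List.mem_cons_self) _ (reflWord_lt D η hfa w hw' s hs)]

/-- `w` maps the positive roots onto the negative roots -/
def w0Chk (D : ChevalleyDatum) (Ws : List ℕ) (w : List ℕ) : Bool :=
  w.all (fun i => decide (i < D.rank)) &&
  (List.range D.nroots).all fun s =>
    (!decide (D.IsPosRoot s) || decide (D.IsNegRoot (reflWordP Ws w s))) &&
    (!decide (D.IsNegRoot s) || (decide (D.IsPosRoot (reflWordP Ws w.reverse s)) &&
      decide (reflWordP Ws w (reflWordP Ws w.reverse s) = s)))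

theorem w0_of_chk (D : ChevalleyDatum) (η : ℕ → ℕ → ℤ) (hfa : ∀ i < D.rank, NXFacts D (η i) i)
    (Ws : List ℕ) (hWs : ∀ i < D.rank, ∀ v < D.nroots, unpack8 (Ws.getD i 0) v = D.reflectRoot i v)
    (w : List ℕ) (h : w0Chk D Ws w = true) :
    (∀ i ∈ w, i < D.rank) ∧ (∀ s, D.IsPosRoot s → D.IsNegRoot (reflWord D w s)) ∧
      (∀ s, D.IsNegRoot s → ∃ r, D.IsPosRoot r ∧ reflWord D w r = s) := by
  unfold w0Chk at h
  rw [Bool.and_eq_true, List.all_eq_true, List.all_eq_true] at h
  obtain ⟨hw, hall⟩ := h
  have hw' : ∀ i ∈ w, i < D.rank := fun i hi => by simpa using hw i hi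
  refine ⟨hw', ?_, ?_⟩
  · intro s hs
    have h1 := hall s (List.mem_range.2 hs.1)
    simp only [Bool.and_eq_true, Bool.or_eq_true, Bool.not_eq_true', decide_eq_false_iff_not,
      decide_eq_true_eq] at h1
    rcases h1.1 with h2 | h2
    · exact absurd hs h2
    · rwa [reflWordP_eq D η hfa Ws hWs w hw' s hs.1] at h2
  · intro s hs
    have h1 := hall s (List.mem_range.2 hs.1)
    simp only [Bool.and_eq_true, Bool.or_eq_true, Bool.not_eq_true', decide_eq_false_iff_not,
      decide_eq_true_eq] at h1
    rcases h1.2 with h2 | ⟨h2, h3⟩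
    · exact absurd hs h2
    · refine ⟨_, h2, ?_⟩
      rw [← reflWordP_eq D η hfa Ws hWs w hw' _ h2.1]
      exact h3

end Cfsg.Agent.Lead.Chev
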