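import Mathlib
import Cfsg.Agent.Lib.Lead.ChevNConj
import Cfsg.Agent.Lib.Lead.ChevWeylTab

/-!
The certificate check for `RootOrbit`: every root is the image of a fundamental root under a word of fundamental
reflections.
-/

set_option autoImplicit false
set_option linter.unusedSectionVars false
set_option linter.unusedSimpArgs false
set_option linter.unusedVariables false

namespace Cfsg.Agent.Lead.Chev

open Cfsg Cfsg.Lie

def orbChk (D : ChevalleyDatum) (Ws : List ℕ) (cert : List (ℕ × List ℕ)) (r : ℕ) : Bool :=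
  decide ((cert.getD r (0, [])).1 < D.rank) && (cert.getD r (0, [])).2.all (fun j => decide (j < D.rank)) &&
    decide (reflWordP Ws (cert.getD r (0, [])).2 (D.simple (cert.getD r (0, [])).1) = r)

theorem rootOrbit_of_chk (D : ChevalleyDatum) (η : ℕ → ℕ → ℤ) (hfa : ∀ i < D.rank, NXFacts D (η i) i)
    (hsl : ∀ i < D.rank, D.simple i < D.nroots)
    (Ws : List ℕ) (hWs : ∀ i < D.rank, ∀ v < D.nroots, unpack8 (Ws.getD i 0) v = D.reflectRoot i v)
    (cert : List (ℕ × List ℕ)) (h : ∀ r < D.nroots, orbChk D Ws cert r = true) : RootOrbit D := by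
  intro r hr
  have h1 := h r hr
  simp only [orbChk, Bool.and_eq_true, decide_eq_true_eq, List.all_eq_true] at h1
  obtain ⟨⟨hi, hw⟩, he⟩ := h1
  refine ⟨_, hi, (cert.getD r (0, [])).2, hw, ?_⟩
  rw [← reflWordP_eq D η hfa Ws hWs _ hw _ (hsl _ hi)]
  exact he

end Cfsg.Agent.Lead.Chev
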