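import Mathlib
import Cfsg.Agent.Lib.Lead.ChevOrbit
import Cfsg.Agent.Lib.Lead.ChevFacts

/-!
Certificates for `RootOrbit` and the sign facts (verified by the kernel).
-/

set_option autoImplicit false

namespace Cfsg.Agent.Lead.Chev

open Cfsg Cfsg.Lie

def orbCert_G2 : List (ℕ × List ℕ) := [(1, [1, 0, 1]), (1, [0, 1]), (0, [0, 1, 0]), (0, [1, 0]), (0, [0]), (1, [1]), (1, []), (0, []), (0, [1]), (0, [0, 1]), (1, [0]), (1, [1, 0])]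

def orbCert_B2 : List (ℕ × List ℕ) := [(1, [0, 1]), (0, [1, 0]), (0, [0]), (1, [1]), (1, []), (0, []), (0, [1]), (1, [0])]

def orbCert_D4 : List (ℕ × List ℕ) := [(0, [1, 3, 2, 1, 0]), (0, [3, 2, 1, 0]), (0, [2, 1, 0]), (0, [3, 1, 0]), (0, [1, 0]), (0, [0]), (1, [3, 2, 1]), (1, [2, 1]), (1, [3, 1]), (1, [1]), (2, [2]), (3, [3]), (3, []), (2, []), (1, []), (1, [3]), (1, [2]), (1, [3, 2]), (0, []), (0, [1]), (0, [3, 1]), (0, [2, 1]), (0, [3, 2, 1]), (0, [1, 3, 2, 1])]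

def orbCert_F4 : List (ℕ × List ℕ) := [(2, [3, 2, 1, 2, 3, 0, 1, 2]), (2, [2, 1, 2, 3, 0, 1, 2]), (2, [1, 2, 3, 0, 1, 2]), (0, [0, 1, 2, 3, 1, 2, 1, 0]), (2, [2, 3, 0, 1, 2]), (2, [3, 0, 1, 2]), (2, [0, 1, 2]), (0, [1, 2, 3, 1, 2, 1, 0]), (0, [2, 3, 1, 2, 1, 0]), (0, [3, 1, 2, 1, 0]), (0, [1, 2, 1, 0]), (0, [3, 2, 1, 0]), (0, [2, 1, 0]), (0, [1, 0]), (0, [0]), (2, [2, 3, 1, 2]), (2, [3, 1, 2]), (2, [1, 2]), (1, [3, 2, 1]), (1, [2, 1]), (1, [1]), (2, [3, 2]), (2, [2]), (3, [3]), (3, []), (2, []), (2, [3]), (1, []), (1, [2]), (1, [3, 2]), (2, [1]), (2, [3, 1]), (2, [2, 3, 1]), (0, []), (0, [1]), (0, [2, 1]), (0, [3, 2, 1]), (0, [1, 2, 1]), (0, [3, 1, 2, 1]), (0, [2, 3, 1, 2, 1]), (0, [1, 2, 3, 1, 2, 1]), (2, [0, 1]),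 (2, [3, 0, 1]), (2, [2, 3, 0, 1]), (0, [0, 1, 2, 3, 1, 2, 1]), (2, [1, 2, 3, 0, 1]), (2, [2, 1, 2, 3, 0, 1]), (2, [3, 2, 1, 2, 3, 0, 1])]

def orbCert_E6 : List (ℕ × List ℕ) := [(0, [1, 3, 4, 5, 2, 3, 4, 1, 3, 2, 0]), (0, [3, 4, 5, 2, 3, 4, 1, 3, 2, 0]), (0, [4, 5, 2, 3, 4, 1, 3, 2, 0]), (0, [5, 2, 3, 4, 1, 3, 2, 0]), (0, [2, 3, 4, 1, 3, 2, 0]), (0, [4, 5, 3, 4, 1, 3, 2, 0]), (0, [5, 3, 4, 1, 3, 2, 0]), (0, [3, 4, 1, 3, 2, 0]), (0, [5, 4, 1, 3, 2, 0]), (0, [4, 1, 3, 2, 0]), (0, [1, 3, 2, 0]), (0, [5, 4, 3, 2, 0]), (0, [4, 3, 2, 0]), (0, [3, 2, 0]), (0, [2, 0]), (0, [0]), (1, [4, 5, 3, 4, 2, 3, 1]), (1, [5, 3, 4, 2, 3, 1]), (1, [3, 4, 2, 3, 1]), (1, [5, 4, 2, 3, 1]), (1, [4, 2, 3, 1]), (1, [2, 3, 1]), (1, [5, 4, 3, 1]),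 (1, [4, 3, 1]), (1, [3, 1]), (1, [1]), (2, [5, 4, 3, 2]), (2, [4, 3, 2]), (2, [3, 2]), (2, [2]), (3, [5, 4, 3]), (3, [4, 3]), (3, [3]), (4, [5, 4]), (4, [4]), (5, [5]), (5, []), (4, []), (4, [5]), (3, []), (3, [4]), (3, [5, 4]), (2, []), (2, [3]), (2, [4, 3]), (2, [5, 4, 3]), (1, []), (1, [3]), (1, [4, 3]), (1, [5, 4, 3]), (1, [2, 3]), (1, [4, 2, 3]), (1, [5, 4, 2, 3]), (1, [3, 4, 2, 3]), (1, [5, 3, 4, 2, 3]), (1, [4, 5, 3, 4, 2, 3]), (0, []), (0, [2]), (0, [3, 2]), (0, [4, 3, 2]), (0, [5, 4, 3, 2]), (0, [1, 3, 2]), (0, [4, 1, 3, 2]), (0, [5, 4, 1, 3, 2]), (0, [3, 4, 1, 3, 2]), (0, [5, 3, 4, 1, 3, 2]), (0, [4, 5, 3, 4, 1, 3, 2]), (0, [2, 3, 4, 1, 3, 2]), (0, [5, 2, 3, 4, 1, 3, 2]), (0, [4, 5, 2, 3, 4, 1, 3, 2]), (0,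 [3, 4, 5, 2, 3, 4, 1, 3, 2]), (0, [1, 3, 4, 5, 2, 3, 4, 1, 3, 2])]

def orbCert_E7 : List (ℕ × List ℕ) := [(0, [0, 2, 3, 4, 5, 6, 1, 3, 4, 5, 2, 3, 4, 1, 3, 2, 0]), (0, [2, 3, 4, 5, 6, 1, 3, 4, 5, 2, 3, 4, 1, 3, 2, 0]), (0, [3, 4, 5, 6, 1, 3, 4, 5, 2, 3, 4, 1, 3, 2, 0]), (0, [4, 5, 6, 1, 3, 4, 5, 2, 3, 4, 1, 3, 2, 0]), (0, [5, 6, 1, 3, 4, 5, 2, 3, 4, 1, 3, 2, 0]), (0, [6, 1, 3, 4, 5, 2, 3, 4, 1, 3, 2, 0]), (0, [1, 3, 4, 5, 2, 3, 4, 1, 3, 2, 0]), (0, [4, 5, 6, 3, 4, 5, 2, 3, 4, 1, 3, 2, 0]), (0, [5, 6, 3, 4, 5, 2, 3, 4, 1, 3, 2, 0]), (0, [6, 3, 4, 5, 2, 3, 4, 1, 3, 2, 0]), (0, [3, 4, 5, 2, 3, 4, 1, 3, 2, 0]), (0, [5, 6, 4, 5, 2, 3, 4, 1, 3, 2, 0]), (0, [6, 4, 5, 2, 3, 4, 1, 3, 2, 0]), (0, [4, 5, 2, 3, 4, 1, 3, 2, 0]),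 (0, [6, 5, 2, 3, 4, 1, 3, 2, 0]), (0, [5, 2, 3, 4, 1, 3, 2, 0]), (0, [2, 3, 4, 1, 3, 2, 0]), (0, [5, 6, 4, 5, 3, 4, 1, 3, 2, 0]), (0, [6, 4, 5, 3, 4, 1, 3, 2, 0]), (0, [4, 5, 3, 4, 1, 3, 2, 0]), (0, [6, 5, 3, 4, 1, 3, 2, 0]), (0, [5, 3, 4, 1, 3, 2, 0]), (0, [3, 4, 1, 3, 2, 0]), (0, [6, 5, 4, 1, 3, 2, 0]), (0, [5, 4, 1, 3, 2, 0]), (0, [4, 1, 3, 2, 0]), (0, [1, 3, 2, 0]), (0, [6, 5, 4, 3, 2, 0]), (0, [5, 4, 3, 2, 0]), (0, [4, 3, 2, 0]), (0, [3, 2, 0]), (0, [2, 0]), (0, [0]), (1, [5, 6, 4, 5, 3, 4, 2, 3, 1]), (1, [6, 4, 5, 3, 4, 2, 3, 1]), (1, [4, 5, 3, 4, 2, 3, 1]), (1, [6, 5, 3, 4, 2, 3, 1]), (1, [5, 3, 4, 2, 3, 1]), (1, [3, 4, 2, 3, 1]), (1, [6, 5, 4, 2, 3, 1]), (1, [5, 4, 2, 3, 1]), (1, [4, 2, 3, 1]), (1, [2, 3, 1]),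 (1, [6, 5, 4, 3, 1]), (1, [5, 4, 3, 1]), (1, [4, 3, 1]), (1, [3, 1]), (1, [1]), (2, [6, 5, 4, 3, 2]), (2, [5, 4, 3, 2]), (2, [4, 3, 2]), (2, [3, 2]), (2, [2]), (3, [6, 5, 4, 3]), (3, [5, 4, 3]), (3, [4, 3]), (3, [3]), (4, [6, 5, 4]), (4, [5, 4]), (4, [4]), (5, [6, 5]), (5, [5]), (6, [6]), (6, []), (5, []), (5, [6]), (4, []), (4, [5]), (4, [6, 5]), (3, []), (3, [4]), (3, [5, 4]), (3, [6, 5, 4]), (2, []), (2, [3]), (2, [4, 3]), (2, [5, 4, 3]), (2, [6, 5, 4, 3]), (1, []), (1, [3]), (1, [4, 3]), (1, [5, 4, 3]), (1, [6, 5, 4, 3]), (1, [2, 3]), (1, [4, 2, 3]), (1, [5, 4, 2, 3]), (1, [6, 5, 4, 2, 3]), (1, [3, 4, 2, 3]), (1, [5, 3, 4, 2, 3]), (1, [6, 5, 3, 4, 2, 3]), (1, [4, 5, 3, 4, 2, 3]), (1, [6, 4, 5, 3, 4, 2, 3]), (1,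 [5, 6, 4, 5, 3, 4, 2, 3]), (0, []), (0, [2]), (0, [3, 2]), (0, [4, 3, 2]), (0, [5, 4, 3, 2]), (0, [6, 5, 4, 3, 2]), (0, [1, 3, 2]), (0, [4, 1, 3, 2]), (0, [5, 4, 1, 3, 2]), (0, [6, 5, 4, 1, 3, 2]), (0, [3, 4, 1, 3, 2]), (0, [5, 3, 4, 1, 3, 2]), (0, [6, 5, 3, 4, 1, 3, 2]), (0, [4, 5, 3, 4, 1, 3, 2]), (0, [6, 4, 5, 3, 4, 1, 3, 2]), (0, [5, 6, 4, 5, 3, 4, 1, 3, 2]), (0, [2, 3, 4, 1, 3, 2]), (0, [5, 2, 3, 4, 1, 3, 2]), (0, [6, 5, 2, 3, 4, 1, 3, 2]), (0, [4, 5, 2, 3, 4, 1, 3, 2]), (0, [6, 4, 5, 2, 3, 4, 1, 3, 2]), (0, [5, 6, 4, 5, 2, 3, 4, 1, 3, 2]), (0, [3, 4, 5, 2, 3, 4, 1, 3, 2]), (0, [6, 3, 4, 5, 2, 3, 4, 1, 3, 2]), (0, [5, 6, 3, 4, 5, 2, 3, 4, 1, 3, 2]), (0, [4, 5, 6, 3, 4, 5, 2, 3, 4, 1, 3, 2]), (0, [1, 3, 4, 5, 2,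 3, 4, 1, 3, 2]), (0, [6, 1, 3, 4, 5, 2, 3, 4, 1, 3, 2]), (0, [5, 6, 1, 3, 4, 5, 2, 3, 4, 1, 3, 2]), (0, [4, 5, 6, 1, 3, 4, 5, 2, 3, 4, 1, 3, 2]), (0, [3, 4, 5, 6, 1, 3, 4, 5, 2, 3, 4, 1, 3, 2]), (0, [2, 3, 4, 5, 6, 1, 3, 4, 5, 2, 3, 4, 1, 3, 2]), (0, [0, 2, 3, 4, 5, 6, 1, 3, 4, 5, 2, 3, 4, 1, 3, 2])]

def orbCert_E8 : List (ℕ × List ℕ) := [(0, [7, 6, 5, 4, 3, 2, 1, 3, 4, 5, 6, 7, 0, 2, 3, 4, 5, 6, 1, 3, 4, 5, 2, 3, 4, 1, 3, 2, 0]), (0, [6, 5, 4, 3, 2, 1, 3, 4, 5, 6, 7, 0, 2, 3, 4, 5, 6, 1, 3, 4, 5, 2, 3, 4, 1, 3, 2, 0]), (0, [5, 4, 3, 2, 1, 3, 4, 5, 6, 7, 0, 2, 3, 4, 5, 6, 1, 3, 4, 5, 2, 3, 4, 1, 3, 2, 0]), (0, [4, 3, 2, 1, 3, 4, 5, 6, 7, 0, 2, 3, 4, 5, 6, 1, 3, 4, 5, 2, 3, 4, 1, 3, 2, 0]), (0, [3, 2, 1, 3, 4, 5, 6,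 7, 0, 2, 3, 4, 5, 6, 1, 3, 4, 5, 2, 3, 4, 1, 3, 2, 0]), (0, [2, 1, 3, 4, 5, 6, 7, 0, 2, 3, 4, 5, 6, 1, 3, 4, 5, 2, 3, 4, 1, 3, 2, 0]), (0, [1, 3, 4, 5, 6, 7, 0, 2, 3, 4, 5, 6, 1, 3, 4, 5, 2, 3, 4, 1, 3, 2, 0]), (0, [2, 3, 4, 5, 6, 7, 0, 2, 3, 4, 5, 6, 1, 3, 4, 5, 2, 3, 4, 1, 3, 2, 0]), (0, [3, 4, 5, 6, 7, 0, 2, 3, 4, 5, 6, 1, 3, 4, 5, 2, 3, 4, 1, 3, 2, 0]), (0, [4, 5, 6, 7, 0, 2, 3, 4, 5, 6, 1, 3, 4, 5, 2, 3, 4, 1, 3, 2, 0]), (0, [5, 6, 7, 0, 2, 3, 4, 5, 6, 1, 3, 4, 5, 2, 3, 4, 1, 3, 2, 0]), (0, [6, 7, 0, 2, 3, 4, 5, 6, 1, 3, 4, 5, 2, 3, 4, 1, 3, 2, 0]), (0, [7, 0, 2, 3, 4, 5, 6, 1, 3, 4, 5, 2, 3, 4, 1, 3, 2, 0]), (0, [0, 2, 3, 4, 5, 6, 1, 3, 4, 5, 2, 3, 4, 1, 3, 2, 0]), (0, [1, 3, 4, 5, 6, 7, 2, 3, 4, 5, 6, 1, 3, 4,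 5, 2, 3, 4, 1, 3, 2, 0]), (0, [3, 4, 5, 6, 7, 2, 3, 4, 5, 6, 1, 3, 4, 5, 2, 3, 4, 1, 3, 2, 0]), (0, [4, 5, 6, 7, 2, 3, 4, 5, 6, 1, 3, 4, 5, 2, 3, 4, 1, 3, 2, 0]), (0, [5, 6, 7, 2, 3, 4, 5, 6, 1, 3, 4, 5, 2, 3, 4, 1, 3, 2, 0]), (0, [6, 7, 2, 3, 4, 5, 6, 1, 3, 4, 5, 2, 3, 4, 1, 3, 2, 0]), (0, [7, 2, 3, 4, 5, 6, 1, 3, 4, 5, 2, 3, 4, 1, 3, 2, 0]), (0, [2, 3, 4, 5, 6, 1, 3, 4, 5, 2, 3, 4, 1, 3, 2, 0]), (0, [4, 5, 6, 7, 3, 4, 5, 6, 1, 3, 4, 5, 2, 3, 4, 1, 3, 2, 0]), (0, [5, 6, 7, 3, 4, 5, 6, 1, 3, 4, 5, 2, 3, 4, 1, 3, 2, 0]), (0, [6, 7, 3, 4, 5, 6, 1, 3, 4, 5, 2, 3, 4, 1, 3, 2, 0]), (0, [7, 3, 4, 5, 6, 1, 3, 4, 5, 2, 3, 4, 1, 3, 2, 0]), (0, [3, 4, 5, 6, 1, 3, 4, 5, 2, 3, 4, 1, 3, 2, 0]), (0, [5, 6, 7, 4, 5, 6, 1, 3, 4, 5,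 2, 3, 4, 1, 3, 2, 0]), (0, [6, 7, 4, 5, 6, 1, 3, 4, 5, 2, 3, 4, 1, 3, 2, 0]), (0, [7, 4, 5, 6, 1, 3, 4, 5, 2, 3, 4, 1, 3, 2, 0]), (0, [4, 5, 6, 1, 3, 4, 5, 2, 3, 4, 1, 3, 2, 0]), (0, [6, 7, 5, 6, 1, 3, 4, 5, 2, 3, 4, 1, 3, 2, 0]), (0, [7, 5, 6, 1, 3, 4, 5, 2, 3, 4, 1, 3, 2, 0]), (0, [5, 6, 1, 3, 4, 5, 2, 3, 4, 1, 3, 2, 0]), (0, [7, 6, 1, 3, 4, 5, 2, 3, 4, 1, 3, 2, 0]), (0, [6, 1, 3, 4, 5, 2, 3, 4, 1, 3, 2, 0]), (0, [1, 3, 4, 5, 2, 3, 4, 1, 3, 2, 0]), (0, [5, 6, 7, 4, 5, 6, 3, 4, 5, 2, 3, 4, 1, 3, 2, 0]), (0, [6, 7, 4, 5, 6, 3, 4, 5, 2, 3, 4, 1, 3, 2, 0]), (0, [7, 4, 5, 6, 3, 4, 5, 2, 3, 4, 1, 3, 2, 0]), (0, [4, 5, 6, 3, 4, 5, 2, 3, 4, 1, 3, 2, 0]), (0, [6, 7, 5, 6, 3, 4, 5, 2, 3, 4, 1, 3, 2, 0]), (0, [7, 5, 6, 3, 4,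 5, 2, 3, 4, 1, 3, 2, 0]), (0, [5, 6, 3, 4, 5, 2, 3, 4, 1, 3, 2, 0]), (0, [7, 6, 3, 4, 5, 2, 3, 4, 1, 3, 2, 0]), (0, [6, 3, 4, 5, 2, 3, 4, 1, 3, 2, 0]), (0, [3, 4, 5, 2, 3, 4, 1, 3, 2, 0]), (0, [6, 7, 5, 6, 4, 5, 2, 3, 4, 1, 3, 2, 0]), (0, [7, 5, 6, 4, 5, 2, 3, 4, 1, 3, 2, 0]), (0, [5, 6, 4, 5, 2, 3, 4, 1, 3, 2, 0]), (0, [7, 6, 4, 5, 2, 3, 4, 1, 3, 2, 0]), (0, [6, 4, 5, 2, 3, 4, 1, 3, 2, 0]), (0, [4, 5, 2, 3, 4, 1, 3, 2, 0]), (0, [7, 6, 5, 2, 3, 4, 1, 3, 2, 0]), (0, [6, 5, 2, 3, 4, 1, 3, 2, 0]), (0, [5, 2, 3, 4, 1, 3, 2, 0]), (0, [2, 3, 4, 1, 3, 2, 0]), (0, [6, 7, 5, 6, 4, 5, 3, 4, 1, 3, 2, 0]), (0, [7, 5, 6, 4, 5, 3, 4, 1, 3, 2, 0]), (0, [5, 6, 4, 5, 3, 4, 1, 3, 2, 0]), (0, [7, 6, 4, 5, 3, 4, 1, 3, 2, 0]), (0, [6, 4,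 5, 3, 4, 1, 3, 2, 0]), (0, [4, 5, 3, 4, 1, 3, 2, 0]), (0, [7, 6, 5, 3, 4, 1, 3, 2, 0]), (0, [6, 5, 3, 4, 1, 3, 2, 0]), (0, [5, 3, 4, 1, 3, 2, 0]), (0, [3, 4, 1, 3, 2, 0]), (0, [7, 6, 5, 4, 1, 3, 2, 0]), (0, [6, 5, 4, 1, 3, 2, 0]), (0, [5, 4, 1, 3, 2, 0]), (0, [4, 1, 3, 2, 0]), (0, [1, 3, 2, 0]), (0, [7, 6, 5, 4, 3, 2, 0]), (0, [6, 5, 4, 3, 2, 0]), (0, [5, 4, 3, 2, 0]), (0, [4, 3, 2, 0]), (0, [3, 2, 0]), (0, [2, 0]), (0, [0]), (1, [6, 7, 5, 6, 4, 5, 3, 4, 2, 3, 1]), (1, [7, 5, 6, 4, 5, 3, 4, 2, 3, 1]), (1, [5, 6, 4, 5, 3, 4, 2, 3, 1]), (1, [7, 6, 4, 5, 3, 4, 2, 3, 1]), (1, [6, 4, 5, 3, 4, 2, 3, 1]), (1, [4, 5, 3, 4, 2, 3, 1]), (1, [7, 6, 5, 3, 4, 2, 3, 1]), (1, [6, 5, 3, 4, 2, 3, 1]), (1, [5, 3, 4, 2, 3, 1]), (1, [3,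 4, 2, 3, 1]), (1, [7, 6, 5, 4, 2, 3, 1]), (1, [6, 5, 4, 2, 3, 1]), (1, [5, 4, 2, 3, 1]), (1, [4, 2, 3, 1]), (1, [2, 3, 1]), (1, [7, 6, 5, 4, 3, 1]), (1, [6, 5, 4, 3, 1]), (1, [5, 4, 3, 1]), (1, [4, 3, 1]), (1, [3, 1]), (1, [1]), (2, [7, 6, 5, 4, 3, 2]), (2, [6, 5, 4, 3, 2]), (2, [5, 4, 3, 2]), (2, [4, 3, 2]), (2, [3, 2]), (2, [2]), (3, [7, 6, 5, 4, 3]), (3, [6, 5, 4, 3]), (3, [5, 4, 3]), (3, [4, 3]), (3, [3]), (4, [7, 6, 5, 4]), (4, [6, 5, 4]), (4, [5, 4]), (4, [4]), (5, [7, 6, 5]), (5, [6, 5]), (5, [5]), (6, [7, 6]), (6, [6]), (7, [7]), (7, []), (6, []), (6, [7]), (5, []), (5, [6]), (5, [7, 6]), (4, []), (4, [5]), (4, [6, 5]), (4, [7, 6, 5]), (3, []), (3, [4]), (3, [5, 4]), (3, [6, 5, 4]), (3, [7, 6, 5, 4]), (2, []),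 (2, [3]), (2, [4, 3]), (2, [5, 4, 3]), (2, [6, 5, 4, 3]), (2, [7, 6, 5, 4, 3]), (1, []), (1, [3]), (1, [4, 3]), (1, [5, 4, 3]), (1, [6, 5, 4, 3]), (1, [7, 6, 5, 4, 3]), (1, [2, 3]), (1, [4, 2, 3]), (1, [5, 4, 2, 3]), (1, [6, 5, 4, 2, 3]), (1, [7, 6, 5, 4, 2, 3]), (1, [3, 4, 2, 3]), (1, [5, 3, 4, 2, 3]), (1, [6, 5, 3, 4, 2, 3]), (1, [7, 6, 5, 3, 4, 2, 3]), (1, [4, 5, 3, 4, 2, 3]), (1, [6, 4, 5, 3, 4, 2, 3]), (1, [7, 6, 4, 5, 3, 4, 2, 3]), (1, [5, 6, 4, 5, 3, 4, 2, 3]), (1, [7, 5, 6, 4, 5, 3, 4, 2, 3]), (1, [6, 7, 5, 6, 4, 5, 3, 4, 2, 3]), (0, []), (0, [2]), (0, [3, 2]), (0, [4, 3, 2]), (0, [5, 4, 3, 2]), (0, [6, 5, 4, 3, 2]), (0, [7, 6, 5, 4, 3, 2]), (0, [1, 3, 2]), (0, [4, 1, 3, 2]), (0, [5, 4, 1, 3, 2]), (0, [6, 5,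 4, 1, 3, 2]), (0, [7, 6, 5, 4, 1, 3, 2]), (0, [3, 4, 1, 3, 2]), (0, [5, 3, 4, 1, 3, 2]), (0, [6, 5, 3, 4, 1, 3, 2]), (0, [7, 6, 5, 3, 4, 1, 3, 2]), (0, [4, 5, 3, 4, 1, 3, 2]), (0, [6, 4, 5, 3, 4, 1, 3, 2]), (0, [7, 6, 4, 5, 3, 4, 1, 3, 2]), (0, [5, 6, 4, 5, 3, 4, 1, 3, 2]), (0, [7, 5, 6, 4, 5, 3, 4, 1, 3, 2]), (0, [6, 7, 5, 6, 4, 5, 3, 4, 1, 3, 2]), (0, [2, 3, 4, 1, 3, 2]), (0, [5, 2, 3, 4, 1, 3, 2]), (0, [6, 5, 2, 3, 4, 1, 3, 2]), (0, [7, 6, 5, 2, 3, 4, 1, 3, 2]), (0, [4, 5, 2, 3, 4, 1, 3, 2]), (0, [6, 4, 5, 2, 3, 4, 1, 3, 2]), (0, [7, 6, 4, 5, 2, 3, 4, 1, 3, 2]), (0, [5, 6, 4, 5, 2, 3, 4, 1, 3, 2]), (0, [7, 5, 6, 4, 5, 2, 3, 4, 1, 3, 2]), (0, [6, 7, 5, 6, 4, 5, 2, 3, 4, 1, 3, 2]), (0, [3, 4, 5, 2, 3, 4, 1, 3, 2]),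 (0, [6, 3, 4, 5, 2, 3, 4, 1, 3, 2]), (0, [7, 6, 3, 4, 5, 2, 3, 4, 1, 3, 2]), (0, [5, 6, 3, 4, 5, 2, 3, 4, 1, 3, 2]), (0, [7, 5, 6, 3, 4, 5, 2, 3, 4, 1, 3, 2]), (0, [6, 7, 5, 6, 3, 4, 5, 2, 3, 4, 1, 3, 2]), (0, [4, 5, 6, 3, 4, 5, 2, 3, 4, 1, 3, 2]), (0, [7, 4, 5, 6, 3, 4, 5, 2, 3, 4, 1, 3, 2]), (0, [6, 7, 4, 5, 6, 3, 4, 5, 2, 3, 4, 1, 3, 2]), (0, [5, 6, 7, 4, 5, 6, 3, 4, 5, 2, 3, 4, 1, 3, 2]), (0, [1, 3, 4, 5, 2, 3, 4, 1, 3, 2]), (0, [6, 1, 3, 4, 5, 2, 3, 4, 1, 3, 2]), (0, [7, 6, 1, 3, 4, 5, 2, 3, 4, 1, 3, 2]), (0, [5, 6, 1, 3, 4, 5, 2, 3, 4, 1, 3, 2]), (0, [7, 5, 6, 1, 3, 4, 5, 2, 3, 4, 1, 3, 2]), (0, [6, 7, 5, 6, 1, 3, 4, 5, 2, 3, 4, 1, 3, 2]), (0, [4, 5, 6, 1, 3, 4, 5, 2, 3, 4, 1, 3, 2]), (0, [7, 4, 5, 6, 1, 3, 4,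 5, 2, 3, 4, 1, 3, 2]), (0, [6, 7, 4, 5, 6, 1, 3, 4, 5, 2, 3, 4, 1, 3, 2]), (0, [5, 6, 7, 4, 5, 6, 1, 3, 4, 5, 2, 3, 4, 1, 3, 2]), (0, [3, 4, 5, 6, 1, 3, 4, 5, 2, 3, 4, 1, 3, 2]), (0, [7, 3, 4, 5, 6, 1, 3, 4, 5, 2, 3, 4, 1, 3, 2]), (0, [6, 7, 3, 4, 5, 6, 1, 3, 4, 5, 2, 3, 4, 1, 3, 2]), (0, [5, 6, 7, 3, 4, 5, 6, 1, 3, 4, 5, 2, 3, 4, 1, 3, 2]), (0, [4, 5, 6, 7, 3, 4, 5, 6, 1, 3, 4, 5, 2, 3, 4, 1, 3, 2]), (0, [2, 3, 4, 5, 6, 1, 3, 4, 5, 2, 3, 4, 1, 3, 2]), (0, [7, 2, 3, 4, 5, 6, 1, 3, 4, 5, 2, 3, 4, 1, 3, 2]), (0, [6, 7, 2, 3, 4, 5, 6, 1, 3, 4, 5, 2, 3, 4, 1, 3, 2]), (0, [5, 6, 7, 2, 3, 4, 5, 6, 1, 3, 4, 5, 2, 3, 4, 1, 3, 2]), (0, [4, 5, 6, 7, 2, 3, 4, 5, 6, 1, 3, 4, 5, 2, 3, 4, 1, 3, 2]), (0, [3, 4, 5, 6, 7, 2, 3, 4, 5,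 6, 1, 3, 4, 5, 2, 3, 4, 1, 3, 2]), (0, [1, 3, 4, 5, 6, 7, 2, 3, 4, 5, 6, 1, 3, 4, 5, 2, 3, 4, 1, 3, 2]), (0, [0, 2, 3, 4, 5, 6, 1, 3, 4, 5, 2, 3, 4, 1, 3, 2]), (0, [7, 0, 2, 3, 4, 5, 6, 1, 3, 4, 5, 2, 3, 4, 1, 3, 2]), (0, [6, 7, 0, 2, 3, 4, 5, 6, 1, 3, 4, 5, 2, 3, 4, 1, 3, 2]), (0, [5, 6, 7, 0, 2, 3, 4, 5, 6, 1, 3, 4, 5, 2, 3, 4, 1, 3, 2]), (0, [4, 5, 6, 7, 0, 2, 3, 4, 5, 6, 1, 3, 4, 5, 2, 3, 4, 1, 3, 2]), (0, [3, 4, 5, 6, 7, 0, 2, 3, 4, 5, 6, 1, 3, 4, 5, 2, 3, 4, 1, 3, 2]), (0, [2, 3, 4, 5, 6, 7, 0, 2, 3, 4, 5, 6, 1, 3, 4, 5, 2, 3, 4, 1, 3, 2]), (0, [1, 3, 4, 5, 6, 7, 0, 2, 3, 4, 5, 6, 1, 3, 4, 5, 2, 3, 4, 1, 3, 2]), (0, [2, 1, 3, 4, 5, 6, 7, 0, 2, 3, 4, 5, 6, 1, 3, 4, 5, 2, 3, 4, 1, 3, 2]), (0, [3, 2, 1, 3, 4, 5,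 6, 7, 0, 2, 3, 4, 5, 6, 1, 3, 4, 5, 2, 3, 4, 1, 3, 2]), (0, [4, 3, 2, 1, 3, 4, 5, 6, 7, 0, 2, 3, 4, 5, 6, 1, 3, 4, 5, 2, 3, 4, 1, 3, 2]), (0, [5, 4, 3, 2, 1, 3, 4, 5, 6, 7, 0, 2, 3, 4, 5, 6, 1, 3, 4, 5, 2, 3, 4, 1, 3, 2]), (0, [6, 5, 4, 3, 2, 1, 3, 4, 5, 6, 7, 0, 2, 3, 4, 5, 6, 1, 3, 4, 5, 2, 3, 4, 1, 3, 2]), (0, [7, 6, 5, 4, 3, 2, 1, 3, 4, 5, 6, 7, 0, 2, 3, 4, 5, 6, 1, 3, 4, 5, 2, 3, 4, 1, 3, 2])]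

theorem orbOK_G2_aux : (List.range 12).all (fun r => orbChk chevG2 commWs_G2 orbCert_G2 r) = true := by decide +kernel

theorem orbOK_G2 : ∀ r < chevG2.nroots, orbChk chevG2 commWs_G2 orbCert_G2 r = true :=
  fun r hr => List.all_eq_true.1 orbOK_G2_aux r (List.mem_range.2 hr)

theorem signOK_G2 : signChk chevG2 = true := by decide +kernel

theorem orbOK_B2_aux : (List.range 8).all (fun r => orbChk chevB2 commWs_B2 orbCert_B2 r) = true := by decide +kernel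

theorem orbOK_B2 : ∀ r < chevB2.nroots, orbChk chevB2 commWs_B2 orbCert_B2 r = true :=
  fun r hr => List.all_eq_true.1 orbOK_B2_aux r (List.mem_range.2 hr)

theorem signOK_B2 : signChk chevB2 = true := by decide +kernel

theorem orbOK_D4_aux : (List.range 24).all (fun r => orbChk chevD4 commWs_D4 orbCert_D4 r) = true := by decide +kernel

theorem orbOK_D4 : ∀ r < chevD4.nroots, orbChk chevD4 commWs_D4 orbCert_D4 r = true :=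
  fun r hr => List.all_eq_true.1 orbOK_D4_aux r (List.mem_range.2 hr)

theorem signOK_D4 : signChk chevD4 = true := by decide +kernel

theorem orbOK_F4_aux : (List.range 48).all (fun r => orbChk chevF4 commWs_F4 orbCert_F4 r) = true := by decide +kernel

theorem orbOK_F4 : ∀ r < chevF4.nroots, orbChk chevF4 commWs_F4 orbCert_F4 r = true :=
  fun r hr => List.all_eq_true.1 orbOK_F4_aux r (List.mem_range.2 hr)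

theorem signOK_F4 : signChk chevF4 = true := by decide +kernel

theorem orbOK_E6_aux : (List.range 72).all (fun r => orbChk chevE6 commWs_E6 orbCert_E6 r) = true := by decide +kernel

theorem orbOK_E6 : ∀ r < chevE6.nroots, orbChk chevE6 commWs_E6 orbCert_E6 r = true :=
  fun r hr => List.all_eq_true.1 orbOK_E6_aux r (List.mem_range.2 hr)

theorem signOK_E6 : signChk chevE6 = true := by decide +kernel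

theorem orbOK_E7_aux : (List.range 126).all (fun r => orbChk chevE7 commWs_E7 orbCert_E7 r) = true := by decide +kernel

theorem orbOK_E7 : ∀ r < chevE7.nroots, orbChk chevE7 commWs_E7 orbCert_E7 r = true :=
  fun r hr => List.all_eq_true.1 orbOK_E7_aux r (List.mem_range.2 hr)

theorem signOK_E7 : signChk chevE7 = true := by decide +kernel

theorem orbOK_E8_aux : (List.range 240).all (fun r => orbChk chevE8 commWs_E8 orbCert_E8 r) = true := by decide +kernel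

theorem orbOK_E8 : ∀ r < chevE8.nroots, orbChk chevE8 commWs_E8 orbCert_E8 r = true :=
  fun r hr => List.all_eq_true.1 orbOK_E8_aux r (List.mem_range.2 hr)

theorem signOK_E8 : signChk chevE8 = true := by decide +kernel

theorem reflOK_G2 : reflChk chevG2 = true := by decide +kernel

theorem reflOK_B2 : reflChk chevB2 = true := by decide +kernel

theorem reflOK_D4 : reflChk chevD4 = true := by decide +kernel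

theorem reflOK_F4 : reflChk chevF4 = true := by decide +kernel

theorem reflOK_E6 : reflChk chevE6 = true := by decide +kernel

theorem reflOK_E7 : reflChk chevE7 = true := by decide +kernel

theorem reflOK_E8 : reflChk chevE8 = true := by decide +kernel

end Cfsg.Agent.Lead.Chev
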