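import Mathlib
import Cfsg.Agent.Lib.Lead.ChevU3
import Cfsg.Prelude.Def_ChevE7

set_option autoImplicit false

namespace Cfsg.Agent.Lead.Chev

open Cfsg Cfsg.Lie

theorem uOK0_E7_0_0 : (List.range' (126 * 0) 126).all ((fun _ => uChk0 chevE7) 0) = true := by decide +kernel

theorem uOK0_E7 : ∀ a < 1, ∀ s < 126, (fun _ => uChk0 chevE7) a s = true :=
  forall_forall_lt_of_blocks ((fun _ => uChk0 chevE7)) 1 126 126 1 (by norm_num) (by norm_num) (by
    intro a ha k hk
    interval_cases a; interval_cases k
    exact uOK0_E7_0_0)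

theorem uOK_E7_0_0 : (List.range' (21 * 0) 21).all ((fun _ => uChk chevE7) 0) = true := by decide +kernel
theorem uOK_E7_0_1 : (List.range' (21 * 1) 21).all ((fun _ => uChk chevE7) 0) = true := by decide +kernel
theorem uOK_E7_0_2 : (List.range' (21 * 2) 21).all ((fun _ => uChk chevE7) 0) = true := by decide +kernel
theorem uOK_E7_0_3 : (List.range' (21 * 3) 21).all ((fun _ => uChk chevE7) 0) = true := by decide +kernel
theorem uOK_E7_0_4 : (List.range' (21 * 4) 21).all ((fun _ => uChk chevE7) 0) = true := by decide +kernel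
theorem uOK_E7_0_5 : (List.range' (21 * 5) 21).all ((fun _ => uChk chevE7) 0) = true := by decide +kernel

theorem uOK_E7 : ∀ a < 1, ∀ s < 126, (fun _ => uChk chevE7) a s = true :=
  forall_forall_lt_of_blocks ((fun _ => uChk chevE7)) 1 126 21 6 (by norm_num) (by norm_num) (by
    intro a ha k hk
    interval_cases a <;> interval_cases k
    · exact uOK_E7_0_0
    · exact uOK_E7_0_1
    · exact uOK_E7_0_2
    · exact uOK_E7_0_3
    · exact uOK_E7_0_4
    · exact uOK_E7_0_5)

end Cfsg.Agent.Lead.Chev
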