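import Mathlib
import Cfsg.Agent.Lib.Lead.ChevU3
import Cfsg.Prelude.Def_ChevE8

set_option autoImplicit false

namespace Cfsg.Agent.Lead.Chev

open Cfsg Cfsg.Lie

theorem uOK0_E8_0_0 : (List.range' (240 * 0) 240).all ((fun _ => uChk0 chevE8) 0) = true := by decide +kernel

theorem uOK0_E8 : ∀ a < 1, ∀ s < 240, (fun _ => uChk0 chevE8) a s = true :=
  forall_forall_lt_of_blocks ((fun _ => uChk0 chevE8)) 1 240 240 1 (by norm_num) (by norm_num) (by
    intro a ha k hk
    interval_cases a; interval_cases k
    exact uOK0_E8_0_0)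

theorem uOK_E8_0_0 : (List.range' (20 * 0) 20).all ((fun _ => uChk chevE8) 0) = true := by decide +kernel
theorem uOK_E8_0_1 : (List.range' (20 * 1) 20).all ((fun _ => uChk chevE8) 0) = true := by decide +kernel
theorem uOK_E8_0_2 : (List.range' (20 * 2) 20).all ((fun _ => uChk chevE8) 0) = true := by decide +kernel
theorem uOK_E8_0_3 : (List.range' (20 * 3) 20).all ((fun _ => uChk chevE8) 0) = true := by decide +kernel
theorem uOK_E8_0_4 : (List.range' (20 * 4) 20).all ((fun _ => uChk chevE8) 0) = true := by decide +kernel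
theorem uOK_E8_0_5 : (List.range' (20 * 5) 20).all ((fun _ => uChk chevE8) 0) = true := by decide +kernel
theorem uOK_E8_0_6 : (List.range' (20 * 6) 20).all ((fun _ => uChk chevE8) 0) = true := by decide +kernel
theorem uOK_E8_0_7 : (List.range' (20 * 7) 20).all ((fun _ => uChk chevE8) 0) = true := by decide +kernel
theorem uOK_E8_0_8 : (List.range' (20 * 8) 20).all ((fun _ => uChk chevE8) 0) = true := by decide +kernel
theorem uOK_E8_0_9 : (List.range' (20 * 9) 20).all ((fun _ => uChk chevE8) 0) = true := by decide +kernel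
theorem uOK_E8_0_10 : (List.range' (20 * 10) 20).all ((fun _ => uChk chevE8) 0) = true := by decide +kernel
theorem uOK_E8_0_11 : (List.range' (20 * 11) 20).all ((fun _ => uChk chevE8) 0) = true := by decide +kernel

theorem uOK_E8 : ∀ a < 1, ∀ s < 240, (fun _ => uChk chevE8) a s = true :=
  forall_forall_lt_of_blocks ((fun _ => uChk chevE8)) 1 240 20 12 (by norm_num) (by norm_num) (by
    intro a ha k hk
    interval_cases a <;> interval_cases k
    · exact uOK_E8_0_0
    · exact uOK_E8_0_1
    · exact uOK_E8_0_2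
    · exact uOK_E8_0_3
    · exact uOK_E8_0_4
    · exact uOK_E8_0_5
    · exact uOK_E8_0_6
    · exact uOK_E8_0_7
    · exact uOK_E8_0_8
    · exact uOK_E8_0_9
    · exact uOK_E8_0_10
    · exact uOK_E8_0_11)

end Cfsg.Agent.Lead.Chev
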