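import Mathlib
import Cfsg.Agent.Lib.Lead.ChevU3
import Cfsg.Prelude.Def_ChevG2

set_option autoImplicit false

namespace Cfsg.Agent.Lead.Chev

open Cfsg Cfsg.Lie

theorem uOK0_G2_0_0 : (List.range' (12 * 0) 12).all ((fun _ => uChk0 chevG2) 0) = true := by decide +kernel

theorem uOK0_G2 : ∀ a < 1, ∀ s < 12, (fun _ => uChk0 chevG2) a s = true :=
  forall_forall_lt_of_blocks ((fun _ => uChk0 chevG2)) 1 12 12 1 (by norm_num) (by norm_num) (by
    intro a ha k hk
    interval_cases a; interval_cases k
    exact uOK0_G2_0_0)

theorem uOK_G2_0_0 : (List.range' (12 * 0) 12).all ((fun _ => uChk chevG2) 0) = true := by decide +kernel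

theorem uOK_G2 : ∀ a < 1, ∀ s < 12, (fun _ => uChk chevG2) a s = true :=
  forall_forall_lt_of_blocks ((fun _ => uChk chevG2)) 1 12 12 1 (by norm_num) (by norm_num) (by
    intro a ha k hk
    interval_cases a; interval_cases k
    exact uOK_G2_0_0)

theorem posCommOK_G2_0_0 : (List.range' (12 * 0) 12).all ((posCommChk chevG2) 0) = true := by decide +kernel
theorem posCommOK_G2_1_0 : (List.range' (12 * 0) 12).all ((posCommChk chevG2) 1) = true := by decide +kernel
theorem posCommOK_G2_2_0 : (List.range' (12 * 0) 12).all ((posCommChk chevG2) 2) = true := by decide +kernel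
theorem posCommOK_G2_3_0 : (List.range' (12 * 0) 12).all ((posCommChk chevG2) 3) = true := by decide +kernel
theorem posCommOK_G2_4_0 : (List.range' (12 * 0) 12).all ((posCommChk chevG2) 4) = true := by decide +kernel
theorem posCommOK_G2_5_0 : (List.range' (12 * 0) 12).all ((posCommChk chevG2) 5) = true := by decide +kernel
theorem posCommOK_G2_6_0 : (List.range' (12 * 0) 12).all ((posCommChk chevG2) 6) = true := by decide +kernel
theorem posCommOK_G2_7_0 : (List.range' (12 * 0) 12).all ((posCommChk chevG2) 7) = true := by decide +kernel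
theorem posCommOK_G2_8_0 : (List.range' (12 * 0) 12).all ((posCommChk chevG2) 8) = true := by decide +kernel
theorem posCommOK_G2_9_0 : (List.range' (12 * 0) 12).all ((posCommChk chevG2) 9) = true := by decide +kernel
theorem posCommOK_G2_10_0 : (List.range' (12 * 0) 12).all ((posCommChk chevG2) 10) = true := by decide +kernel
theorem posCommOK_G2_11_0 : (List.range' (12 * 0) 12).all ((posCommChk chevG2) 11) = true := by decide +kernel

theorem posCommOK_G2 : ∀ a < 12, ∀ s < 12, (posCommChk chevG2) a s = true :=
  forall_forall_lt_of_blocks ((posCommChk chevG2)) 12 12 12 1 (by norm_num) (by norm_num) (by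
    intro a ha k hk
    interval_cases a <;> interval_cases k
    · exact posCommOK_G2_0_0
    · exact posCommOK_G2_1_0
    · exact posCommOK_G2_2_0
    · exact posCommOK_G2_3_0
    · exact posCommOK_G2_4_0
    · exact posCommOK_G2_5_0
    · exact posCommOK_G2_6_0
    · exact posCommOK_G2_7_0
    · exact posCommOK_G2_8_0
    · exact posCommOK_G2_9_0
    · exact posCommOK_G2_10_0
    · exact posCommOK_G2_11_0)

end Cfsg.Agent.Lead.Chev
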