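import Mathlib
import Cfsg.Agent.Lib.Lead.ChevU_G2
import Cfsg.Agent.Lib.Lead.ChevU_B2
import Cfsg.Agent.Lib.Lead.ChevU_D4
import Cfsg.Agent.Lib.Lead.ChevU_F4
import Cfsg.Agent.Lib.Lead.ChevU_E6
import Cfsg.Agent.Lib.Lead.ChevU_E7
import Cfsg.Agent.Lib.Lead.ChevU_E8
import Cfsg.Agent.Lib.Lead.ChevSL_D4
import Cfsg.Agent.Lib.Lead.ChevSL_E6
import Cfsg.Agent.Lib.Lead.ChevSL_E7
import Cfsg.Agent.Lib.Lead.ChevSL_E8

/-!
`UFacts` and `PosComm` for the seven tabulated data.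
-/

set_option autoImplicit false

namespace Cfsg.Agent.Lead.Chev

open Cfsg Cfsg.Lie

theorem uFacts_of_mem (D : ChevalleyDatum)
    (hD : D ∈ [chevG2, chevB2, chevD4, chevF4, chevE6, chevE7, chevE8]) : UFacts D := by
  have hP := Cfsg.Agent.Helper5.posOk_of_mem D hD
  simp only [List.mem_cons, List.mem_nil_iff, or_false] at hD
  rcases hD with rfl | rfl | rfl | rfl | rfl | rfl | rfl
  · exact uFacts_of_chk _ hP (uOK0_G2 0 (by norm_num)) (uOK_G2 0 (by norm_num))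
  · exact uFacts_of_chk _ hP (uOK0_B2 0 (by norm_num)) (uOK_B2 0 (by norm_num))
  · exact uFacts_of_chk _ hP (uOK0_D4 0 (by norm_num)) (uOK_D4 0 (by norm_num))
  · exact uFacts_of_chk _ hP (uOK0_F4 0 (by norm_num)) (uOK_F4 0 (by norm_num))
  · exact uFacts_of_chk _ hP (uOK0_E6 0 (by norm_num)) (uOK_E6 0 (by norm_num))
  · exact uFacts_of_chk _ hP (uOK0_E7 0 (by norm_num)) (uOK_E7 0 (by norm_num))
  · exact uFacts_of_chk _ hP (uOK0_E8 0 (by norm_num)) (uOK_E8 0 (by norm_num))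

theorem posComm_of_mem (D : ChevalleyDatum)
    (hD : D ∈ [chevG2, chevB2, chevD4, chevF4, chevE6, chevE7, chevE8]) : PosComm D := by
  have hP := Cfsg.Agent.Helper5.posOk_of_mem D hD
  simp only [List.mem_cons, List.mem_nil_iff, or_false] at hD
  rcases hD with rfl | rfl | rfl | rfl | rfl | rfl | rfl
  · exact posComm_of_chk _ hP posCommOK_G2
  · exact posComm_of_chk _ hP posCommOK_B2
  · exact posComm_of_SL _ hP (fun r hr => slRoot_of_ok _ r (slOK_D4 0 (by norm_num) r hr))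
      (fun r hr => nodup_of_slRootOK _ r (slOK_D4 0 (by norm_num) r hr))
      (uOK0_D4 0 (by norm_num)) (uOK_D4 0 (by norm_num))
  · exact posComm_of_chk _ hP posCommOK_F4
  · exact posComm_of_SL _ hP (fun r hr => slRoot_of_ok _ r (slOK_E6 0 (by norm_num) r hr))
      (fun r hr => nodup_of_slRootOK _ r (slOK_E6 0 (by norm_num) r hr))
      (uOK0_E6 0 (by norm_num)) (uOK_E6 0 (by norm_num))
  · exact posComm_of_SL _ hP (fun r hr => slRoot_of_ok _ r (slOK_E7 0 (by norm_num) r hr))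
      (fun r hr => nodup_of_slRootOK _ r (slOK_E7 0 (by norm_num) r hr))
      (uOK0_E7 0 (by norm_num)) (uOK_E7 0 (by norm_num))
  · exact posComm_of_SL _ hP (fun r hr => slRoot_of_ok _ r (slOK_E8 0 (by norm_num) r hr))
      (fun r hr => nodup_of_slRootOK _ r (slOK_E8 0 (by norm_num) r hr))
      (uOK0_E8 0 (by norm_num)) (uOK_E8 0 (by norm_num))

end Cfsg.Agent.Lead.Chev
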