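import Mathlib
import Cfsg.Agent.Lib.Lead.ChevUp
import Cfsg.Prelude.Def_ChevG2
import Cfsg.Prelude.Def_ChevB2
import Cfsg.Prelude.Def_ChevD4
import Cfsg.Prelude.Def_ChevF4
import Cfsg.Prelude.Def_ChevE6
import Cfsg.Prelude.Def_ChevE7
import Cfsg.Prelude.Def_ChevE8

/-!
Table checks for `U = U_p X_p` for the seven data.
-/

set_option autoImplicit false

namespace Cfsg.Agent.Lead.Chev

open Cfsg Cfsg.Lie

theorem upOK_G2_0 : upChk chevG2 0 = true := by decide +kernel
theorem upOK_G2_1 : upChk chevG2 1 = true := by decide +kernel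

theorem upOK_G2 : ∀ i < chevG2.rank, upChk chevG2 i = true := by
  intro i hi
  have hi' : i < 2 := hi
  interval_cases i
  · exact upOK_G2_0
  · exact upOK_G2_1

theorem upOK_B2_0 : upChk chevB2 0 = true := by decide +kernel
theorem upOK_B2_1 : upChk chevB2 1 = true := by decide +kernel

theorem upOK_B2 : ∀ i < chevB2.rank, upChk chevB2 i = true := by
  intro i hi
  have hi' : i < 2 := hi
  interval_cases i
  · exact upOK_B2_0
  · exact upOK_B2_1

theorem upOK_D4_0 : upChk chevD4 0 = true := by decide +kernel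
theorem upOK_D4_1 : upChk chevD4 1 = true := by decide +kernel
theorem upOK_D4_2 : upChk chevD4 2 = true := by decide +kernel
theorem upOK_D4_3 : upChk chevD4 3 = true := by decide +kernel

theorem upOK_D4 : ∀ i < chevD4.rank, upChk chevD4 i = true := by
  intro i hi
  have hi' : i < 4 := hi
  interval_cases i
  · exact upOK_D4_0
  · exact upOK_D4_1
  · exact upOK_D4_2
  · exact upOK_D4_3

theorem upOK_F4_0 : upChk chevF4 0 = true := by decide +kernel
theorem upOK_F4_1 : upChk chevF4 1 = true := by decide +kernel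
theorem upOK_F4_2 : upChk chevF4 2 = true := by decide +kernel
theorem upOK_F4_3 : upChk chevF4 3 = true := by decide +kernel

theorem upOK_F4 : ∀ i < chevF4.rank, upChk chevF4 i = true := by
  intro i hi
  have hi' : i < 4 := hi
  interval_cases i
  · exact upOK_F4_0
  · exact upOK_F4_1
  · exact upOK_F4_2
  · exact upOK_F4_3

theorem upOK_E6_0 : upChk chevE6 0 = true := by decide +kernel
theorem upOK_E6_1 : upChk chevE6 1 = true := by decide +kernel
theorem upOK_E6_2 : upChk chevE6 2 = true := by decide +kernel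
theorem upOK_E6_3 : upChk chevE6 3 = true := by decide +kernel
theorem upOK_E6_4 : upChk chevE6 4 = true := by decide +kernel
theorem upOK_E6_5 : upChk chevE6 5 = true := by decide +kernel

theorem upOK_E6 : ∀ i < chevE6.rank, upChk chevE6 i = true := by
  intro i hi
  have hi' : i < 6 := hi
  interval_cases i
  · exact upOK_E6_0
  · exact upOK_E6_1
  · exact upOK_E6_2
  · exact upOK_E6_3
  · exact upOK_E6_4
  · exact upOK_E6_5

theorem upOK_E7_0 : upChk chevE7 0 = true := by decide +kernel
theorem upOK_E7_1 : upChk chevE7 1 = true := by decide +kernel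
theorem upOK_E7_2 : upChk chevE7 2 = true := by decide +kernel
theorem upOK_E7_3 : upChk chevE7 3 = true := by decide +kernel
theorem upOK_E7_4 : upChk chevE7 4 = true := by decide +kernel
theorem upOK_E7_5 : upChk chevE7 5 = true := by decide +kernel
theorem upOK_E7_6 : upChk chevE7 6 = true := by decide +kernel

theorem upOK_E7 : ∀ i < chevE7.rank, upChk chevE7 i = true := by
  intro i hi
  have hi' : i < 7 := hi
  interval_cases i
  · exact upOK_E7_0
  · exact upOK_E7_1
  · exact upOK_E7_2
  · exact upOK_E7_3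
  · exact upOK_E7_4
  · exact upOK_E7_5
  · exact upOK_E7_6

theorem upOK_E8_0 : upChk chevE8 0 = true := by decide +kernel
theorem upOK_E8_1 : upChk chevE8 1 = true := by decide +kernel
theorem upOK_E8_2 : upChk chevE8 2 = true := by decide +kernel
theorem upOK_E8_3 : upChk chevE8 3 = true := by decide +kernel
theorem upOK_E8_4 : upChk chevE8 4 = true := by decide +kernel
theorem upOK_E8_5 : upChk chevE8 5 = true := by decide +kernel
theorem upOK_E8_6 : upChk chevE8 6 = true := by decide +kernel
theorem upOK_E8_7 : upChk chevE8 7 = true := by decide +kernel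

theorem upOK_E8 : ∀ i < chevE8.rank, upChk chevE8 i = true := by
  intro i hi
  have hi' : i < 8 := hi
  interval_cases i
  · exact upOK_E8_0
  · exact upOK_E8_1
  · exact upOK_E8_2
  · exact upOK_E8_3
  · exact upOK_E8_4
  · exact upOK_E8_5
  · exact upOK_E8_6
  · exact upOK_E8_7

theorem upChk_of_mem (D : ChevalleyDatum)
    (hD : D ∈ [chevG2, chevB2, chevD4, chevF4, chevE6, chevE7, chevE8]) :
    ∀ i < D.rank, upChk D i = true := by
  simp only [List.mem_cons, List.mem_nil_iff, or_false] at hD
  rcases hD with rfl | rfl | rfl | rfl | rfl | rfl | rfl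
  · exact upOK_G2
  · exact upOK_B2
  · exact upOK_D4
  · exact upOK_F4
  · exact upOK_E6
  · exact upOK_E7
  · exact upOK_E8

theorem simpleFacts_G2 : ∀ i < chevG2.rank, chevG2.IsPosRoot (chevG2.simple i) ∧
    chevG2.neg (chevG2.simple i) < chevG2.nroots ∧
    chevG2.neg (chevG2.neg (chevG2.simple i)) = chevG2.simple i ∧
    chevG2.IsNegRoot (chevG2.neg (chevG2.simple i)) := by decide +kernel

theorem simpleFacts_B2 : ∀ i < chevB2.rank, chevB2.IsPosRoot (chevB2.simple i) ∧
    chevB2.neg (chevB2.simple i) < chevB2.nroots ∧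
    chevB2.neg (chevB2.neg (chevB2.simple i)) = chevB2.simple i ∧
    chevB2.IsNegRoot (chevB2.neg (chevB2.simple i)) := by decide +kernel

theorem simpleFacts_D4 : ∀ i < chevD4.rank, chevD4.IsPosRoot (chevD4.simple i) ∧
    chevD4.neg (chevD4.simple i) < chevD4.nroots ∧
    chevD4.neg (chevD4.neg (chevD4.simple i)) = chevD4.simple i ∧
    chevD4.IsNegRoot (chevD4.neg (chevD4.simple i)) := by decide +kernel

theorem simpleFacts_F4 : ∀ i < chevF4.rank, chevF4.IsPosRoot (chevF4.simple i) ∧
    chevF4.neg (chevF4.simple i) < chevF4.nroots ∧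
    chevF4.neg (chevF4.neg (chevF4.simple i)) = chevF4.simple i ∧
    chevF4.IsNegRoot (chevF4.neg (chevF4.simple i)) := by decide +kernel

theorem simpleFacts_E6 : ∀ i < chevE6.rank, chevE6.IsPosRoot (chevE6.simple i) ∧
    chevE6.neg (chevE6.simple i) < chevE6.nroots ∧
    chevE6.neg (chevE6.neg (chevE6.simple i)) = chevE6.simple i ∧
    chevE6.IsNegRoot (chevE6.neg (chevE6.simple i)) := by decide +kernel

theorem simpleFacts_E7 : ∀ i < chevE7.rank, chevE7.IsPosRoot (chevE7.simple i) ∧
    chevE7.neg (chevE7.simple i) < chevE7.nroots ∧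
    chevE7.neg (chevE7.neg (chevE7.simple i)) = chevE7.simple i ∧
    chevE7.IsNegRoot (chevE7.neg (chevE7.simple i)) := by decide +kernel

theorem simpleFacts_E8 : ∀ i < chevE8.rank, chevE8.IsPosRoot (chevE8.simple i) ∧
    chevE8.neg (chevE8.simple i) < chevE8.nroots ∧
    chevE8.neg (chevE8.neg (chevE8.simple i)) = chevE8.simple i ∧
    chevE8.IsNegRoot (chevE8.neg (chevE8.simple i)) := by decide +kernel

theorem simple_facts_of_mem (D : ChevalleyDatum)
    (hD : D ∈ [chevG2, chevB2, chevD4, chevF4, chevE6, chevE7, chevE8]) :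
    ∀ i < D.rank, D.IsPosRoot (D.simple i) ∧ D.neg (D.simple i) < D.nroots ∧
      D.neg (D.neg (D.simple i)) = D.simple i ∧ D.IsNegRoot (D.neg (D.simple i)) := by
  simp only [List.mem_cons, List.mem_nil_iff, or_false] at hD
  rcases hD with rfl | rfl | rfl | rfl | rfl | rfl | rfl
  · exact simpleFacts_G2
  · exact simpleFacts_B2
  · exact simpleFacts_D4
  · exact simpleFacts_F4
  · exact simpleFacts_E6
  · exact simpleFacts_E7
  · exact simpleFacts_E8

end Cfsg.Agent.Lead.Chev
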