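import Mathlib
import Cfsg.Agent.Lib.Lead.ChevAdd
import Cfsg.Prelude.Def_ChevF4

set_option autoImplicit false

namespace Cfsg.Agent.Lead.Chev

open Cfsg Cfsg.Lie

theorem addL_F4_0_0 : (List.range' (4 * 0) 4).all (addChkL chevF4 0) = true := by decide +kernel
theorem addL_F4_1_0 : (List.range' (4 * 0) 4).all (addChkL chevF4 1) = true := by decide +kernel
theorem addL_F4_2_0 : (List.range' (4 * 0) 4).all (addChkL chevF4 2) = true := by decide +kernel
theorem addL_F4_3_0 : (List.range' (4 * 0) 4).all (addChkL chevF4 3) = true := by decide +kernel
theorem addL_F4_4_0 : (List.range' (4 * 0) 4).all (addChkL chevF4 4) = true := by decide +kernel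
theorem addL_F4_5_0 : (List.range' (4 * 0) 4).all (addChkL chevF4 5) = true := by decide +kernel
theorem addL_F4_6_0 : (List.range' (4 * 0) 4).all (addChkL chevF4 6) = true := by decide +kernel
theorem addL_F4_7_0 : (List.range' (4 * 0) 4).all (addChkL chevF4 7) = true := by decide +kernel
theorem addL_F4_8_0 : (List.range' (4 * 0) 4).all (addChkL chevF4 8) = true := by decide +kernel
theorem addL_F4_9_0 : (List.range' (4 * 0) 4).all (addChkL chevF4 9) = true := by decide +kernel
theorem addL_F4_10_0 : (List.range' (4 * 0) 4).all (addChkL chevF4 10) = true := by decide +kernel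
theorem addL_F4_11_0 : (List.range' (4 * 0) 4).all (addChkL chevF4 11) = true := by decide +kernel
theorem addL_F4_12_0 : (List.range' (4 * 0) 4).all (addChkL chevF4 12) = true := by decide +kernel
theorem addL_F4_13_0 : (List.range' (4 * 0) 4).all (addChkL chevF4 13) = true := by decide +kernel
theorem addL_F4_14_0 : (List.range' (4 * 0) 4).all (addChkL chevF4 14) = true := by decide +kernel
theorem addL_F4_15_0 : (List.range' (4 * 0) 4).all (addChkL chevF4 15) = true := by decide +kernel
theorem addL_F4_16_0 : (List.range' (4 * 0) 4).all (addChkL chevF4 16) = true := by decide +kernel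
theorem addL_F4_17_0 : (List.range' (4 * 0) 4).all (addChkL chevF4 17) = true := by decide +kernel
theorem addL_F4_18_0 : (List.range' (4 * 0) 4).all (addChkL chevF4 18) = true := by decide +kernel
theorem addL_F4_19_0 : (List.range' (4 * 0) 4).all (addChkL chevF4 19) = true := by decide +kernel
theorem addL_F4_20_0 : (List.range' (4 * 0) 4).all (addChkL chevF4 20) = true := by decide +kernel
theorem addL_F4_21_0 : (List.range' (4 * 0) 4).all (addChkL chevF4 21) = true := by decide +kernel
theorem addL_F4_22_0 : (List.range' (4 * 0) 4).all (addChkL chevF4 22) = true := by decide +kernel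
theorem addL_F4_23_0 : (List.range' (4 * 0) 4).all (addChkL chevF4 23) = true := by decide +kernel
theorem addL_F4_24_0 : (List.range' (4 * 0) 4).all (addChkL chevF4 24) = true := by decide +kernel
theorem addL_F4_25_0 : (List.range' (4 * 0) 4).all (addChkL chevF4 25) = true := by decide +kernel
theorem addL_F4_26_0 : (List.range' (4 * 0) 4).all (addChkL chevF4 26) = true := by decide +kernel
theorem addL_F4_27_0 : (List.range' (4 * 0) 4).all (addChkL chevF4 27) = true := by decide +kernel
theorem addL_F4_28_0 : (List.range' (4 * 0) 4).all (addChkL chevF4 28) = true := by decide +kernel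
theorem addL_F4_29_0 : (List.range' (4 * 0) 4).all (addChkL chevF4 29) = true := by decide +kernel
theorem addL_F4_30_0 : (List.range' (4 * 0) 4).all (addChkL chevF4 30) = true := by decide +kernel
theorem addL_F4_31_0 : (List.range' (4 * 0) 4).all (addChkL chevF4 31) = true := by decide +kernel
theorem addL_F4_32_0 : (List.range' (4 * 0) 4).all (addChkL chevF4 32) = true := by decide +kernel
theorem addL_F4_33_0 : (List.range' (4 * 0) 4).all (addChkL chevF4 33) = true := by decide +kernel
theorem addL_F4_34_0 : (List.range' (4 * 0) 4).all (addChkL chevF4 34) = true := by decide +kernel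
theorem addL_F4_35_0 : (List.range' (4 * 0) 4).all (addChkL chevF4 35) = true := by decide +kernel
theorem addL_F4_36_0 : (List.range' (4 * 0) 4).all (addChkL chevF4 36) = true := by decide +kernel
theorem addL_F4_37_0 : (List.range' (4 * 0) 4).all (addChkL chevF4 37) = true := by decide +kernel
theorem addL_F4_38_0 : (List.range' (4 * 0) 4).all (addChkL chevF4 38) = true := by decide +kernel
theorem addL_F4_39_0 : (List.range' (4 * 0) 4).all (addChkL chevF4 39) = true := by decide +kernel
theorem addL_F4_40_0 : (List.range' (4 * 0) 4).all (addChkL chevF4 40) = true := by decide +kernel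
theorem addL_F4_41_0 : (List.range' (4 * 0) 4).all (addChkL chevF4 41) = true := by decide +kernel
theorem addL_F4_42_0 : (List.range' (4 * 0) 4).all (addChkL chevF4 42) = true := by decide +kernel
theorem addL_F4_43_0 : (List.range' (4 * 0) 4).all (addChkL chevF4 43) = true := by decide +kernel
theorem addL_F4_44_0 : (List.range' (4 * 0) 4).all (addChkL chevF4 44) = true := by decide +kernel
theorem addL_F4_45_0 : (List.range' (4 * 0) 4).all (addChkL chevF4 45) = true := by decide +kernel
theorem addL_F4_46_0 : (List.range' (4 * 0) 4).all (addChkL chevF4 46) = true := by decide +kernel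
theorem addL_F4_47_0 : (List.range' (4 * 0) 4).all (addChkL chevF4 47) = true := by decide +kernel

theorem addL_F4 : ∀ a < 48, ∀ s < 4, addChkL chevF4 a s = true :=
  forall_forall_lt_of_blocks (addChkL chevF4) 48 4 4 1 (by norm_num) (by norm_num) (by
    intro a ha k hk
    interval_cases a <;> interval_cases k
    · exact addL_F4_0_0
    · exact addL_F4_1_0
    · exact addL_F4_2_0
    · exact addL_F4_3_0
    · exact addL_F4_4_0
    · exact addL_F4_5_0
    · exact addL_F4_6_0
    · exact addL_F4_7_0
    · exact addL_F4_8_0
    · exact addL_F4_9_0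
    · exact addL_F4_10_0
    · exact addL_F4_11_0
    · exact addL_F4_12_0
    · exact addL_F4_13_0
    · exact addL_F4_14_0
    · exact addL_F4_15_0
    · exact addL_F4_16_0
    · exact addL_F4_17_0
    · exact addL_F4_18_0
    · exact addL_F4_19_0
    · exact addL_F4_20_0
    · exact addL_F4_21_0
    · exact addL_F4_22_0
    · exact addL_F4_23_0
    · exact addL_F4_24_0
    · exact addL_F4_25_0
    · exact addL_F4_26_0
    · exact addL_F4_27_0
    · exact addL_F4_28_0
    · exact addL_F4_29_0
    · exact addL_F4_30_0
    · exact addL_F4_31_0
    · exact addL_F4_32_0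
    · exact addL_F4_33_0
    · exact addL_F4_34_0
    · exact addL_F4_35_0
    · exact addL_F4_36_0
    · exact addL_F4_37_0
    · exact addL_F4_38_0
    · exact addL_F4_39_0
    · exact addL_F4_40_0
    · exact addL_F4_41_0
    · exact addL_F4_42_0
    · exact addL_F4_43_0
    · exact addL_F4_44_0
    · exact addL_F4_45_0
    · exact addL_F4_46_0
    · exact addL_F4_47_0)

theorem addR_F4_0_0 : (List.range' (48 * 0) 48).all (addChkR chevF4 0) = true := by decide +kernel
theorem addR_F4_1_0 : (List.range' (48 * 0) 48).all (addChkR chevF4 1) = true := by decide +kernel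
theorem addR_F4_2_0 : (List.range' (48 * 0) 48).all (addChkR chevF4 2) = true := by decide +kernel
theorem addR_F4_3_0 : (List.range' (48 * 0) 48).all (addChkR chevF4 3) = true := by decide +kernel
theorem addR_F4_4_0 : (List.range' (48 * 0) 48).all (addChkR chevF4 4) = true := by decide +kernel
theorem addR_F4_5_0 : (List.range' (48 * 0) 48).all (addChkR chevF4 5) = true := by decide +kernel
theorem addR_F4_6_0 : (List.range' (48 * 0) 48).all (addChkR chevF4 6) = true := by decide +kernel
theorem addR_F4_7_0 : (List.range' (48 * 0) 48).all (addChkR chevF4 7) = true := by decide +kernel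
theorem addR_F4_8_0 : (List.range' (48 * 0) 48).all (addChkR chevF4 8) = true := by decide +kernel
theorem addR_F4_9_0 : (List.range' (48 * 0) 48).all (addChkR chevF4 9) = true := by decide +kernel
theorem addR_F4_10_0 : (List.range' (48 * 0) 48).all (addChkR chevF4 10) = true := by decide +kernel
theorem addR_F4_11_0 : (List.range' (48 * 0) 48).all (addChkR chevF4 11) = true := by decide +kernel
theorem addR_F4_12_0 : (List.range' (48 * 0) 48).all (addChkR chevF4 12) = true := by decide +kernel
theorem addR_F4_13_0 : (List.range' (48 * 0) 48).all (addChkR chevF4 13) = true := by decide +kernel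
theorem addR_F4_14_0 : (List.range' (48 * 0) 48).all (addChkR chevF4 14) = true := by decide +kernel
theorem addR_F4_15_0 : (List.range' (48 * 0) 48).all (addChkR chevF4 15) = true := by decide +kernel
theorem addR_F4_16_0 : (List.range' (48 * 0) 48).all (addChkR chevF4 16) = true := by decide +kernel
theorem addR_F4_17_0 : (List.range' (48 * 0) 48).all (addChkR chevF4 17) = true := by decide +kernel
theorem addR_F4_18_0 : (List.range' (48 * 0) 48).all (addChkR chevF4 18) = true := by decide +kernel
theorem addR_F4_19_0 : (List.range' (48 * 0) 48).all (addChkR chevF4 19) = true := by decide +kernel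
theorem addR_F4_20_0 : (List.range' (48 * 0) 48).all (addChkR chevF4 20) = true := by decide +kernel
theorem addR_F4_21_0 : (List.range' (48 * 0) 48).all (addChkR chevF4 21) = true := by decide +kernel
theorem addR_F4_22_0 : (List.range' (48 * 0) 48).all (addChkR chevF4 22) = true := by decide +kernel
theorem addR_F4_23_0 : (List.range' (48 * 0) 48).all (addChkR chevF4 23) = true := by decide +kernel
theorem addR_F4_24_0 : (List.range' (48 * 0) 48).all (addChkR chevF4 24) = true := by decide +kernel
theorem addR_F4_25_0 : (List.range' (48 * 0) 48).all (addChkR chevF4 25) = true := by decide +kernel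
theorem addR_F4_26_0 : (List.range' (48 * 0) 48).all (addChkR chevF4 26) = true := by decide +kernel
theorem addR_F4_27_0 : (List.range' (48 * 0) 48).all (addChkR chevF4 27) = true := by decide +kernel
theorem addR_F4_28_0 : (List.range' (48 * 0) 48).all (addChkR chevF4 28) = true := by decide +kernel
theorem addR_F4_29_0 : (List.range' (48 * 0) 48).all (addChkR chevF4 29) = true := by decide +kernel
theorem addR_F4_30_0 : (List.range' (48 * 0) 48).all (addChkR chevF4 30) = true := by decide +kernel
theorem addR_F4_31_0 : (List.range' (48 * 0) 48).all (addChkR chevF4 31) = true := by decide +kernel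
theorem addR_F4_32_0 : (List.range' (48 * 0) 48).all (addChkR chevF4 32) = true := by decide +kernel
theorem addR_F4_33_0 : (List.range' (48 * 0) 48).all (addChkR chevF4 33) = true := by decide +kernel
theorem addR_F4_34_0 : (List.range' (48 * 0) 48).all (addChkR chevF4 34) = true := by decide +kernel
theorem addR_F4_35_0 : (List.range' (48 * 0) 48).all (addChkR chevF4 35) = true := by decide +kernel
theorem addR_F4_36_0 : (List.range' (48 * 0) 48).all (addChkR chevF4 36) = true := by decide +kernel
theorem addR_F4_37_0 : (List.range' (48 * 0) 48).all (addChkR chevF4 37) = true := by decide +kernel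
theorem addR_F4_38_0 : (List.range' (48 * 0) 48).all (addChkR chevF4 38) = true := by decide +kernel
theorem addR_F4_39_0 : (List.range' (48 * 0) 48).all (addChkR chevF4 39) = true := by decide +kernel
theorem addR_F4_40_0 : (List.range' (48 * 0) 48).all (addChkR chevF4 40) = true := by decide +kernel
theorem addR_F4_41_0 : (List.range' (48 * 0) 48).all (addChkR chevF4 41) = true := by decide +kernel
theorem addR_F4_42_0 : (List.range' (48 * 0) 48).all (addChkR chevF4 42) = true := by decide +kernel
theorem addR_F4_43_0 : (List.range' (48 * 0) 48).all (addChkR chevF4 43) = true := by decide +kernel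
theorem addR_F4_44_0 : (List.range' (48 * 0) 48).all (addChkR chevF4 44) = true := by decide +kernel
theorem addR_F4_45_0 : (List.range' (48 * 0) 48).all (addChkR chevF4 45) = true := by decide +kernel
theorem addR_F4_46_0 : (List.range' (48 * 0) 48).all (addChkR chevF4 46) = true := by decide +kernel
theorem addR_F4_47_0 : (List.range' (48 * 0) 48).all (addChkR chevF4 47) = true := by decide +kernel

theorem addR_F4 : ∀ a < 48, ∀ s < 48, addChkR chevF4 a s = true :=
  forall_forall_lt_of_blocks (addChkR chevF4) 48 48 48 1 (by norm_num) (by norm_num) (by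
    intro a ha k hk
    interval_cases a <;> interval_cases k
    · exact addR_F4_0_0
    · exact addR_F4_1_0
    · exact addR_F4_2_0
    · exact addR_F4_3_0
    · exact addR_F4_4_0
    · exact addR_F4_5_0
    · exact addR_F4_6_0
    · exact addR_F4_7_0
    · exact addR_F4_8_0
    · exact addR_F4_9_0
    · exact addR_F4_10_0
    · exact addR_F4_11_0
    · exact addR_F4_12_0
    · exact addR_F4_13_0
    · exact addR_F4_14_0
    · exact addR_F4_15_0
    · exact addR_F4_16_0
    · exact addR_F4_17_0
    · exact addR_F4_18_0
    · exact addR_F4_19_0
    · exact addR_F4_20_0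
    · exact addR_F4_21_0
    · exact addR_F4_22_0
    · exact addR_F4_23_0
    · exact addR_F4_24_0
    · exact addR_F4_25_0
    · exact addR_F4_26_0
    · exact addR_F4_27_0
    · exact addR_F4_28_0
    · exact addR_F4_29_0
    · exact addR_F4_30_0
    · exact addR_F4_31_0
    · exact addR_F4_32_0
    · exact addR_F4_33_0
    · exact addR_F4_34_0
    · exact addR_F4_35_0
    · exact addR_F4_36_0
    · exact addR_F4_37_0
    · exact addR_F4_38_0
    · exact addR_F4_39_0
    · exact addR_F4_40_0
    · exact addR_F4_41_0
    · exact addR_F4_42_0
    · exact addR_F4_43_0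
    · exact addR_F4_44_0
    · exact addR_F4_45_0
    · exact addR_F4_46_0
    · exact addR_F4_47_0)

end Cfsg.Agent.Lead.Chev
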