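import Mathlib
import Cfsg.Agent.Lib.Lead.ChevAdd
import Cfsg.Prelude.Def_ChevG2

set_option autoImplicit false

namespace Cfsg.Agent.Lead.Chev

open Cfsg Cfsg.Lie

theorem addL_G2_0_0 : (List.range' (2 * 0) 2).all (addChkL chevG2 0) = true := by decide +kernel
theorem addL_G2_1_0 : (List.range' (2 * 0) 2).all (addChkL chevG2 1) = true := by decide +kernel
theorem addL_G2_2_0 : (List.range' (2 * 0) 2).all (addChkL chevG2 2) = true := by decide +kernel
theorem addL_G2_3_0 : (List.range' (2 * 0) 2).all (addChkL chevG2 3) = true := by decide +kernel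
theorem addL_G2_4_0 : (List.range' (2 * 0) 2).all (addChkL chevG2 4) = true := by decide +kernel
theorem addL_G2_5_0 : (List.range' (2 * 0) 2).all (addChkL chevG2 5) = true := by decide +kernel
theorem addL_G2_6_0 : (List.range' (2 * 0) 2).all (addChkL chevG2 6) = true := by decide +kernel
theorem addL_G2_7_0 : (List.range' (2 * 0) 2).all (addChkL chevG2 7) = true := by decide +kernel
theorem addL_G2_8_0 : (List.range' (2 * 0) 2).all (addChkL chevG2 8) = true := by decide +kernel
theorem addL_G2_9_0 : (List.range' (2 * 0) 2).all (addChkL chevG2 9) = true := by decide +kernel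
theorem addL_G2_10_0 : (List.range' (2 * 0) 2).all (addChkL chevG2 10) = true := by decide +kernel
theorem addL_G2_11_0 : (List.range' (2 * 0) 2).all (addChkL chevG2 11) = true := by decide +kernel

theorem addL_G2 : ∀ a < 12, ∀ s < 2, addChkL chevG2 a s = true :=
  forall_forall_lt_of_blocks (addChkL chevG2) 12 2 2 1 (by norm_num) (by norm_num) (by
    intro a ha k hk
    interval_cases a <;> interval_cases k
    · exact addL_G2_0_0
    · exact addL_G2_1_0
    · exact addL_G2_2_0
    · exact addL_G2_3_0
    · exact addL_G2_4_0
    · exact addL_G2_5_0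
    · exact addL_G2_6_0
    · exact addL_G2_7_0
    · exact addL_G2_8_0
    · exact addL_G2_9_0
    · exact addL_G2_10_0
    · exact addL_G2_11_0)

theorem addR_G2_0_0 : (List.range' (12 * 0) 12).all (addChkR chevG2 0) = true := by decide +kernel
theorem addR_G2_1_0 : (List.range' (12 * 0) 12).all (addChkR chevG2 1) = true := by decide +kernel
theorem addR_G2_2_0 : (List.range' (12 * 0) 12).all (addChkR chevG2 2) = true := by decide +kernel
theorem addR_G2_3_0 : (List.range' (12 * 0) 12).all (addChkR chevG2 3) = true := by decide +kernel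
theorem addR_G2_4_0 : (List.range' (12 * 0) 12).all (addChkR chevG2 4) = true := by decide +kernel
theorem addR_G2_5_0 : (List.range' (12 * 0) 12).all (addChkR chevG2 5) = true := by decide +kernel
theorem addR_G2_6_0 : (List.range' (12 * 0) 12).all (addChkR chevG2 6) = true := by decide +kernel
theorem addR_G2_7_0 : (List.range' (12 * 0) 12).all (addChkR chevG2 7) = true := by decide +kernel
theorem addR_G2_8_0 : (List.range' (12 * 0) 12).all (addChkR chevG2 8) = true := by decide +kernel
theorem addR_G2_9_0 : (List.range' (12 * 0) 12).all (addChkR chevG2 9) = true := by decide +kernel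
theorem addR_G2_10_0 : (List.range' (12 * 0) 12).all (addChkR chevG2 10) = true := by decide +kernel
theorem addR_G2_11_0 : (List.range' (12 * 0) 12).all (addChkR chevG2 11) = true := by decide +kernel

theorem addR_G2 : ∀ a < 12, ∀ s < 12, addChkR chevG2 a s = true :=
  forall_forall_lt_of_blocks (addChkR chevG2) 12 12 12 1 (by norm_num) (by norm_num) (by
    intro a ha k hk
    interval_cases a <;> interval_cases k
    · exact addR_G2_0_0
    · exact addR_G2_1_0
    · exact addR_G2_2_0
    · exact addR_G2_3_0
    · exact addR_G2_4_0
    · exact addR_G2_5_0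
    · exact addR_G2_6_0
    · exact addR_G2_7_0
    · exact addR_G2_8_0
    · exact addR_G2_9_0
    · exact addR_G2_10_0
    · exact addR_G2_11_0)

end Cfsg.Agent.Lead.Chev
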