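import Mathlib
import Cfsg.Agent.Lib.Lead.ChevComm2

/-!
Assembly of the commutator formula from the Boolean tests.
-/

set_option autoImplicit false
set_option linter.unusedSectionVars false
set_option linter.unusedSimpArgs false
set_option linter.unusedVariables false

namespace Cfsg.Agent.Lead.Chev

open Cfsg Cfsg.Lie

variable {F : Type*} [Field F]

/-- the calculator test for the `k`-th base pair -/
def baseAllChk (D : ChevalleyDatum) (base : List (ℕ × ℕ)) (k : ℕ) : Bool :=
  match base[k]? with
  | none => true
  | some p => (allCodes D).all (commBaseChk D p.1 p.2)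

theorem commOK_of_baseAllChk (D : ChevalleyDatum) (base : List (ℕ × ℕ))
    (h : ∀ k < base.length, baseAllChk D base k = true) :
    ∀ p ∈ base, CommOK D F p.1 p.2 := by
  intro p hp
  obtain ⟨k, hk, rfl⟩ := List.getElem_of_mem hp
  have := h k hk
  rw [baseAllChk, List.getElem?_eq_getElem hk] at this
  exact commOK_of_baseChk D _ _ (fun c hc => List.all_eq_true.1 this c hc)

end Cfsg.Agent.Lead.Chev
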