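import Mathlib
import Cfsg.Agent.Lib.Lead.ChevComm3
import Cfsg.Agent.Lib.Lead.ChevCommData
import Cfsg.Agent.Lib.Lead.ChevN_B2

set_option autoImplicit false

namespace Cfsg.Agent.Lead.Chev

open Cfsg Cfsg.Lie

theorem commWsOK_B2_0_0 : (List.range' (1 * 0) 1).all ((fun _ => wsChk chevB2 commWs_B2) 0) = true := by decide +kernel
theorem commWsOK_B2_0_1 : (List.range' (1 * 1) 1).all ((fun _ => wsChk chevB2 commWs_B2) 0) = true := by decide +kernel

theorem commWsOK_B2 : ∀ a < 1, ∀ s < 2, (fun _ => wsChk chevB2 commWs_B2) a s = true :=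
  forall_forall_lt_of_blocks ((fun _ => wsChk chevB2 commWs_B2)) 1 2 1 2 (by norm_num) (by norm_num) (by
    intro a ha k hk
    interval_cases a <;> interval_cases k
    · exact commWsOK_B2_0_0
    · exact commWsOK_B2_0_1)

theorem commBaseOK_B2_0_0 : (List.range' (1 * 0) 1).all ((fun _ => baseAllChk chevB2 commBase_B2) 0) = true := by decide +kernel
theorem commBaseOK_B2_0_1 : (List.range' (1 * 1) 1).all ((fun _ => baseAllChk chevB2 commBase_B2) 0) = true := by decide +kernel
theorem commBaseOK_B2_0_2 : (List.range' (1 * 2) 1).all ((fun _ => baseAllChk chevB2 commBase_B2) 0) = true := by decide +kernel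
theorem commBaseOK_B2_0_3 : (List.range' (1 * 3) 1).all ((fun _ => baseAllChk chevB2 commBase_B2) 0) = true := by decide +kernel
theorem commBaseOK_B2_0_4 : (List.range' (1 * 4) 1).all ((fun _ => baseAllChk chevB2 commBase_B2) 0) = true := by decide +kernel
theorem commBaseOK_B2_0_5 : (List.range' (1 * 5) 1).all ((fun _ => baseAllChk chevB2 commBase_B2) 0) = true := by decide +kernel

theorem commBaseOK_B2 : ∀ a < 1, ∀ s < 6, (fun _ => baseAllChk chevB2 commBase_B2) a s = true :=
  forall_forall_lt_of_blocks ((fun _ => baseAllChk chevB2 commBase_B2)) 1 6 1 6 (by norm_num) (by norm_num) (by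
    intro a ha k hk
    interval_cases a <;> interval_cases k
    · exact commBaseOK_B2_0_0
    · exact commBaseOK_B2_0_1
    · exact commBaseOK_B2_0_2
    · exact commBaseOK_B2_0_3
    · exact commBaseOK_B2_0_4
    · exact commBaseOK_B2_0_5)

theorem commPairOK_B2_0_0 : (List.range' (8 * 0) 8).all ((pairChk chevB2 nMasks_B2 commWs_B2 commH_B2 commBase_B2) 0) = true := by decide +kernel
theorem commPairOK_B2_1_0 : (List.range' (8 * 0) 8).all ((pairChk chevB2 nMasks_B2 commWs_B2 commH_B2 commBase_B2) 1) = true := by decide +kernel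
theorem commPairOK_B2_2_0 : (List.range' (8 * 0) 8).all ((pairChk chevB2 nMasks_B2 commWs_B2 commH_B2 commBase_B2) 2) = true := by decide +kernel
theorem commPairOK_B2_3_0 : (List.range' (8 * 0) 8).all ((pairChk chevB2 nMasks_B2 commWs_B2 commH_B2 commBase_B2) 3) = true := by decide +kernel
theorem commPairOK_B2_4_0 : (List.range' (8 * 0) 8).all ((pairChk chevB2 nMasks_B2 commWs_B2 commH_B2 commBase_B2) 4) = true := by decide +kernel
theorem commPairOK_B2_5_0 : (List.range' (8 * 0) 8).all ((pairChk chevB2 nMasks_B2 commWs_B2 commH_B2 commBase_B2) 5) = true := by decide +kernel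
theorem commPairOK_B2_6_0 : (List.range' (8 * 0) 8).all ((pairChk chevB2 nMasks_B2 commWs_B2 commH_B2 commBase_B2) 6) = true := by decide +kernel
theorem commPairOK_B2_7_0 : (List.range' (8 * 0) 8).all ((pairChk chevB2 nMasks_B2 commWs_B2 commH_B2 commBase_B2) 7) = true := by decide +kernel

theorem commPairOK_B2 : ∀ a < 8, ∀ s < 8, (pairChk chevB2 nMasks_B2 commWs_B2 commH_B2 commBase_B2) a s = true :=
  forall_forall_lt_of_blocks ((pairChk chevB2 nMasks_B2 commWs_B2 commH_B2 commBase_B2)) 8 8 8 1 (by norm_num) (by norm_num) (by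
    intro a ha k hk
    interval_cases a <;> interval_cases k
    · exact commPairOK_B2_0_0
    · exact commPairOK_B2_1_0
    · exact commPairOK_B2_2_0
    · exact commPairOK_B2_3_0
    · exact commPairOK_B2_4_0
    · exact commPairOK_B2_5_0
    · exact commPairOK_B2_6_0
    · exact commPairOK_B2_7_0)

end Cfsg.Agent.Lead.Chev
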