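import Mathlib
import Cfsg.Agent.Lib.Lead.ChevComm3
import Cfsg.Agent.Lib.Lead.ChevCommData
import Cfsg.Prelude.Def_ChevE7

set_option autoImplicit false

namespace Cfsg.Agent.Lead.Chev

open Cfsg Cfsg.Lie

theorem commWsOK_E7_0_0 : (List.range' (1 * 0) 1).all ((fun _ => wsChk chevE7 commWs_E7) 0) = true := by decide +kernel
theorem commWsOK_E7_0_1 : (List.range' (1 * 1) 1).all ((fun _ => wsChk chevE7 commWs_E7) 0) = true := by decide +kernel
theorem commWsOK_E7_0_2 : (List.range' (1 * 2) 1).all ((fun _ => wsChk chevE7 commWs_E7) 0) = true := by decide +kernel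
theorem commWsOK_E7_0_3 : (List.range' (1 * 3) 1).all ((fun _ => wsChk chevE7 commWs_E7) 0) = true := by decide +kernel
theorem commWsOK_E7_0_4 : (List.range' (1 * 4) 1).all ((fun _ => wsChk chevE7 commWs_E7) 0) = true := by decide +kernel
theorem commWsOK_E7_0_5 : (List.range' (1 * 5) 1).all ((fun _ => wsChk chevE7 commWs_E7) 0) = true := by decide +kernel
theorem commWsOK_E7_0_6 : (List.range' (1 * 6) 1).all ((fun _ => wsChk chevE7 commWs_E7) 0) = true := by decide +kernel

theorem commWsOK_E7 : ∀ a < 1, ∀ s < 7, (fun _ => wsChk chevE7 commWs_E7) a s = true :=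
  forall_forall_lt_of_blocks ((fun _ => wsChk chevE7 commWs_E7)) 1 7 1 7 (by norm_num) (by norm_num) (by
    intro a ha k hk
    interval_cases a <;> interval_cases k
    · exact commWsOK_E7_0_0
    · exact commWsOK_E7_0_1
    · exact commWsOK_E7_0_2
    · exact commWsOK_E7_0_3
    · exact commWsOK_E7_0_4
    · exact commWsOK_E7_0_5
    · exact commWsOK_E7_0_6)

theorem commBaseOK_E7_0_0 : (List.range' (1 * 0) 1).all ((fun _ => baseAllChk chevE7 commBase_E7) 0) = true := by decide +kernel
theorem commBaseOK_E7_0_1 : (List.range' (1 * 1) 1).all ((fun _ => baseAllChk chevE7 commBase_E7) 0) = true := by decide +kernel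
theorem commBaseOK_E7_0_2 : (List.range' (1 * 2) 1).all ((fun _ => baseAllChk chevE7 commBase_E7) 0) = true := by decide +kernel

theorem commBaseOK_E7 : ∀ a < 1, ∀ s < 3, (fun _ => baseAllChk chevE7 commBase_E7) a s = true :=
  forall_forall_lt_of_blocks ((fun _ => baseAllChk chevE7 commBase_E7)) 1 3 1 3 (by norm_num) (by norm_num) (by
    intro a ha k hk
    interval_cases a <;> interval_cases k
    · exact commBaseOK_E7_0_0
    · exact commBaseOK_E7_0_1
    · exact commBaseOK_E7_0_2)

theorem commLiteOK_E7_0_0 : (List.range' (126 * 0) 126).all ((pairLite chevE7 commWs_E7 commH_E7 commBase_E7) 0) = true := by decide +kernel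
theorem commLiteOK_E7_1_0 : (List.range' (126 * 0) 126).all ((pairLite chevE7 commWs_E7 commH_E7 commBase_E7) 1) = true := by decide +kernel
theorem commLiteOK_E7_2_0 : (List.range' (126 * 0) 126).all ((pairLite chevE7 commWs_E7 commH_E7 commBase_E7) 2) = true := by decide +kernel
theorem commLiteOK_E7_3_0 : (List.range' (126 * 0) 126).all ((pairLite chevE7 commWs_E7 commH_E7 commBase_E7) 3) = true := by decide +kernel
theorem commLiteOK_E7_4_0 : (List.range' (126 * 0) 126).all ((pairLite chevE7 commWs_E7 commH_E7 commBase_E7) 4) = true := by decide +kernel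
theorem commLiteOK_E7_5_0 : (List.range' (126 * 0) 126).all ((pairLite chevE7 commWs_E7 commH_E7 commBase_E7) 5) = true := by decide +kernel
theorem commLiteOK_E7_6_0 : (List.range' (126 * 0) 126).all ((pairLite chevE7 commWs_E7 commH_E7 commBase_E7) 6) = true := by decide +kernel
theorem commLiteOK_E7_7_0 : (List.range' (126 * 0) 126).all ((pairLite chevE7 commWs_E7 commH_E7 commBase_E7) 7) = true := by decide +kernel
theorem commLiteOK_E7_8_0 : (List.range' (126 * 0) 126).all ((pairLite chevE7 commWs_E7 commH_E7 commBase_E7) 8) = true := by decide +kernel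
theorem commLiteOK_E7_9_0 : (List.range' (126 * 0) 126).all ((pairLite chevE7 commWs_E7 commH_E7 commBase_E7) 9) = true := by decide +kernel
theorem commLiteOK_E7_10_0 : (List.range' (126 * 0) 126).all ((pairLite chevE7 commWs_E7 commH_E7 commBase_E7) 10) = true := by decide +kernel
theorem commLiteOK_E7_11_0 : (List.range' (126 * 0) 126).all ((pairLite chevE7 commWs_E7 commH_E7 commBase_E7) 11) = true := by decide +kernel
theorem commLiteOK_E7_12_0 : (List.range' (126 * 0) 126).all ((pairLite chevE7 commWs_E7 commH_E7 commBase_E7) 12) = true := by decide +kernel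
theorem commLiteOK_E7_13_0 : (List.range' (126 * 0) 126).all ((pairLite chevE7 commWs_E7 commH_E7 commBase_E7) 13) = true := by decide +kernel
theorem commLiteOK_E7_14_0 : (List.range' (126 * 0) 126).all ((pairLite chevE7 commWs_E7 commH_E7 commBase_E7) 14) = true := by decide +kernel
theorem commLiteOK_E7_15_0 : (List.range' (126 * 0) 126).all ((pairLite chevE7 commWs_E7 commH_E7 commBase_E7) 15) = true := by decide +kernel
theorem commLiteOK_E7_16_0 : (List.range' (126 * 0) 126).all ((pairLite chevE7 commWs_E7 commH_E7 commBase_E7) 16) = true := by decide +kernel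
theorem commLiteOK_E7_17_0 : (List.range' (126 * 0) 126).all ((pairLite chevE7 commWs_E7 commH_E7 commBase_E7) 17) = true := by decide +kernel
theorem commLiteOK_E7_18_0 : (List.range' (126 * 0) 126).all ((pairLite chevE7 commWs_E7 commH_E7 commBase_E7) 18) = true := by decide +kernel
theorem commLiteOK_E7_19_0 : (List.range' (126 * 0) 126).all ((pairLite chevE7 commWs_E7 commH_E7 commBase_E7) 19) = true := by decide +kernel
theorem commLiteOK_E7_20_0 : (List.range' (126 * 0) 126).all ((pairLite chevE7 commWs_E7 commH_E7 commBase_E7) 20) = true := by decide +kernel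
theorem commLiteOK_E7_21_0 : (List.range' (126 * 0) 126).all ((pairLite chevE7 commWs_E7 commH_E7 commBase_E7) 21) = true := by decide +kernel
theorem commLiteOK_E7_22_0 : (List.range' (126 * 0) 126).all ((pairLite chevE7 commWs_E7 commH_E7 commBase_E7) 22) = true := by decide +kernel
theorem commLiteOK_E7_23_0 : (List.range' (126 * 0) 126).all ((pairLite chevE7 commWs_E7 commH_E7 commBase_E7) 23) = true := by decide +kernel
theorem commLiteOK_E7_24_0 : (List.range' (126 * 0) 126).all ((pairLite chevE7 commWs_E7 commH_E7 commBase_E7) 24) = true := by decide +kernel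
theorem commLiteOK_E7_25_0 : (List.range' (126 * 0) 126).all ((pairLite chevE7 commWs_E7 commH_E7 commBase_E7) 25) = true := by decide +kernel
theorem commLiteOK_E7_26_0 : (List.range' (126 * 0) 126).all ((pairLite chevE7 commWs_E7 commH_E7 commBase_E7) 26) = true := by decide +kernel
theorem commLiteOK_E7_27_0 : (List.range' (126 * 0) 126).all ((pairLite chevE7 commWs_E7 commH_E7 commBase_E7) 27) = true := by decide +kernel
theorem commLiteOK_E7_28_0 : (List.range' (126 * 0) 126).all ((pairLite chevE7 commWs_E7 commH_E7 commBase_E7) 28) = true := by decide +kernel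
theorem commLiteOK_E7_29_0 : (List.range' (126 * 0) 126).all ((pairLite chevE7 commWs_E7 commH_E7 commBase_E7) 29) = true := by decide +kernel
theorem commLiteOK_E7_30_0 : (List.range' (126 * 0) 126).all ((pairLite chevE7 commWs_E7 commH_E7 commBase_E7) 30) = true := by decide +kernel
theorem commLiteOK_E7_31_0 : (List.range' (126 * 0) 126).all ((pairLite chevE7 commWs_E7 commH_E7 commBase_E7) 31) = true := by decide +kernel
theorem commLiteOK_E7_32_0 : (List.range' (126 * 0) 126).all ((pairLite chevE7 commWs_E7 commH_E7 commBase_E7) 32) = true := by decide +kernel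
theorem commLiteOK_E7_33_0 : (List.range' (126 * 0) 126).all ((pairLite chevE7 commWs_E7 commH_E7 commBase_E7) 33) = true := by decide +kernel
theorem commLiteOK_E7_34_0 : (List.range' (126 * 0) 126).all ((pairLite chevE7 commWs_E7 commH_E7 commBase_E7) 34) = true := by decide +kernel
theorem commLiteOK_E7_35_0 : (List.range' (126 * 0) 126).all ((pairLite chevE7 commWs_E7 commH_E7 commBase_E7) 35) = true := by decide +kernel
theorem commLiteOK_E7_36_0 : (List.range' (126 * 0) 126).all ((pairLite chevE7 commWs_E7 commH_E7 commBase_E7) 36) = true := by decide +kernel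
theorem commLiteOK_E7_37_0 : (List.range' (126 * 0) 126).all ((pairLite chevE7 commWs_E7 commH_E7 commBase_E7) 37) = true := by decide +kernel
theorem commLiteOK_E7_38_0 : (List.range' (126 * 0) 126).all ((pairLite chevE7 commWs_E7 commH_E7 commBase_E7) 38) = true := by decide +kernel
theorem commLiteOK_E7_39_0 : (List.range' (126 * 0) 126).all ((pairLite chevE7 commWs_E7 commH_E7 commBase_E7) 39) = true := by decide +kernel
theorem commLiteOK_E7_40_0 : (List.range' (126 * 0) 126).all ((pairLite chevE7 commWs_E7 commH_E7 commBase_E7) 40) = true := by decide +kernel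
theorem commLiteOK_E7_41_0 : (List.range' (126 * 0) 126).all ((pairLite chevE7 commWs_E7 commH_E7 commBase_E7) 41) = true := by decide +kernel
theorem commLiteOK_E7_42_0 : (List.range' (126 * 0) 126).all ((pairLite chevE7 commWs_E7 commH_E7 commBase_E7) 42) = true := by decide +kernel
theorem commLiteOK_E7_43_0 : (List.range' (126 * 0) 126).all ((pairLite chevE7 commWs_E7 commH_E7 commBase_E7) 43) = true := by decide +kernel
theorem commLiteOK_E7_44_0 : (List.range' (126 * 0) 126).all ((pairLite chevE7 commWs_E7 commH_E7 commBase_E7) 44) = true := by decide +kernel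
theorem commLiteOK_E7_45_0 : (List.range' (126 * 0) 126).all ((pairLite chevE7 commWs_E7 commH_E7 commBase_E7) 45) = true := by decide +kernel
theorem commLiteOK_E7_46_0 : (List.range' (126 * 0) 126).all ((pairLite chevE7 commWs_E7 commH_E7 commBase_E7) 46) = true := by decide +kernel
theorem commLiteOK_E7_47_0 : (List.range' (126 * 0) 126).all ((pairLite chevE7 commWs_E7 commH_E7 commBase_E7) 47) = true := by decide +kernel
theorem commLiteOK_E7_48_0 : (List.range' (126 * 0) 126).all ((pairLite chevE7 commWs_E7 commH_E7 commBase_E7) 48) = true := by decide +kernel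
theorem commLiteOK_E7_49_0 : (List.range' (126 * 0) 126).all ((pairLite chevE7 commWs_E7 commH_E7 commBase_E7) 49) = true := by decide +kernel
theorem commLiteOK_E7_50_0 : (List.range' (126 * 0) 126).all ((pairLite chevE7 commWs_E7 commH_E7 commBase_E7) 50) = true := by decide +kernel
theorem commLiteOK_E7_51_0 : (List.range' (126 * 0) 126).all ((pairLite chevE7 commWs_E7 commH_E7 commBase_E7) 51) = true := by decide +kernel
theorem commLiteOK_E7_52_0 : (List.range' (126 * 0) 126).all ((pairLite chevE7 commWs_E7 commH_E7 commBase_E7) 52) = true := by decide +kernel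
theorem commLiteOK_E7_53_0 : (List.range' (126 * 0) 126).all ((pairLite chevE7 commWs_E7 commH_E7 commBase_E7) 53) = true := by decide +kernel
theorem commLiteOK_E7_54_0 : (List.range' (126 * 0) 126).all ((pairLite chevE7 commWs_E7 commH_E7 commBase_E7) 54) = true := by decide +kernel
theorem commLiteOK_E7_55_0 : (List.range' (126 * 0) 126).all ((pairLite chevE7 commWs_E7 commH_E7 commBase_E7) 55) = true := by decide +kernel
theorem commLiteOK_E7_56_0 : (List.range' (126 * 0) 126).all ((pairLite chevE7 commWs_E7 commH_E7 commBase_E7) 56) = true := by decide +kernel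
theorem commLiteOK_E7_57_0 : (List.range' (126 * 0) 126).all ((pairLite chevE7 commWs_E7 commH_E7 commBase_E7) 57) = true := by decide +kernel
theorem commLiteOK_E7_58_0 : (List.range' (126 * 0) 126).all ((pairLite chevE7 commWs_E7 commH_E7 commBase_E7) 58) = true := by decide +kernel
theorem commLiteOK_E7_59_0 : (List.range' (126 * 0) 126).all ((pairLite chevE7 commWs_E7 commH_E7 commBase_E7) 59) = true := by decide +kernel
theorem commLiteOK_E7_60_0 : (List.range' (126 * 0) 126).all ((pairLite chevE7 commWs_E7 commH_E7 commBase_E7) 60) = true := by decide +kernel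
theorem commLiteOK_E7_61_0 : (List.range' (126 * 0) 126).all ((pairLite chevE7 commWs_E7 commH_E7 commBase_E7) 61) = true := by decide +kernel
theorem commLiteOK_E7_62_0 : (List.range' (126 * 0) 126).all ((pairLite chevE7 commWs_E7 commH_E7 commBase_E7) 62) = true := by decide +kernel
theorem commLiteOK_E7_63_0 : (List.range' (126 * 0) 126).all ((pairLite chevE7 commWs_E7 commH_E7 commBase_E7) 63) = true := by decide +kernel
theorem commLiteOK_E7_64_0 : (List.range' (126 * 0) 126).all ((pairLite chevE7 commWs_E7 commH_E7 commBase_E7) 64) = true := by decide +kernel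
theorem commLiteOK_E7_65_0 : (List.range' (126 * 0) 126).all ((pairLite chevE7 commWs_E7 commH_E7 commBase_E7) 65) = true := by decide +kernel
theorem commLiteOK_E7_66_0 : (List.range' (126 * 0) 126).all ((pairLite chevE7 commWs_E7 commH_E7 commBase_E7) 66) = true := by decide +kernel
theorem commLiteOK_E7_67_0 : (List.range' (126 * 0) 126).all ((pairLite chevE7 commWs_E7 commH_E7 commBase_E7) 67) = true := by decide +kernel
theorem commLiteOK_E7_68_0 : (List.range' (126 * 0) 126).all ((pairLite chevE7 commWs_E7 commH_E7 commBase_E7) 68) = true := by decide +kernel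
theorem commLiteOK_E7_69_0 : (List.range' (126 * 0) 126).all ((pairLite chevE7 commWs_E7 commH_E7 commBase_E7) 69) = true := by decide +kernel
theorem commLiteOK_E7_70_0 : (List.range' (126 * 0) 126).all ((pairLite chevE7 commWs_E7 commH_E7 commBase_E7) 70) = true := by decide +kernel
theorem commLiteOK_E7_71_0 : (List.range' (126 * 0) 126).all ((pairLite chevE7 commWs_E7 commH_E7 commBase_E7) 71) = true := by decide +kernel
theorem commLiteOK_E7_72_0 : (List.range' (126 * 0) 126).all ((pairLite chevE7 commWs_E7 commH_E7 commBase_E7) 72) = true := by decide +kernel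
theorem commLiteOK_E7_73_0 : (List.range' (126 * 0) 126).all ((pairLite chevE7 commWs_E7 commH_E7 commBase_E7) 73) = true := by decide +kernel
theorem commLiteOK_E7_74_0 : (List.range' (126 * 0) 126).all ((pairLite chevE7 commWs_E7 commH_E7 commBase_E7) 74) = true := by decide +kernel
theorem commLiteOK_E7_75_0 : (List.range' (126 * 0) 126).all ((pairLite chevE7 commWs_E7 commH_E7 commBase_E7) 75) = true := by decide +kernel
theorem commLiteOK_E7_76_0 : (List.range' (126 * 0) 126).all ((pairLite chevE7 commWs_E7 commH_E7 commBase_E7) 76) = true := by decide +kernel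
theorem commLiteOK_E7_77_0 : (List.range' (126 * 0) 126).all ((pairLite chevE7 commWs_E7 commH_E7 commBase_E7) 77) = true := by decide +kernel
theorem commLiteOK_E7_78_0 : (List.range' (126 * 0) 126).all ((pairLite chevE7 commWs_E7 commH_E7 commBase_E7) 78) = true := by decide +kernel
theorem commLiteOK_E7_79_0 : (List.range' (126 * 0) 126).all ((pairLite chevE7 commWs_E7 commH_E7 commBase_E7) 79) = true := by decide +kernel
theorem commLiteOK_E7_80_0 : (List.range' (126 * 0) 126).all ((pairLite chevE7 commWs_E7 commH_E7 commBase_E7) 80) = true := by decide +kernel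
theorem commLiteOK_E7_81_0 : (List.range' (126 * 0) 126).all ((pairLite chevE7 commWs_E7 commH_E7 commBase_E7) 81) = true := by decide +kernel
theorem commLiteOK_E7_82_0 : (List.range' (126 * 0) 126).all ((pairLite chevE7 commWs_E7 commH_E7 commBase_E7) 82) = true := by decide +kernel
theorem commLiteOK_E7_83_0 : (List.range' (126 * 0) 126).all ((pairLite chevE7 commWs_E7 commH_E7 commBase_E7) 83) = true := by decide +kernel
theorem commLiteOK_E7_84_0 : (List.range' (126 * 0) 126).all ((pairLite chevE7 commWs_E7 commH_E7 commBase_E7) 84) = true := by decide +kernel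
theorem commLiteOK_E7_85_0 : (List.range' (126 * 0) 126).all ((pairLite chevE7 commWs_E7 commH_E7 commBase_E7) 85) = true := by decide +kernel
theorem commLiteOK_E7_86_0 : (List.range' (126 * 0) 126).all ((pairLite chevE7 commWs_E7 commH_E7 commBase_E7) 86) = true := by decide +kernel
theorem commLiteOK_E7_87_0 : (List.range' (126 * 0) 126).all ((pairLite chevE7 commWs_E7 commH_E7 commBase_E7) 87) = true := by decide +kernel
theorem commLiteOK_E7_88_0 : (List.range' (126 * 0) 126).all ((pairLite chevE7 commWs_E7 commH_E7 commBase_E7) 88) = true := by decide +kernel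
theorem commLiteOK_E7_89_0 : (List.range' (126 * 0) 126).all ((pairLite chevE7 commWs_E7 commH_E7 commBase_E7) 89) = true := by decide +kernel
theorem commLiteOK_E7_90_0 : (List.range' (126 * 0) 126).all ((pairLite chevE7 commWs_E7 commH_E7 commBase_E7) 90) = true := by decide +kernel
theorem commLiteOK_E7_91_0 : (List.range' (126 * 0) 126).all ((pairLite chevE7 commWs_E7 commH_E7 commBase_E7) 91) = true := by decide +kernel
theorem commLiteOK_E7_92_0 : (List.range' (126 * 0) 126).all ((pairLite chevE7 commWs_E7 commH_E7 commBase_E7) 92) = true := by decide +kernel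
theorem commLiteOK_E7_93_0 : (List.range' (126 * 0) 126).all ((pairLite chevE7 commWs_E7 commH_E7 commBase_E7) 93) = true := by decide +kernel
theorem commLiteOK_E7_94_0 : (List.range' (126 * 0) 126).all ((pairLite chevE7 commWs_E7 commH_E7 commBase_E7) 94) = true := by decide +kernel
theorem commLiteOK_E7_95_0 : (List.range' (126 * 0) 126).all ((pairLite chevE7 commWs_E7 commH_E7 commBase_E7) 95) = true := by decide +kernel
theorem commLiteOK_E7_96_0 : (List.range' (126 * 0) 126).all ((pairLite chevE7 commWs_E7 commH_E7 commBase_E7) 96) = true := by decide +kernel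
theorem commLiteOK_E7_97_0 : (List.range' (126 * 0) 126).all ((pairLite chevE7 commWs_E7 commH_E7 commBase_E7) 97) = true := by decide +kernel
theorem commLiteOK_E7_98_0 : (List.range' (126 * 0) 126).all ((pairLite chevE7 commWs_E7 commH_E7 commBase_E7) 98) = true := by decide +kernel
theorem commLiteOK_E7_99_0 : (List.range' (126 * 0) 126).all ((pairLite chevE7 commWs_E7 commH_E7 commBase_E7) 99) = true := by decide +kernel
theorem commLiteOK_E7_100_0 : (List.range' (126 * 0) 126).all ((pairLite chevE7 commWs_E7 commH_E7 commBase_E7) 100) = true := by decide +kernel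
theorem commLiteOK_E7_101_0 : (List.range' (126 * 0) 126).all ((pairLite chevE7 commWs_E7 commH_E7 commBase_E7) 101) = true := by decide +kernel
theorem commLiteOK_E7_102_0 : (List.range' (126 * 0) 126).all ((pairLite chevE7 commWs_E7 commH_E7 commBase_E7) 102) = true := by decide +kernel
theorem commLiteOK_E7_103_0 : (List.range' (126 * 0) 126).all ((pairLite chevE7 commWs_E7 commH_E7 commBase_E7) 103) = true := by decide +kernel
theorem commLiteOK_E7_104_0 : (List.range' (126 * 0) 126).all ((pairLite chevE7 commWs_E7 commH_E7 commBase_E7) 104) = true := by decide +kernel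
theorem commLiteOK_E7_105_0 : (List.range' (126 * 0) 126).all ((pairLite chevE7 commWs_E7 commH_E7 commBase_E7) 105) = true := by decide +kernel
theorem commLiteOK_E7_106_0 : (List.range' (126 * 0) 126).all ((pairLite chevE7 commWs_E7 commH_E7 commBase_E7) 106) = true := by decide +kernel
theorem commLiteOK_E7_107_0 : (List.range' (126 * 0) 126).all ((pairLite chevE7 commWs_E7 commH_E7 commBase_E7) 107) = true := by decide +kernel
theorem commLiteOK_E7_108_0 : (List.range' (126 * 0) 126).all ((pairLite chevE7 commWs_E7 commH_E7 commBase_E7) 108) = true := by decide +kernel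
theorem commLiteOK_E7_109_0 : (List.range' (126 * 0) 126).all ((pairLite chevE7 commWs_E7 commH_E7 commBase_E7) 109) = true := by decide +kernel
theorem commLiteOK_E7_110_0 : (List.range' (126 * 0) 126).all ((pairLite chevE7 commWs_E7 commH_E7 commBase_E7) 110) = true := by decide +kernel
theorem commLiteOK_E7_111_0 : (List.range' (126 * 0) 126).all ((pairLite chevE7 commWs_E7 commH_E7 commBase_E7) 111) = true := by decide +kernel
theorem commLiteOK_E7_112_0 : (List.range' (126 * 0) 126).all ((pairLite chevE7 commWs_E7 commH_E7 commBase_E7) 112) = true := by decide +kernel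
theorem commLiteOK_E7_113_0 : (List.range' (126 * 0) 126).all ((pairLite chevE7 commWs_E7 commH_E7 commBase_E7) 113) = true := by decide +kernel
theorem commLiteOK_E7_114_0 : (List.range' (126 * 0) 126).all ((pairLite chevE7 commWs_E7 commH_E7 commBase_E7) 114) = true := by decide +kernel
theorem commLiteOK_E7_115_0 : (List.range' (126 * 0) 126).all ((pairLite chevE7 commWs_E7 commH_E7 commBase_E7) 115) = true := by decide +kernel
theorem commLiteOK_E7_116_0 : (List.range' (126 * 0) 126).all ((pairLite chevE7 commWs_E7 commH_E7 commBase_E7) 116) = true := by decide +kernel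
theorem commLiteOK_E7_117_0 : (List.range' (126 * 0) 126).all ((pairLite chevE7 commWs_E7 commH_E7 commBase_E7) 117) = true := by decide +kernel
theorem commLiteOK_E7_118_0 : (List.range' (126 * 0) 126).all ((pairLite chevE7 commWs_E7 commH_E7 commBase_E7) 118) = true := by decide +kernel
theorem commLiteOK_E7_119_0 : (List.range' (126 * 0) 126).all ((pairLite chevE7 commWs_E7 commH_E7 commBase_E7) 119) = true := by decide +kernel
theorem commLiteOK_E7_120_0 : (List.range' (126 * 0) 126).all ((pairLite chevE7 commWs_E7 commH_E7 commBase_E7) 120) = true := by decide +kernel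
theorem commLiteOK_E7_121_0 : (List.range' (126 * 0) 126).all ((pairLite chevE7 commWs_E7 commH_E7 commBase_E7) 121) = true := by decide +kernel
theorem commLiteOK_E7_122_0 : (List.range' (126 * 0) 126).all ((pairLite chevE7 commWs_E7 commH_E7 commBase_E7) 122) = true := by decide +kernel
theorem commLiteOK_E7_123_0 : (List.range' (126 * 0) 126).all ((pairLite chevE7 commWs_E7 commH_E7 commBase_E7) 123) = true := by decide +kernel
theorem commLiteOK_E7_124_0 : (List.range' (126 * 0) 126).all ((pairLite chevE7 commWs_E7 commH_E7 commBase_E7) 124) = true := by decide +kernel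
theorem commLiteOK_E7_125_0 : (List.range' (126 * 0) 126).all ((pairLite chevE7 commWs_E7 commH_E7 commBase_E7) 125) = true := by decide +kernel

theorem commLiteOK_E7 : ∀ a < 126, ∀ s < 126, (pairLite chevE7 commWs_E7 commH_E7 commBase_E7) a s = true :=
  forall_forall_lt_of_blocks ((pairLite chevE7 commWs_E7 commH_E7 commBase_E7)) 126 126 126 1 (by norm_num) (by norm_num) (by
    intro a ha k hk
    interval_cases a <;> interval_cases k
    · exact commLiteOK_E7_0_0
    · exact commLiteOK_E7_1_0
    · exact commLiteOK_E7_2_0
    · exact commLiteOK_E7_3_0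
    · exact commLiteOK_E7_4_0
    · exact commLiteOK_E7_5_0
    · exact commLiteOK_E7_6_0
    · exact commLiteOK_E7_7_0
    · exact commLiteOK_E7_8_0
    · exact commLiteOK_E7_9_0
    · exact commLiteOK_E7_10_0
    · exact commLiteOK_E7_11_0
    · exact commLiteOK_E7_12_0
    · exact commLiteOK_E7_13_0
    · exact commLiteOK_E7_14_0
    · exact commLiteOK_E7_15_0
    · exact commLiteOK_E7_16_0
    · exact commLiteOK_E7_17_0
    · exact commLiteOK_E7_18_0
    · exact commLiteOK_E7_19_0
    · exact commLiteOK_E7_20_0
    · exact commLiteOK_E7_21_0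
    · exact commLiteOK_E7_22_0
    · exact commLiteOK_E7_23_0
    · exact commLiteOK_E7_24_0
    · exact commLiteOK_E7_25_0
    · exact commLiteOK_E7_26_0
    · exact commLiteOK_E7_27_0
    · exact commLiteOK_E7_28_0
    · exact commLiteOK_E7_29_0
    · exact commLiteOK_E7_30_0
    · exact commLiteOK_E7_31_0
    · exact commLiteOK_E7_32_0
    · exact commLiteOK_E7_33_0
    · exact commLiteOK_E7_34_0
    · exact commLiteOK_E7_35_0
    · exact commLiteOK_E7_36_0
    · exact commLiteOK_E7_37_0
    · exact commLiteOK_E7_38_0
    · exact commLiteOK_E7_39_0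
    · exact commLiteOK_E7_40_0
    · exact commLiteOK_E7_41_0
    · exact commLiteOK_E7_42_0
    · exact commLiteOK_E7_43_0
    · exact commLiteOK_E7_44_0
    · exact commLiteOK_E7_45_0
    · exact commLiteOK_E7_46_0
    · exact commLiteOK_E7_47_0
    · exact commLiteOK_E7_48_0
    · exact commLiteOK_E7_49_0
    · exact commLiteOK_E7_50_0
    · exact commLiteOK_E7_51_0
    · exact commLiteOK_E7_52_0
    · exact commLiteOK_E7_53_0
    · exact commLiteOK_E7_54_0
    · exact commLiteOK_E7_55_0
    · exact commLiteOK_E7_56_0
    · exact commLiteOK_E7_57_0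
    · exact commLiteOK_E7_58_0
    · exact commLiteOK_E7_59_0
    · exact commLiteOK_E7_60_0
    · exact commLiteOK_E7_61_0
    · exact commLiteOK_E7_62_0
    · exact commLiteOK_E7_63_0
    · exact commLiteOK_E7_64_0
    · exact commLiteOK_E7_65_0
    · exact commLiteOK_E7_66_0
    · exact commLiteOK_E7_67_0
    · exact commLiteOK_E7_68_0
    · exact commLiteOK_E7_69_0
    · exact commLiteOK_E7_70_0
    · exact commLiteOK_E7_71_0
    · exact commLiteOK_E7_72_0
    · exact commLiteOK_E7_73_0
    · exact commLiteOK_E7_74_0
    · exact commLiteOK_E7_75_0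
    · exact commLiteOK_E7_76_0
    · exact commLiteOK_E7_77_0
    · exact commLiteOK_E7_78_0
    · exact commLiteOK_E7_79_0
    · exact commLiteOK_E7_80_0
    · exact commLiteOK_E7_81_0
    · exact commLiteOK_E7_82_0
    · exact commLiteOK_E7_83_0
    · exact commLiteOK_E7_84_0
    · exact commLiteOK_E7_85_0
    · exact commLiteOK_E7_86_0
    · exact commLiteOK_E7_87_0
    · exact commLiteOK_E7_88_0
    · exact commLiteOK_E7_89_0
    · exact commLiteOK_E7_90_0
    · exact commLiteOK_E7_91_0
    · exact commLiteOK_E7_92_0
    · exact commLiteOK_E7_93_0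
    · exact commLiteOK_E7_94_0
    · exact commLiteOK_E7_95_0
    · exact commLiteOK_E7_96_0
    · exact commLiteOK_E7_97_0
    · exact commLiteOK_E7_98_0
    · exact commLiteOK_E7_99_0
    · exact commLiteOK_E7_100_0
    · exact commLiteOK_E7_101_0
    · exact commLiteOK_E7_102_0
    · exact commLiteOK_E7_103_0
    · exact commLiteOK_E7_104_0
    · exact commLiteOK_E7_105_0
    · exact commLiteOK_E7_106_0
    · exact commLiteOK_E7_107_0
    · exact commLiteOK_E7_108_0
    · exact commLiteOK_E7_109_0
    · exact commLiteOK_E7_110_0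
    · exact commLiteOK_E7_111_0
    · exact commLiteOK_E7_112_0
    · exact commLiteOK_E7_113_0
    · exact commLiteOK_E7_114_0
    · exact commLiteOK_E7_115_0
    · exact commLiteOK_E7_116_0
    · exact commLiteOK_E7_117_0
    · exact commLiteOK_E7_118_0
    · exact commLiteOK_E7_119_0
    · exact commLiteOK_E7_120_0
    · exact commLiteOK_E7_121_0
    · exact commLiteOK_E7_122_0
    · exact commLiteOK_E7_123_0
    · exact commLiteOK_E7_124_0
    · exact commLiteOK_E7_125_0)

end Cfsg.Agent.Lead.Chev
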