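import Mathlib
import Cfsg.Agent.Lib.Lead.ChevComm3
import Cfsg.Agent.Lib.Lead.ChevCommData
import Cfsg.Prelude.Def_ChevE8

set_option autoImplicit false

namespace Cfsg.Agent.Lead.Chev

open Cfsg Cfsg.Lie

theorem commWsOK_E8_0_0 : (List.range' (1 * 0) 1).all ((fun _ => wsChk chevE8 commWs_E8) 0) = true := by decide +kernel
theorem commWsOK_E8_0_1 : (List.range' (1 * 1) 1).all ((fun _ => wsChk chevE8 commWs_E8) 0) = true := by decide +kernel
theorem commWsOK_E8_0_2 : (List.range' (1 * 2) 1).all ((fun _ => wsChk chevE8 commWs_E8) 0) = true := by decide +kernel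
theorem commWsOK_E8_0_3 : (List.range' (1 * 3) 1).all ((fun _ => wsChk chevE8 commWs_E8) 0) = true := by decide +kernel
theorem commWsOK_E8_0_4 : (List.range' (1 * 4) 1).all ((fun _ => wsChk chevE8 commWs_E8) 0) = true := by decide +kernel
theorem commWsOK_E8_0_5 : (List.range' (1 * 5) 1).all ((fun _ => wsChk chevE8 commWs_E8) 0) = true := by decide +kernel
theorem commWsOK_E8_0_6 : (List.range' (1 * 6) 1).all ((fun _ => wsChk chevE8 commWs_E8) 0) = true := by decide +kernel
theorem commWsOK_E8_0_7 : (List.range' (1 * 7) 1).all ((fun _ => wsChk chevE8 commWs_E8) 0) = true := by decide +kernel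

theorem commWsOK_E8 : ∀ a < 1, ∀ s < 8, (fun _ => wsChk chevE8 commWs_E8) a s = true :=
  forall_forall_lt_of_blocks ((fun _ => wsChk chevE8 commWs_E8)) 1 8 1 8 (by norm_num) (by norm_num) (by
    intro a ha k hk
    interval_cases a <;> interval_cases k
    · exact commWsOK_E8_0_0
    · exact commWsOK_E8_0_1
    · exact commWsOK_E8_0_2
    · exact commWsOK_E8_0_3
    · exact commWsOK_E8_0_4
    · exact commWsOK_E8_0_5
    · exact commWsOK_E8_0_6
    · exact commWsOK_E8_0_7)

theorem commBaseOK_E8_0_0 : (List.range' (1 * 0) 1).all ((fun _ => baseAllChk chevE8 commBase_E8) 0) = true := by decide +kernel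
theorem commBaseOK_E8_0_1 : (List.range' (1 * 1) 1).all ((fun _ => baseAllChk chevE8 commBase_E8) 0) = true := by decide +kernel
theorem commBaseOK_E8_0_2 : (List.range' (1 * 2) 1).all ((fun _ => baseAllChk chevE8 commBase_E8) 0) = true := by decide +kernel

theorem commBaseOK_E8 : ∀ a < 1, ∀ s < 3, (fun _ => baseAllChk chevE8 commBase_E8) a s = true :=
  forall_forall_lt_of_blocks ((fun _ => baseAllChk chevE8 commBase_E8)) 1 3 1 3 (by norm_num) (by norm_num) (by
    intro a ha k hk
    interval_cases a <;> interval_cases k
    · exact commBaseOK_E8_0_0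
    · exact commBaseOK_E8_0_1
    · exact commBaseOK_E8_0_2)

theorem commLiteOK_E8_0_0 : (List.range' (240 * 0) 240).all ((pairLite chevE8 commWs_E8 commH_E8 commBase_E8) 0) = true := by decide +kernel
theorem commLiteOK_E8_1_0 : (List.range' (240 * 0) 240).all ((pairLite chevE8 commWs_E8 commH_E8 commBase_E8) 1) = true := by decide +kernel
theorem commLiteOK_E8_2_0 : (List.range' (240 * 0) 240).all ((pairLite chevE8 commWs_E8 commH_E8 commBase_E8) 2) = true := by decide +kernel
theorem commLiteOK_E8_3_0 : (List.range' (240 * 0) 240).all ((pairLite chevE8 commWs_E8 commH_E8 commBase_E8) 3) = true := by decide +kernel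
theorem commLiteOK_E8_4_0 : (List.range' (240 * 0) 240).all ((pairLite chevE8 commWs_E8 commH_E8 commBase_E8) 4) = true := by decide +kernel
theorem commLiteOK_E8_5_0 : (List.range' (240 * 0) 240).all ((pairLite chevE8 commWs_E8 commH_E8 commBase_E8) 5) = true := by decide +kernel
theorem commLiteOK_E8_6_0 : (List.range' (240 * 0) 240).all ((pairLite chevE8 commWs_E8 commH_E8 commBase_E8) 6) = true := by decide +kernel
theorem commLiteOK_E8_7_0 : (List.range' (240 * 0) 240).all ((pairLite chevE8 commWs_E8 commH_E8 commBase_E8) 7) = true := by decide +kernel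
theorem commLiteOK_E8_8_0 : (List.range' (240 * 0) 240).all ((pairLite chevE8 commWs_E8 commH_E8 commBase_E8) 8) = true := by decide +kernel
theorem commLiteOK_E8_9_0 : (List.range' (240 * 0) 240).all ((pairLite chevE8 commWs_E8 commH_E8 commBase_E8) 9) = true := by decide +kernel
theorem commLiteOK_E8_10_0 : (List.range' (240 * 0) 240).all ((pairLite chevE8 commWs_E8 commH_E8 commBase_E8) 10) = true := by decide +kernel
theorem commLiteOK_E8_11_0 : (List.range' (240 * 0) 240).all ((pairLite chevE8 commWs_E8 commH_E8 commBase_E8) 11) = true := by decide +kernel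
theorem commLiteOK_E8_12_0 : (List.range' (240 * 0) 240).all ((pairLite chevE8 commWs_E8 commH_E8 commBase_E8) 12) = true := by decide +kernel
theorem commLiteOK_E8_13_0 : (List.range' (240 * 0) 240).all ((pairLite chevE8 commWs_E8 commH_E8 commBase_E8) 13) = true := by decide +kernel
theorem commLiteOK_E8_14_0 : (List.range' (240 * 0) 240).all ((pairLite chevE8 commWs_E8 commH_E8 commBase_E8) 14) = true := by decide +kernel
theorem commLiteOK_E8_15_0 : (List.range' (240 * 0) 240).all ((pairLite chevE8 commWs_E8 commH_E8 commBase_E8) 15) = true := by decide +kernel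
theorem commLiteOK_E8_16_0 : (List.range' (240 * 0) 240).all ((pairLite chevE8 commWs_E8 commH_E8 commBase_E8) 16) = true := by decide +kernel
theorem commLiteOK_E8_17_0 : (List.range' (240 * 0) 240).all ((pairLite chevE8 commWs_E8 commH_E8 commBase_E8) 17) = true := by decide +kernel
theorem commLiteOK_E8_18_0 : (List.range' (240 * 0) 240).all ((pairLite chevE8 commWs_E8 commH_E8 commBase_E8) 18) = true := by decide +kernel
theorem commLiteOK_E8_19_0 : (List.range' (240 * 0) 240).all ((pairLite chevE8 commWs_E8 commH_E8 commBase_E8) 19) = true := by decide +kernel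
theorem commLiteOK_E8_20_0 : (List.range' (240 * 0) 240).all ((pairLite chevE8 commWs_E8 commH_E8 commBase_E8) 20) = true := by decide +kernel
theorem commLiteOK_E8_21_0 : (List.range' (240 * 0) 240).all ((pairLite chevE8 commWs_E8 commH_E8 commBase_E8) 21) = true := by decide +kernel
theorem commLiteOK_E8_22_0 : (List.range' (240 * 0) 240).all ((pairLite chevE8 commWs_E8 commH_E8 commBase_E8) 22) = true := by decide +kernel
theorem commLiteOK_E8_23_0 : (List.range' (240 * 0) 240).all ((pairLite chevE8 commWs_E8 commH_E8 commBase_E8) 23) = true := by decide +kernel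
theorem commLiteOK_E8_24_0 : (List.range' (240 * 0) 240).all ((pairLite chevE8 commWs_E8 commH_E8 commBase_E8) 24) = true := by decide +kernel
theorem commLiteOK_E8_25_0 : (List.range' (240 * 0) 240).all ((pairLite chevE8 commWs_E8 commH_E8 commBase_E8) 25) = true := by decide +kernel
theorem commLiteOK_E8_26_0 : (List.range' (240 * 0) 240).all ((pairLite chevE8 commWs_E8 commH_E8 commBase_E8) 26) = true := by decide +kernel
theorem commLiteOK_E8_27_0 : (List.range' (240 * 0) 240).all ((pairLite chevE8 commWs_E8 commH_E8 commBase_E8) 27) = true := by decide +kernel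
theorem commLiteOK_E8_28_0 : (List.range' (240 * 0) 240).all ((pairLite chevE8 commWs_E8 commH_E8 commBase_E8) 28) = true := by decide +kernel
theorem commLiteOK_E8_29_0 : (List.range' (240 * 0) 240).all ((pairLite chevE8 commWs_E8 commH_E8 commBase_E8) 29) = true := by decide +kernel
theorem commLiteOK_E8_30_0 : (List.range' (240 * 0) 240).all ((pairLite chevE8 commWs_E8 commH_E8 commBase_E8) 30) = true := by decide +kernel
theorem commLiteOK_E8_31_0 : (List.range' (240 * 0) 240).all ((pairLite chevE8 commWs_E8 commH_E8 commBase_E8) 31) = true := by decide +kernel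
theorem commLiteOK_E8_32_0 : (List.range' (240 * 0) 240).all ((pairLite chevE8 commWs_E8 commH_E8 commBase_E8) 32) = true := by decide +kernel
theorem commLiteOK_E8_33_0 : (List.range' (240 * 0) 240).all ((pairLite chevE8 commWs_E8 commH_E8 commBase_E8) 33) = true := by decide +kernel
theorem commLiteOK_E8_34_0 : (List.range' (240 * 0) 240).all ((pairLite chevE8 commWs_E8 commH_E8 commBase_E8) 34) = true := by decide +kernel
theorem commLiteOK_E8_35_0 : (List.range' (240 * 0) 240).all ((pairLite chevE8 commWs_E8 commH_E8 commBase_E8) 35) = true := by decide +kernel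
theorem commLiteOK_E8_36_0 : (List.range' (240 * 0) 240).all ((pairLite chevE8 commWs_E8 commH_E8 commBase_E8) 36) = true := by decide +kernel
theorem commLiteOK_E8_37_0 : (List.range' (240 * 0) 240).all ((pairLite chevE8 commWs_E8 commH_E8 commBase_E8) 37) = true := by decide +kernel
theorem commLiteOK_E8_38_0 : (List.range' (240 * 0) 240).all ((pairLite chevE8 commWs_E8 commH_E8 commBase_E8) 38) = true := by decide +kernel
theorem commLiteOK_E8_39_0 : (List.range' (240 * 0) 240).all ((pairLite chevE8 commWs_E8 commH_E8 commBase_E8) 39) = true := by decide +kernel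
theorem commLiteOK_E8_40_0 : (List.range' (240 * 0) 240).all ((pairLite chevE8 commWs_E8 commH_E8 commBase_E8) 40) = true := by decide +kernel
theorem commLiteOK_E8_41_0 : (List.range' (240 * 0) 240).all ((pairLite chevE8 commWs_E8 commH_E8 commBase_E8) 41) = true := by decide +kernel
theorem commLiteOK_E8_42_0 : (List.range' (240 * 0) 240).all ((pairLite chevE8 commWs_E8 commH_E8 commBase_E8) 42) = true := by decide +kernel
theorem commLiteOK_E8_43_0 : (List.range' (240 * 0) 240).all ((pairLite chevE8 commWs_E8 commH_E8 commBase_E8) 43) = true := by decide +kernel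
theorem commLiteOK_E8_44_0 : (List.range' (240 * 0) 240).all ((pairLite chevE8 commWs_E8 commH_E8 commBase_E8) 44) = true := by decide +kernel
theorem commLiteOK_E8_45_0 : (List.range' (240 * 0) 240).all ((pairLite chevE8 commWs_E8 commH_E8 commBase_E8) 45) = true := by decide +kernel
theorem commLiteOK_E8_46_0 : (List.range' (240 * 0) 240).all ((pairLite chevE8 commWs_E8 commH_E8 commBase_E8) 46) = true := by decide +kernel
theorem commLiteOK_E8_47_0 : (List.range' (240 * 0) 240).all ((pairLite chevE8 commWs_E8 commH_E8 commBase_E8) 47) = true := by decide +kernel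
theorem commLiteOK_E8_48_0 : (List.range' (240 * 0) 240).all ((pairLite chevE8 commWs_E8 commH_E8 commBase_E8) 48) = true := by decide +kernel
theorem commLiteOK_E8_49_0 : (List.range' (240 * 0) 240).all ((pairLite chevE8 commWs_E8 commH_E8 commBase_E8) 49) = true := by decide +kernel
theorem commLiteOK_E8_50_0 : (List.range' (240 * 0) 240).all ((pairLite chevE8 commWs_E8 commH_E8 commBase_E8) 50) = true := by decide +kernel
theorem commLiteOK_E8_51_0 : (List.range' (240 * 0) 240).all ((pairLite chevE8 commWs_E8 commH_E8 commBase_E8) 51) = true := by decide +kernel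
theorem commLiteOK_E8_52_0 : (List.range' (240 * 0) 240).all ((pairLite chevE8 commWs_E8 commH_E8 commBase_E8) 52) = true := by decide +kernel
theorem commLiteOK_E8_53_0 : (List.range' (240 * 0) 240).all ((pairLite chevE8 commWs_E8 commH_E8 commBase_E8) 53) = true := by decide +kernel
theorem commLiteOK_E8_54_0 : (List.range' (240 * 0) 240).all ((pairLite chevE8 commWs_E8 commH_E8 commBase_E8) 54) = true := by decide +kernel
theorem commLiteOK_E8_55_0 : (List.range' (240 * 0) 240).all ((pairLite chevE8 commWs_E8 commH_E8 commBase_E8) 55) = true := by decide +kernel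
theorem commLiteOK_E8_56_0 : (List.range' (240 * 0) 240).all ((pairLite chevE8 commWs_E8 commH_E8 commBase_E8) 56) = true := by decide +kernel
theorem commLiteOK_E8_57_0 : (List.range' (240 * 0) 240).all ((pairLite chevE8 commWs_E8 commH_E8 commBase_E8) 57) = true := by decide +kernel
theorem commLiteOK_E8_58_0 : (List.range' (240 * 0) 240).all ((pairLite chevE8 commWs_E8 commH_E8 commBase_E8) 58) = true := by decide +kernel
theorem commLiteOK_E8_59_0 : (List.range' (240 * 0) 240).all ((pairLite chevE8 commWs_E8 commH_E8 commBase_E8) 59) = true := by decide +kernel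
theorem commLiteOK_E8_60_0 : (List.range' (240 * 0) 240).all ((pairLite chevE8 commWs_E8 commH_E8 commBase_E8) 60) = true := by decide +kernel
theorem commLiteOK_E8_61_0 : (List.range' (240 * 0) 240).all ((pairLite chevE8 commWs_E8 commH_E8 commBase_E8) 61) = true := by decide +kernel
theorem commLiteOK_E8_62_0 : (List.range' (240 * 0) 240).all ((pairLite chevE8 commWs_E8 commH_E8 commBase_E8) 62) = true := by decide +kernel
theorem commLiteOK_E8_63_0 : (List.range' (240 * 0) 240).all ((pairLite chevE8 commWs_E8 commH_E8 commBase_E8) 63) = true := by decide +kernel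
theorem commLiteOK_E8_64_0 : (List.range' (240 * 0) 240).all ((pairLite chevE8 commWs_E8 commH_E8 commBase_E8) 64) = true := by decide +kernel
theorem commLiteOK_E8_65_0 : (List.range' (240 * 0) 240).all ((pairLite chevE8 commWs_E8 commH_E8 commBase_E8) 65) = true := by decide +kernel
theorem commLiteOK_E8_66_0 : (List.range' (240 * 0) 240).all ((pairLite chevE8 commWs_E8 commH_E8 commBase_E8) 66) = true := by decide +kernel
theorem commLiteOK_E8_67_0 : (List.range' (240 * 0) 240).all ((pairLite chevE8 commWs_E8 commH_E8 commBase_E8) 67) = true := by decide +kernel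
theorem commLiteOK_E8_68_0 : (List.range' (240 * 0) 240).all ((pairLite chevE8 commWs_E8 commH_E8 commBase_E8) 68) = true := by decide +kernel
theorem commLiteOK_E8_69_0 : (List.range' (240 * 0) 240).all ((pairLite chevE8 commWs_E8 commH_E8 commBase_E8) 69) = true := by decide +kernel
theorem commLiteOK_E8_70_0 : (List.range' (240 * 0) 240).all ((pairLite chevE8 commWs_E8 commH_E8 commBase_E8) 70) = true := by decide +kernel
theorem commLiteOK_E8_71_0 : (List.range' (240 * 0) 240).all ((pairLite chevE8 commWs_E8 commH_E8 commBase_E8) 71) = true := by decide +kernel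
theorem commLiteOK_E8_72_0 : (List.range' (240 * 0) 240).all ((pairLite chevE8 commWs_E8 commH_E8 commBase_E8) 72) = true := by decide +kernel
theorem commLiteOK_E8_73_0 : (List.range' (240 * 0) 240).all ((pairLite chevE8 commWs_E8 commH_E8 commBase_E8) 73) = true := by decide +kernel
theorem commLiteOK_E8_74_0 : (List.range' (240 * 0) 240).all ((pairLite chevE8 commWs_E8 commH_E8 commBase_E8) 74) = true := by decide +kernel
theorem commLiteOK_E8_75_0 : (List.range' (240 * 0) 240).all ((pairLite chevE8 commWs_E8 commH_E8 commBase_E8) 75) = true := by decide +kernel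
theorem commLiteOK_E8_76_0 : (List.range' (240 * 0) 240).all ((pairLite chevE8 commWs_E8 commH_E8 commBase_E8) 76) = true := by decide +kernel
theorem commLiteOK_E8_77_0 : (List.range' (240 * 0) 240).all ((pairLite chevE8 commWs_E8 commH_E8 commBase_E8) 77) = true := by decide +kernel
theorem commLiteOK_E8_78_0 : (List.range' (240 * 0) 240).all ((pairLite chevE8 commWs_E8 commH_E8 commBase_E8) 78) = true := by decide +kernel
theorem commLiteOK_E8_79_0 : (List.range' (240 * 0) 240).all ((pairLite chevE8 commWs_E8 commH_E8 commBase_E8) 79) = true := by decide +kernel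
theorem commLiteOK_E8_80_0 : (List.range' (240 * 0) 240).all ((pairLite chevE8 commWs_E8 commH_E8 commBase_E8) 80) = true := by decide +kernel
theorem commLiteOK_E8_81_0 : (List.range' (240 * 0) 240).all ((pairLite chevE8 commWs_E8 commH_E8 commBase_E8) 81) = true := by decide +kernel
theorem commLiteOK_E8_82_0 : (List.range' (240 * 0) 240).all ((pairLite chevE8 commWs_E8 commH_E8 commBase_E8) 82) = true := by decide +kernel
theorem commLiteOK_E8_83_0 : (List.range' (240 * 0) 240).all ((pairLite chevE8 commWs_E8 commH_E8 commBase_E8) 83) = true := by decide +kernel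
theorem commLiteOK_E8_84_0 : (List.range' (240 * 0) 240).all ((pairLite chevE8 commWs_E8 commH_E8 commBase_E8) 84) = true := by decide +kernel
theorem commLiteOK_E8_85_0 : (List.range' (240 * 0) 240).all ((pairLite chevE8 commWs_E8 commH_E8 commBase_E8) 85) = true := by decide +kernel
theorem commLiteOK_E8_86_0 : (List.range' (240 * 0) 240).all ((pairLite chevE8 commWs_E8 commH_E8 commBase_E8) 86) = true := by decide +kernel
theorem commLiteOK_E8_87_0 : (List.range' (240 * 0) 240).all ((pairLite chevE8 commWs_E8 commH_E8 commBase_E8) 87) = true := by decide +kernel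
theorem commLiteOK_E8_88_0 : (List.range' (240 * 0) 240).all ((pairLite chevE8 commWs_E8 commH_E8 commBase_E8) 88) = true := by decide +kernel
theorem commLiteOK_E8_89_0 : (List.range' (240 * 0) 240).all ((pairLite chevE8 commWs_E8 commH_E8 commBase_E8) 89) = true := by decide +kernel
theorem commLiteOK_E8_90_0 : (List.range' (240 * 0) 240).all ((pairLite chevE8 commWs_E8 commH_E8 commBase_E8) 90) = true := by decide +kernel
theorem commLiteOK_E8_91_0 : (List.range' (240 * 0) 240).all ((pairLite chevE8 commWs_E8 commH_E8 commBase_E8) 91) = true := by decide +kernel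
theorem commLiteOK_E8_92_0 : (List.range' (240 * 0) 240).all ((pairLite chevE8 commWs_E8 commH_E8 commBase_E8) 92) = true := by decide +kernel
theorem commLiteOK_E8_93_0 : (List.range' (240 * 0) 240).all ((pairLite chevE8 commWs_E8 commH_E8 commBase_E8) 93) = true := by decide +kernel
theorem commLiteOK_E8_94_0 : (List.range' (240 * 0) 240).all ((pairLite chevE8 commWs_E8 commH_E8 commBase_E8) 94) = true := by decide +kernel
theorem commLiteOK_E8_95_0 : (List.range' (240 * 0) 240).all ((pairLite chevE8 commWs_E8 commH_E8 commBase_E8) 95) = true := by decide +kernel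
theorem commLiteOK_E8_96_0 : (List.range' (240 * 0) 240).all ((pairLite chevE8 commWs_E8 commH_E8 commBase_E8) 96) = true := by decide +kernel
theorem commLiteOK_E8_97_0 : (List.range' (240 * 0) 240).all ((pairLite chevE8 commWs_E8 commH_E8 commBase_E8) 97) = true := by decide +kernel
theorem commLiteOK_E8_98_0 : (List.range' (240 * 0) 240).all ((pairLite chevE8 commWs_E8 commH_E8 commBase_E8) 98) = true := by decide +kernel
theorem commLiteOK_E8_99_0 : (List.range' (240 * 0) 240).all ((pairLite chevE8 commWs_E8 commH_E8 commBase_E8) 99) = true := by decide +kernel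
theorem commLiteOK_E8_100_0 : (List.range' (240 * 0) 240).all ((pairLite chevE8 commWs_E8 commH_E8 commBase_E8) 100) = true := by decide +kernel
theorem commLiteOK_E8_101_0 : (List.range' (240 * 0) 240).all ((pairLite chevE8 commWs_E8 commH_E8 commBase_E8) 101) = true := by decide +kernel
theorem commLiteOK_E8_102_0 : (List.range' (240 * 0) 240).all ((pairLite chevE8 commWs_E8 commH_E8 commBase_E8) 102) = true := by decide +kernel
theorem commLiteOK_E8_103_0 : (List.range' (240 * 0) 240).all ((pairLite chevE8 commWs_E8 commH_E8 commBase_E8) 103) = true := by decide +kernel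
theorem commLiteOK_E8_104_0 : (List.range' (240 * 0) 240).all ((pairLite chevE8 commWs_E8 commH_E8 commBase_E8) 104) = true := by decide +kernel
theorem commLiteOK_E8_105_0 : (List.range' (240 * 0) 240).all ((pairLite chevE8 commWs_E8 commH_E8 commBase_E8) 105) = true := by decide +kernel
theorem commLiteOK_E8_106_0 : (List.range' (240 * 0) 240).all ((pairLite chevE8 commWs_E8 commH_E8 commBase_E8) 106) = true := by decide +kernel
theorem commLiteOK_E8_107_0 : (List.range' (240 * 0) 240).all ((pairLite chevE8 commWs_E8 commH_E8 commBase_E8) 107) = true := by decide +kernel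
theorem commLiteOK_E8_108_0 : (List.range' (240 * 0) 240).all ((pairLite chevE8 commWs_E8 commH_E8 commBase_E8) 108) = true := by decide +kernel
theorem commLiteOK_E8_109_0 : (List.range' (240 * 0) 240).all ((pairLite chevE8 commWs_E8 commH_E8 commBase_E8) 109) = true := by decide +kernel
theorem commLiteOK_E8_110_0 : (List.range' (240 * 0) 240).all ((pairLite chevE8 commWs_E8 commH_E8 commBase_E8) 110) = true := by decide +kernel
theorem commLiteOK_E8_111_0 : (List.range' (240 * 0) 240).all ((pairLite chevE8 commWs_E8 commH_E8 commBase_E8) 111) = true := by decide +kernel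
theorem commLiteOK_E8_112_0 : (List.range' (240 * 0) 240).all ((pairLite chevE8 commWs_E8 commH_E8 commBase_E8) 112) = true := by decide +kernel
theorem commLiteOK_E8_113_0 : (List.range' (240 * 0) 240).all ((pairLite chevE8 commWs_E8 commH_E8 commBase_E8) 113) = true := by decide +kernel
theorem commLiteOK_E8_114_0 : (List.range' (240 * 0) 240).all ((pairLite chevE8 commWs_E8 commH_E8 commBase_E8) 114) = true := by decide +kernel
theorem commLiteOK_E8_115_0 : (List.range' (240 * 0) 240).all ((pairLite chevE8 commWs_E8 commH_E8 commBase_E8) 115) = true := by decide +kernel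
theorem commLiteOK_E8_116_0 : (List.range' (240 * 0) 240).all ((pairLite chevE8 commWs_E8 commH_E8 commBase_E8) 116) = true := by decide +kernel
theorem commLiteOK_E8_117_0 : (List.range' (240 * 0) 240).all ((pairLite chevE8 commWs_E8 commH_E8 commBase_E8) 117) = true := by decide +kernel
theorem commLiteOK_E8_118_0 : (List.range' (240 * 0) 240).all ((pairLite chevE8 commWs_E8 commH_E8 commBase_E8) 118) = true := by decide +kernel
theorem commLiteOK_E8_119_0 : (List.range' (240 * 0) 240).all ((pairLite chevE8 commWs_E8 commH_E8 commBase_E8) 119) = true := by decide +kernel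
theorem commLiteOK_E8_120_0 : (List.range' (240 * 0) 240).all ((pairLite chevE8 commWs_E8 commH_E8 commBase_E8) 120) = true := by decide +kernel
theorem commLiteOK_E8_121_0 : (List.range' (240 * 0) 240).all ((pairLite chevE8 commWs_E8 commH_E8 commBase_E8) 121) = true := by decide +kernel
theorem commLiteOK_E8_122_0 : (List.range' (240 * 0) 240).all ((pairLite chevE8 commWs_E8 commH_E8 commBase_E8) 122) = true := by decide +kernel
theorem commLiteOK_E8_123_0 : (List.range' (240 * 0) 240).all ((pairLite chevE8 commWs_E8 commH_E8 commBase_E8) 123) = true := by decide +kernel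
theorem commLiteOK_E8_124_0 : (List.range' (240 * 0) 240).all ((pairLite chevE8 commWs_E8 commH_E8 commBase_E8) 124) = true := by decide +kernel
theorem commLiteOK_E8_125_0 : (List.range' (240 * 0) 240).all ((pairLite chevE8 commWs_E8 commH_E8 commBase_E8) 125) = true := by decide +kernel
theorem commLiteOK_E8_126_0 : (List.range' (240 * 0) 240).all ((pairLite chevE8 commWs_E8 commH_E8 commBase_E8) 126) = true := by decide +kernel
theorem commLiteOK_E8_127_0 : (List.range' (240 * 0) 240).all ((pairLite chevE8 commWs_E8 commH_E8 commBase_E8) 127) = true := by decide +kernel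
theorem commLiteOK_E8_128_0 : (List.range' (240 * 0) 240).all ((pairLite chevE8 commWs_E8 commH_E8 commBase_E8) 128) = true := by decide +kernel
theorem commLiteOK_E8_129_0 : (List.range' (240 * 0) 240).all ((pairLite chevE8 commWs_E8 commH_E8 commBase_E8) 129) = true := by decide +kernel
theorem commLiteOK_E8_130_0 : (List.range' (240 * 0) 240).all ((pairLite chevE8 commWs_E8 commH_E8 commBase_E8) 130) = true := by decide +kernel
theorem commLiteOK_E8_131_0 : (List.range' (240 * 0) 240).all ((pairLite chevE8 commWs_E8 commH_E8 commBase_E8) 131) = true := by decide +kernel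
theorem commLiteOK_E8_132_0 : (List.range' (240 * 0) 240).all ((pairLite chevE8 commWs_E8 commH_E8 commBase_E8) 132) = true := by decide +kernel
theorem commLiteOK_E8_133_0 : (List.range' (240 * 0) 240).all ((pairLite chevE8 commWs_E8 commH_E8 commBase_E8) 133) = true := by decide +kernel
theorem commLiteOK_E8_134_0 : (List.range' (240 * 0) 240).all ((pairLite chevE8 commWs_E8 commH_E8 commBase_E8) 134) = true := by decide +kernel
theorem commLiteOK_E8_135_0 : (List.range' (240 * 0) 240).all ((pairLite chevE8 commWs_E8 commH_E8 commBase_E8) 135) = true := by decide +kernel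
theorem commLiteOK_E8_136_0 : (List.range' (240 * 0) 240).all ((pairLite chevE8 commWs_E8 commH_E8 commBase_E8) 136) = true := by decide +kernel
theorem commLiteOK_E8_137_0 : (List.range' (240 * 0) 240).all ((pairLite chevE8 commWs_E8 commH_E8 commBase_E8) 137) = true := by decide +kernel
theorem commLiteOK_E8_138_0 : (List.range' (240 * 0) 240).all ((pairLite chevE8 commWs_E8 commH_E8 commBase_E8) 138) = true := by decide +kernel
theorem commLiteOK_E8_139_0 : (List.range' (240 * 0) 240).all ((pairLite chevE8 commWs_E8 commH_E8 commBase_E8) 139) = true := by decide +kernel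
theorem commLiteOK_E8_140_0 : (List.range' (240 * 0) 240).all ((pairLite chevE8 commWs_E8 commH_E8 commBase_E8) 140) = true := by decide +kernel
theorem commLiteOK_E8_141_0 : (List.range' (240 * 0) 240).all ((pairLite chevE8 commWs_E8 commH_E8 commBase_E8) 141) = true := by decide +kernel
theorem commLiteOK_E8_142_0 : (List.range' (240 * 0) 240).all ((pairLite chevE8 commWs_E8 commH_E8 commBase_E8) 142) = true := by decide +kernel
theorem commLiteOK_E8_143_0 : (List.range' (240 * 0) 240).all ((pairLite chevE8 commWs_E8 commH_E8 commBase_E8) 143) = true := by decide +kernel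
theorem commLiteOK_E8_144_0 : (List.range' (240 * 0) 240).all ((pairLite chevE8 commWs_E8 commH_E8 commBase_E8) 144) = true := by decide +kernel
theorem commLiteOK_E8_145_0 : (List.range' (240 * 0) 240).all ((pairLite chevE8 commWs_E8 commH_E8 commBase_E8) 145) = true := by decide +kernel
theorem commLiteOK_E8_146_0 : (List.range' (240 * 0) 240).all ((pairLite chevE8 commWs_E8 commH_E8 commBase_E8) 146) = true := by decide +kernel
theorem commLiteOK_E8_147_0 : (List.range' (240 * 0) 240).all ((pairLite chevE8 commWs_E8 commH_E8 commBase_E8) 147) = true := by decide +kernel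
theorem commLiteOK_E8_148_0 : (List.range' (240 * 0) 240).all ((pairLite chevE8 commWs_E8 commH_E8 commBase_E8) 148) = true := by decide +kernel
theorem commLiteOK_E8_149_0 : (List.range' (240 * 0) 240).all ((pairLite chevE8 commWs_E8 commH_E8 commBase_E8) 149) = true := by decide +kernel
theorem commLiteOK_E8_150_0 : (List.range' (240 * 0) 240).all ((pairLite chevE8 commWs_E8 commH_E8 commBase_E8) 150) = true := by decide +kernel
theorem commLiteOK_E8_151_0 : (List.range' (240 * 0) 240).all ((pairLite chevE8 commWs_E8 commH_E8 commBase_E8) 151) = true := by decide +kernel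
theorem commLiteOK_E8_152_0 : (List.range' (240 * 0) 240).all ((pairLite chevE8 commWs_E8 commH_E8 commBase_E8) 152) = true := by decide +kernel
theorem commLiteOK_E8_153_0 : (List.range' (240 * 0) 240).all ((pairLite chevE8 commWs_E8 commH_E8 commBase_E8) 153) = true := by decide +kernel
theorem commLiteOK_E8_154_0 : (List.range' (240 * 0) 240).all ((pairLite chevE8 commWs_E8 commH_E8 commBase_E8) 154) = true := by decide +kernel
theorem commLiteOK_E8_155_0 : (List.range' (240 * 0) 240).all ((pairLite chevE8 commWs_E8 commH_E8 commBase_E8) 155) = true := by decide +kernel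
theorem commLiteOK_E8_156_0 : (List.range' (240 * 0) 240).all ((pairLite chevE8 commWs_E8 commH_E8 commBase_E8) 156) = true := by decide +kernel
theorem commLiteOK_E8_157_0 : (List.range' (240 * 0) 240).all ((pairLite chevE8 commWs_E8 commH_E8 commBase_E8) 157) = true := by decide +kernel
theorem commLiteOK_E8_158_0 : (List.range' (240 * 0) 240).all ((pairLite chevE8 commWs_E8 commH_E8 commBase_E8) 158) = true := by decide +kernel
theorem commLiteOK_E8_159_0 : (List.range' (240 * 0) 240).all ((pairLite chevE8 commWs_E8 commH_E8 commBase_E8) 159) = true := by decide +kernel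
theorem commLiteOK_E8_160_0 : (List.range' (240 * 0) 240).all ((pairLite chevE8 commWs_E8 commH_E8 commBase_E8) 160) = true := by decide +kernel
theorem commLiteOK_E8_161_0 : (List.range' (240 * 0) 240).all ((pairLite chevE8 commWs_E8 commH_E8 commBase_E8) 161) = true := by decide +kernel
theorem commLiteOK_E8_162_0 : (List.range' (240 * 0) 240).all ((pairLite chevE8 commWs_E8 commH_E8 commBase_E8) 162) = true := by decide +kernel
theorem commLiteOK_E8_163_0 : (List.range' (240 * 0) 240).all ((pairLite chevE8 commWs_E8 commH_E8 commBase_E8) 163) = true := by decide +kernel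
theorem commLiteOK_E8_164_0 : (List.range' (240 * 0) 240).all ((pairLite chevE8 commWs_E8 commH_E8 commBase_E8) 164) = true := by decide +kernel
theorem commLiteOK_E8_165_0 : (List.range' (240 * 0) 240).all ((pairLite chevE8 commWs_E8 commH_E8 commBase_E8) 165) = true := by decide +kernel
theorem commLiteOK_E8_166_0 : (List.range' (240 * 0) 240).all ((pairLite chevE8 commWs_E8 commH_E8 commBase_E8) 166) = true := by decide +kernel
theorem commLiteOK_E8_167_0 : (List.range' (240 * 0) 240).all ((pairLite chevE8 commWs_E8 commH_E8 commBase_E8) 167) = true := by decide +kernel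
theorem commLiteOK_E8_168_0 : (List.range' (240 * 0) 240).all ((pairLite chevE8 commWs_E8 commH_E8 commBase_E8) 168) = true := by decide +kernel
theorem commLiteOK_E8_169_0 : (List.range' (240 * 0) 240).all ((pairLite chevE8 commWs_E8 commH_E8 commBase_E8) 169) = true := by decide +kernel
theorem commLiteOK_E8_170_0 : (List.range' (240 * 0) 240).all ((pairLite chevE8 commWs_E8 commH_E8 commBase_E8) 170) = true := by decide +kernel
theorem commLiteOK_E8_171_0 : (List.range' (240 * 0) 240).all ((pairLite chevE8 commWs_E8 commH_E8 commBase_E8) 171) = true := by decide +kernel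
theorem commLiteOK_E8_172_0 : (List.range' (240 * 0) 240).all ((pairLite chevE8 commWs_E8 commH_E8 commBase_E8) 172) = true := by decide +kernel
theorem commLiteOK_E8_173_0 : (List.range' (240 * 0) 240).all ((pairLite chevE8 commWs_E8 commH_E8 commBase_E8) 173) = true := by decide +kernel
theorem commLiteOK_E8_174_0 : (List.range' (240 * 0) 240).all ((pairLite chevE8 commWs_E8 commH_E8 commBase_E8) 174) = true := by decide +kernel
theorem commLiteOK_E8_175_0 : (List.range' (240 * 0) 240).all ((pairLite chevE8 commWs_E8 commH_E8 commBase_E8) 175) = true := by decide +kernel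
theorem commLiteOK_E8_176_0 : (List.range' (240 * 0) 240).all ((pairLite chevE8 commWs_E8 commH_E8 commBase_E8) 176) = true := by decide +kernel
theorem commLiteOK_E8_177_0 : (List.range' (240 * 0) 240).all ((pairLite chevE8 commWs_E8 commH_E8 commBase_E8) 177) = true := by decide +kernel
theorem commLiteOK_E8_178_0 : (List.range' (240 * 0) 240).all ((pairLite chevE8 commWs_E8 commH_E8 commBase_E8) 178) = true := by decide +kernel
theorem commLiteOK_E8_179_0 : (List.range' (240 * 0) 240).all ((pairLite chevE8 commWs_E8 commH_E8 commBase_E8) 179) = true := by decide +kernel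
theorem commLiteOK_E8_180_0 : (List.range' (240 * 0) 240).all ((pairLite chevE8 commWs_E8 commH_E8 commBase_E8) 180) = true := by decide +kernel
theorem commLiteOK_E8_181_0 : (List.range' (240 * 0) 240).all ((pairLite chevE8 commWs_E8 commH_E8 commBase_E8) 181) = true := by decide +kernel
theorem commLiteOK_E8_182_0 : (List.range' (240 * 0) 240).all ((pairLite chevE8 commWs_E8 commH_E8 commBase_E8) 182) = true := by decide +kernel
theorem commLiteOK_E8_183_0 : (List.range' (240 * 0) 240).all ((pairLite chevE8 commWs_E8 commH_E8 commBase_E8) 183) = true := by decide +kernel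
theorem commLiteOK_E8_184_0 : (List.range' (240 * 0) 240).all ((pairLite chevE8 commWs_E8 commH_E8 commBase_E8) 184) = true := by decide +kernel
theorem commLiteOK_E8_185_0 : (List.range' (240 * 0) 240).all ((pairLite chevE8 commWs_E8 commH_E8 commBase_E8) 185) = true := by decide +kernel
theorem commLiteOK_E8_186_0 : (List.range' (240 * 0) 240).all ((pairLite chevE8 commWs_E8 commH_E8 commBase_E8) 186) = true := by decide +kernel
theorem commLiteOK_E8_187_0 : (List.range' (240 * 0) 240).all ((pairLite chevE8 commWs_E8 commH_E8 commBase_E8) 187) = true := by decide +kernel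
theorem commLiteOK_E8_188_0 : (List.range' (240 * 0) 240).all ((pairLite chevE8 commWs_E8 commH_E8 commBase_E8) 188) = true := by decide +kernel
theorem commLiteOK_E8_189_0 : (List.range' (240 * 0) 240).all ((pairLite chevE8 commWs_E8 commH_E8 commBase_E8) 189) = true := by decide +kernel
theorem commLiteOK_E8_190_0 : (List.range' (240 * 0) 240).all ((pairLite chevE8 commWs_E8 commH_E8 commBase_E8) 190) = true := by decide +kernel
theorem commLiteOK_E8_191_0 : (List.range' (240 * 0) 240).all ((pairLite chevE8 commWs_E8 commH_E8 commBase_E8) 191) = true := by decide +kernel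
theorem commLiteOK_E8_192_0 : (List.range' (240 * 0) 240).all ((pairLite chevE8 commWs_E8 commH_E8 commBase_E8) 192) = true := by decide +kernel
theorem commLiteOK_E8_193_0 : (List.range' (240 * 0) 240).all ((pairLite chevE8 commWs_E8 commH_E8 commBase_E8) 193) = true := by decide +kernel
theorem commLiteOK_E8_194_0 : (List.range' (240 * 0) 240).all ((pairLite chevE8 commWs_E8 commH_E8 commBase_E8) 194) = true := by decide +kernel
theorem commLiteOK_E8_195_0 : (List.range' (240 * 0) 240).all ((pairLite chevE8 commWs_E8 commH_E8 commBase_E8) 195) = true := by decide +kernel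
theorem commLiteOK_E8_196_0 : (List.range' (240 * 0) 240).all ((pairLite chevE8 commWs_E8 commH_E8 commBase_E8) 196) = true := by decide +kernel
theorem commLiteOK_E8_197_0 : (List.range' (240 * 0) 240).all ((pairLite chevE8 commWs_E8 commH_E8 commBase_E8) 197) = true := by decide +kernel
theorem commLiteOK_E8_198_0 : (List.range' (240 * 0) 240).all ((pairLite chevE8 commWs_E8 commH_E8 commBase_E8) 198) = true := by decide +kernel
theorem commLiteOK_E8_199_0 : (List.range' (240 * 0) 240).all ((pairLite chevE8 commWs_E8 commH_E8 commBase_E8) 199) = true := by decide +kernel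
theorem commLiteOK_E8_200_0 : (List.range' (240 * 0) 240).all ((pairLite chevE8 commWs_E8 commH_E8 commBase_E8) 200) = true := by decide +kernel
theorem commLiteOK_E8_201_0 : (List.range' (240 * 0) 240).all ((pairLite chevE8 commWs_E8 commH_E8 commBase_E8) 201) = true := by decide +kernel
theorem commLiteOK_E8_202_0 : (List.range' (240 * 0) 240).all ((pairLite chevE8 commWs_E8 commH_E8 commBase_E8) 202) = true := by decide +kernel
theorem commLiteOK_E8_203_0 : (List.range' (240 * 0) 240).all ((pairLite chevE8 commWs_E8 commH_E8 commBase_E8) 203) = true := by decide +kernel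
theorem commLiteOK_E8_204_0 : (List.range' (240 * 0) 240).all ((pairLite chevE8 commWs_E8 commH_E8 commBase_E8) 204) = true := by decide +kernel
theorem commLiteOK_E8_205_0 : (List.range' (240 * 0) 240).all ((pairLite chevE8 commWs_E8 commH_E8 commBase_E8) 205) = true := by decide +kernel
theorem commLiteOK_E8_206_0 : (List.range' (240 * 0) 240).all ((pairLite chevE8 commWs_E8 commH_E8 commBase_E8) 206) = true := by decide +kernel
theorem commLiteOK_E8_207_0 : (List.range' (240 * 0) 240).all ((pairLite chevE8 commWs_E8 commH_E8 commBase_E8) 207) = true := by decide +kernel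
theorem commLiteOK_E8_208_0 : (List.range' (240 * 0) 240).all ((pairLite chevE8 commWs_E8 commH_E8 commBase_E8) 208) = true := by decide +kernel
theorem commLiteOK_E8_209_0 : (List.range' (240 * 0) 240).all ((pairLite chevE8 commWs_E8 commH_E8 commBase_E8) 209) = true := by decide +kernel
theorem commLiteOK_E8_210_0 : (List.range' (240 * 0) 240).all ((pairLite chevE8 commWs_E8 commH_E8 commBase_E8) 210) = true := by decide +kernel
theorem commLiteOK_E8_211_0 : (List.range' (240 * 0) 240).all ((pairLite chevE8 commWs_E8 commH_E8 commBase_E8) 211) = true := by decide +kernel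
theorem commLiteOK_E8_212_0 : (List.range' (240 * 0) 240).all ((pairLite chevE8 commWs_E8 commH_E8 commBase_E8) 212) = true := by decide +kernel
theorem commLiteOK_E8_213_0 : (List.range' (240 * 0) 240).all ((pairLite chevE8 commWs_E8 commH_E8 commBase_E8) 213) = true := by decide +kernel
theorem commLiteOK_E8_214_0 : (List.range' (240 * 0) 240).all ((pairLite chevE8 commWs_E8 commH_E8 commBase_E8) 214) = true := by decide +kernel
theorem commLiteOK_E8_215_0 : (List.range' (240 * 0) 240).all ((pairLite chevE8 commWs_E8 commH_E8 commBase_E8) 215) = true := by decide +kernel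
theorem commLiteOK_E8_216_0 : (List.range' (240 * 0) 240).all ((pairLite chevE8 commWs_E8 commH_E8 commBase_E8) 216) = true := by decide +kernel
theorem commLiteOK_E8_217_0 : (List.range' (240 * 0) 240).all ((pairLite chevE8 commWs_E8 commH_E8 commBase_E8) 217) = true := by decide +kernel
theorem commLiteOK_E8_218_0 : (List.range' (240 * 0) 240).all ((pairLite chevE8 commWs_E8 commH_E8 commBase_E8) 218) = true := by decide +kernel
theorem commLiteOK_E8_219_0 : (List.range' (240 * 0) 240).all ((pairLite chevE8 commWs_E8 commH_E8 commBase_E8) 219) = true := by decide +kernel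
theorem commLiteOK_E8_220_0 : (List.range' (240 * 0) 240).all ((pairLite chevE8 commWs_E8 commH_E8 commBase_E8) 220) = true := by decide +kernel
theorem commLiteOK_E8_221_0 : (List.range' (240 * 0) 240).all ((pairLite chevE8 commWs_E8 commH_E8 commBase_E8) 221) = true := by decide +kernel
theorem commLiteOK_E8_222_0 : (List.range' (240 * 0) 240).all ((pairLite chevE8 commWs_E8 commH_E8 commBase_E8) 222) = true := by decide +kernel
theorem commLiteOK_E8_223_0 : (List.range' (240 * 0) 240).all ((pairLite chevE8 commWs_E8 commH_E8 commBase_E8) 223) = true := by decide +kernel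
theorem commLiteOK_E8_224_0 : (List.range' (240 * 0) 240).all ((pairLite chevE8 commWs_E8 commH_E8 commBase_E8) 224) = true := by decide +kernel
theorem commLiteOK_E8_225_0 : (List.range' (240 * 0) 240).all ((pairLite chevE8 commWs_E8 commH_E8 commBase_E8) 225) = true := by decide +kernel
theorem commLiteOK_E8_226_0 : (List.range' (240 * 0) 240).all ((pairLite chevE8 commWs_E8 commH_E8 commBase_E8) 226) = true := by decide +kernel
theorem commLiteOK_E8_227_0 : (List.range' (240 * 0) 240).all ((pairLite chevE8 commWs_E8 commH_E8 commBase_E8) 227) = true := by decide +kernel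
theorem commLiteOK_E8_228_0 : (List.range' (240 * 0) 240).all ((pairLite chevE8 commWs_E8 commH_E8 commBase_E8) 228) = true := by decide +kernel
theorem commLiteOK_E8_229_0 : (List.range' (240 * 0) 240).all ((pairLite chevE8 commWs_E8 commH_E8 commBase_E8) 229) = true := by decide +kernel
theorem commLiteOK_E8_230_0 : (List.range' (240 * 0) 240).all ((pairLite chevE8 commWs_E8 commH_E8 commBase_E8) 230) = true := by decide +kernel
theorem commLiteOK_E8_231_0 : (List.range' (240 * 0) 240).all ((pairLite chevE8 commWs_E8 commH_E8 commBase_E8) 231) = true := by decide +kernel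
theorem commLiteOK_E8_232_0 : (List.range' (240 * 0) 240).all ((pairLite chevE8 commWs_E8 commH_E8 commBase_E8) 232) = true := by decide +kernel
theorem commLiteOK_E8_233_0 : (List.range' (240 * 0) 240).all ((pairLite chevE8 commWs_E8 commH_E8 commBase_E8) 233) = true := by decide +kernel
theorem commLiteOK_E8_234_0 : (List.range' (240 * 0) 240).all ((pairLite chevE8 commWs_E8 commH_E8 commBase_E8) 234) = true := by decide +kernel
theorem commLiteOK_E8_235_0 : (List.range' (240 * 0) 240).all ((pairLite chevE8 commWs_E8 commH_E8 commBase_E8) 235) = true := by decide +kernel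
theorem commLiteOK_E8_236_0 : (List.range' (240 * 0) 240).all ((pairLite chevE8 commWs_E8 commH_E8 commBase_E8) 236) = true := by decide +kernel
theorem commLiteOK_E8_237_0 : (List.range' (240 * 0) 240).all ((pairLite chevE8 commWs_E8 commH_E8 commBase_E8) 237) = true := by decide +kernel
theorem commLiteOK_E8_238_0 : (List.range' (240 * 0) 240).all ((pairLite chevE8 commWs_E8 commH_E8 commBase_E8) 238) = true := by decide +kernel
theorem commLiteOK_E8_239_0 : (List.range' (240 * 0) 240).all ((pairLite chevE8 commWs_E8 commH_E8 commBase_E8) 239) = true := by decide +kernel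

theorem commLiteOK_E8 : ∀ a < 240, ∀ s < 240, (pairLite chevE8 commWs_E8 commH_E8 commBase_E8) a s = true :=
  forall_forall_lt_of_blocks ((pairLite chevE8 commWs_E8 commH_E8 commBase_E8)) 240 240 240 1 (by norm_num) (by norm_num) (by
    intro a ha k hk
    interval_cases a <;> interval_cases k
    · exact commLiteOK_E8_0_0
    · exact commLiteOK_E8_1_0
    · exact commLiteOK_E8_2_0
    · exact commLiteOK_E8_3_0
    · exact commLiteOK_E8_4_0
    · exact commLiteOK_E8_5_0
    · exact commLiteOK_E8_6_0
    · exact commLiteOK_E8_7_0
    · exact commLiteOK_E8_8_0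
    · exact commLiteOK_E8_9_0
    · exact commLiteOK_E8_10_0
    · exact commLiteOK_E8_11_0
    · exact commLiteOK_E8_12_0
    · exact commLiteOK_E8_13_0
    · exact commLiteOK_E8_14_0
    · exact commLiteOK_E8_15_0
    · exact commLiteOK_E8_16_0
    · exact commLiteOK_E8_17_0
    · exact commLiteOK_E8_18_0
    · exact commLiteOK_E8_19_0
    · exact commLiteOK_E8_20_0
    · exact commLiteOK_E8_21_0
    · exact commLiteOK_E8_22_0
    · exact commLiteOK_E8_23_0
    · exact commLiteOK_E8_24_0
    · exact commLiteOK_E8_25_0
    · exact commLiteOK_E8_26_0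
    · exact commLiteOK_E8_27_0
    · exact commLiteOK_E8_28_0
    · exact commLiteOK_E8_29_0
    · exact commLiteOK_E8_30_0
    · exact commLiteOK_E8_31_0
    · exact commLiteOK_E8_32_0
    · exact commLiteOK_E8_33_0
    · exact commLiteOK_E8_34_0
    · exact commLiteOK_E8_35_0
    · exact commLiteOK_E8_36_0
    · exact commLiteOK_E8_37_0
    · exact commLiteOK_E8_38_0
    · exact commLiteOK_E8_39_0
    · exact commLiteOK_E8_40_0
    · exact commLiteOK_E8_41_0
    · exact commLiteOK_E8_42_0
    · exact commLiteOK_E8_43_0
    · exact commLiteOK_E8_44_0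
    · exact commLiteOK_E8_45_0
    · exact commLiteOK_E8_46_0
    · exact commLiteOK_E8_47_0
    · exact commLiteOK_E8_48_0
    · exact commLiteOK_E8_49_0
    · exact commLiteOK_E8_50_0
    · exact commLiteOK_E8_51_0
    · exact commLiteOK_E8_52_0
    · exact commLiteOK_E8_53_0
    · exact commLiteOK_E8_54_0
    · exact commLiteOK_E8_55_0
    · exact commLiteOK_E8_56_0
    · exact commLiteOK_E8_57_0
    · exact commLiteOK_E8_58_0
    · exact commLiteOK_E8_59_0
    · exact commLiteOK_E8_60_0
    · exact commLiteOK_E8_61_0
    · exact commLiteOK_E8_62_0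
    · exact commLiteOK_E8_63_0
    · exact commLiteOK_E8_64_0
    · exact commLiteOK_E8_65_0
    · exact commLiteOK_E8_66_0
    · exact commLiteOK_E8_67_0
    · exact commLiteOK_E8_68_0
    · exact commLiteOK_E8_69_0
    · exact commLiteOK_E8_70_0
    · exact commLiteOK_E8_71_0
    · exact commLiteOK_E8_72_0
    · exact commLiteOK_E8_73_0
    · exact commLiteOK_E8_74_0
    · exact commLiteOK_E8_75_0
    · exact commLiteOK_E8_76_0
    · exact commLiteOK_E8_77_0
    · exact commLiteOK_E8_78_0
    · exact commLiteOK_E8_79_0
    · exact commLiteOK_E8_80_0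
    · exact commLiteOK_E8_81_0
    · exact commLiteOK_E8_82_0
    · exact commLiteOK_E8_83_0
    · exact commLiteOK_E8_84_0
    · exact commLiteOK_E8_85_0
    · exact commLiteOK_E8_86_0
    · exact commLiteOK_E8_87_0
    · exact commLiteOK_E8_88_0
    · exact commLiteOK_E8_89_0
    · exact commLiteOK_E8_90_0
    · exact commLiteOK_E8_91_0
    · exact commLiteOK_E8_92_0
    · exact commLiteOK_E8_93_0
    · exact commLiteOK_E8_94_0
    · exact commLiteOK_E8_95_0
    · exact commLiteOK_E8_96_0
    · exact commLiteOK_E8_97_0
    · exact commLiteOK_E8_98_0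
    · exact commLiteOK_E8_99_0
    · exact commLiteOK_E8_100_0
    · exact commLiteOK_E8_101_0
    · exact commLiteOK_E8_102_0
    · exact commLiteOK_E8_103_0
    · exact commLiteOK_E8_104_0
    · exact commLiteOK_E8_105_0
    · exact commLiteOK_E8_106_0
    · exact commLiteOK_E8_107_0
    · exact commLiteOK_E8_108_0
    · exact commLiteOK_E8_109_0
    · exact commLiteOK_E8_110_0
    · exact commLiteOK_E8_111_0
    · exact commLiteOK_E8_112_0
    · exact commLiteOK_E8_113_0
    · exact commLiteOK_E8_114_0
    · exact commLiteOK_E8_115_0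
    · exact commLiteOK_E8_116_0
    · exact commLiteOK_E8_117_0
    · exact commLiteOK_E8_118_0
    · exact commLiteOK_E8_119_0
    · exact commLiteOK_E8_120_0
    · exact commLiteOK_E8_121_0
    · exact commLiteOK_E8_122_0
    · exact commLiteOK_E8_123_0
    · exact commLiteOK_E8_124_0
    · exact commLiteOK_E8_125_0
    · exact commLiteOK_E8_126_0
    · exact commLiteOK_E8_127_0
    · exact commLiteOK_E8_128_0
    · exact commLiteOK_E8_129_0
    · exact commLiteOK_E8_130_0
    · exact commLiteOK_E8_131_0
    · exact commLiteOK_E8_132_0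
    · exact commLiteOK_E8_133_0
    · exact commLiteOK_E8_134_0
    · exact commLiteOK_E8_135_0
    · exact commLiteOK_E8_136_0
    · exact commLiteOK_E8_137_0
    · exact commLiteOK_E8_138_0
    · exact commLiteOK_E8_139_0
    · exact commLiteOK_E8_140_0
    · exact commLiteOK_E8_141_0
    · exact commLiteOK_E8_142_0
    · exact commLiteOK_E8_143_0
    · exact commLiteOK_E8_144_0
    · exact commLiteOK_E8_145_0
    · exact commLiteOK_E8_146_0
    · exact commLiteOK_E8_147_0
    · exact commLiteOK_E8_148_0
    · exact commLiteOK_E8_149_0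
    · exact commLiteOK_E8_150_0
    · exact commLiteOK_E8_151_0
    · exact commLiteOK_E8_152_0
    · exact commLiteOK_E8_153_0
    · exact commLiteOK_E8_154_0
    · exact commLiteOK_E8_155_0
    · exact commLiteOK_E8_156_0
    · exact commLiteOK_E8_157_0
    · exact commLiteOK_E8_158_0
    · exact commLiteOK_E8_159_0
    · exact commLiteOK_E8_160_0
    · exact commLiteOK_E8_161_0
    · exact commLiteOK_E8_162_0
    · exact commLiteOK_E8_163_0
    · exact commLiteOK_E8_164_0
    · exact commLiteOK_E8_165_0
    · exact commLiteOK_E8_166_0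
    · exact commLiteOK_E8_167_0
    · exact commLiteOK_E8_168_0
    · exact commLiteOK_E8_169_0
    · exact commLiteOK_E8_170_0
    · exact commLiteOK_E8_171_0
    · exact commLiteOK_E8_172_0
    · exact commLiteOK_E8_173_0
    · exact commLiteOK_E8_174_0
    · exact commLiteOK_E8_175_0
    · exact commLiteOK_E8_176_0
    · exact commLiteOK_E8_177_0
    · exact commLiteOK_E8_178_0
    · exact commLiteOK_E8_179_0
    · exact commLiteOK_E8_180_0
    · exact commLiteOK_E8_181_0
    · exact commLiteOK_E8_182_0
    · exact commLiteOK_E8_183_0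
    · exact commLiteOK_E8_184_0
    · exact commLiteOK_E8_185_0
    · exact commLiteOK_E8_186_0
    · exact commLiteOK_E8_187_0
    · exact commLiteOK_E8_188_0
    · exact commLiteOK_E8_189_0
    · exact commLiteOK_E8_190_0
    · exact commLiteOK_E8_191_0
    · exact commLiteOK_E8_192_0
    · exact commLiteOK_E8_193_0
    · exact commLiteOK_E8_194_0
    · exact commLiteOK_E8_195_0
    · exact commLiteOK_E8_196_0
    · exact commLiteOK_E8_197_0
    · exact commLiteOK_E8_198_0
    · exact commLiteOK_E8_199_0
    · exact commLiteOK_E8_200_0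
    · exact commLiteOK_E8_201_0
    · exact commLiteOK_E8_202_0
    · exact commLiteOK_E8_203_0
    · exact commLiteOK_E8_204_0
    · exact commLiteOK_E8_205_0
    · exact commLiteOK_E8_206_0
    · exact commLiteOK_E8_207_0
    · exact commLiteOK_E8_208_0
    · exact commLiteOK_E8_209_0
    · exact commLiteOK_E8_210_0
    · exact commLiteOK_E8_211_0
    · exact commLiteOK_E8_212_0
    · exact commLiteOK_E8_213_0
    · exact commLiteOK_E8_214_0
    · exact commLiteOK_E8_215_0
    · exact commLiteOK_E8_216_0
    · exact commLiteOK_E8_217_0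
    · exact commLiteOK_E8_218_0
    · exact commLiteOK_E8_219_0
    · exact commLiteOK_E8_220_0
    · exact commLiteOK_E8_221_0
    · exact commLiteOK_E8_222_0
    · exact commLiteOK_E8_223_0
    · exact commLiteOK_E8_224_0
    · exact commLiteOK_E8_225_0
    · exact commLiteOK_E8_226_0
    · exact commLiteOK_E8_227_0
    · exact commLiteOK_E8_228_0
    · exact commLiteOK_E8_229_0
    · exact commLiteOK_E8_230_0
    · exact commLiteOK_E8_231_0
    · exact commLiteOK_E8_232_0
    · exact commLiteOK_E8_233_0
    · exact commLiteOK_E8_234_0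
    · exact commLiteOK_E8_235_0
    · exact commLiteOK_E8_236_0
    · exact commLiteOK_E8_237_0
    · exact commLiteOK_E8_238_0
    · exact commLiteOK_E8_239_0)

end Cfsg.Agent.Lead.Chev
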