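import Mathlib
import Cfsg.Agent.Lib.Lead.ChevComm3
import Cfsg.Agent.Lib.Lead.ChevCommData
import Cfsg.Agent.Lib.Lead.ChevN_F4

set_option autoImplicit false

namespace Cfsg.Agent.Lead.Chev

open Cfsg Cfsg.Lie

theorem commWsOK_F4_0_0 : (List.range' (1 * 0) 1).all ((fun _ => wsChk chevF4 commWs_F4) 0) = true := by decide +kernel
theorem commWsOK_F4_0_1 : (List.range' (1 * 1) 1).all ((fun _ => wsChk chevF4 commWs_F4) 0) = true := by decide +kernel
theorem commWsOK_F4_0_2 : (List.range' (1 * 2) 1).all ((fun _ => wsChk chevF4 commWs_F4) 0) = true := by decide +kernel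
theorem commWsOK_F4_0_3 : (List.range' (1 * 3) 1).all ((fun _ => wsChk chevF4 commWs_F4) 0) = true := by decide +kernel

theorem commWsOK_F4 : ∀ a < 1, ∀ s < 4, (fun _ => wsChk chevF4 commWs_F4) a s = true :=
  forall_forall_lt_of_blocks ((fun _ => wsChk chevF4 commWs_F4)) 1 4 1 4 (by norm_num) (by norm_num) (by
    intro a ha k hk
    interval_cases a <;> interval_cases k
    · exact commWsOK_F4_0_0
    · exact commWsOK_F4_0_1
    · exact commWsOK_F4_0_2
    · exact commWsOK_F4_0_3)

theorem commBaseOK_F4_0_0 : (List.range' (1 * 0) 1).all ((fun _ => baseAllChk chevF4 commBase_F4) 0) = true := by decide +kernel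
theorem commBaseOK_F4_0_1 : (List.range' (1 * 1) 1).all ((fun _ => baseAllChk chevF4 commBase_F4) 0) = true := by decide +kernel
theorem commBaseOK_F4_0_2 : (List.range' (1 * 2) 1).all ((fun _ => baseAllChk chevF4 commBase_F4) 0) = true := by decide +kernel
theorem commBaseOK_F4_0_3 : (List.range' (1 * 3) 1).all ((fun _ => baseAllChk chevF4 commBase_F4) 0) = true := by decide +kernel
theorem commBaseOK_F4_0_4 : (List.range' (1 * 4) 1).all ((fun _ => baseAllChk chevF4 commBase_F4) 0) = true := by decide +kernel
theorem commBaseOK_F4_0_5 : (List.range' (1 * 5) 1).all ((fun _ => baseAllChk chevF4 commBase_F4) 0) = true := by decide +kernel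
theorem commBaseOK_F4_0_6 : (List.range' (1 * 6) 1).all ((fun _ => baseAllChk chevF4 commBase_F4) 0) = true := by decide +kernel
theorem commBaseOK_F4_0_7 : (List.range' (1 * 7) 1).all ((fun _ => baseAllChk chevF4 commBase_F4) 0) = true := by decide +kernel
theorem commBaseOK_F4_0_8 : (List.range' (1 * 8) 1).all ((fun _ => baseAllChk chevF4 commBase_F4) 0) = true := by decide +kernel
theorem commBaseOK_F4_0_9 : (List.range' (1 * 9) 1).all ((fun _ => baseAllChk chevF4 commBase_F4) 0) = true := by decide +kernel
theorem commBaseOK_F4_0_10 : (List.range' (1 * 10) 1).all ((fun _ => baseAllChk chevF4 commBase_F4) 0) = true := by decide +kernel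
theorem commBaseOK_F4_0_11 : (List.range' (1 * 11) 1).all ((fun _ => baseAllChk chevF4 commBase_F4) 0) = true := by decide +kernel

theorem commBaseOK_F4 : ∀ a < 1, ∀ s < 12, (fun _ => baseAllChk chevF4 commBase_F4) a s = true :=
  forall_forall_lt_of_blocks ((fun _ => baseAllChk chevF4 commBase_F4)) 1 12 1 12 (by norm_num) (by norm_num) (by
    intro a ha k hk
    interval_cases a <;> interval_cases k
    · exact commBaseOK_F4_0_0
    · exact commBaseOK_F4_0_1
    · exact commBaseOK_F4_0_2
    · exact commBaseOK_F4_0_3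
    · exact commBaseOK_F4_0_4
    · exact commBaseOK_F4_0_5
    · exact commBaseOK_F4_0_6
    · exact commBaseOK_F4_0_7
    · exact commBaseOK_F4_0_8
    · exact commBaseOK_F4_0_9
    · exact commBaseOK_F4_0_10
    · exact commBaseOK_F4_0_11)

theorem commPairOK_F4_0_0 : (List.range' (48 * 0) 48).all ((pairChk chevF4 nMasks_F4 commWs_F4 commH_F4 commBase_F4) 0) = true := by decide +kernel
theorem commPairOK_F4_1_0 : (List.range' (48 * 0) 48).all ((pairChk chevF4 nMasks_F4 commWs_F4 commH_F4 commBase_F4) 1) = true := by decide +kernel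
theorem commPairOK_F4_2_0 : (List.range' (48 * 0) 48).all ((pairChk chevF4 nMasks_F4 commWs_F4 commH_F4 commBase_F4) 2) = true := by decide +kernel
theorem commPairOK_F4_3_0 : (List.range' (48 * 0) 48).all ((pairChk chevF4 nMasks_F4 commWs_F4 commH_F4 commBase_F4) 3) = true := by decide +kernel
theorem commPairOK_F4_4_0 : (List.range' (48 * 0) 48).all ((pairChk chevF4 nMasks_F4 commWs_F4 commH_F4 commBase_F4) 4) = true := by decide +kernel
theorem commPairOK_F4_5_0 : (List.range' (48 * 0) 48).all ((pairChk chevF4 nMasks_F4 commWs_F4 commH_F4 commBase_F4) 5) = true := by decide +kernel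
theorem commPairOK_F4_6_0 : (List.range' (48 * 0) 48).all ((pairChk chevF4 nMasks_F4 commWs_F4 commH_F4 commBase_F4) 6) = true := by decide +kernel
theorem commPairOK_F4_7_0 : (List.range' (48 * 0) 48).all ((pairChk chevF4 nMasks_F4 commWs_F4 commH_F4 commBase_F4) 7) = true := by decide +kernel
theorem commPairOK_F4_8_0 : (List.range' (48 * 0) 48).all ((pairChk chevF4 nMasks_F4 commWs_F4 commH_F4 commBase_F4) 8) = true := by decide +kernel
theorem commPairOK_F4_9_0 : (List.range' (48 * 0) 48).all ((pairChk chevF4 nMasks_F4 commWs_F4 commH_F4 commBase_F4) 9) = true := by decide +kernel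
theorem commPairOK_F4_10_0 : (List.range' (48 * 0) 48).all ((pairChk chevF4 nMasks_F4 commWs_F4 commH_F4 commBase_F4) 10) = true := by decide +kernel
theorem commPairOK_F4_11_0 : (List.range' (48 * 0) 48).all ((pairChk chevF4 nMasks_F4 commWs_F4 commH_F4 commBase_F4) 11) = true := by decide +kernel
theorem commPairOK_F4_12_0 : (List.range' (48 * 0) 48).all ((pairChk chevF4 nMasks_F4 commWs_F4 commH_F4 commBase_F4) 12) = true := by decide +kernel
theorem commPairOK_F4_13_0 : (List.range' (48 * 0) 48).all ((pairChk chevF4 nMasks_F4 commWs_F4 commH_F4 commBase_F4) 13) = true := by decide +kernel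
theorem commPairOK_F4_14_0 : (List.range' (48 * 0) 48).all ((pairChk chevF4 nMasks_F4 commWs_F4 commH_F4 commBase_F4) 14) = true := by decide +kernel
theorem commPairOK_F4_15_0 : (List.range' (48 * 0) 48).all ((pairChk chevF4 nMasks_F4 commWs_F4 commH_F4 commBase_F4) 15) = true := by decide +kernel
theorem commPairOK_F4_16_0 : (List.range' (48 * 0) 48).all ((pairChk chevF4 nMasks_F4 commWs_F4 commH_F4 commBase_F4) 16) = true := by decide +kernel
theorem commPairOK_F4_17_0 : (List.range' (48 * 0) 48).all ((pairChk chevF4 nMasks_F4 commWs_F4 commH_F4 commBase_F4) 17) = true := by decide +kernel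
theorem commPairOK_F4_18_0 : (List.range' (48 * 0) 48).all ((pairChk chevF4 nMasks_F4 commWs_F4 commH_F4 commBase_F4) 18) = true := by decide +kernel
theorem commPairOK_F4_19_0 : (List.range' (48 * 0) 48).all ((pairChk chevF4 nMasks_F4 commWs_F4 commH_F4 commBase_F4) 19) = true := by decide +kernel
theorem commPairOK_F4_20_0 : (List.range' (48 * 0) 48).all ((pairChk chevF4 nMasks_F4 commWs_F4 commH_F4 commBase_F4) 20) = true := by decide +kernel
theorem commPairOK_F4_21_0 : (List.range' (48 * 0) 48).all ((pairChk chevF4 nMasks_F4 commWs_F4 commH_F4 commBase_F4) 21) = true := by decide +kernel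
theorem commPairOK_F4_22_0 : (List.range' (48 * 0) 48).all ((pairChk chevF4 nMasks_F4 commWs_F4 commH_F4 commBase_F4) 22) = true := by decide +kernel
theorem commPairOK_F4_23_0 : (List.range' (48 * 0) 48).all ((pairChk chevF4 nMasks_F4 commWs_F4 commH_F4 commBase_F4) 23) = true := by decide +kernel
theorem commPairOK_F4_24_0 : (List.range' (48 * 0) 48).all ((pairChk chevF4 nMasks_F4 commWs_F4 commH_F4 commBase_F4) 24) = true := by decide +kernel
theorem commPairOK_F4_25_0 : (List.range' (48 * 0) 48).all ((pairChk chevF4 nMasks_F4 commWs_F4 commH_F4 commBase_F4) 25) = true := by decide +kernel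
theorem commPairOK_F4_26_0 : (List.range' (48 * 0) 48).all ((pairChk chevF4 nMasks_F4 commWs_F4 commH_F4 commBase_F4) 26) = true := by decide +kernel
theorem commPairOK_F4_27_0 : (List.range' (48 * 0) 48).all ((pairChk chevF4 nMasks_F4 commWs_F4 commH_F4 commBase_F4) 27) = true := by decide +kernel
theorem commPairOK_F4_28_0 : (List.range' (48 * 0) 48).all ((pairChk chevF4 nMasks_F4 commWs_F4 commH_F4 commBase_F4) 28) = true := by decide +kernel
theorem commPairOK_F4_29_0 : (List.range' (48 * 0) 48).all ((pairChk chevF4 nMasks_F4 commWs_F4 commH_F4 commBase_F4) 29) = true := by decide +kernel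
theorem commPairOK_F4_30_0 : (List.range' (48 * 0) 48).all ((pairChk chevF4 nMasks_F4 commWs_F4 commH_F4 commBase_F4) 30) = true := by decide +kernel
theorem commPairOK_F4_31_0 : (List.range' (48 * 0) 48).all ((pairChk chevF4 nMasks_F4 commWs_F4 commH_F4 commBase_F4) 31) = true := by decide +kernel
theorem commPairOK_F4_32_0 : (List.range' (48 * 0) 48).all ((pairChk chevF4 nMasks_F4 commWs_F4 commH_F4 commBase_F4) 32) = true := by decide +kernel
theorem commPairOK_F4_33_0 : (List.range' (48 * 0) 48).all ((pairChk chevF4 nMasks_F4 commWs_F4 commH_F4 commBase_F4) 33) = true := by decide +kernel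
theorem commPairOK_F4_34_0 : (List.range' (48 * 0) 48).all ((pairChk chevF4 nMasks_F4 commWs_F4 commH_F4 commBase_F4) 34) = true := by decide +kernel
theorem commPairOK_F4_35_0 : (List.range' (48 * 0) 48).all ((pairChk chevF4 nMasks_F4 commWs_F4 commH_F4 commBase_F4) 35) = true := by decide +kernel
theorem commPairOK_F4_36_0 : (List.range' (48 * 0) 48).all ((pairChk chevF4 nMasks_F4 commWs_F4 commH_F4 commBase_F4) 36) = true := by decide +kernel
theorem commPairOK_F4_37_0 : (List.range' (48 * 0) 48).all ((pairChk chevF4 nMasks_F4 commWs_F4 commH_F4 commBase_F4) 37) = true := by decide +kernel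
theorem commPairOK_F4_38_0 : (List.range' (48 * 0) 48).all ((pairChk chevF4 nMasks_F4 commWs_F4 commH_F4 commBase_F4) 38) = true := by decide +kernel
theorem commPairOK_F4_39_0 : (List.range' (48 * 0) 48).all ((pairChk chevF4 nMasks_F4 commWs_F4 commH_F4 commBase_F4) 39) = true := by decide +kernel
theorem commPairOK_F4_40_0 : (List.range' (48 * 0) 48).all ((pairChk chevF4 nMasks_F4 commWs_F4 commH_F4 commBase_F4) 40) = true := by decide +kernel
theorem commPairOK_F4_41_0 : (List.range' (48 * 0) 48).all ((pairChk chevF4 nMasks_F4 commWs_F4 commH_F4 commBase_F4) 41) = true := by decide +kernel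
theorem commPairOK_F4_42_0 : (List.range' (48 * 0) 48).all ((pairChk chevF4 nMasks_F4 commWs_F4 commH_F4 commBase_F4) 42) = true := by decide +kernel
theorem commPairOK_F4_43_0 : (List.range' (48 * 0) 48).all ((pairChk chevF4 nMasks_F4 commWs_F4 commH_F4 commBase_F4) 43) = true := by decide +kernel
theorem commPairOK_F4_44_0 : (List.range' (48 * 0) 48).all ((pairChk chevF4 nMasks_F4 commWs_F4 commH_F4 commBase_F4) 44) = true := by decide +kernel
theorem commPairOK_F4_45_0 : (List.range' (48 * 0) 48).all ((pairChk chevF4 nMasks_F4 commWs_F4 commH_F4 commBase_F4) 45) = true := by decide +kernel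
theorem commPairOK_F4_46_0 : (List.range' (48 * 0) 48).all ((pairChk chevF4 nMasks_F4 commWs_F4 commH_F4 commBase_F4) 46) = true := by decide +kernel
theorem commPairOK_F4_47_0 : (List.range' (48 * 0) 48).all ((pairChk chevF4 nMasks_F4 commWs_F4 commH_F4 commBase_F4) 47) = true := by decide +kernel

theorem commPairOK_F4 : ∀ a < 48, ∀ s < 48, (pairChk chevF4 nMasks_F4 commWs_F4 commH_F4 commBase_F4) a s = true :=
  forall_forall_lt_of_blocks ((pairChk chevF4 nMasks_F4 commWs_F4 commH_F4 commBase_F4)) 48 48 48 1 (by norm_num) (by norm_num) (by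
    intro a ha k hk
    interval_cases a <;> interval_cases k
    · exact commPairOK_F4_0_0
    · exact commPairOK_F4_1_0
    · exact commPairOK_F4_2_0
    · exact commPairOK_F4_3_0
    · exact commPairOK_F4_4_0
    · exact commPairOK_F4_5_0
    · exact commPairOK_F4_6_0
    · exact commPairOK_F4_7_0
    · exact commPairOK_F4_8_0
    · exact commPairOK_F4_9_0
    · exact commPairOK_F4_10_0
    · exact commPairOK_F4_11_0
    · exact commPairOK_F4_12_0
    · exact commPairOK_F4_13_0
    · exact commPairOK_F4_14_0
    · exact commPairOK_F4_15_0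
    · exact commPairOK_F4_16_0
    · exact commPairOK_F4_17_0
    · exact commPairOK_F4_18_0
    · exact commPairOK_F4_19_0
    · exact commPairOK_F4_20_0
    · exact commPairOK_F4_21_0
    · exact commPairOK_F4_22_0
    · exact commPairOK_F4_23_0
    · exact commPairOK_F4_24_0
    · exact commPairOK_F4_25_0
    · exact commPairOK_F4_26_0
    · exact commPairOK_F4_27_0
    · exact commPairOK_F4_28_0
    · exact commPairOK_F4_29_0
    · exact commPairOK_F4_30_0
    · exact commPairOK_F4_31_0
    · exact commPairOK_F4_32_0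
    · exact commPairOK_F4_33_0
    · exact commPairOK_F4_34_0
    · exact commPairOK_F4_35_0
    · exact commPairOK_F4_36_0
    · exact commPairOK_F4_37_0
    · exact commPairOK_F4_38_0
    · exact commPairOK_F4_39_0
    · exact commPairOK_F4_40_0
    · exact commPairOK_F4_41_0
    · exact commPairOK_F4_42_0
    · exact commPairOK_F4_43_0
    · exact commPairOK_F4_44_0
    · exact commPairOK_F4_45_0
    · exact commPairOK_F4_46_0
    · exact commPairOK_F4_47_0)

end Cfsg.Agent.Lead.Chev
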