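import Mathlib
import Cfsg.Agent.Lib.Lead.ChevComm3
import Cfsg.Agent.Lib.Lead.ChevCommData
import Cfsg.Agent.Lib.Lead.ChevN_G2

set_option autoImplicit false

namespace Cfsg.Agent.Lead.Chev

open Cfsg Cfsg.Lie

theorem commWsOK_G2_0_0 : (List.range' (1 * 0) 1).all ((fun _ => wsChk chevG2 commWs_G2) 0) = true := by decide +kernel
theorem commWsOK_G2_0_1 : (List.range' (1 * 1) 1).all ((fun _ => wsChk chevG2 commWs_G2) 0) = true := by decide +kernel

theorem commWsOK_G2 : ∀ a < 1, ∀ s < 2, (fun _ => wsChk chevG2 commWs_G2) a s = true :=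
  forall_forall_lt_of_blocks ((fun _ => wsChk chevG2 commWs_G2)) 1 2 1 2 (by norm_num) (by norm_num) (by
    intro a ha k hk
    interval_cases a <;> interval_cases k
    · exact commWsOK_G2_0_0
    · exact commWsOK_G2_0_1)

theorem commBaseOK_G2_0_0 : (List.range' (1 * 0) 1).all ((fun _ => baseAllChk chevG2 commBase_G2) 0) = true := by decide +kernel
theorem commBaseOK_G2_0_1 : (List.range' (1 * 1) 1).all ((fun _ => baseAllChk chevG2 commBase_G2) 0) = true := by decide +kernel
theorem commBaseOK_G2_0_2 : (List.range' (1 * 2) 1).all ((fun _ => baseAllChk chevG2 commBase_G2) 0) = true := by decide +kernel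
theorem commBaseOK_G2_0_3 : (List.range' (1 * 3) 1).all ((fun _ => baseAllChk chevG2 commBase_G2) 0) = true := by decide +kernel
theorem commBaseOK_G2_0_4 : (List.range' (1 * 4) 1).all ((fun _ => baseAllChk chevG2 commBase_G2) 0) = true := by decide +kernel
theorem commBaseOK_G2_0_5 : (List.range' (1 * 5) 1).all ((fun _ => baseAllChk chevG2 commBase_G2) 0) = true := by decide +kernel
theorem commBaseOK_G2_0_6 : (List.range' (1 * 6) 1).all ((fun _ => baseAllChk chevG2 commBase_G2) 0) = true := by decide +kernel
theorem commBaseOK_G2_0_7 : (List.range' (1 * 7) 1).all ((fun _ => baseAllChk chevG2 commBase_G2) 0) = true := by decide +kernel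
theorem commBaseOK_G2_0_8 : (List.range' (1 * 8) 1).all ((fun _ => baseAllChk chevG2 commBase_G2) 0) = true := by decide +kernel
theorem commBaseOK_G2_0_9 : (List.range' (1 * 9) 1).all ((fun _ => baseAllChk chevG2 commBase_G2) 0) = true := by decide +kernel
theorem commBaseOK_G2_0_10 : (List.range' (1 * 10) 1).all ((fun _ => baseAllChk chevG2 commBase_G2) 0) = true := by decide +kernel
theorem commBaseOK_G2_0_11 : (List.range' (1 * 11) 1).all ((fun _ => baseAllChk chevG2 commBase_G2) 0) = true := by decide +kernel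

theorem commBaseOK_G2 : ∀ a < 1, ∀ s < 12, (fun _ => baseAllChk chevG2 commBase_G2) a s = true :=
  forall_forall_lt_of_blocks ((fun _ => baseAllChk chevG2 commBase_G2)) 1 12 1 12 (by norm_num) (by norm_num) (by
    intro a ha k hk
    interval_cases a <;> interval_cases k
    · exact commBaseOK_G2_0_0
    · exact commBaseOK_G2_0_1
    · exact commBaseOK_G2_0_2
    · exact commBaseOK_G2_0_3
    · exact commBaseOK_G2_0_4
    · exact commBaseOK_G2_0_5
    · exact commBaseOK_G2_0_6
    · exact commBaseOK_G2_0_7
    · exact commBaseOK_G2_0_8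
    · exact commBaseOK_G2_0_9
    · exact commBaseOK_G2_0_10
    · exact commBaseOK_G2_0_11)

theorem commPairOK_G2_0_0 : (List.range' (12 * 0) 12).all ((pairChk chevG2 nMasks_G2 commWs_G2 commH_G2 commBase_G2) 0) = true := by decide +kernel
theorem commPairOK_G2_1_0 : (List.range' (12 * 0) 12).all ((pairChk chevG2 nMasks_G2 commWs_G2 commH_G2 commBase_G2) 1) = true := by decide +kernel
theorem commPairOK_G2_2_0 : (List.range' (12 * 0) 12).all ((pairChk chevG2 nMasks_G2 commWs_G2 commH_G2 commBase_G2) 2) = true := by decide +kernel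
theorem commPairOK_G2_3_0 : (List.range' (12 * 0) 12).all ((pairChk chevG2 nMasks_G2 commWs_G2 commH_G2 commBase_G2) 3) = true := by decide +kernel
theorem commPairOK_G2_4_0 : (List.range' (12 * 0) 12).all ((pairChk chevG2 nMasks_G2 commWs_G2 commH_G2 commBase_G2) 4) = true := by decide +kernel
theorem commPairOK_G2_5_0 : (List.range' (12 * 0) 12).all ((pairChk chevG2 nMasks_G2 commWs_G2 commH_G2 commBase_G2) 5) = true := by decide +kernel
theorem commPairOK_G2_6_0 : (List.range' (12 * 0) 12).all ((pairChk chevG2 nMasks_G2 commWs_G2 commH_G2 commBase_G2) 6) = true := by decide +kernel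
theorem commPairOK_G2_7_0 : (List.range' (12 * 0) 12).all ((pairChk chevG2 nMasks_G2 commWs_G2 commH_G2 commBase_G2) 7) = true := by decide +kernel
theorem commPairOK_G2_8_0 : (List.range' (12 * 0) 12).all ((pairChk chevG2 nMasks_G2 commWs_G2 commH_G2 commBase_G2) 8) = true := by decide +kernel
theorem commPairOK_G2_9_0 : (List.range' (12 * 0) 12).all ((pairChk chevG2 nMasks_G2 commWs_G2 commH_G2 commBase_G2) 9) = true := by decide +kernel
theorem commPairOK_G2_10_0 : (List.range' (12 * 0) 12).all ((pairChk chevG2 nMasks_G2 commWs_G2 commH_G2 commBase_G2) 10) = true := by decide +kernel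
theorem commPairOK_G2_11_0 : (List.range' (12 * 0) 12).all ((pairChk chevG2 nMasks_G2 commWs_G2 commH_G2 commBase_G2) 11) = true := by decide +kernel

theorem commPairOK_G2 : ∀ a < 12, ∀ s < 12, (pairChk chevG2 nMasks_G2 commWs_G2 commH_G2 commBase_G2) a s = true :=
  forall_forall_lt_of_blocks ((pairChk chevG2 nMasks_G2 commWs_G2 commH_G2 commBase_G2)) 12 12 12 1 (by norm_num) (by norm_num) (by
    intro a ha k hk
    interval_cases a <;> interval_cases k
    · exact commPairOK_G2_0_0
    · exact commPairOK_G2_1_0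
    · exact commPairOK_G2_2_0
    · exact commPairOK_G2_3_0
    · exact commPairOK_G2_4_0
    · exact commPairOK_G2_5_0
    · exact commPairOK_G2_6_0
    · exact commPairOK_G2_7_0
    · exact commPairOK_G2_8_0
    · exact commPairOK_G2_9_0
    · exact commPairOK_G2_10_0
    · exact commPairOK_G2_11_0)

end Cfsg.Agent.Lead.Chev
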