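import Mathlib
import Cfsg.Agent.Lib.Lead.ChevWeylTab

/-!
Words for the longest elements of the Weyl groups (found by search, verified by the kernel).
-/

set_option autoImplicit false

namespace Cfsg.Agent.Lead.Chev

open Cfsg Cfsg.Lie

def w0Word_G2 : List ℕ := [0, 1, 0, 1, 0, 1]

def w0Word_B2 : List ℕ := [0, 1, 0, 1]

def w0Word_D4 : List ℕ := [0, 1, 0, 2, 1, 0, 3, 1, 0, 2, 1, 3]

def w0Word_F4 : List ℕ := [0, 1, 0, 2, 1, 0, 2, 1, 2, 3, 2, 1, 0, 2, 1, 2, 3, 2, 1, 0, 2, 1, 2, 3]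

def w0Word_E6 : List ℕ := [0, 1, 2, 0, 3, 1, 2, 0, 3, 2, 4, 3, 1, 2, 0, 3, 2, 4, 3, 1, 5, 4, 3, 1, 2, 0, 3, 2, 4, 3, 1, 5, 4, 3, 2, 0]

def w0Word_E7 : List ℕ := [0, 1, 2, 0, 3, 1, 2, 0, 3, 2, 4, 3, 1, 2, 0, 3, 2, 4, 3, 1, 5, 4, 3, 1, 2, 0, 3, 2, 4, 3, 1, 5, 4, 3, 2, 0, 6, 5, 4, 3, 1, 2, 0, 3, 2, 4, 3, 1, 5, 4, 3, 2, 0, 6, 5, 4, 3, 1, 2, 3, 4, 5, 6]

def w0Word_E8 : List ℕ := [0, 1, 2, 0, 3, 1, 2, 0, 3, 2, 4, 3, 1, 2, 0, 3, 2, 4, 3, 1, 5, 4, 3, 1, 2, 0, 3, 2, 4, 3, 1, 5, 4, 3, 2, 0, 6, 5, 4, 3, 1, 2, 0, 3, 2, 4, 3, 1, 5, 4, 3, 2, 0, 6, 5, 4, 3, 1, 2, 3, 4, 5, 6, 7, 6, 5, 4, 3, 1, 2, 0, 3, 2, 4, 3, 1, 5, 4, 3, 2, 0, 6, 5, 4, 3, 1, 2, 3, 4, 5, 6, 7, 6, 5, 4, 3, 1, 2, 0, 3, 2, 4, 3, 1, 5, 4, 3, 2, 0, 6, 5, 4, 3, 1, 2, 3, 4, 5, 6, 7]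

theorem w0OK_G2 : w0Chk chevG2 commWs_G2 w0Word_G2 = true := by decide +kernel

theorem w0OK_B2 : w0Chk chevB2 commWs_B2 w0Word_B2 = true := by decide +kernel

theorem w0OK_D4 : w0Chk chevD4 commWs_D4 w0Word_D4 = true := by decide +kernel

theorem w0OK_F4 : w0Chk chevF4 commWs_F4 w0Word_F4 = true := by decide +kernel

theorem w0OK_E6 : w0Chk chevE6 commWs_E6 w0Word_E6 = true := by decide +kernel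

theorem w0OK_E7 : w0Chk chevE7 commWs_E7 w0Word_E7 = true := by decide +kernel

theorem w0OK_E8 : w0Chk chevE8 commWs_E8 w0Word_E8 = true := by decide +kernel

end Cfsg.Agent.Lead.Chev
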