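import Mathlib
import Cfsg.Agent.S1023
import Cfsg.Agent.S1024
import Cfsg.Agent.S1025
import Cfsg.Agent.Lib.Lead.ChevHFacts
import Cfsg.Agent.Lib.Lead.ChevUpTab
import Cfsg.Agent.Lib.Lead.ChevUAll
import Cfsg.Agent.Lib.Lead.ChevOrbitData
import Cfsg.Agent.S1053

/-!
`ChevFacts` for the seven tabulated data.
-/

set_option autoImplicit false

namespace Cfsg.Agent.Lead.Chev

open Cfsg Cfsg.Lie

theorem signFacts_of_mem (D : ChevalleyDatum)
    (hD : D ∈ [chevG2, chevB2, chevD4, chevF4, chevE6, chevE7, chevE8]) : SignFacts D := by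
  simp only [List.mem_cons, List.mem_nil_iff, or_false] at hD
  rcases hD with rfl | rfl | rfl | rfl | rfl | rfl | rfl
  · exact signFacts_of_chk _ signOK_G2
  · exact signFacts_of_chk _ signOK_B2
  · exact signFacts_of_chk _ signOK_D4
  · exact signFacts_of_chk _ signOK_F4
  · exact signFacts_of_chk _ signOK_E6
  · exact signFacts_of_chk _ signOK_E7
  · exact signFacts_of_chk _ signOK_E8

theorem reflFacts_of_mem (D : ChevalleyDatum)
    (hD : D ∈ [chevG2, chevB2, chevD4, chevF4, chevE6, chevE7, chevE8]) : ReflFacts D := by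
  simp only [List.mem_cons, List.mem_nil_iff, or_false] at hD
  rcases hD with rfl | rfl | rfl | rfl | rfl | rfl | rfl
  · exact reflFacts_of_chk _ reflOK_G2
  · exact reflFacts_of_chk _ reflOK_B2
  · exact reflFacts_of_chk _ reflOK_D4
  · exact reflFacts_of_chk _ reflOK_F4
  · exact reflFacts_of_chk _ reflOK_E6
  · exact reflFacts_of_chk _ reflOK_E7
  · exact reflFacts_of_chk _ reflOK_E8

theorem rootOrbit_of_mem {F : Type*} [Field F] (D : ChevalleyDatum)
    (hD : D ∈ [chevG2, chevB2, chevD4, chevF4, chevE6, chevE7, chevE8]) : RootOrbit D := by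
  have hfa : ∀ i < D.rank, NXFacts D (etaOf D i) i :=
    fun i hi => (nSimple_of_mem (F := F) D hD i hi).facts
  have hsl : ∀ i < D.rank, D.simple i < D.nroots := fun i hi => (simple_facts_of_mem D hD i hi).1.1
  simp only [List.mem_cons, List.mem_nil_iff, or_false] at hD
  rcases hD with rfl | rfl | rfl | rfl | rfl | rfl | rfl
  · exact rootOrbit_of_chk _ _ hfa hsl _ wsTab_G2 _ orbOK_G2
  · exact rootOrbit_of_chk _ _ hfa hsl _ wsTab_B2 _ orbOK_B2
  · exact rootOrbit_of_chk _ _ hfa hsl _ wsTab_D4 _ orbOK_D4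
  · exact rootOrbit_of_chk _ _ hfa hsl _ wsTab_F4 _ orbOK_F4
  · exact rootOrbit_of_chk _ _ hfa hsl _ wsTab_E6 _ orbOK_E6
  · exact rootOrbit_of_chk _ _ hfa hsl _ wsTab_E7 _ orbOK_E7
  · exact rootOrbit_of_chk _ _ hfa hsl _ wsTab_E8 _ orbOK_E8

theorem cartan_neg_of_mem (D : ChevalleyDatum)
    (hD : D ∈ [chevG2, chevB2, chevD4, chevF4, chevE6, chevE7, chevE8]) :
    ∀ i < D.rank, ∀ s < D.nroots, D.cartan i (D.neg s) = - D.cartan i s := by
  intro i hi s hs
  have hrow := rowOK_of_mem D hD i hi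
  simp only [List.mem_cons, List.mem_nil_iff, or_false] at hD
  rcases hD with rfl | rfl | rfl | rfl | rfl | rfl | rfl
  · exact (neg_of_negChk _ i hrow (wNeg_G2 i hi) s hs).2
  · exact (neg_of_negChk _ i hrow (wNeg_B2 i hi) s hs).2
  · exact (neg_of_negChk _ i hrow (wNeg_D4 i hi) s hs).2
  · exact (neg_of_negChk _ i hrow (wNeg_F4 i hi) s hs).2
  · exact (neg_of_negChk _ i hrow (wNeg_E6 i hi) s hs).2
  · exact (neg_of_negChk _ i hrow (wNeg_E7 i hi) s hs).2
  · exact (neg_of_negChk _ i hrow (wNeg_E8 i hi) s hs).2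

theorem chevFacts_of_mem {F : Type*} [Field F] (D : ChevalleyDatum)
    (hD : D ∈ [chevG2, chevB2, chevD4, chevF4, chevE6, chevE7, chevE8]) : ChevFacts D F where
  xadd := ⟨fun r hr t₁ t₂ => Cfsg.Agent.S1023.result D hD r hr t₁ t₂,
    fun r hr => (Cfsg.Agent.S1024.result D hD r hr 0).2 rfl⟩
  nsimple := fun i hi => nSimple_of_mem D hD i hi
  comm := fun r hr s hs h1 h2 t u => Cfsg.Agent.S1025.result D hD r s hr hs h1 h2 t u
  hsimple := hSimple_of_mem D hD
  hall := hAll_of_mem D hD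
  hconj := hConj_of_mem D hD
  up := upChk_of_mem D hD
  simple_pos := fun i hi => (simple_facts_of_mem D hD i hi).1
  orbit := rootOrbit_of_mem (F := F) D hD
  sign := signFacts_of_mem D hD
  ufacts := uFacts_of_mem D hD
  poscomm := posComm_of_mem D hD
  posok := Cfsg.Agent.Helper5.posOk_of_mem D hD
  refl := reflFacts_of_mem D hD
  negok := negOk_of_mem D hD
  w0 := ⟨Cfsg.Agent.S1053.w0Of D, Cfsg.Agent.S1053.w0_facts (F := F) D hD⟩
  cartan_neg := cartan_neg_of_mem D hD

end Cfsg.Agent.Lead.Chev
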