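import Mathlib
import Cfsg.Agent.Lib.Lead.ChevMono

/-!
`B ∩ V = 1` and `B ∩ V H = H`.
-/

set_option autoImplicit false
set_option linter.unusedSectionVars false
set_option linter.unusedSimpArgs false
set_option linter.unusedVariables false

namespace Cfsg.Agent.Lead.Chev

open Cfsg Cfsg.Lie

variable {F : Type*} [Field F]

namespace ChevFacts

variable {D : ChevalleyDatum} (hF : ChevFacts D F)
include hF

/-- `B ∩ V H ⊆ H`, elementwise: if `v h ∈ B` with `v ∈ V`, `h ∈ H`, then `v = 1` -/
theorem eq_one_of_neg_mul_diag_mem_borel (v : GL D.Idx F) (hv : v ∈ D.negUnipotent F) (h : GL D.Idx F)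
    (hh : h ∈ D.diagonalSubgroup F) (hb : v * h ∈ D.borelSubgroup F) : v = 1 := by
  have hvB : v ∈ D.borelSubgroup F := by
    have := mul_mem hb (inv_mem (diagonal_le_borel D hh))
    rwa [mul_inv_cancel_right] at this
  apply Units.ext
  rw [Units.val_one]
  ext i j
  rcases lt_or_ge (Cfsg.Agent.Helper5.chevLevel D i) (Cfsg.Agent.Helper5.chevLevel D j) with hlt | hge
  · rw [hF.borel_entry v hvB i j hlt, Matrix.one_apply]
    have : i ≠ j := by
      rintro rfl
      exact lt_irrefl _ hlt
    rw [if_neg this]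
  · rw [negUnipotent_entry D hF.negok v hv i j hge, Matrix.one_apply]

/-- `B ∩ V = 1` -/
theorem borel_inf_negUnipotent : D.borelSubgroup F ⊓ D.negUnipotent F = ⊥ := by
  rw [eq_bot_iff]
  rintro g ⟨hgB, hgV⟩
  rw [Subgroup.mem_bot]
  have := hF.eq_one_of_neg_mul_diag_mem_borel g hgV 1 (one_mem _) (by rwa [mul_one])
  exact this

/-- conjugation by an element of `H` maps `V` into `V` -/
theorem diagonal_conj_mem_negUnipotent (h : GL D.Idx F) (hh : h ∈ D.diagonalSubgroup F)
    (v : GL D.Idx F) (hv : v ∈ D.negUnipotent F) : h * v * h⁻¹ ∈ D.negUnipotent F := by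
  unfold ChevalleyDatum.negUnipotent at hv ⊢
  induction hv using Subgroup.closure_induction with
  | mem x hx =>
    obtain ⟨s, t, hs, hx⟩ := hx
    have hxe : x = xGL D hF.xadd s t := Units.ext hx
    obtain ⟨c, hc, hconj⟩ := hF.diagonal_conj_xGL h hh s hs.1
    rw [hxe, hconj t]
    exact Subgroup.subset_closure ⟨s, c * t, hs, rfl⟩
  | one => simp
  | mul x y _ _ hx hy =>
    have : h * (x * y) * h⁻¹ = (h * x * h⁻¹) * (h * y * h⁻¹) := by group
    rw [this]
    exact mul_mem hx hy
  | inv x _ hx =>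
    have : h * x⁻¹ * h⁻¹ = (h * x * h⁻¹)⁻¹ := by group
    rw [this]
    exact inv_mem hx

/-- `B ∩ V H = H` -/
theorem borel_inf_negBorel :
    D.borelSubgroup F ⊓ (D.negUnipotent F ⊔ D.diagonalSubgroup F) = D.diagonalSubgroup F := by
  apply le_antisymm
  · rintro g ⟨hgB, hgVH⟩
    have hle : D.diagonalSubgroup F ≤ Subgroup.normalizer (D.negUnipotent F : Set (GL D.Idx F)) := by
      rw [Subgroup.le_normalizer_iff]
      intro h hh v hv
      exact hF.diagonal_conj_mem_negUnipotent h hh v hv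
    have hcoe := Subgroup.coe_mul_of_right_le_normalizer_left (D.negUnipotent F) (D.diagonalSubgroup F) hle
    have hg' : g ∈ ((D.negUnipotent F ⊔ D.diagonalSubgroup F : Subgroup (GL D.Idx F)) :
        Set (GL D.Idx F)) := hgVH
    rw [hcoe] at hg'
    obtain ⟨v, hv, h, hh, rfl⟩ := hg'
    have := hF.eq_one_of_neg_mul_diag_mem_borel v hv h hh hgB
    show v * h ∈ D.diagonalSubgroup F
    rw [this, one_mul]
    exact hh
  · exact le_inf (diagonal_le_borel D) le_sup_right

end ChevFacts

end Cfsg.Agent.Lead.Chev
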