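import Mathlib
import Cfsg.Agent.Lib.Lead.ChevFacts
import Cfsg.Agent.Lib.Lead.ChevBN2

/-!
The linear structure of the roots, in the coordinates of the coroots on the fundamental coroots: a word of
fundamental reflections acts linearly; a word mapping every fundamental root to a positive root maps every positive
root to a positive root.
-/

set_option autoImplicit false
set_option linter.unusedSectionVars false
set_option linter.unusedSimpArgs false
set_option linter.unusedVariables false

namespace Cfsg.Agent.Lead.Chev

open Cfsg Cfsg.Lie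

/-- the coordinates of the coroot of `r` -/
def cv (D : ChevalleyDatum) (r k : ℕ) : ℤ := (D.coroot.getD r #[]).getD k 0

theorem list_range_map_sum (n : ℕ) (f : ℕ → ℤ) :
    ((List.range n).map f).sum = ∑ k ∈ Finset.range n, f k := by
  induction n with
  | zero => simp
  | succ n ih => rw [List.range_succ, List.map_append, List.sum_append, ih, Finset.sum_range_succ]; simp

/-- the coroot arrays have the right size -/
def CorSize (D : ChevalleyDatum) : Prop := ∀ r < D.nroots, (D.coroot.getD r #[]).size = D.rank

instance (D : ChevalleyDatum) : Decidable (CorSize D) := by unfold CorSize; exact inferInstance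

theorem cv_nonneg (D : ChevalleyDatum) (r : ℕ) (hr : D.IsPosRoot r) (k : ℕ) : 0 ≤ cv D r k := by
  unfold cv
  by_cases hk : k < (D.coroot.getD r #[]).size
  · rw [Array.getD_eq_getD_getElem?, Array.getElem?_eq_getElem hk, Option.getD_some]
    exact hr.2 _ (by simp)
  · rw [Array.getD_eq_getD_getElem?, Array.getElem?_eq_none (by omega), Option.getD_none]

theorem cv_nonpos (D : ChevalleyDatum) (r : ℕ) (hr : D.IsNegRoot r) (k : ℕ) : cv D r k ≤ 0 := by
  unfold cv
  by_cases hk : k < (D.coroot.getD r #[]).size
  · rw [Array.getD_eq_getD_getElem?, Array.getElem?_eq_getElem hk, Option.getD_some]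
    exact hr.2 _ (by simp)
  · rw [Array.getD_eq_getD_getElem?, Array.getElem?_eq_none (by omega), Option.getD_none]

theorem isPosRoot_of_cv (D : ChevalleyDatum) (hS : CorSize D) (r : ℕ) (hr : r < D.nroots)
    (h : ∀ k < D.rank, 0 ≤ cv D r k) : D.IsPosRoot r := by
  refine ⟨hr, ?_⟩
  intro c hc
  rw [Array.mem_toList_iff, Array.mem_iff_getElem] at hc
  obtain ⟨k, hk, rfl⟩ := hc
  have := h k (by rw [← hS r hr]; exact hk)
  unfold cv at this
  rwa [Array.getD_eq_getD_getElem?, Array.getElem?_eq_getElem hk, Option.getD_some] at this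

theorem cv_reflect (D : ChevalleyDatum) (η : ℕ → ℤ) (i : ℕ) (fa : NXFacts D η i) (s : ℕ) (hs : s < D.nroots)
    (k : ℕ) (hk : k < D.rank) :
    cv D (D.reflectRoot i s) k =
      cv D s k - if k = i then ∑ j ∈ Finset.range D.rank, cv D s j * D.cartan j (D.simple i) else 0 := by
  have := fa.cor s hs k hk
  unfold corSum at this
  rw [list_range_map_sum] at this
  exact this

/-- words act linearly -/
theorem cv_reflWord (D : ChevalleyDatum) (η : ℕ → ℕ → ℤ) (hfa : ∀ i < D.rank, NXFacts D (η i) i)
    (hR : ReflFacts D) (hsl : ∀ i < D.rank, D.simple i < D.nroots)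
    (w : List ℕ) (hw : ∀ i ∈ w, i < D.rank) (r : ℕ) (hr : r < D.nroots) (k : ℕ) (hk : k < D.rank) :
    cv D (reflWord D w r) k =
      ∑ j ∈ Finset.range D.rank, cv D r j * cv D (reflWord D w (D.simple j)) k := by
  induction w generalizing k with
  | nil =>
    simp only [reflWord]
    have : ∀ j ∈ Finset.range D.rank, cv D r j * cv D (D.simple j) k = if k = j then cv D r j else 0 := by
      intro j hj
      have := hR.simple_coroot j (Finset.mem_range.1 hj) k hk
      unfold cv
      rw [this]
      split_ifs <;> simp
    rw [Finset.sum_congr rfl this, Finset.sum_ite_eq, if_pos (Finset.mem_range.2 hk)]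
  | cons i w ih =>
    have hw' : ∀ j ∈ w, j < D.rank := fun j hj => hw j (List.mem_cons_of_mem _ hj)
    have hi := hw i List.mem_cons_self
    have hlt : ∀ s < D.nroots, reflWord D w s < D.nroots := fun s hs => reflWord_lt D η hfa w hw' s hs
    simp only [reflWord]
    rw [cv_reflect D (η i) i (hfa i hi) _ (hlt r hr) k hk]
    have h2 : ∀ j ∈ Finset.range D.rank, cv D r j * cv D (D.reflectRoot i (reflWord D w (D.simple j))) k =
        cv D r j * cv D (reflWord D w (D.simple j)) k -
          if k = i then cv D r j * ∑ l ∈ Finset.range D.rank,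
            cv D (reflWord D w (D.simple j)) l * D.cartan l (D.simple i) else 0 := by
      intro j hj
      rw [cv_reflect D (η i) i (hfa i hi) _ (hlt _ (hsl j (Finset.mem_range.1 hj))) k hk]
      split_ifs <;> ring
    rw [Finset.sum_congr rfl h2, Finset.sum_sub_distrib, ← ih hw' k hk]
    congr 1
    by_cases hki : k = i
    · rw [if_pos hki]
      simp only [if_pos hki]
      have h3 : ∀ l ∈ Finset.range D.rank, cv D (reflWord D w r) l * D.cartan l (D.simple i) =
          ∑ j ∈ Finset.range D.rank, cv D r j * (cv D (reflWord D w (D.simple j)) l * D.cartan l (D.simple i)) := by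
        intro l hl
        rw [ih hw' l (Finset.mem_range.1 hl), Finset.sum_mul]
        apply Finset.sum_congr rfl
        intro j _
        ring
      rw [Finset.sum_congr rfl h3, Finset.sum_comm]
      apply Finset.sum_congr rfl
      intro j _
      rw [Finset.mul_sum]
    · rw [if_neg hki]
      simp only [if_neg hki]
      simp

/-- a word mapping every fundamental root to a positive root maps every positive root to a positive root -/
theorem reflWord_pos_of_simple (D : ChevalleyDatum) (η : ℕ → ℕ → ℤ) (hfa : ∀ i < D.rank, NXFacts D (η i) i)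
    (hR : ReflFacts D) (hS : CorSize D) (hsl : ∀ i < D.rank, D.simple i < D.nroots)
    (w : List ℕ) (hw : ∀ i ∈ w, i < D.rank)
    (h : ∀ j < D.rank, D.IsPosRoot (reflWord D w (D.simple j))) (r : ℕ) (hr : D.IsPosRoot r) :
    D.IsPosRoot (reflWord D w r) := by
  apply isPosRoot_of_cv D hS _ (reflWord_lt D η hfa w hw r hr.1)
  intro k hk
  rw [cv_reflWord D η hfa hR hsl w hw r hr.1 k hk]
  apply Finset.sum_nonneg
  intro j hj
  exact mul_nonneg (cv_nonneg D r hr j) (cv_nonneg D _ (h j (Finset.mem_range.1 hj)) k)

end Cfsg.Agent.Lead.Chev
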