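import Mathlib
import Cfsg.Agent.Lib.Lead.ChevLin
import Cfsg.Agent.Lib.Lead.ChevBN4
import Cfsg.Agent.Lib.Lead.ChevBV
import Cfsg.Agent.S0308
import Cfsg.Agent.S0309

/-!
The sharp form of the Bruhat decomposition: `B n_w B = B n_w U_w⁻`, with uniqueness.
-/

set_option autoImplicit false
set_option linter.unusedSectionVars false
set_option linter.unusedSimpArgs false
set_option linter.unusedVariables false

namespace Cfsg.Agent.Lead.Chev

open Cfsg Cfsg.Lie

/-- the set of positive roots made negative by the word -/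
def negSet (D : ChevalleyDatum) (w : List ℕ) : Finset ℕ :=
  (Finset.range D.nroots).filter fun r => D.IsPosRoot r ∧ D.IsNegRoot (reflWord D w r)

theorem mem_negSet (D : ChevalleyDatum) (w : List ℕ) (r : ℕ) :
    r ∈ negSet D w ↔ D.IsPosRoot r ∧ D.IsNegRoot (reflWord D w r) := by
  unfold negSet
  rw [Finset.mem_filter, Finset.mem_range]
  exact ⟨fun h => h.2, fun h => ⟨h.1.1, h⟩⟩

theorem reflWord_snoc (D : ChevalleyDatum) (w : List ℕ) (p r : ℕ) :
    reflWord D (w ++ [p]) r = reflWord D w (D.reflectRoot p r) := by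
  rw [reflWord_append]
  rfl

theorem reflectRoot_simple (D : ChevalleyDatum) (p : ℕ) : D.reflectRoot p (D.simple p) = D.neg (D.simple p) := by
  unfold ChevalleyDatum.reflectRoot
  simp

variable {F : Type*} [Field F]

/-- `U_w⁻`, generated by the positive root subgroups made negative by `w` -/
def negPart (D : ChevalleyDatum) (hX : XAdd D F) (w : List ℕ) : Subgroup (GL D.Idx F) :=
  Subgroup.closure {g | ∃ (r : ℕ) (t : F), D.IsPosRoot r ∧ D.IsNegRoot (reflWord D w r) ∧ g = xGL D hX r t}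

namespace ChevFacts

variable {D : ChevalleyDatum} (hF : ChevFacts D F)
include hF

theorem card_negSet_snoc_lt (w : List ℕ) (hw : ∀ i ∈ w, i < D.rank) (p : ℕ) (hp : p < D.rank)
    (hneg : D.IsNegRoot (reflWord D w (D.simple p))) :
    (negSet D (w ++ [p])).card < (negSet D w).card := by
  have hfa := hF.facts p hp
  have hsub : (negSet D (w ++ [p])).image (D.reflectRoot p) ⊆ (negSet D w).erase (D.simple p) := by
    intro s hs
    obtain ⟨r, hr, rfl⟩ := Finset.mem_image.1 hs
    obtain ⟨hr1, hr2⟩ := (mem_negSet D _ r).1 hr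
    rw [reflWord_snoc] at hr2
    have hrp : r ≠ D.simple p := by
      rintro rfl
      rw [reflectRoot_simple, reflWord_neg D (etaOf D) hF.facts w hw _ (hF.simple_lt p hp)] at hr2
      exact hF.sign.not_both _ (hF.sign.pos_of_neg _ hneg) hr2
    rw [Finset.mem_erase]
    refine ⟨?_, (mem_negSet D w _).2 ⟨hF.refl.refl_pos p hp r hr1 hrp, hr2⟩⟩
    intro h
    have h3 := hfa.winv r hr1.1
    rw [h, reflectRoot_simple] at h3
    exact hF.sign.not_both r hr1 (h3 ▸ hF.sign.neg_of_pos _ (hF.simple_pos p hp))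
  have hinj : Set.InjOn (D.reflectRoot p) (negSet D (w ++ [p]) : Set ℕ) := by
    intro a ha b hb hab
    have h1 := hfa.winv a ((mem_negSet D _ a).1 ha).1.1
    have h2 := hfa.winv b ((mem_negSet D _ b).1 hb).1.1
    rw [← h1, ← h2, hab]
  calc (negSet D (w ++ [p])).card = ((negSet D (w ++ [p])).image (D.reflectRoot p)).card :=
        (Finset.card_image_of_injOn hinj).symm
    _ ≤ ((negSet D w).erase (D.simple p)).card := Finset.card_le_card hsub
    _ < (negSet D w).card :=
        Finset.card_erase_lt_of_mem ((mem_negSet D w _).2 ⟨hF.simple_pos p hp, hneg⟩)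

theorem nGL_inv_conj_posExcept (i : ℕ) (hi : i < D.rank) (u : GL D.Idx F)
    (hu : u ∈ posExcept D F (D.simple i)) :
    (nGL D hF.xadd (D.simple i))⁻¹ * u * nGL D hF.xadd (D.simple i) ∈ posExcept D F (D.simple i) := by
  have h1 := hF.rootSubgroup_le_normalizer i hi _ (Or.inl rfl)
  have h2 := hF.rootSubgroup_le_normalizer i hi _ (Or.inr rfl)
  have hn : nGL D hF.xadd (D.simple i) ∈
      Subgroup.normalizer (posExcept D F (D.simple i) : Set (GL D.Idx F)) := by
    rw [nGL_eq_nGLt, nGLt_eq]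
    exact mul_mem (mul_mem (h1 ((mem_rootSubgroup_iff D hF.xadd _ _).2 ⟨_, rfl⟩))
      (h2 ((mem_rootSubgroup_iff D hF.xadd _ _).2 ⟨_, rfl⟩)))
      (h1 ((mem_rootSubgroup_iff D hF.xadd _ _).2 ⟨_, rfl⟩))
  have := (Subgroup.mem_normalizer_iff.1 (inv_mem hn) u).1 hu
  rwa [inv_inv] at this

/-- a word mapping the positive roots to positive roots: `n_w` normalises `U` into itself -/
theorem nWordGL_conj_mem_posUnipotent (w : List ℕ) (hw : ∀ i ∈ w, i < D.rank)
    (hpos : ∀ r, D.IsPosRoot r → D.IsPosRoot (reflWord D w r)) (u : GL D.Idx F)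
    (hu : u ∈ D.posUnipotent F) :
    nWordGL D hF.xadd w * u * (nWordGL D hF.xadd w)⁻¹ ∈ D.posUnipotent F := by
  have hle : D.posUnipotent F ≤
      (D.posUnipotent F).comap (MulAut.conj (nWordGL D hF.xadd w)).toMonoidHom := by
    unfold ChevalleyDatum.posUnipotent
    rw [Subgroup.closure_le]
    rintro x ⟨r, t, hr, hx⟩
    have e : x = xGL D hF.xadd r t := Units.ext (by rw [hx, xGL_val])
    refine Subgroup.mem_comap.2 ?_
    rw [MulEquiv.coe_toMonoidHom, MulAut.conj_apply, e, nWordGL_conj D hF.xadd (etaOf D) hF.nsimple w hw r hr.1]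
    exact Subgroup.subset_closure ⟨_, _, hpos r hr, xGL_val D hF.xadd _ _⟩
  exact hle hu

/-- conjugation by the fundamental `n_p` maps `U_{w p}⁻` into `U_w⁻` when `w p < 0` -/
theorem nGL_conj_negPart (w : List ℕ) (hw : ∀ i ∈ w, i < D.rank) (p : ℕ) (hp : p < D.rank)
    (hneg : D.IsNegRoot (reflWord D w (D.simple p))) (u : GL D.Idx F)
    (hu : u ∈ negPart D hF.xadd (w ++ [p])) :
    nGL D hF.xadd (D.simple p) * u * (nGL D hF.xadd (D.simple p))⁻¹ ∈ negPart D hF.xadd w := by
  have hle : negPart D hF.xadd (w ++ [p]) ≤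
      (negPart D hF.xadd w).comap (MulAut.conj (nGL D hF.xadd (D.simple p))).toMonoidHom := by
    unfold negPart
    rw [Subgroup.closure_le]
    rintro x ⟨r, t, hr1, hr2, rfl⟩
    refine Subgroup.mem_comap.2 ?_
    rw [MulEquiv.coe_toMonoidHom, MulAut.conj_apply, nGL_conj D hF.xadd p _ (hF.nsimple p hp) r hr1.1]
    rw [reflWord_snoc] at hr2
    have hrp : r ≠ D.simple p := by
      rintro rfl
      rw [reflectRoot_simple, reflWord_neg D (etaOf D) hF.facts w hw _ (hF.simple_lt p hp)] at hr2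
      exact hF.sign.not_both _ (hF.sign.pos_of_neg _ hneg) hr2
    exact Subgroup.subset_closure ⟨_, _, hF.refl.refl_pos p hp r hr1 hrp, hr2, rfl⟩
  exact hle hu

theorem negPart_le_posUnipotent (w : List ℕ) : negPart D hF.xadd w ≤ D.posUnipotent F := by
  unfold negPart
  rw [Subgroup.closure_le]
  rintro x ⟨r, t, hr1, hr2, rfl⟩
  exact xGL_mem_posUnipotent D hF.xadd r hr1 t

/-- `n_w U ⊆ B n_w U_w⁻` -/
theorem nWordGL_mul_posUnipotent (hS : CorSize D) (w : List ℕ) (hw : ∀ i ∈ w, i < D.rank)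
    (u : GL D.Idx F) (hu : u ∈ D.posUnipotent F) :
    ∃ b ∈ D.borelSubgroup F, ∃ u' ∈ negPart D hF.xadd w,
      nWordGL D hF.xadd w * u = b * nWordGL D hF.xadd w * u' := by
  induction h : (negSet D w).card using Nat.strong_induction_on generalizing w u with
  | _ n ih =>
    by_cases hall : ∀ j < D.rank, D.IsPosRoot (reflWord D w (D.simple j))
    · have hpos := reflWord_pos_of_simple D (etaOf D) hF.facts hF.refl hS hF.simple_lt w hw hall
      refine ⟨_, posUnipotent_le_borel D (hF.nWordGL_conj_mem_posUnipotent w hw hpos u hu), 1, one_mem _, ?_⟩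
      group
    · push Not at hall
      obtain ⟨p, hp, hnp⟩ := hall
      have hneg : D.IsNegRoot (reflWord D w (D.simple p)) := by
        rcases hF.sign.pos_or_neg _ (reflWord_lt D (etaOf D) hF.facts w hw _ (hF.simple_lt p hp)) with h1 | h1
        · exact absurd h1 hnp
        · exact h1
      have hw' : ∀ i ∈ w ++ [p], i < D.rank := by
        intro i hi
        rcases List.mem_append.1 hi with h1 | h1
        · exact hw i h1
        · rw [List.mem_singleton.1 h1]; exact hp
      have hlt := hF.card_negSet_snoc_lt w hw p hp hneg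
      obtain ⟨u₁, hu₁, t, rfl⟩ := (hF.mem_posUnipotent_iff p hp u).1 hu
      have hu₂ := hF.nGL_inv_conj_posExcept p hp u₁ hu₁
      obtain ⟨b, hb, u₃, hu₃, e⟩ := ih _ (h ▸ hlt) (w ++ [p]) hw' _
        (hF.posExcept_le_posUnipotent p hp hu₂) rfl
      have en : nWordGL D hF.xadd (w ++ [p]) = nWordGL D hF.xadd w * nGL D hF.xadd (D.simple p) := by
        rw [nWordGL_append, nWordGL_cons, nWordGL_nil, mul_one]
      rw [en] at e
      refine ⟨b, hb, nGL D hF.xadd (D.simple p) * u₃ * (nGL D hF.xadd (D.simple p))⁻¹ *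
        xGL D hF.xadd (D.simple p) t,
        mul_mem (hF.nGL_conj_negPart w hw p hp hneg u₃ hu₃)
          (Subgroup.subset_closure ⟨_, t, hF.simple_pos p hp, hneg, rfl⟩), ?_⟩
      have e1 : nWordGL D hF.xadd w * (u₁ * xGL D hF.xadd (D.simple p) t) =
          (nWordGL D hF.xadd w * nGL D hF.xadd (D.simple p) *
            ((nGL D hF.xadd (D.simple p))⁻¹ * u₁ * nGL D hF.xadd (D.simple p))) *
              ((nGL D hF.xadd (D.simple p))⁻¹ * xGL D hF.xadd (D.simple p) t) := by group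
      rw [e1, e]
      group

/-- `H` normalises `U_w⁻` -/
theorem diagonal_conj_negPart (w : List ℕ) (h : GL D.Idx F) (hh : h ∈ D.diagonalSubgroup F)
    (u : GL D.Idx F) (hu : u ∈ negPart D hF.xadd w) : h * u * h⁻¹ ∈ negPart D hF.xadd w := by
  have hle : negPart D hF.xadd w ≤ (negPart D hF.xadd w).comap (MulAut.conj h).toMonoidHom := by
    unfold negPart
    rw [Subgroup.closure_le]
    rintro x ⟨r, t, hr1, hr2, rfl⟩
    refine Subgroup.mem_comap.2 ?_
    obtain ⟨c, _, hc⟩ := hF.diagonal_conj_xGL h hh r hr1.1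
    rw [MulEquiv.coe_toMonoidHom, MulAut.conj_apply, hc]
    exact Subgroup.subset_closure ⟨_, _, hr1, hr2, rfl⟩
  exact hle hu

/-- existence of the sharp Bruhat form -/
theorem exists_bruhat (hS : CorSize D) (g : GL D.Idx F) (hg : g ∈ D.group F) :
    ∃ b ∈ D.borelSubgroup F, ∃ w : List ℕ, (∀ i ∈ w, i < D.rank) ∧ ∃ u ∈ negPart D hF.xadd w,
      g = b * nWordGL D hF.xadd w * u := by
  obtain ⟨n, hn, hgn⟩ := Cfsg.Agent.S0308.result hF.bnPair ⟨g, hg⟩
  obtain ⟨b₁, hb₁, b₂, hb₂, e⟩ := DoubleCoset.mem_doubleCoset.1 hgn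
  have hb₁' : (b₁ : GL D.Idx F) ∈ D.borelSubgroup F := hb₁
  have hb₂' : (b₂ : GL D.Idx F) ∈ D.borelSubgroup F := hb₂
  have hn' : (n : GL D.Idx F) ∈ D.monomialSubgroup F := hn
  have e' : g = (b₁ : GL D.Idx F) * n * b₂ := by
    have := congrArg Subtype.val e
    simpa using this
  obtain ⟨h, hh, w, hw, en⟩ :=
    exists_word_of_mem_monomial D hF.xadd (etaOf D) hF.nsimple hF.simple_lt hF.orbit _ hn'
  obtain ⟨u₂, hu₂, h₂, hh₂, eb⟩ := (hF.mem_borel_iff _).1 hb₂'
  obtain ⟨b, hb, u', hu', e3⟩ := hF.nWordGL_mul_posUnipotent hS w hw u₂ hu₂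
  have hc := nWordGL_conj_mem_diagonal D hF.xadd (etaOf D) hF.nsimple w hw h₂ hh₂
  have hu'' := hF.diagonal_conj_negPart w h₂⁻¹ (inv_mem hh₂) u' hu'
  rw [inv_inv] at hu''
  refine ⟨(b₁ : GL D.Idx F) * h * b * (nWordGL D hF.xadd w * h₂ * (nWordGL D hF.xadd w)⁻¹),
    mul_mem (mul_mem (mul_mem hb₁' (diagonal_le_borel D hh)) hb) (diagonal_le_borel D hc),
    w, hw, _, hu'', ?_⟩
  rw [e', en, eb]
  have e4 : (b₁ : GL D.Idx F) * (h * nWordGL D hF.xadd w) * (u₂ * h₂) =
      (b₁ : GL D.Idx F) * h * (nWordGL D hF.xadd w * u₂) * h₂ := by group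
  rw [e4, e3]
  group

end ChevFacts

end Cfsg.Agent.Lead.Chev
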