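import Mathlib
import Cfsg.Agent.Lib.Lead.ChevBruhat

/-!
The canonical form `g = b n u` in the shape of the statement, with uniqueness.
-/

set_option autoImplicit false
set_option linter.unusedSectionVars false
set_option linter.unusedSimpArgs false
set_option linter.unusedVariables false

namespace Cfsg.Agent.Lead.Chev

open Cfsg Cfsg.Lie

variable {F : Type*} [Field F]

/-- `U_n⁻` in the shape of the statement -/
def negPartN (D : ChevalleyDatum) (F : Type*) [Field F] (n : GL D.Idx F) : Subgroup (GL D.Idx F) :=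
  Subgroup.closure {x : GL D.Idx F | ∃ (r : ℕ) (t : F), D.IsPosRoot r ∧
    (D.rootSubgroup F r).map (MulAut.conj n).toMonoidHom ≤ D.negUnipotent F ∧
      (x : Matrix D.Idx D.Idx F) = D.x F r t}

namespace ChevFacts

variable {D : ChevalleyDatum} (hF : ChevFacts D F)
include hF

theorem negPart_le_negPartN (w : List ℕ) (hw : ∀ i ∈ w, i < D.rank) :
    negPart D hF.xadd w ≤ negPartN D F (nWordGL D hF.xadd w) := by
  unfold negPart negPartN
  rw [Subgroup.closure_le]
  rintro x ⟨r, t, hr1, hr2, rfl⟩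
  refine Subgroup.subset_closure ⟨r, t, hr1, ?_, xGL_val D hF.xadd r t⟩
  rintro y ⟨x, hx, rfl⟩
  obtain ⟨s, rfl⟩ := (mem_rootSubgroup_iff D hF.xadd r x).1 hx
  rw [MulEquiv.coe_toMonoidHom, MulAut.conj_apply, nWordGL_conj D hF.xadd (etaOf D) hF.nsimple w hw r hr1.1]
  exact Subgroup.subset_closure ⟨_, _, hr2, xGL_val D hF.xadd _ _⟩

theorem negPartN_le_posUnipotent (n : GL D.Idx F) : negPartN D F n ≤ D.posUnipotent F := by
  unfold negPartN ChevalleyDatum.posUnipotent
  apply Subgroup.closure_mono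
  rintro x ⟨r, t, hr, _, hx⟩
  exact ⟨r, t, hr, hx⟩

theorem conj_negPartN_mem (n : GL D.Idx F) (u : GL D.Idx F) (hu : u ∈ negPartN D F n) :
    n * u * n⁻¹ ∈ D.negUnipotent F := by
  have hle : negPartN D F n ≤ (D.negUnipotent F).comap (MulAut.conj n).toMonoidHom := by
    unfold negPartN
    rw [Subgroup.closure_le]
    rintro x ⟨r, t, hr, hmap, hx⟩
    refine Subgroup.mem_comap.2 (hmap ⟨x, ?_, rfl⟩)
    exact Subgroup.subset_closure ⟨t, hx⟩
  have := hle hu
  rwa [Subgroup.mem_comap, MulEquiv.coe_toMonoidHom, MulAut.conj_apply] at this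

/-- existence of the canonical form -/
theorem exists_canonical (hS : CorSize D) (g : GL D.Idx F) (hg : g ∈ D.group F) :
    ∃ b ∈ D.borelSubgroup F, ∃ n ∈ D.monomialSubgroup F, ∃ u ∈ negPartN D F n, g = b * n * u := by
  obtain ⟨b, hb, w, hw, u, hu, e⟩ := hF.exists_bruhat hS g hg
  exact ⟨b, hb, _, nWordGL_mem_monomial D hF.xadd hF.simple_lt w hw, u, hF.negPart_le_negPartN w hw hu, e⟩

/-- uniqueness of the canonical form -/
theorem canonical_unique (b b' n n' u u' : GL D.Idx F) (hb : b ∈ D.borelSubgroup F)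
    (hb' : b' ∈ D.borelSubgroup F) (hn : n ∈ D.monomialSubgroup F) (hn' : n' ∈ D.monomialSubgroup F)
    (hu : u ∈ negPartN D F n) (hu' : u' ∈ negPartN D F n') (e : b * n * u = b' * n' * u') :
    n⁻¹ * n' ∈ D.diagonalSubgroup F ∧ (n = n' → b = b' ∧ u = u') := by
  have huB : u ∈ D.borelSubgroup F := posUnipotent_le_borel D (hF.negPartN_le_posUnipotent n hu)
  have hu'B : u' ∈ D.borelSubgroup F := posUnipotent_le_borel D (hF.negPartN_le_posUnipotent n' hu')
  constructor
  · set P := hF.bnPair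
    have hnG := hF.monomial_le_group hn
    have hn'G := hF.monomial_le_group hn'
    have hbG := hF.borel_le_group hb
    have hb'G := hF.borel_le_group hb'
    have huG := hF.borel_le_group huB
    have hu'G := hF.borel_le_group hu'B
    have h1 : (⟨b * n * u, mul_mem (mul_mem hbG hnG) huG⟩ : ↥(D.group F)) ∈
        DoubleCoset.doubleCoset (⟨n, hnG⟩ : ↥(D.group F)) (P.B : Set ↥(D.group F)) P.B :=
      DoubleCoset.mem_doubleCoset.2 ⟨⟨b, hbG⟩, hb, ⟨u, huG⟩, huB, rfl⟩
    have h2 : (⟨b * n * u, mul_mem (mul_mem hbG hnG) huG⟩ : ↥(D.group F)) ∈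
        DoubleCoset.doubleCoset (⟨n', hn'G⟩ : ↥(D.group F)) (P.B : Set ↥(D.group F)) P.B :=
      DoubleCoset.mem_doubleCoset.2 ⟨⟨b', hb'G⟩, hb', ⟨u', hu'G⟩, hu'B, Subtype.ext e⟩
    have h3 := (DoubleCoset.doubleCoset_eq_of_mem h1).symm.trans (DoubleCoset.doubleCoset_eq_of_mem h2)
    have h4 := (Cfsg.Agent.S0309.result P (n := ⟨n, hnG⟩) (n' := ⟨n', hn'G⟩) hn hn').1 h3
    have h5 : n⁻¹ * n' ∈ D.borelSubgroup F := h4
    have h7 : n⁻¹ * n' ∈ D.monomialSubgroup F := mul_mem (inv_mem hn) hn'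
    have h6 : n⁻¹ * n' ∈ D.borelSubgroup F ⊓ D.monomialSubgroup F := ⟨h5, h7⟩
    rwa [hF.borel_inf_monomial] at h6
  · rintro rfl
    have h1 : n * (u * u'⁻¹) * n⁻¹ ∈ D.negUnipotent F :=
      hF.conj_negPartN_mem n _ (mul_mem hu (inv_mem hu'))
    have e1 : n * (u * u'⁻¹) * n⁻¹ = b⁻¹ * b' := by
      have : n * u = b⁻¹ * b' * n * u' := by
        have h0 : b⁻¹ * (b * n * u) = b⁻¹ * (b' * n * u') := congrArg (fun x => b⁻¹ * x) e
        calc n * u = b⁻¹ * (b * n * u) := by group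
          _ = b⁻¹ * (b' * n * u') := h0
          _ = b⁻¹ * b' * n * u' := by group
      calc n * (u * u'⁻¹) * n⁻¹ = (n * u) * u'⁻¹ * n⁻¹ := by group
        _ = b⁻¹ * b' := by rw [this]; group
    have h8 : b⁻¹ * b' ∈ D.borelSubgroup F := mul_mem (inv_mem hb) hb'
    rw [← e1] at h8
    have h2 : n * (u * u'⁻¹) * n⁻¹ ∈ D.borelSubgroup F ⊓ D.negUnipotent F := ⟨h8, h1⟩
    rw [hF.borel_inf_negUnipotent, Subgroup.mem_bot] at h2
    have hbb : b = b' := by
      rw [h2] at e1
      exact inv_mul_eq_one.1 e1.symm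
    have huu : u = u' := by
      have : u * u'⁻¹ = 1 := by
        calc u * u'⁻¹ = n⁻¹ * (n * (u * u'⁻¹) * n⁻¹) * n := by group
          _ = 1 := by rw [h2]; group
      exact mul_inv_eq_one.1 this
    exact ⟨hbb, huu⟩

end ChevFacts

theorem corSize_of_mem (D : ChevalleyDatum)
    (hD : D ∈ [chevG2, chevB2, chevD4, chevF4, chevE6, chevE7, chevE8]) : CorSize D := by
  simp only [List.mem_cons, List.not_mem_nil, or_false] at hD
  rcases hD with rfl | rfl | rfl | rfl | rfl | rfl | rfl <;> decide +kernel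

end Cfsg.Agent.Lead.Chev
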