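import Mathlib
import Cfsg.Agent.Lib.Lead.ChevU3

/-!
Subgroups of `U` generated by the root subgroups of a closed set `Ψ` of positive roots: every element is
uniquely an ordered product over `Ψ`; the order of the subgroup is `q^|Ψ|`.
-/

set_option autoImplicit false
set_option linter.unusedSectionVars false
set_option linter.unusedSimpArgs false
set_option linter.unusedVariables false

namespace Cfsg.Agent.Lead.Chev

open Cfsg Cfsg.Lie

variable {F : Type*} [Field F]

theorem prodL_filter (D : ChevalleyDatum) (hzero : ∀ r < D.nroots, D.x F r (0 : F) = 1)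
    (P : ℕ → Bool) (L : List ℕ) (hL : ∀ s ∈ L, s < D.nroots) (t : ℕ → F) :
    prodL D (L.filter P) t = prodL D L (fun r => if P r then t r else 0) := by
  induction L with
  | nil => rfl
  | cons r L ih =>
    have hL' : ∀ s ∈ L, s < D.nroots := fun s hs => hL s (List.mem_cons_of_mem _ hs)
    rw [List.filter_cons]
    by_cases hp : P r = true
    · rw [if_pos hp, prodL_cons, prodL_cons, ih hL']
      simp [hp]
    · rw [if_neg hp, prodL_cons, ih hL']
      simp only [hp]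
      rw [if_neg (by simp), hzero r (hL r List.mem_cons_self), one_mul]

/-- a set of positive roots closed under the commutator formula -/
def ClosedPsi (D : ChevalleyDatum) (Ψ : ℕ → Bool) : Prop :=
  ∀ r s, D.IsPosRoot r → D.IsPosRoot s → r < s → Ψ r = true → Ψ s = true → ∀ c ∈ D.commTerms r s, Ψ c.1 = true

/-- the positive roots in `Ψ` with index at least `lo`, in increasing order -/
def subFrom (D : ChevalleyDatum) (Ψ : ℕ → Bool) (lo : ℕ) : List ℕ :=
  (posFrom D lo).filter Ψ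

theorem mem_subFrom (D : ChevalleyDatum) (Ψ : ℕ → Bool) (lo s : ℕ) :
    s ∈ subFrom D Ψ lo ↔ lo ≤ s ∧ D.IsPosRoot s ∧ Ψ s = true := by
  unfold subFrom
  rw [List.mem_filter, mem_posFrom, and_assoc]

theorem subFrom_ge (D : ChevalleyDatum) (Ψ : ℕ → Bool) (lo : ℕ) (h : D.nroots ≤ lo) : subFrom D Ψ lo = [] := by
  unfold subFrom
  rw [posFrom_ge D lo h]
  rfl

theorem subFrom_lt (D : ChevalleyDatum) (Ψ : ℕ → Bool) (lo : ℕ) (h : lo < D.nroots) :
    subFrom D Ψ lo = if D.IsPosRoot lo ∧ Ψ lo = true then lo :: subFrom D Ψ (lo + 1) else subFrom D Ψ (lo + 1) := by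
  unfold subFrom
  rw [posFrom_lt D lo h]
  by_cases hp : D.IsPosRoot lo
  · rw [if_pos hp, List.filter_cons]
    by_cases hq : Ψ lo = true
    · simp [hp, hq]
    · simp [hp, hq]
  · rw [if_neg hp]
    simp [hp]

theorem closed_subFrom (D : ChevalleyDatum)
    (hadd : ∀ r < D.nroots, ∀ t₁ t₂ : F, D.x F r t₁ * D.x F r t₂ = D.x F r (t₁ + t₂))
    (hzero : ∀ r < D.nroots, D.x F r (0 : F) = 1)
    (hcomm : ∀ r < D.nroots, ∀ s < D.nroots, s ≠ r → s ≠ D.neg r → CommOK D F r s)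
    (hP : PosComm D) (Ψ : ℕ → Bool) (hΨ : ClosedPsi D Ψ) (k : ℕ) :
    ClosedL D F (subFrom D Ψ (D.nroots - k)) := by
  induction k with
  | zero =>
    rw [Nat.sub_zero, subFrom_ge D Ψ _ le_rfl]
    intro t s hs
    simp at hs
  | succ k ih =>
    by_cases hk : D.nroots ≤ k
    · have : D.nroots - (k + 1) = D.nroots - k := by omega
      rw [this]
      exact ih
    · have hlo : D.nroots - (k + 1) < D.nroots := by omega
      have e : D.nroots - (k + 1) + 1 = D.nroots - k := by omega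
      rw [subFrom_lt D Ψ _ hlo, e]
      by_cases hp : D.IsPosRoot (D.nroots - (k + 1)) ∧ Ψ (D.nroots - (k + 1)) = true
      · rw [if_pos hp]
        set lo := D.nroots - (k + 1) with hlo'
        apply closed_cons D lo _ hlo
          (fun s hs => ((mem_subFrom D Ψ _ s).1 hs).2.1.1)
          (fun h => by have := ((mem_subFrom D Ψ _ lo).1 h).1; omega) hadd hzero ih
        intro s hs a b
        obtain ⟨hs1, hs2, hs3⟩ := (mem_subFrom D Ψ _ s).1 hs
        have hlt : lo < s := by omega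
        obtain ⟨hne, hroots⟩ := hP lo s hp.1 hs2 hlt
        refine ⟨D.commWord F lo s a b, ?_, hcomm lo hlo s hs2.1 (by omega) hne a b⟩
        intro q hq
        unfold ChevalleyDatum.commWord at hq
        obtain ⟨c, hc, rfl⟩ := List.mem_map.1 hq
        obtain ⟨h1, h2⟩ := hroots c hc
        exact (mem_subFrom D Ψ _ _).2 ⟨by simp only; omega, h1, hΨ lo s hp.1 hs2 hlt hp.2 hs3 c hc⟩
      · rw [if_neg hp]
        exact ih

/-- the subgroup generated by the root subgroups of `Ψ` -/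
def subGrp (D : ChevalleyDatum) (F : Type*) [Field F] (Ψ : ℕ → Bool) : Subgroup (GL D.Idx F) :=
  Subgroup.closure {g | ∃ (r : ℕ) (t : F), D.IsPosRoot r ∧ Ψ r = true ∧ (g : Matrix D.Idx D.Idx F) = D.x F r t}

theorem subFrom_zero_eq (D : ChevalleyDatum) (Ψ : ℕ → Bool) (k : ℕ) (hk : D.nroots ≤ k) :
    subFrom D Ψ (D.nroots - k) = subFrom D Ψ 0 := by
  have : D.nroots - k = 0 := by omega
  rw [this]

/-- every element of the subgroup is an ordered product -/
theorem exists_prodL_of_mem_subGrp (D : ChevalleyDatum)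
    (hadd : ∀ r < D.nroots, ∀ t₁ t₂ : F, D.x F r t₁ * D.x F r t₂ = D.x F r (t₁ + t₂))
    (hzero : ∀ r < D.nroots, D.x F r (0 : F) = 1)
    (hcomm : ∀ r < D.nroots, ∀ s < D.nroots, s ≠ r → s ≠ D.neg r → CommOK D F r s)
    (hP : PosComm D) (Ψ : ℕ → Bool) (hΨ : ClosedPsi D Ψ) (g : GL D.Idx F) (hg : g ∈ subGrp D F Ψ) :
    ∃ t : ℕ → F, (g : Matrix D.Idx D.Idx F) = prodL D (subFrom D Ψ 0) t := by
  have hcl : ClosedL D F (subFrom D Ψ 0) := by
    have := closed_subFrom D hadd hzero hcomm hP Ψ hΨ D.nroots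
    rwa [Nat.sub_self] at this
  have hmem : ∀ r, D.IsPosRoot r → Ψ r = true → r ∈ subFrom D Ψ 0 := by
    intro r hr hr'
    rw [mem_subFrom]
    exact ⟨Nat.zero_le _, hr, hr'⟩
  unfold subGrp at hg
  induction hg using Subgroup.closure_induction_right with
  | one =>
    refine ⟨fun _ => 0, ?_⟩
    rw [prodL_zero D _ (fun s hs => ?_) hzero]
    · rfl
    · rw [mem_subFrom] at hs
      exact hs.2.1.1
  | mul_right x hx y hy ih =>
    obtain ⟨t, ht⟩ := ih
    obtain ⟨r, a, hr, hr', hya⟩ := hy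
    obtain ⟨t', ht'⟩ := hcl t r (hmem r hr hr') a
    exact ⟨t', by rw [Units.val_mul, ht, hya, ht']⟩
  | mul_inv_cancel x hx y hy ih =>
    obtain ⟨t, ht⟩ := ih
    obtain ⟨r, a, hr, hr', hya⟩ := hy
    obtain ⟨t', ht'⟩ := hcl t r (hmem r hr hr') (-a)
    refine ⟨t', ?_⟩
    have hinv : ((y⁻¹ : GL D.Idx F) : Matrix D.Idx D.Idx F) = D.x F r (-a) := by
      have h1 : (y : Matrix D.Idx D.Idx F) * D.x F r (-a) = 1 := by
        rw [hya, hadd r hr.1, add_neg_cancel, hzero r hr.1]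
      have h2 : ((y⁻¹ : GL D.Idx F) : Matrix D.Idx D.Idx F) * (y : Matrix D.Idx D.Idx F) = 1 := by
        rw [← Units.val_mul, inv_mul_cancel, Units.val_one]
      calc ((y⁻¹ : GL D.Idx F) : Matrix D.Idx D.Idx F)
          = ((y⁻¹ : GL D.Idx F) : Matrix D.Idx D.Idx F) * ((y : Matrix D.Idx D.Idx F) * D.x F r (-a)) := by
            rw [h1, mul_one]
        _ = D.x F r (-a) := by rw [← mul_assoc, h2, one_mul]
    rw [Units.val_mul, ht, hinv, ht']

/-- ordered products lie in the subgroup -/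
theorem exists_mem_subGrp_of_word (D : ChevalleyDatum)
    (hadd : ∀ r < D.nroots, ∀ t₁ t₂ : F, D.x F r t₁ * D.x F r t₂ = D.x F r (t₁ + t₂))
    (hzero : ∀ r < D.nroots, D.x F r (0 : F) = 1) (Ψ : ℕ → Bool) (w : List (ℕ × F))
    (hw : ∀ q ∈ w, D.IsPosRoot q.1 ∧ Ψ q.1 = true) :
    ∃ g : GL D.Idx F, g ∈ subGrp D F Ψ ∧ (g : Matrix D.Idx D.Idx F) = D.wordMat F w := by
  induction w with
  | nil => exact ⟨1, Subgroup.one_mem _, by rw [wordMat_nil]; rfl⟩
  | cons q w ih =>
    obtain ⟨g, hg, hgw⟩ := ih (fun q' hq' => hw q' (List.mem_cons_of_mem _ hq'))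
    have hq := hw q List.mem_cons_self
    let y : GL D.Idx F := ⟨D.x F q.1 q.2, D.x F q.1 (-q.2),
      by rw [hadd q.1 hq.1.1, add_neg_cancel, hzero q.1 hq.1.1],
      by rw [hadd q.1 hq.1.1, neg_add_cancel, hzero q.1 hq.1.1]⟩
    have hy : y ∈ subGrp D F Ψ := Subgroup.subset_closure ⟨q.1, q.2, hq.1, hq.2, rfl⟩
    exact ⟨y * g, Subgroup.mul_mem _ hy hg, by rw [Units.val_mul, hgw, wordMat_cons]⟩

theorem exists_mem_subGrp_of_prodL (D : ChevalleyDatum)
    (hadd : ∀ r < D.nroots, ∀ t₁ t₂ : F, D.x F r t₁ * D.x F r t₂ = D.x F r (t₁ + t₂))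
    (hzero : ∀ r < D.nroots, D.x F r (0 : F) = 1) (Ψ : ℕ → Bool) (t : ℕ → F) :
    ∃ g : GL D.Idx F, g ∈ subGrp D F Ψ ∧ (g : Matrix D.Idx D.Idx F) = prodL D (subFrom D Ψ 0) t := by
  apply exists_mem_subGrp_of_word D hadd hzero Ψ
  intro q hq
  obtain ⟨r, hr, rfl⟩ := List.mem_map.1 hq
  exact ((mem_subFrom D Ψ 0 r).1 hr).2

/-- uniqueness of the parameters -/
theorem prodL_subFrom_inj (D : ChevalleyDatum) (hU : UFacts D)
    (hadd : ∀ r < D.nroots, ∀ t₁ t₂ : F, D.x F r t₁ * D.x F r t₂ = D.x F r (t₁ + t₂))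
    (hzero : ∀ r < D.nroots, D.x F r (0 : F) = 1) (Ψ : ℕ → Bool) (t t' : ℕ → F)
    (h : prodL D (subFrom D Ψ 0) t = prodL D (subFrom D Ψ 0) t') :
    ∀ r ∈ subFrom D Ψ 0, t r = t' r := by
  intro r hr
  have hL : ∀ s ∈ posFrom D 0, s < D.nroots := fun s hs => ((mem_posFrom D 0 s).1 hs).2.1
  unfold subFrom at h
  rw [prodL_filter D hzero _ _ hL, prodL_filter D hzero _ _ hL, posFrom_zero] at h
  have h1 := prodL_posRoots_inj D hU hadd hzero _ _ h r ((mem_subFrom D Ψ 0 r).1 hr).2.1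
  have h2 : Ψ r = true := ((mem_subFrom D Ψ 0 r).1 hr).2.2
  simpa [h2] using h1

theorem subFrom_nodup (D : ChevalleyDatum) (Ψ : ℕ → Bool) (lo : ℕ) : (subFrom D Ψ lo).Nodup := by
  unfold subFrom posFrom
  exact (List.Nodup.filter _ List.nodup_range').filter _

/-- the order of the subgroup -/
theorem card_subGrp [Fintype F] (D : ChevalleyDatum) (hU : UFacts D)
    (hadd : ∀ r < D.nroots, ∀ t₁ t₂ : F, D.x F r t₁ * D.x F r t₂ = D.x F r (t₁ + t₂))
    (hzero : ∀ r < D.nroots, D.x F r (0 : F) = 1)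
    (hcomm : ∀ r < D.nroots, ∀ s < D.nroots, s ≠ r → s ≠ D.neg r → CommOK D F r s)
    (hP : PosComm D) (Ψ : ℕ → Bool) (hΨ : ClosedPsi D Ψ) :
    Nat.card (subGrp D F Ψ) = Fintype.card F ^ (subFrom D Ψ 0).length := by
  classical
  set L := subFrom D Ψ 0 with hL
  let T := {r : ℕ // r ∈ L}
  let ext0 : (T → F) → ℕ → F := fun f r => if h : r ∈ L then f ⟨r, h⟩ else 0
  have hex : ∀ f : T → F, ∃ g : subGrp D F Ψ,
      ((g : GL D.Idx F) : Matrix D.Idx D.Idx F) = prodL D L (ext0 f) := by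
    intro f
    obtain ⟨g, hg, hgm⟩ := exists_mem_subGrp_of_prodL D hadd hzero Ψ (ext0 f)
    exact ⟨⟨g, hg⟩, hgm⟩
  choose Φ hΦ using hex
  have hinj : Function.Injective Φ := by
    intro f f' hff
    have e1 := hΦ f
    have e2 := hΦ f'
    rw [hff] at e1
    have := prodL_subFrom_inj D hU hadd hzero Ψ _ _ (e1.symm.trans e2)
    funext ⟨r, hr⟩
    have h3 := this r hr
    simpa [ext0, hr] using h3
  have hsurj : Function.Surjective Φ := by
    intro g
    obtain ⟨t, ht⟩ := exists_prodL_of_mem_subGrp D hadd hzero hcomm hP Ψ hΨ (g : GL D.Idx F) g.2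
    refine ⟨fun r => t r.val, ?_⟩
    apply Subtype.ext
    apply Units.ext
    rw [hΦ, ht]
    apply prodL_congr
    intro r hr
    simp [ext0, hr]
  have hcard := Nat.card_congr (Equiv.ofBijective Φ ⟨hinj, hsurj⟩)
  rw [← hcard, Nat.card_fun, Nat.card_eq_fintype_card (α := F)]
  congr 1
  have e : T ≃ (L.toFinset : Finset ℕ) := Equiv.subtypeEquivRight (fun r => by simp)
  rw [Nat.card_congr e, Nat.card_eq_fintype_card, Fintype.card_coe,
    List.toFinset_card_of_nodup (subFrom_nodup D Ψ 0)]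

end Cfsg.Agent.Lead.Chev
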