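import Mathlib
import Cfsg.Agent.Lib.Lead.ChevSub
import Cfsg.Agent.Lib.Lead.ChevBruhat

/-!
The subgroup `U_w⁻` has order `q^{N(w)}`.
-/

set_option autoImplicit false
set_option linter.unusedSectionVars false
set_option linter.unusedSimpArgs false
set_option linter.unusedVariables false

namespace Cfsg.Agent.Lead.Chev

open Cfsg Cfsg.Lie

theorem isNegRoot_of_cv (D : ChevalleyDatum) (hS : CorSize D) (r : ℕ) (hr : r < D.nroots)
    (h : ∀ k < D.rank, cv D r k ≤ 0) : D.IsNegRoot r := by
  refine ⟨hr, ?_⟩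
  intro c hc
  rw [Array.mem_toList_iff, Array.mem_iff_getElem] at hc
  obtain ⟨k, hk, rfl⟩ := hc
  have := h k (by rw [← hS r hr]; exact hk)
  unfold cv at this
  rwa [Array.getD_eq_getD_getElem?, Array.getElem?_eq_getElem hk, Option.getD_some] at this

/-- the coefficient triples of the coroot of `i r + j s` on the coroots of `r` and `s` -/
def combTriples : List (ℤ × ℤ × ℤ) :=
  [(1, 1, 1), (1, 2, 1), (1, 1, 2), (2, 1, 1), (1, 3, 1), (1, 1, 3), (1, 3, 2), (1, 2, 3), (3, 2, 1), (3, 1, 2),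
    (3, 1, 1)]

/-- the test of `CorComb` for one pair -/
def corCombChk (D : ChevalleyDatum) (r s : ℕ) : Bool :=
  !(decide (D.IsPosRoot r) && decide (D.IsPosRoot s) && decide (r < s)) ||
    (D.commTerms r s).all fun c => combTriples.any fun T =>
      (List.range D.rank).all fun k => T.1 * cv D c.1 k == T.2.1 * cv D r k + T.2.2 * cv D s k

/-- the coroot of a root of the commutator formula is a positive combination of the coroots of `r` and `s` -/
def CorComb (D : ChevalleyDatum) : Prop :=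
  ∀ r s, D.IsPosRoot r → D.IsPosRoot s → r < s → ∀ c ∈ D.commTerms r s,
    ∃ κ α β : ℤ, 0 < κ ∧ 0 ≤ α ∧ 0 ≤ β ∧ ∀ k < D.rank, κ * cv D c.1 k = α * cv D r k + β * cv D s k

theorem corComb_of_chk (D : ChevalleyDatum)
    (h : ∀ r < D.nroots, ∀ s < D.nroots, corCombChk D r s = true) : CorComb D := by
  intro r s hr hs hlt c hc
  have := h r hr.1 s hs.1
  simp only [corCombChk, Bool.or_eq_true, Bool.not_eq_true', Bool.and_eq_false_iff,
    decide_eq_false_iff_not, List.all_eq_true, List.any_eq_true, List.mem_range, beq_iff_eq] at this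
  rcases this with ((h1 | h1) | h1) | h1
  · exact absurd hr h1
  · exact absurd hs h1
  · exact absurd hlt h1
  · obtain ⟨T, hT, hk⟩ := h1 c hc
    refine ⟨T.1, T.2.1, T.2.2, ?_, ?_, ?_, hk⟩
    all_goals
      unfold combTriples at hT
      simp only [List.mem_cons, List.not_mem_nil, or_false] at hT
      rcases hT with rfl | rfl | rfl | rfl | rfl | rfl | rfl | rfl | rfl | rfl | rfl <;> norm_num

/-- the indicator of the positive roots made negative by `w` -/
def psiW (D : ChevalleyDatum) (w : List ℕ) : ℕ → Bool := fun r => decide (D.IsNegRoot (reflWord D w r))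

theorem closedPsi_psiW (D : ChevalleyDatum) (η : ℕ → ℕ → ℤ) (hfa : ∀ i < D.rank, NXFacts D (η i) i)
    (hR : ReflFacts D) (hS : CorSize D) (hsl : ∀ i < D.rank, D.simple i < D.nroots) (hP : PosComm D)
    (hC : CorComb D) (w : List ℕ) (hw : ∀ i ∈ w, i < D.rank) : ClosedPsi D (psiW D w) := by
  intro r s hr hs hlt hΨr hΨs c hc
  unfold psiW at hΨr hΨs ⊢
  rw [decide_eq_true_eq] at hΨr hΨs ⊢
  obtain ⟨κ, α, β, hκ, hα, hβ, hk⟩ := hC r s hr hs hlt c hc
  have hcpos := ((hP r s hr hs hlt).2 c hc).1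
  apply isNegRoot_of_cv D hS _ (reflWord_lt D η hfa w hw _ hcpos.1)
  intro k hk'
  have e1 := cv_reflWord D η hfa hR hsl w hw c.1 hcpos.1 k hk'
  have e2 := cv_reflWord D η hfa hR hsl w hw r hr.1 k hk'
  have e3 := cv_reflWord D η hfa hR hsl w hw s hs.1 k hk'
  have h1 : κ * cv D (reflWord D w c.1) k = α * cv D (reflWord D w r) k + β * cv D (reflWord D w s) k := by
    rw [e1, e2, e3, Finset.mul_sum, Finset.mul_sum, Finset.mul_sum, ← Finset.sum_add_distrib]
    apply Finset.sum_congr rfl
    intro j hj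
    have := hk j (Finset.mem_range.1 hj)
    calc κ * (cv D c.1 j * cv D (reflWord D w (D.simple j)) k)
        = (κ * cv D c.1 j) * cv D (reflWord D w (D.simple j)) k := by ring
      _ = _ := by rw [this]; ring
  have h2 : κ * cv D (reflWord D w c.1) k ≤ 0 := by
    rw [h1]
    have a1 := mul_nonpos_of_nonneg_of_nonpos hα (cv_nonpos D _ hΨr k)
    have a2 := mul_nonpos_of_nonneg_of_nonpos hβ (cv_nonpos D _ hΨs k)
    linarith
  by_contra hpos
  push Not at hpos
  have := mul_pos hκ hpos
  linarith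

variable {F : Type*} [Field F]

theorem negPart_eq_subGrp (D : ChevalleyDatum) (hX : XAdd D F) (w : List ℕ) :
    negPart D hX w = subGrp D F (psiW D w) := by
  unfold negPart subGrp
  congr 1
  ext g
  constructor
  · rintro ⟨r, t, hr1, hr2, rfl⟩
    exact ⟨r, t, hr1, by unfold psiW; rw [decide_eq_true_eq]; exact hr2, xGL_val D hX r t⟩
  · rintro ⟨r, t, hr1, hr2, hg⟩
    unfold psiW at hr2
    rw [decide_eq_true_eq] at hr2
    exact ⟨r, t, hr1, hr2, Units.ext (by rw [hg, xGL_val])⟩

theorem length_subFrom_psiW (D : ChevalleyDatum) (w : List ℕ) :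
    (subFrom D (psiW D w) 0).length = (negSet D w).card := by
  rw [← List.toFinset_card_of_nodup (subFrom_nodup D _ 0)]
  congr 1
  ext r
  rw [List.mem_toFinset, mem_subFrom, mem_negSet]
  unfold psiW
  rw [decide_eq_true_eq]
  exact ⟨fun h => ⟨h.2.1, h.2.2⟩, fun h => ⟨Nat.zero_le _, h.1, h.2⟩⟩

namespace ChevFacts

variable {D : ChevalleyDatum} (hF : ChevFacts D F)
include hF

/-- `|U_w⁻| = q^{N(w)}` -/
theorem card_negPart [Fintype F] (hS : CorSize D) (hC : CorComb D) (w : List ℕ) (hw : ∀ i ∈ w, i < D.rank) :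
    Nat.card (negPart D hF.xadd w) = Fintype.card F ^ (negSet D w).card := by
  rw [negPart_eq_subGrp, ← length_subFrom_psiW]
  exact card_subGrp D hF.ufacts (fun r _ => hF.xadd.add' r) (fun r _ => hF.xadd.zero' r) hF.comm hF.poscomm _
    (closedPsi_psiW D (etaOf D) hF.facts hF.refl hS hF.simple_lt hF.poscomm hC w hw)

end ChevFacts

end Cfsg.Agent.Lead.Chev
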