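import Mathlib
import Cfsg.Agent.Lib.Lead.ChevBruhat2
import Cfsg.Agent.S0312

/-!
Words of fundamental reflections and the monomial elements `n_w`: `n_w ∈ H` exactly when `w` acts trivially on the
roots (through `N_G(B) = B`); the double cosets `B n_w B` depend only on the action of `w`.
-/

set_option autoImplicit false
set_option linter.unusedSectionVars false
set_option linter.unusedSimpArgs false
set_option linter.unusedVariables false

namespace Cfsg.Agent.Lead.Chev

open Cfsg Cfsg.Lie

variable {F : Type*} [Field F]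

namespace ChevFacts

variable {D : ChevalleyDatum} (hF : ChevFacts D F)
include hF

theorem nWordGL_conj_mem_borel (w : List ℕ) (hw : ∀ i ∈ w, i < D.rank)
    (hpos : ∀ r, D.IsPosRoot r → D.IsPosRoot (reflWord D w r)) (b : GL D.Idx F)
    (hb : b ∈ D.borelSubgroup F) :
    nWordGL D hF.xadd w * b * (nWordGL D hF.xadd w)⁻¹ ∈ D.borelSubgroup F := by
  obtain ⟨u, hu, h, hh, rfl⟩ := (hF.mem_borel_iff b).1 hb
  have h1 := hF.nWordGL_conj_mem_posUnipotent w hw hpos u hu
  have h2 := nWordGL_conj_mem_diagonal D hF.xadd (etaOf D) hF.nsimple w hw h hh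
  have e : nWordGL D hF.xadd w * (u * h) * (nWordGL D hF.xadd w)⁻¹ =
      (nWordGL D hF.xadd w * u * (nWordGL D hF.xadd w)⁻¹) *
        (nWordGL D hF.xadd w * h * (nWordGL D hF.xadd w)⁻¹) := by group
  rw [e]
  exact mul_mem (posUnipotent_le_borel D h1) (diagonal_le_borel D h2)

/-- a word which, with its reverse, preserves the positive roots: `n_w ∈ H` -/
theorem nWordGL_mem_diagonal_of_pos (w : List ℕ) (hw : ∀ i ∈ w, i < D.rank)
    (h1 : ∀ r, D.IsPosRoot r → D.IsPosRoot (reflWord D w r))
    (h2 : ∀ r, D.IsPosRoot r → D.IsPosRoot (reflWord D w.reverse r)) :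
    nWordGL D hF.xadd w ∈ D.diagonalSubgroup F := by
  have hw' : ∀ i ∈ w.reverse, i < D.rank := fun i hi => hw i (List.mem_reverse.1 hi)
  set n := nWordGL D hF.xadd w with hn
  have hnG : n ∈ D.group F := nWordGL_mem_group D hF.xadd w
  have hnN : n ∈ D.monomialSubgroup F := nWordGL_mem_monomial D hF.xadd hF.simple_lt w hw
  have hc1 : ∀ b ∈ D.borelSubgroup F, n * b * n⁻¹ ∈ D.borelSubgroup F :=
    fun b hb => hF.nWordGL_conj_mem_borel w hw h1 b hb
  have hc2 : ∀ b ∈ D.borelSubgroup F, n⁻¹ * b * n ∈ D.borelSubgroup F := by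
    intro b hb
    obtain ⟨h, hh, e⟩ := nWordGL_inv D hF.xadd (etaOf D) hF.nsimple hF.simple_lt w hw
    have h3 := hF.nWordGL_conj_mem_borel w.reverse hw' h2 b hb
    have e2 : n⁻¹ * b * n = h * (nWordGL D hF.xadd w.reverse * b * (nWordGL D hF.xadd w.reverse)⁻¹) * h⁻¹ := by
      have : n = (n⁻¹)⁻¹ := (inv_inv n).symm
      rw [this, e]
      group
    rw [e2]
    exact mul_mem (mul_mem (diagonal_le_borel D hh) h3) (inv_mem (diagonal_le_borel D hh))
  set P := hF.bnPair with hP
  have hnorm : (⟨n, hnG⟩ : ↥(D.group F)) ∈ Subgroup.normalizer (P.B : Set ↥(D.group F)) := by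
    rw [Subgroup.mem_normalizer_iff]
    intro x
    constructor
    · intro hx
      exact hc1 _ hx
    · intro hx
      have hx' : n * (x : GL D.Idx F) * n⁻¹ ∈ D.borelSubgroup F := hx
      have := hc2 _ hx'
      have e3 : n⁻¹ * (n * (x : GL D.Idx F) * n⁻¹) * n = x := by group
      rw [e3] at this
      exact this
  have hpar : P.parabolic ∅ = P.B := by
    unfold BNPair.parabolic
    rw [Subgroup.closure_empty, sup_bot_eq]
  have h312 := Cfsg.Agent.S0312.result P (J := ∅) (Set.empty_subset _)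
  rw [hpar] at h312
  rw [h312] at hnorm
  have hnB : n ∈ D.borelSubgroup F := hnorm
  have h4 : n ∈ D.borelSubgroup F ⊓ D.monomialSubgroup F := ⟨hnB, hnN⟩
  rwa [hF.borel_inf_monomial] at h4

/-- a word which, with its reverse, preserves the positive roots acts trivially on the roots -/
theorem reflWord_eq_of_pos (w : List ℕ) (hw : ∀ i ∈ w, i < D.rank)
    (h1 : ∀ r, D.IsPosRoot r → D.IsPosRoot (reflWord D w r))
    (h2 : ∀ r, D.IsPosRoot r → D.IsPosRoot (reflWord D w.reverse r)) :
    ∀ r < D.nroots, reflWord D w r = r := by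
  have h := hF.nWordGL_mem_diagonal_of_pos w hw h1 h2
  exact (hF.mem_diagonal_of_borel_word _ (diagonal_le_borel D h) 1 (one_mem _) w hw (one_mul _).symm).1

/-- words with the same action give the same coset `n_w H` -/
theorem nWordGL_inv_mul_mem_diagonal (w w' : List ℕ) (hw : ∀ i ∈ w, i < D.rank)
    (hw' : ∀ i ∈ w', i < D.rank) (h : ∀ r < D.nroots, reflWord D w r = reflWord D w' r) :
    (nWordGL D hF.xadd w)⁻¹ * nWordGL D hF.xadd w' ∈ D.diagonalSubgroup F := by
  have hrw : ∀ i ∈ w.reverse, i < D.rank := fun i hi => hw i (List.mem_reverse.1 hi)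
  have hrw' : ∀ i ∈ w'.reverse, i < D.rank := fun i hi => hw' i (List.mem_reverse.1 hi)
  have hv : ∀ i ∈ w.reverse ++ w', i < D.rank := by
    intro i hi
    rcases List.mem_append.1 hi with h1 | h1
    · exact hrw i h1
    · exact hw' i h1
  have ht1 : ∀ r < D.nroots, reflWord D (w.reverse ++ w') r = r := by
    intro r hr
    rw [reflWord_append, ← h r hr, reflWord_reverse_cancel' D (etaOf D) hF.facts w hw r hr]
  have ht2 : ∀ r < D.nroots, reflWord D (w.reverse ++ w').reverse r = r := by
    intro r hr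
    rw [List.reverse_append, List.reverse_reverse, reflWord_append]
    have hlt := reflWord_lt D (etaOf D) hF.facts w hw r hr
    have e1 : reflWord D w r = reflWord D w' r := h r hr
    rw [e1, reflWord_reverse_cancel' D (etaOf D) hF.facts w' hw' r hr]
  have h3 := hF.nWordGL_mem_diagonal_of_pos (w.reverse ++ w') hv
    (fun r hr => by rw [ht1 r hr.1]; exact hr) (fun r hr => by rw [ht2 r hr.1]; exact hr)
  obtain ⟨k, hk, e⟩ := nWordGL_inv D hF.xadd (etaOf D) hF.nsimple hF.simple_lt w hw
  rw [e, mul_assoc, ← nWordGL_append]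
  exact mul_mem hk h3

/-- conversely -/
theorem reflWord_eq_of_inv_mul_mem (w w' : List ℕ) (hw : ∀ i ∈ w, i < D.rank)
    (hw' : ∀ i ∈ w', i < D.rank)
    (h : (nWordGL D hF.xadd w)⁻¹ * nWordGL D hF.xadd w' ∈ D.diagonalSubgroup F) :
    ∀ r < D.nroots, reflWord D w r = reflWord D w' r := by
  have hrw : ∀ i ∈ w.reverse, i < D.rank := fun i hi => hw i (List.mem_reverse.1 hi)
  have hv : ∀ i ∈ w.reverse ++ w', i < D.rank := by
    intro i hi
    rcases List.mem_append.1 hi with h1 | h1
    · exact hrw i h1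
    · exact hw' i h1
  obtain ⟨k, hk, e⟩ := nWordGL_inv D hF.xadd (etaOf D) hF.nsimple hF.simple_lt w hw
  have e2 : (nWordGL D hF.xadd w)⁻¹ * nWordGL D hF.xadd w' = k * nWordGL D hF.xadd (w.reverse ++ w') := by
    rw [e, mul_assoc, ← nWordGL_append]
  have h3 := (hF.mem_diagonal_of_borel_word _ (diagonal_le_borel D h) k hk _ hv e2).1
  intro r hr
  have h4 := h3 r hr
  rw [reflWord_append] at h4
  have h5 := congrArg (reflWord D w) h4
  rw [reflWord_reverse_cancel D (etaOf D) hF.facts w hw _ (reflWord_lt D (etaOf D) hF.facts w' hw' r hr)] at h5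
  exact h5.symm

end ChevFacts

end Cfsg.Agent.Lead.Chev
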