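import Mathlib
import Cfsg.Agent.Lib.Lead.ChevUw
import Cfsg.Agent.Lib.Lead.ChevCalc
import Cfsg.Prelude.Def_ChevD4

set_option autoImplicit false

namespace Cfsg.Agent.Lead.Chev

open Cfsg Cfsg.Lie

theorem corCombOK_D4_0_0 : (List.range' (24 * 0) 24).all ((corCombChk chevD4) 0) = true := by decide +kernel
theorem corCombOK_D4_1_0 : (List.range' (24 * 0) 24).all ((corCombChk chevD4) 1) = true := by decide +kernel
theorem corCombOK_D4_2_0 : (List.range' (24 * 0) 24).all ((corCombChk chevD4) 2) = true := by decide +kernel
theorem corCombOK_D4_3_0 : (List.range' (24 * 0) 24).all ((corCombChk chevD4) 3) = true := by decide +kernel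
theorem corCombOK_D4_4_0 : (List.range' (24 * 0) 24).all ((corCombChk chevD4) 4) = true := by decide +kernel
theorem corCombOK_D4_5_0 : (List.range' (24 * 0) 24).all ((corCombChk chevD4) 5) = true := by decide +kernel
theorem corCombOK_D4_6_0 : (List.range' (24 * 0) 24).all ((corCombChk chevD4) 6) = true := by decide +kernel
theorem corCombOK_D4_7_0 : (List.range' (24 * 0) 24).all ((corCombChk chevD4) 7) = true := by decide +kernel
theorem corCombOK_D4_8_0 : (List.range' (24 * 0) 24).all ((corCombChk chevD4) 8) = true := by decide +kernel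
theorem corCombOK_D4_9_0 : (List.range' (24 * 0) 24).all ((corCombChk chevD4) 9) = true := by decide +kernel
theorem corCombOK_D4_10_0 : (List.range' (24 * 0) 24).all ((corCombChk chevD4) 10) = true := by decide +kernel
theorem corCombOK_D4_11_0 : (List.range' (24 * 0) 24).all ((corCombChk chevD4) 11) = true := by decide +kernel
theorem corCombOK_D4_12_0 : (List.range' (24 * 0) 24).all ((corCombChk chevD4) 12) = true := by decide +kernel
theorem corCombOK_D4_13_0 : (List.range' (24 * 0) 24).all ((corCombChk chevD4) 13) = true := by decide +kernel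
theorem corCombOK_D4_14_0 : (List.range' (24 * 0) 24).all ((corCombChk chevD4) 14) = true := by decide +kernel
theorem corCombOK_D4_15_0 : (List.range' (24 * 0) 24).all ((corCombChk chevD4) 15) = true := by decide +kernel
theorem corCombOK_D4_16_0 : (List.range' (24 * 0) 24).all ((corCombChk chevD4) 16) = true := by decide +kernel
theorem corCombOK_D4_17_0 : (List.range' (24 * 0) 24).all ((corCombChk chevD4) 17) = true := by decide +kernel
theorem corCombOK_D4_18_0 : (List.range' (24 * 0) 24).all ((corCombChk chevD4) 18) = true := by decide +kernel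
theorem corCombOK_D4_19_0 : (List.range' (24 * 0) 24).all ((corCombChk chevD4) 19) = true := by decide +kernel
theorem corCombOK_D4_20_0 : (List.range' (24 * 0) 24).all ((corCombChk chevD4) 20) = true := by decide +kernel
theorem corCombOK_D4_21_0 : (List.range' (24 * 0) 24).all ((corCombChk chevD4) 21) = true := by decide +kernel
theorem corCombOK_D4_22_0 : (List.range' (24 * 0) 24).all ((corCombChk chevD4) 22) = true := by decide +kernel
theorem corCombOK_D4_23_0 : (List.range' (24 * 0) 24).all ((corCombChk chevD4) 23) = true := by decide +kernel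

theorem corCombOK_D4 : ∀ a < 24, ∀ s < 24, (corCombChk chevD4) a s = true :=
  forall_forall_lt_of_blocks ((corCombChk chevD4)) 24 24 24 1 (by norm_num) (by norm_num) (by
    intro a ha k hk
    interval_cases a <;> interval_cases k
    · exact corCombOK_D4_0_0
    · exact corCombOK_D4_1_0
    · exact corCombOK_D4_2_0
    · exact corCombOK_D4_3_0
    · exact corCombOK_D4_4_0
    · exact corCombOK_D4_5_0
    · exact corCombOK_D4_6_0
    · exact corCombOK_D4_7_0
    · exact corCombOK_D4_8_0
    · exact corCombOK_D4_9_0
    · exact corCombOK_D4_10_0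
    · exact corCombOK_D4_11_0
    · exact corCombOK_D4_12_0
    · exact corCombOK_D4_13_0
    · exact corCombOK_D4_14_0
    · exact corCombOK_D4_15_0
    · exact corCombOK_D4_16_0
    · exact corCombOK_D4_17_0
    · exact corCombOK_D4_18_0
    · exact corCombOK_D4_19_0
    · exact corCombOK_D4_20_0
    · exact corCombOK_D4_21_0
    · exact corCombOK_D4_22_0
    · exact corCombOK_D4_23_0)

end Cfsg.Agent.Lead.Chev
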