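import Mathlib
import Cfsg.Agent.Lib.Lead.ChevUw
import Cfsg.Agent.Lib.Lead.ChevCalc
import Cfsg.Prelude.Def_ChevE6

set_option autoImplicit false

namespace Cfsg.Agent.Lead.Chev

open Cfsg Cfsg.Lie

theorem corCombOK_E6_0_0 : (List.range' (72 * 0) 72).all ((corCombChk chevE6) 0) = true := by decide +kernel
theorem corCombOK_E6_1_0 : (List.range' (72 * 0) 72).all ((corCombChk chevE6) 1) = true := by decide +kernel
theorem corCombOK_E6_2_0 : (List.range' (72 * 0) 72).all ((corCombChk chevE6) 2) = true := by decide +kernel
theorem corCombOK_E6_3_0 : (List.range' (72 * 0) 72).all ((corCombChk chevE6) 3) = true := by decide +kernel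
theorem corCombOK_E6_4_0 : (List.range' (72 * 0) 72).all ((corCombChk chevE6) 4) = true := by decide +kernel
theorem corCombOK_E6_5_0 : (List.range' (72 * 0) 72).all ((corCombChk chevE6) 5) = true := by decide +kernel
theorem corCombOK_E6_6_0 : (List.range' (72 * 0) 72).all ((corCombChk chevE6) 6) = true := by decide +kernel
theorem corCombOK_E6_7_0 : (List.range' (72 * 0) 72).all ((corCombChk chevE6) 7) = true := by decide +kernel
theorem corCombOK_E6_8_0 : (List.range' (72 * 0) 72).all ((corCombChk chevE6) 8) = true := by decide +kernel
theorem corCombOK_E6_9_0 : (List.range' (72 * 0) 72).all ((corCombChk chevE6) 9) = true := by decide +kernel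
theorem corCombOK_E6_10_0 : (List.range' (72 * 0) 72).all ((corCombChk chevE6) 10) = true := by decide +kernel
theorem corCombOK_E6_11_0 : (List.range' (72 * 0) 72).all ((corCombChk chevE6) 11) = true := by decide +kernel
theorem corCombOK_E6_12_0 : (List.range' (72 * 0) 72).all ((corCombChk chevE6) 12) = true := by decide +kernel
theorem corCombOK_E6_13_0 : (List.range' (72 * 0) 72).all ((corCombChk chevE6) 13) = true := by decide +kernel
theorem corCombOK_E6_14_0 : (List.range' (72 * 0) 72).all ((corCombChk chevE6) 14) = true := by decide +kernel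
theorem corCombOK_E6_15_0 : (List.range' (72 * 0) 72).all ((corCombChk chevE6) 15) = true := by decide +kernel
theorem corCombOK_E6_16_0 : (List.range' (72 * 0) 72).all ((corCombChk chevE6) 16) = true := by decide +kernel
theorem corCombOK_E6_17_0 : (List.range' (72 * 0) 72).all ((corCombChk chevE6) 17) = true := by decide +kernel
theorem corCombOK_E6_18_0 : (List.range' (72 * 0) 72).all ((corCombChk chevE6) 18) = true := by decide +kernel
theorem corCombOK_E6_19_0 : (List.range' (72 * 0) 72).all ((corCombChk chevE6) 19) = true := by decide +kernel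
theorem corCombOK_E6_20_0 : (List.range' (72 * 0) 72).all ((corCombChk chevE6) 20) = true := by decide +kernel
theorem corCombOK_E6_21_0 : (List.range' (72 * 0) 72).all ((corCombChk chevE6) 21) = true := by decide +kernel
theorem corCombOK_E6_22_0 : (List.range' (72 * 0) 72).all ((corCombChk chevE6) 22) = true := by decide +kernel
theorem corCombOK_E6_23_0 : (List.range' (72 * 0) 72).all ((corCombChk chevE6) 23) = true := by decide +kernel
theorem corCombOK_E6_24_0 : (List.range' (72 * 0) 72).all ((corCombChk chevE6) 24) = true := by decide +kernel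
theorem corCombOK_E6_25_0 : (List.range' (72 * 0) 72).all ((corCombChk chevE6) 25) = true := by decide +kernel
theorem corCombOK_E6_26_0 : (List.range' (72 * 0) 72).all ((corCombChk chevE6) 26) = true := by decide +kernel
theorem corCombOK_E6_27_0 : (List.range' (72 * 0) 72).all ((corCombChk chevE6) 27) = true := by decide +kernel
theorem corCombOK_E6_28_0 : (List.range' (72 * 0) 72).all ((corCombChk chevE6) 28) = true := by decide +kernel
theorem corCombOK_E6_29_0 : (List.range' (72 * 0) 72).all ((corCombChk chevE6) 29) = true := by decide +kernel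
theorem corCombOK_E6_30_0 : (List.range' (72 * 0) 72).all ((corCombChk chevE6) 30) = true := by decide +kernel
theorem corCombOK_E6_31_0 : (List.range' (72 * 0) 72).all ((corCombChk chevE6) 31) = true := by decide +kernel
theorem corCombOK_E6_32_0 : (List.range' (72 * 0) 72).all ((corCombChk chevE6) 32) = true := by decide +kernel
theorem corCombOK_E6_33_0 : (List.range' (72 * 0) 72).all ((corCombChk chevE6) 33) = true := by decide +kernel
theorem corCombOK_E6_34_0 : (List.range' (72 * 0) 72).all ((corCombChk chevE6) 34) = true := by decide +kernel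
theorem corCombOK_E6_35_0 : (List.range' (72 * 0) 72).all ((corCombChk chevE6) 35) = true := by decide +kernel
theorem corCombOK_E6_36_0 : (List.range' (72 * 0) 72).all ((corCombChk chevE6) 36) = true := by decide +kernel
theorem corCombOK_E6_37_0 : (List.range' (72 * 0) 72).all ((corCombChk chevE6) 37) = true := by decide +kernel
theorem corCombOK_E6_38_0 : (List.range' (72 * 0) 72).all ((corCombChk chevE6) 38) = true := by decide +kernel
theorem corCombOK_E6_39_0 : (List.range' (72 * 0) 72).all ((corCombChk chevE6) 39) = true := by decide +kernel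
theorem corCombOK_E6_40_0 : (List.range' (72 * 0) 72).all ((corCombChk chevE6) 40) = true := by decide +kernel
theorem corCombOK_E6_41_0 : (List.range' (72 * 0) 72).all ((corCombChk chevE6) 41) = true := by decide +kernel
theorem corCombOK_E6_42_0 : (List.range' (72 * 0) 72).all ((corCombChk chevE6) 42) = true := by decide +kernel
theorem corCombOK_E6_43_0 : (List.range' (72 * 0) 72).all ((corCombChk chevE6) 43) = true := by decide +kernel
theorem corCombOK_E6_44_0 : (List.range' (72 * 0) 72).all ((corCombChk chevE6) 44) = true := by decide +kernel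
theorem corCombOK_E6_45_0 : (List.range' (72 * 0) 72).all ((corCombChk chevE6) 45) = true := by decide +kernel
theorem corCombOK_E6_46_0 : (List.range' (72 * 0) 72).all ((corCombChk chevE6) 46) = true := by decide +kernel
theorem corCombOK_E6_47_0 : (List.range' (72 * 0) 72).all ((corCombChk chevE6) 47) = true := by decide +kernel
theorem corCombOK_E6_48_0 : (List.range' (72 * 0) 72).all ((corCombChk chevE6) 48) = true := by decide +kernel
theorem corCombOK_E6_49_0 : (List.range' (72 * 0) 72).all ((corCombChk chevE6) 49) = true := by decide +kernel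
theorem corCombOK_E6_50_0 : (List.range' (72 * 0) 72).all ((corCombChk chevE6) 50) = true := by decide +kernel
theorem corCombOK_E6_51_0 : (List.range' (72 * 0) 72).all ((corCombChk chevE6) 51) = true := by decide +kernel
theorem corCombOK_E6_52_0 : (List.range' (72 * 0) 72).all ((corCombChk chevE6) 52) = true := by decide +kernel
theorem corCombOK_E6_53_0 : (List.range' (72 * 0) 72).all ((corCombChk chevE6) 53) = true := by decide +kernel
theorem corCombOK_E6_54_0 : (List.range' (72 * 0) 72).all ((corCombChk chevE6) 54) = true := by decide +kernel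
theorem corCombOK_E6_55_0 : (List.range' (72 * 0) 72).all ((corCombChk chevE6) 55) = true := by decide +kernel
theorem corCombOK_E6_56_0 : (List.range' (72 * 0) 72).all ((corCombChk chevE6) 56) = true := by decide +kernel
theorem corCombOK_E6_57_0 : (List.range' (72 * 0) 72).all ((corCombChk chevE6) 57) = true := by decide +kernel
theorem corCombOK_E6_58_0 : (List.range' (72 * 0) 72).all ((corCombChk chevE6) 58) = true := by decide +kernel
theorem corCombOK_E6_59_0 : (List.range' (72 * 0) 72).all ((corCombChk chevE6) 59) = true := by decide +kernel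
theorem corCombOK_E6_60_0 : (List.range' (72 * 0) 72).all ((corCombChk chevE6) 60) = true := by decide +kernel
theorem corCombOK_E6_61_0 : (List.range' (72 * 0) 72).all ((corCombChk chevE6) 61) = true := by decide +kernel
theorem corCombOK_E6_62_0 : (List.range' (72 * 0) 72).all ((corCombChk chevE6) 62) = true := by decide +kernel
theorem corCombOK_E6_63_0 : (List.range' (72 * 0) 72).all ((corCombChk chevE6) 63) = true := by decide +kernel
theorem corCombOK_E6_64_0 : (List.range' (72 * 0) 72).all ((corCombChk chevE6) 64) = true := by decide +kernel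
theorem corCombOK_E6_65_0 : (List.range' (72 * 0) 72).all ((corCombChk chevE6) 65) = true := by decide +kernel
theorem corCombOK_E6_66_0 : (List.range' (72 * 0) 72).all ((corCombChk chevE6) 66) = true := by decide +kernel
theorem corCombOK_E6_67_0 : (List.range' (72 * 0) 72).all ((corCombChk chevE6) 67) = true := by decide +kernel
theorem corCombOK_E6_68_0 : (List.range' (72 * 0) 72).all ((corCombChk chevE6) 68) = true := by decide +kernel
theorem corCombOK_E6_69_0 : (List.range' (72 * 0) 72).all ((corCombChk chevE6) 69) = true := by decide +kernel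
theorem corCombOK_E6_70_0 : (List.range' (72 * 0) 72).all ((corCombChk chevE6) 70) = true := by decide +kernel
theorem corCombOK_E6_71_0 : (List.range' (72 * 0) 72).all ((corCombChk chevE6) 71) = true := by decide +kernel

theorem corCombOK_E6 : ∀ a < 72, ∀ s < 72, (corCombChk chevE6) a s = true :=
  forall_forall_lt_of_blocks ((corCombChk chevE6)) 72 72 72 1 (by norm_num) (by norm_num) (by
    intro a ha k hk
    interval_cases a <;> interval_cases k
    · exact corCombOK_E6_0_0
    · exact corCombOK_E6_1_0
    · exact corCombOK_E6_2_0
    · exact corCombOK_E6_3_0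
    · exact corCombOK_E6_4_0
    · exact corCombOK_E6_5_0
    · exact corCombOK_E6_6_0
    · exact corCombOK_E6_7_0
    · exact corCombOK_E6_8_0
    · exact corCombOK_E6_9_0
    · exact corCombOK_E6_10_0
    · exact corCombOK_E6_11_0
    · exact corCombOK_E6_12_0
    · exact corCombOK_E6_13_0
    · exact corCombOK_E6_14_0
    · exact corCombOK_E6_15_0
    · exact corCombOK_E6_16_0
    · exact corCombOK_E6_17_0
    · exact corCombOK_E6_18_0
    · exact corCombOK_E6_19_0
    · exact corCombOK_E6_20_0
    · exact corCombOK_E6_21_0
    · exact corCombOK_E6_22_0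
    · exact corCombOK_E6_23_0
    · exact corCombOK_E6_24_0
    · exact corCombOK_E6_25_0
    · exact corCombOK_E6_26_0
    · exact corCombOK_E6_27_0
    · exact corCombOK_E6_28_0
    · exact corCombOK_E6_29_0
    · exact corCombOK_E6_30_0
    · exact corCombOK_E6_31_0
    · exact corCombOK_E6_32_0
    · exact corCombOK_E6_33_0
    · exact corCombOK_E6_34_0
    · exact corCombOK_E6_35_0
    · exact corCombOK_E6_36_0
    · exact corCombOK_E6_37_0
    · exact corCombOK_E6_38_0
    · exact corCombOK_E6_39_0
    · exact corCombOK_E6_40_0
    · exact corCombOK_E6_41_0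
    · exact corCombOK_E6_42_0
    · exact corCombOK_E6_43_0
    · exact corCombOK_E6_44_0
    · exact corCombOK_E6_45_0
    · exact corCombOK_E6_46_0
    · exact corCombOK_E6_47_0
    · exact corCombOK_E6_48_0
    · exact corCombOK_E6_49_0
    · exact corCombOK_E6_50_0
    · exact corCombOK_E6_51_0
    · exact corCombOK_E6_52_0
    · exact corCombOK_E6_53_0
    · exact corCombOK_E6_54_0
    · exact corCombOK_E6_55_0
    · exact corCombOK_E6_56_0
    · exact corCombOK_E6_57_0
    · exact corCombOK_E6_58_0
    · exact corCombOK_E6_59_0
    · exact corCombOK_E6_60_0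
    · exact corCombOK_E6_61_0
    · exact corCombOK_E6_62_0
    · exact corCombOK_E6_63_0
    · exact corCombOK_E6_64_0
    · exact corCombOK_E6_65_0
    · exact corCombOK_E6_66_0
    · exact corCombOK_E6_67_0
    · exact corCombOK_E6_68_0
    · exact corCombOK_E6_69_0
    · exact corCombOK_E6_70_0
    · exact corCombOK_E6_71_0)

end Cfsg.Agent.Lead.Chev
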