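import Mathlib

/-!
Polynomials with integer coefficients as lists, for kernel-checked polynomial identities.
-/

set_option autoImplicit false

namespace Cfsg.Agent.Lead.PolyL

/-- evaluation (Horner) -/
def evalL : List ℤ → ℤ → ℤ
  | [], _ => 0
  | c :: cs, q => c + q * evalL cs q

/-- sum -/
def addL : List ℤ → List ℤ → List ℤ
  | [], b => b
  | a, [] => a
  | a :: as, b :: bs => (a + b) :: addL as bs

/-- multiplication by a constant -/
def smulL (c : ℤ) (a : List ℤ) : List ℤ := a.map (c * ·)

/-- product -/
def mulL : List ℤ → List ℤ → List ℤ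
  | [], _ => []
  | a :: as, b => addL (smulL a b) (0 :: mulL as b)

/-- the monomial `q^n` -/
def monoL (n : ℕ) : List ℤ := List.replicate n 0 ++ [1]

/-- `q^n - 1` -/
def pm1L (n : ℕ) : List ℤ := addL [-1] (monoL n)

/-- the sum of the monomials `q^n`, `n` in the list -/
def powSumL (Ns : List ℕ) : List ℤ := Ns.foldr (fun n acc => addL (monoL n) acc) []

/-- the product of a list of polynomials -/
def prodP (Ps : List (List ℤ)) : List ℤ := Ps.foldr mulL [1]

theorem evalL_addL (a b : List ℤ) (q : ℤ) : evalL (addL a b) q = evalL a q + evalL b q := by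
  induction a generalizing b with
  | nil => simp [addL, evalL]
  | cons x xs ih =>
    cases b with
    | nil => simp [addL, evalL]
    | cons y ys =>
      simp only [addL, evalL, ih]
      ring

theorem evalL_smulL (c : ℤ) (a : List ℤ) (q : ℤ) : evalL (smulL c a) q = c * evalL a q := by
  induction a with
  | nil => simp [smulL, evalL]
  | cons x xs ih =>
    have : smulL c (x :: xs) = (c * x) :: smulL c xs := rfl
    rw [this]
    simp only [evalL, ih]
    ring

theorem evalL_mulL (a b : List ℤ) (q : ℤ) : evalL (mulL a b) q = evalL a q * evalL b q := by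
  induction a with
  | nil => simp [mulL, evalL]
  | cons x xs ih =>
    simp only [mulL, evalL_addL, evalL_smulL, evalL, ih]
    ring

theorem evalL_monoL (n : ℕ) (q : ℤ) : evalL (monoL n) q = q ^ n := by
  induction n with
  | zero => simp [monoL, evalL]
  | succ n ih =>
    have : monoL (n + 1) = 0 :: monoL n := by
      simp [monoL, List.replicate_succ]
    rw [this]
    simp only [evalL, ih]
    ring

theorem evalL_pm1L (n : ℕ) (q : ℤ) : evalL (pm1L n) q = q ^ n - 1 := by
  unfold pm1L
  rw [evalL_addL, evalL_monoL]
  simp [evalL]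
  ring

theorem evalL_powSumL (Ns : List ℕ) (q : ℤ) : evalL (powSumL Ns) q = (Ns.map fun n => q ^ n).sum := by
  induction Ns with
  | nil => simp [powSumL, evalL]
  | cons n ns ih =>
    have : powSumL (n :: ns) = addL (monoL n) (powSumL ns) := rfl
    rw [this, evalL_addL, evalL_monoL, ih, List.map_cons, List.sum_cons]

theorem evalL_prodP (Ps : List (List ℤ)) (q : ℤ) : evalL (prodP Ps) q = (Ps.map fun P => evalL P q).prod := by
  induction Ps with
  | nil => simp [prodP, evalL]
  | cons P Ps ih =>
    have : prodP (P :: Ps) = mulL P (prodP Ps) := rfl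
    rw [this, evalL_mulL, ih, List.map_cons, List.prod_cons]

end Cfsg.Agent.Lead.PolyL
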