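import Mathlib
import Cfsg.Agent.Lib.Lead.ChevCells
import Cfsg.Agent.Lib.Lead.ChevUw

/-!
The order of a Chevalley group over a finite field: `|G| = |B| ∑_{w ∈ W} q^{N(w)}`, the sum over the actions of
the words of fundamental reflections on the roots.
-/

set_option autoImplicit false
set_option linter.unusedSectionVars false
set_option linter.unusedSimpArgs false
set_option linter.unusedVariables false

namespace Cfsg.Agent.Lead.Chev

open Cfsg Cfsg.Lie

/-- the action of a word on the roots, as a self-map of `Fin nroots` -/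
def actF (D : ChevalleyDatum) (w : List ℕ) : Fin D.nroots → Fin D.nroots := fun r =>
  if h : reflWord D w r.val < D.nroots then ⟨reflWord D w r.val, h⟩ else r

theorem actF_val (D : ChevalleyDatum) (η : ℕ → ℕ → ℤ) (hfa : ∀ i < D.rank, NXFacts D (η i) i)
    (w : List ℕ) (hw : ∀ i ∈ w, i < D.rank) (r : Fin D.nroots) :
    (actF D w r).val = reflWord D w r.val := by
  unfold actF
  rw [dif_pos (reflWord_lt D η hfa w hw r.val r.2)]

theorem actF_eq_iff (D : ChevalleyDatum) (η : ℕ → ℕ → ℤ) (hfa : ∀ i < D.rank, NXFacts D (η i) i)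
    (w w' : List ℕ) (hw : ∀ i ∈ w, i < D.rank) (hw' : ∀ i ∈ w', i < D.rank) :
    actF D w = actF D w' ↔ ∀ r < D.nroots, reflWord D w r = reflWord D w' r := by
  constructor
  · intro h r hr
    have := congrArg Fin.val (congrFun h ⟨r, hr⟩)
    rwa [actF_val D η hfa w hw, actF_val D η hfa w' hw'] at this
  · intro h
    funext r
    apply Fin.ext
    rw [actF_val D η hfa w hw, actF_val D η hfa w' hw']
    exact h r.val r.2

/-- the number of positive roots made negative -/
def nNeg (D : ChevalleyDatum) (f : Fin D.nroots → Fin D.nroots) : ℕ :=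
  (Finset.univ.filter fun r : Fin D.nroots => D.IsPosRoot r.val ∧ D.IsNegRoot (f r).val).card

theorem nNeg_actF (D : ChevalleyDatum) (η : ℕ → ℕ → ℤ) (hfa : ∀ i < D.rank, NXFacts D (η i) i)
    (w : List ℕ) (hw : ∀ i ∈ w, i < D.rank) : nNeg D (actF D w) = (negSet D w).card := by
  unfold nNeg
  rw [← Finset.card_map Fin.valEmbedding]
  congr 1
  ext r
  rw [Finset.mem_map, mem_negSet]
  constructor
  · rintro ⟨a, ha, rfl⟩
    rw [Finset.mem_filter] at ha
    have := ha.2
    rw [actF_val D η hfa w hw] at this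
    exact this
  · intro h
    refine ⟨⟨r, h.1.1⟩, ?_, rfl⟩
    rw [Finset.mem_filter]
    refine ⟨Finset.mem_univ _, ?_⟩
    rw [actF_val D η hfa w hw]
    exact h

open Classical in
/-- the actions of the words in the fundamental reflections of `J` -/
noncomputable def weylSet (D : ChevalleyDatum) (J : Set ℕ) : Finset (Fin D.nroots → Fin D.nroots) :=
  Finset.univ.filter fun f => ∃ w : List ℕ, (∀ i ∈ w, i < D.rank ∧ i ∈ J) ∧ actF D w = f

theorem mem_weylSet (D : ChevalleyDatum) (J : Set ℕ) (f : Fin D.nroots → Fin D.nroots) :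
    f ∈ weylSet D J ↔ ∃ w : List ℕ, (∀ i ∈ w, i < D.rank ∧ i ∈ J) ∧ actF D w = f := by
  classical
  unfold weylSet
  rw [Finset.mem_filter]
  exact ⟨fun h => h.2, fun h => ⟨Finset.mem_univ _, h⟩⟩

variable {F : Type*} [Field F]

theorem negPart_congr (D : ChevalleyDatum) (hX : XAdd D F) (w w' : List ℕ)
    (h : ∀ r < D.nroots, reflWord D w r = reflWord D w' r) : negPart D hX w = negPart D hX w' := by
  unfold negPart
  congr 1
  ext g
  constructor
  · rintro ⟨r, t, hr1, hr2, rfl⟩
    exact ⟨r, t, hr1, by rw [← h r hr1.1]; exact hr2, rfl⟩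
  · rintro ⟨r, t, hr1, hr2, rfl⟩
    exact ⟨r, t, hr1, by rw [h r hr1.1]; exact hr2, rfl⟩

namespace ChevFacts

variable {D : ChevalleyDatum} (hF : ChevFacts D F)
include hF

/-- the cell `B n_w U_w⁻` is in bijection with `B × U_w⁻` -/
theorem cell_unique (w : List ℕ) (hw : ∀ i ∈ w, i < D.rank) (b b' u u' : GL D.Idx F)
    (hb : b ∈ D.borelSubgroup F) (hb' : b' ∈ D.borelSubgroup F)
    (hu : u ∈ negPart D hF.xadd w) (hu' : u' ∈ negPart D hF.xadd w)
    (e : b * nWordGL D hF.xadd w * u = b' * nWordGL D hF.xadd w * u') : b = b' ∧ u = u' :=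
  (hF.canonical_unique b b' _ _ u u' hb hb' (nWordGL_mem_monomial D hF.xadd hF.simple_lt w hw)
    (nWordGL_mem_monomial D hF.xadd hF.simple_lt w hw) (hF.negPart_le_negPartN w hw hu)
    (hF.negPart_le_negPartN w hw hu') e).2 rfl

/-- two cells which meet belong to the same action -/
theorem cell_action (w w' : List ℕ) (hw : ∀ i ∈ w, i < D.rank) (hw' : ∀ i ∈ w', i < D.rank)
    (b b' u u' : GL D.Idx F) (hb : b ∈ D.borelSubgroup F) (hb' : b' ∈ D.borelSubgroup F)
    (hu : u ∈ negPart D hF.xadd w) (hu' : u' ∈ negPart D hF.xadd w')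
    (e : b * nWordGL D hF.xadd w * u = b' * nWordGL D hF.xadd w' * u') :
    ∀ r < D.nroots, reflWord D w r = reflWord D w' r := by
  have h := (hF.canonical_unique b b' _ _ u u' hb hb' (nWordGL_mem_monomial D hF.xadd hF.simple_lt w hw)
    (nWordGL_mem_monomial D hF.xadd hF.simple_lt w' hw') (hF.negPart_le_negPartN w hw hu)
    (hF.negPart_le_negPartN w' hw' hu') e).1
  exact hF.reflWord_eq_of_inv_mul_mem w w' hw hw' h

/-- `|G| = |B| ∑_w q^{N(w)}` -/
theorem card_group [Fintype F] (hS : CorSize D) (hC : CorComb D) :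
    Nat.card ↥(D.group F) = Nat.card ↥(D.borelSubgroup F) *
      ∑ f ∈ weylSet D Set.univ, Fintype.card F ^ nNeg D f := by
  classical
  have hex : ∀ g : ↥(D.group F), ∃ w : List ℕ, (∀ i ∈ w, i < D.rank) ∧
      ∃ b ∈ D.borelSubgroup F, ∃ u ∈ negPart D hF.xadd w, (g : GL D.Idx F) = b * nWordGL D hF.xadd w * u := by
    intro g
    obtain ⟨b, hb, w, hw, u, hu, e⟩ := hF.exists_bruhat hS g g.2
    exact ⟨w, hw, b, hb, u, hu, e⟩
  choose wOf hwOf hcell using hex
  set φ : ↥(D.group F) → (Fin D.nroots → Fin D.nroots) := fun g => actF D (wOf g) with hφ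
  have hfib : ∀ f : Fin D.nroots → Fin D.nroots, Nat.card {g : ↥(D.group F) // φ g = f} =
      if f ∈ weylSet D Set.univ then Nat.card ↥(D.borelSubgroup F) * Fintype.card F ^ nNeg D f else 0 := by
    intro f
    by_cases hf : f ∈ weylSet D Set.univ
    · rw [if_pos hf]
      obtain ⟨w₀, hw₀, rfl⟩ := (mem_weylSet D _ f).1 hf
      have hw₀' : ∀ i ∈ w₀, i < D.rank := fun i hi => (hw₀ i hi).1
      rw [nNeg_actF D (etaOf D) hF.facts w₀ hw₀', ← hF.card_negPart hS hC w₀ hw₀', ← Nat.card_prod]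
      have hval : ∀ (b : ↥(D.borelSubgroup F)) (u : ↥(negPart D hF.xadd w₀)),
          (b : GL D.Idx F) * nWordGL D hF.xadd w₀ * u ∈ D.group F := fun b u =>
        mul_mem (mul_mem (hF.borel_le_group b.2) (nWordGL_mem_group D hF.xadd w₀))
          (hF.posUnipotent_le_group (hF.negPart_le_posUnipotent w₀ u.2))
      have hφv : ∀ (b : ↥(D.borelSubgroup F)) (u : ↥(negPart D hF.xadd w₀)),
          φ ⟨_, hval b u⟩ = actF D w₀ := by
        intro b u
        obtain ⟨b', hb', u', hu', e⟩ := hcell ⟨_, hval b u⟩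
        have e' : (b : GL D.Idx F) * nWordGL D hF.xadd w₀ * u =
            b' * nWordGL D hF.xadd (wOf ⟨_, hval b u⟩) * u' := e
        have := hF.cell_action w₀ _ hw₀' (hwOf _) b b' u u' b.2 hb' u.2 hu' e'
        exact ((actF_eq_iff D (etaOf D) hF.facts _ _ hw₀' (hwOf _)).2 this).symm
      let ψ : ↥(D.borelSubgroup F) × ↥(negPart D hF.xadd w₀) →
          {g : ↥(D.group F) // φ g = actF D w₀} := fun p => ⟨⟨_, hval p.1 p.2⟩, hφv p.1 p.2⟩
      have hinj : Function.Injective ψ := by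
        rintro ⟨b, u⟩ ⟨b', u'⟩ h
        have h1 : (b : GL D.Idx F) * nWordGL D hF.xadd w₀ * u = b' * nWordGL D hF.xadd w₀ * u' :=
          congrArg (fun x : {g : ↥(D.group F) // φ g = actF D w₀} => ((x : ↥(D.group F)) : GL D.Idx F)) h
        obtain ⟨h2, h3⟩ := hF.cell_unique w₀ hw₀' b b' u u' b.2 b'.2 u.2 u'.2 h1
        exact Prod.ext (Subtype.ext h2) (Subtype.ext h3)
      have hsurj : Function.Surjective ψ := by
        rintro ⟨g, hg⟩
        obtain ⟨b', hb', u', hu', e⟩ := hcell g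
        have hact : ∀ r < D.nroots, reflWord D w₀ r = reflWord D (wOf g) r :=
          (actF_eq_iff D (etaOf D) hF.facts _ _ hw₀' (hwOf g)).1 hg.symm
        have hh := hF.nWordGL_inv_mul_mem_diagonal w₀ (wOf g) hw₀' (hwOf g) hact
        have hh' := nWordGL_conj_mem_diagonal D hF.xadd (etaOf D) hF.nsimple w₀ hw₀' _ hh
        have hu'' : u' ∈ negPart D hF.xadd w₀ := by
          rw [negPart_congr D hF.xadd w₀ (wOf g) hact]
          exact hu'
        refine ⟨(⟨b' * (nWordGL D hF.xadd w₀ * ((nWordGL D hF.xadd w₀)⁻¹ * nWordGL D hF.xadd (wOf g)) *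
          (nWordGL D hF.xadd w₀)⁻¹), mul_mem hb' (diagonal_le_borel D hh')⟩, ⟨u', hu''⟩), ?_⟩
        apply Subtype.ext
        apply Subtype.ext
        show b' * (nWordGL D hF.xadd w₀ * ((nWordGL D hF.xadd w₀)⁻¹ * nWordGL D hF.xadd (wOf g)) *
          (nWordGL D hF.xadd w₀)⁻¹) * nWordGL D hF.xadd w₀ * u' = (g : GL D.Idx F)
        rw [e]
        group
      exact (Nat.card_congr (Equiv.ofBijective ψ ⟨hinj, hsurj⟩)).symm
    · rw [if_neg hf]
      have : IsEmpty {g : ↥(D.group F) // φ g = f} := by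
        constructor
        rintro ⟨g, hg⟩
        exact hf ((mem_weylSet D _ f).2 ⟨wOf g, fun i hi => ⟨hwOf g i hi, Set.mem_univ _⟩, hg⟩)
      exact Nat.card_of_isEmpty
  rw [Nat.card_congr (Equiv.sigmaFiberEquiv φ).symm, Nat.card_sigma]
  simp_rw [hfib]
  rw [← Finset.sum_filter, Finset.mul_sum]
  apply Finset.sum_congr
  · ext f
    simp
  · intro f _
    rfl

end ChevFacts

end Cfsg.Agent.Lead.Chev
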