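import Mathlib
import Cfsg.Agent.Lib.Lead.ChevCount

/-!
The factorisation `W_J = W_J^K · W_K` of the group generated by the fundamental reflections of `J` (as a set of
actions on the roots), with additivity of the number of positive roots made negative.
-/

set_option autoImplicit false
set_option linter.unusedSectionVars false
set_option linter.unusedSimpArgs false
set_option linter.unusedVariables false

namespace Cfsg.Agent.Lead.Chev

open Cfsg Cfsg.Lie

/-- a word in the fundamental reflections of `J` -/
def WordIn (D : ChevalleyDatum) (J : Set ℕ) (w : List ℕ) : Prop := ∀ i ∈ w, i < D.rank ∧ i ∈ J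

theorem WordIn.valid {D : ChevalleyDatum} {J : Set ℕ} {w : List ℕ} (h : WordIn D J w) :
    ∀ i ∈ w, i < D.rank := fun i hi => (h i hi).1

theorem WordIn.append {D : ChevalleyDatum} {J : Set ℕ} {w w' : List ℕ} (h : WordIn D J w)
    (h' : WordIn D J w') : WordIn D J (w ++ w') := by
  intro i hi
  rcases List.mem_append.1 hi with h1 | h1
  · exact h i h1
  · exact h' i h1

theorem WordIn.reverse {D : ChevalleyDatum} {J : Set ℕ} {w : List ℕ} (h : WordIn D J w) :
    WordIn D J w.reverse := fun i hi => h i (List.mem_reverse.1 hi)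

theorem WordIn.mono {D : ChevalleyDatum} {J K : Set ℕ} {w : List ℕ} (hKJ : K ⊆ J) (h : WordIn D K w) :
    WordIn D J w := fun i hi => ⟨(h i hi).1, hKJ (h i hi).2⟩

/-- the root lies in the span of the fundamental roots of `K` -/
def InSpan (D : ChevalleyDatum) (K : Set ℕ) (r : ℕ) : Prop := ∀ j < D.rank, j ∉ K → cv D r j = 0

/-- the word maps the fundamental roots of `K` to positive roots -/
def KPos (D : ChevalleyDatum) (K : Set ℕ) (w : List ℕ) : Prop :=
  ∀ k ∈ K, k < D.rank → D.IsPosRoot (reflWord D w (D.simple k))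

variable {F : Type*} [Field F]

namespace ChevFacts

variable {D : ChevalleyDatum} (hF : ChevFacts D F)
include hF

theorem rlt (w : List ℕ) (hw : ∀ i ∈ w, i < D.rank) (r : ℕ) (hr : r < D.nroots) :
    reflWord D w r < D.nroots := reflWord_lt D (etaOf D) hF.facts w hw r hr

theorem inSpan_reflect (K : Set ℕ) (k : ℕ) (hk : k < D.rank) (hkK : k ∈ K) (r : ℕ) (hr : r < D.nroots) :
    InSpan D K (D.reflectRoot k r) ↔ InSpan D K r := by
  have key : ∀ j < D.rank, j ∉ K → cv D (D.reflectRoot k r) j = cv D r j := by
    intro j hj hjK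
    have hne : j ≠ k := fun h => hjK (by rw [h]; exact hkK)
    rw [cv_reflect D (etaOf D k) k (hF.facts k hk) r hr j hj, if_neg hne, sub_zero]
  constructor
  · intro h j hj hjK
    rw [← key j hj hjK]
    exact h j hj hjK
  · intro h j hj hjK
    rw [key j hj hjK]
    exact h j hj hjK

theorem inSpan_reflWord (K : Set ℕ) (y : List ℕ) (hy : WordIn D K y) (r : ℕ) (hr : r < D.nroots) :
    InSpan D K (reflWord D y r) ↔ InSpan D K r := by
  induction y with
  | nil => rfl
  | cons i y ih =>
    have hy' : WordIn D K y := fun j hj => hy j (List.mem_cons_of_mem _ hj)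
    have hi := hy i List.mem_cons_self
    simp only [reflWord]
    rw [hF.inSpan_reflect K i hi.1 hi.2 _ (hF.rlt y hy'.valid r hr), ih hy']

theorem inSpan_simple (K : Set ℕ) (k : ℕ) (hk : k < D.rank) (hkK : k ∈ K) : InSpan D K (D.simple k) := by
  intro j hj hjK
  have hne : j ≠ k := fun h => hjK (by rw [h]; exact hkK)
  unfold cv
  rw [hF.refl.simple_coroot k hk j hj, if_neg hne]

/-- words of `K` keep the positive roots outside the span of `K` positive -/
theorem pos_of_not_inSpan (K : Set ℕ) (y : List ℕ) (hy : WordIn D K y) (r : ℕ) (hr : D.IsPosRoot r)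
    (hns : ¬ InSpan D K r) : D.IsPosRoot (reflWord D y r) := by
  induction y with
  | nil => exact hr
  | cons i y ih =>
    have hy' : WordIn D K y := fun j hj => hy j (List.mem_cons_of_mem _ hj)
    have hi := hy i List.mem_cons_self
    simp only [reflWord]
    apply hF.refl.refl_pos i hi.1 _ (ih hy')
    intro h
    apply hns
    rw [← hF.inSpan_reflWord K y hy' r hr.1, h]
    exact hF.inSpan_simple K i hi.1 hi.2

/-- a `K`-positive word keeps the positive roots of the span of `K` positive -/
theorem pos_of_inSpan (hS : CorSize D) (K : Set ℕ) (x : List ℕ) (hx : ∀ i ∈ x, i < D.rank) (hxK : KPos D K x)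
    (r : ℕ) (hr : D.IsPosRoot r) (hs : InSpan D K r) : D.IsPosRoot (reflWord D x r) := by
  apply isPosRoot_of_cv D hS _ (hF.rlt x hx r hr.1)
  intro k hk
  rw [cv_reflWord D (etaOf D) hF.facts hF.refl hF.simple_lt x hx r hr.1 k hk]
  apply Finset.sum_nonneg
  intro j hj
  by_cases hjK : j ∈ K
  · exact mul_nonneg (cv_nonneg D r hr j) (cv_nonneg D _ (hxK j hjK (Finset.mem_range.1 hj)) k)
  · rw [hs j (Finset.mem_range.1 hj) hjK, zero_mul]

/-- and the negative ones negative -/
theorem neg_of_inSpan (hS : CorSize D) (K : Set ℕ) (x : List ℕ) (hx : ∀ i ∈ x, i < D.rank) (hxK : KPos D K x)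
    (r : ℕ) (hr : D.IsNegRoot r) (hs : InSpan D K r) : D.IsNegRoot (reflWord D x r) := by
  apply isNegRoot_of_cv D hS _ (hF.rlt x hx r hr.1)
  intro k hk
  rw [cv_reflWord D (etaOf D) hF.facts hF.refl hF.simple_lt x hx r hr.1 k hk]
  apply Finset.sum_nonpos
  intro j hj
  by_cases hjK : j ∈ K
  · exact mul_nonpos_of_nonpos_of_nonneg (cv_nonpos D r hr j)
      (cv_nonneg D _ (hxK j hjK (Finset.mem_range.1 hj)) k)
  · rw [hs j (Finset.mem_range.1 hj) hjK, zero_mul]

/-- additivity of the number of positive roots made negative -/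
theorem card_negSet_append (hS : CorSize D) (K : Set ℕ) (x y : List ℕ) (hx : ∀ i ∈ x, i < D.rank)
    (hxK : KPos D K x) (hy : WordIn D K y) :
    (negSet D (x ++ y)).card = (negSet D x).card + (negSet D y).card := by
  classical
  have hyv := hy.valid
  have hry := hy.reverse
  -- the part in the span of `K`
  have hA : (negSet D (x ++ y)).filter (fun r => InSpan D K r) = negSet D y := by
    ext r
    rw [Finset.mem_filter, mem_negSet, mem_negSet, reflWord_append]
    constructor
    · rintro ⟨⟨hr, hneg⟩, hs⟩
      refine ⟨hr, ?_⟩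
      rcases hF.sign.pos_or_neg _ (hF.rlt y hyv r hr.1) with h1 | h1
      · exact absurd hneg (hF.sign.not_both _
          (hF.pos_of_inSpan hS K x hx hxK _ h1 ((hF.inSpan_reflWord K y hy r hr.1).2 hs)))
      · exact h1
    · rintro ⟨hr, hneg⟩
      have hs : InSpan D K r := by
        by_contra hns
        exact hF.sign.not_both _ (hF.pos_of_not_inSpan K y hy r hr hns) hneg
      exact ⟨⟨hr, hF.neg_of_inSpan hS K x hx hxK _ hneg ((hF.inSpan_reflWord K y hy r hr.1).2 hs)⟩, hs⟩
  -- the part outside the span of `K`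
  have hB : ((negSet D (x ++ y)).filter (fun r => ¬ InSpan D K r)).image (reflWord D y) = negSet D x := by
    ext s
    rw [Finset.mem_image, mem_negSet]
    constructor
    · rintro ⟨r, hr, rfl⟩
      rw [Finset.mem_filter, mem_negSet, reflWord_append] at hr
      exact ⟨hF.pos_of_not_inSpan K y hy r hr.1.1 hr.2, hr.1.2⟩
    · rintro ⟨hs, hneg⟩
      have hns : ¬ InSpan D K s := fun h =>
        hF.sign.not_both _ (hF.pos_of_inSpan hS K x hx hxK s hs h) hneg
      have hc := reflWord_reverse_cancel D (etaOf D) hF.facts y hyv s hs.1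
      refine ⟨reflWord D y.reverse s, ?_, hc⟩
      rw [Finset.mem_filter, mem_negSet, reflWord_append, hc]
      refine ⟨⟨hF.pos_of_not_inSpan K y.reverse hry s hs hns, hneg⟩, ?_⟩
      rw [hF.inSpan_reflWord K y.reverse hry s hs.1]
      exact hns
  have hinj : Set.InjOn (reflWord D y) ((negSet D (x ++ y)).filter (fun r => ¬ InSpan D K r) : Set ℕ) := by
    intro a ha b hb hab
    have ha' := ((mem_negSet D _ a).1 (Finset.mem_filter.1 ha).1).1.1
    have hb' := ((mem_negSet D _ b).1 (Finset.mem_filter.1 hb).1).1.1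
    rw [← reflWord_reverse_cancel' D (etaOf D) hF.facts y hyv a ha',
      ← reflWord_reverse_cancel' D (etaOf D) hF.facts y hyv b hb', hab]
  rw [← Finset.card_filter_add_card_filter_not (s := negSet D (x ++ y)) (fun r => InSpan D K r), hA,
    ← Finset.card_image_of_injOn hinj, hB, add_comm]

/-- existence of the factorisation -/
theorem exists_factor (J K : Set ℕ) (hKJ : K ⊆ J) (w : List ℕ) (hw : WordIn D J w) :
    ∃ x y : List ℕ, WordIn D J x ∧ KPos D K x ∧ WordIn D K y ∧
      ∀ r < D.nroots, reflWord D w r = reflWord D (x ++ y) r := by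
  induction h : (negSet D w).card using Nat.strong_induction_on generalizing w with
  | _ n ih =>
    by_cases hpos : KPos D K w
    · exact ⟨w, [], hw, hpos, fun i hi => by simp at hi, fun r _ => by rw [List.append_nil]⟩
    · unfold KPos at hpos
      push Not at hpos
      obtain ⟨k, hkK, hk, hnp⟩ := hpos
      have hneg : D.IsNegRoot (reflWord D w (D.simple k)) := by
        rcases hF.sign.pos_or_neg _ (hF.rlt w hw.valid _ (hF.simple_lt k hk)) with h1 | h1
        · exact absurd h1 hnp
        · exact h1
      have hw' : WordIn D J (w ++ [k]) :=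
        hw.append (fun i hi => by rw [List.mem_singleton.1 hi]; exact ⟨hk, hKJ hkK⟩)
      have hlt := hF.card_negSet_snoc_lt w hw.valid k hk hneg
      obtain ⟨x, y, hx, hxK, hy, hxy⟩ := ih _ (h ▸ hlt) (w ++ [k]) hw' rfl
      refine ⟨x, y ++ [k], hx, hxK,
        hy.append (fun i hi => by rw [List.mem_singleton.1 hi]; exact ⟨hk, hkK⟩), ?_⟩
      intro r hr
      have hσ := (hF.facts k hk).wlt r hr
      have := hxy _ hσ
      rw [reflWord_snoc, (hF.facts k hk).winv r hr] at this
      rw [this, ← List.append_assoc, reflWord_snoc]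

theorem card_negSet_congr (w w' : List ℕ) (h : ∀ r < D.nroots, reflWord D w r = reflWord D w' r) :
    (negSet D w).card = (negSet D w').card := by
  congr 1
  ext r
  rw [mem_negSet, mem_negSet]
  constructor
  · rintro ⟨h1, h2⟩
    exact ⟨h1, by rw [← h r h1.1]; exact h2⟩
  · rintro ⟨h1, h2⟩
    exact ⟨h1, by rw [h r h1.1]; exact h2⟩

theorem pos_of_card_negSet_eq_zero (w : List ℕ) (hw : ∀ i ∈ w, i < D.rank) (h : (negSet D w).card = 0) :
    ∀ r, D.IsPosRoot r → D.IsPosRoot (reflWord D w r) := by
  intro r hr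
  rcases hF.sign.pos_or_neg _ (hF.rlt w hw r hr.1) with h1 | h1
  · exact h1
  · have : r ∈ negSet D w := (mem_negSet D w r).2 ⟨hr, h1⟩
    rw [Finset.card_eq_zero] at h
    rw [h] at this
    simp at this

/-- uniqueness of the factorisation -/
theorem factor_unique (hS : CorSize D) (K : Set ℕ) (x x' y y' : List ℕ)
    (hx : ∀ i ∈ x, i < D.rank) (hx' : ∀ i ∈ x', i < D.rank) (hxK : KPos D K x) (hxK' : KPos D K x')
    (hy : WordIn D K y) (hy' : WordIn D K y')
    (h : ∀ r < D.nroots, reflWord D (x ++ y) r = reflWord D (x' ++ y') r) :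
    (∀ r < D.nroots, reflWord D x r = reflWord D x' r) ∧ (∀ r < D.nroots, reflWord D y r = reflWord D y' r) := by
  have hyv := hy.valid
  have hyv' := hy'.valid
  have hz : WordIn D K (y ++ y'.reverse) := hy.append hy'.reverse
  have hz' : WordIn D K (y' ++ y.reverse) := hy'.append hy.reverse
  -- `x' = x z`
  have e1 : ∀ r < D.nroots, reflWord D x' r = reflWord D (x ++ (y ++ y'.reverse)) r := by
    intro r hr
    have hlt := hF.rlt y'.reverse hy'.reverse.valid r hr
    rw [← List.append_assoc, reflWord_append, h _ hlt, reflWord_append,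
      reflWord_reverse_cancel D (etaOf D) hF.facts y' hyv' r hr]
  have e2 : ∀ r < D.nroots, reflWord D x r = reflWord D (x' ++ (y' ++ y.reverse)) r := by
    intro r hr
    have hlt := hF.rlt y.reverse hy.reverse.valid r hr
    rw [← List.append_assoc, reflWord_append, ← h _ hlt, reflWord_append,
      reflWord_reverse_cancel D (etaOf D) hF.facts y hyv r hr]
  have c1 := hF.card_negSet_congr _ _ e1
  rw [hF.card_negSet_append hS K x _ hx hxK hz] at c1
  have c2 := hF.card_negSet_congr _ _ e2
  rw [hF.card_negSet_append hS K x' _ hx' hxK' hz'] at c2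
  have z1 : (negSet D (y ++ y'.reverse)).card = 0 := by omega
  have z2 : (negSet D (y' ++ y.reverse)).card = 0 := by omega
  have hrev : (y ++ y'.reverse).reverse = y' ++ y.reverse := by
    rw [List.reverse_append, List.reverse_reverse]
  have ht := hF.reflWord_eq_of_pos (y ++ y'.reverse) hz.valid
    (hF.pos_of_card_negSet_eq_zero _ hz.valid z1)
    (by rw [hrev]; exact hF.pos_of_card_negSet_eq_zero _ hz'.valid z2)
  constructor
  · intro r hr
    rw [e1 r hr, reflWord_append, ht r hr]
  · intro r hr
    have hlt := hF.rlt y' hyv' r hr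
    have := ht _ hlt
    rw [reflWord_append, reflWord_reverse_cancel' D (etaOf D) hF.facts y' hyv' r hr] at this
    exact this

end ChevFacts

end Cfsg.Agent.Lead.Chev
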