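import Mathlib
import Cfsg.Agent.Lib.Lead.WeylFact

/-!
The factorisation of the Poincaré sums: `∑_{W_J} q^N = (∑_{W_J^K} q^N) (∑_{W_K} q^N)`.
-/

set_option autoImplicit false
set_option linter.unusedSectionVars false
set_option linter.unusedSimpArgs false
set_option linter.unusedVariables false

namespace Cfsg.Agent.Lead.Chev

open Cfsg Cfsg.Lie

open Classical in
/-- the actions of the `K`-positive words of `J` -/
noncomputable def weylSetPos (D : ChevalleyDatum) (J K : Set ℕ) : Finset (Fin D.nroots → Fin D.nroots) :=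
  Finset.univ.filter fun f => ∃ w : List ℕ, WordIn D J w ∧ KPos D K w ∧ actF D w = f

theorem mem_weylSetPos (D : ChevalleyDatum) (J K : Set ℕ) (f : Fin D.nroots → Fin D.nroots) :
    f ∈ weylSetPos D J K ↔ ∃ w : List ℕ, WordIn D J w ∧ KPos D K w ∧ actF D w = f := by
  classical
  unfold weylSetPos
  rw [Finset.mem_filter]
  exact ⟨fun h => h.2, fun h => ⟨Finset.mem_univ _, h⟩⟩

variable {F : Type*} [Field F]

namespace ChevFacts

variable {D : ChevalleyDatum} (hF : ChevFacts D F)
include hF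

theorem actF_append (x y : List ℕ) (hx : ∀ i ∈ x, i < D.rank) (hy : ∀ i ∈ y, i < D.rank) :
    actF D (x ++ y) = actF D x ∘ actF D y := by
  have hxy : ∀ i ∈ x ++ y, i < D.rank := by
    intro i hi
    rcases List.mem_append.1 hi with h1 | h1
    · exact hx i h1
    · exact hy i h1
  funext r
  apply Fin.ext
  rw [Function.comp_apply, actF_val D (etaOf D) hF.facts _ hxy, actF_val D (etaOf D) hF.facts _ hx,
    actF_val D (etaOf D) hF.facts _ hy, reflWord_append]

theorem sum_weylSet_factor (hS : CorSize D) (J K : Set ℕ) (hKJ : K ⊆ J) (q : ℕ) :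
    ∑ f ∈ weylSet D J, q ^ nNeg D f =
      (∑ f ∈ weylSetPos D J K, q ^ nNeg D f) * ∑ g ∈ weylSet D K, q ^ nNeg D g := by
  rw [Finset.sum_mul_sum, ← Finset.sum_product']
  symm
  apply Finset.sum_bij (fun p _ => p.1 ∘ p.2)
  · rintro ⟨f, g⟩ hp
    rw [Finset.mem_product] at hp
    obtain ⟨x, hx, hxK, rfl⟩ := (mem_weylSetPos D J K f).1 hp.1
    obtain ⟨y, hy, rfl⟩ := (mem_weylSet D K g).1 hp.2
    have hy' : WordIn D K y := hy
    rw [mem_weylSet]
    exact ⟨x ++ y, hx.append (hy'.mono hKJ), hF.actF_append x y hx.valid hy'.valid⟩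
  · rintro ⟨f, g⟩ hp ⟨f', g'⟩ hp' heq
    rw [Finset.mem_product] at hp hp'
    obtain ⟨x, hx, hxK, rfl⟩ := (mem_weylSetPos D J K f).1 hp.1
    obtain ⟨y, hy, rfl⟩ := (mem_weylSet D K g).1 hp.2
    obtain ⟨x', hx', hxK', rfl⟩ := (mem_weylSetPos D J K f').1 hp'.1
    obtain ⟨y', hy', rfl⟩ := (mem_weylSet D K g').1 hp'.2
    have hyK : WordIn D K y := hy
    have hyK' : WordIn D K y' := hy'
    simp only at heq
    rw [← hF.actF_append x y hx.valid hyK.valid, ← hF.actF_append x' y' hx'.valid hyK'.valid] at heq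
    have h1 := (actF_eq_iff D (etaOf D) hF.facts _ _ (hx.append (hyK.mono hKJ)).valid
      (hx'.append (hyK'.mono hKJ)).valid).1 heq
    obtain ⟨h2, h3⟩ := hF.factor_unique hS K x x' y y' hx.valid hx'.valid hxK hxK' hyK hyK' h1
    exact Prod.ext ((actF_eq_iff D (etaOf D) hF.facts _ _ hx.valid hx'.valid).2 h2)
      ((actF_eq_iff D (etaOf D) hF.facts _ _ hyK.valid hyK'.valid).2 h3)
  · intro f hf
    obtain ⟨w, hw, rfl⟩ := (mem_weylSet D J f).1 hf
    obtain ⟨x, y, hx, hxK, hy, hxy⟩ := hF.exists_factor J K hKJ w hw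
    refine ⟨(actF D x, actF D y), ?_, ?_⟩
    · rw [Finset.mem_product]
      exact ⟨(mem_weylSetPos D J K _).2 ⟨x, hx, hxK, rfl⟩, (mem_weylSet D K _).2 ⟨y, hy, rfl⟩⟩
    · simp only
      rw [← hF.actF_append x y hx.valid hy.valid]
      exact ((actF_eq_iff D (etaOf D) hF.facts _ _ (WordIn.valid hw) (hx.append (hy.mono hKJ)).valid).2 hxy).symm
  · rintro ⟨f, g⟩ hp
    rw [Finset.mem_product] at hp
    obtain ⟨x, hx, hxK, rfl⟩ := (mem_weylSetPos D J K f).1 hp.1
    obtain ⟨y, hy, rfl⟩ := (mem_weylSet D K g).1 hp.2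
    have hyK : WordIn D K y := hy
    simp only
    rw [← hF.actF_append x y hx.valid hyK.valid, nNeg_actF D (etaOf D) hF.facts _ hx.valid,
      nNeg_actF D (etaOf D) hF.facts _ hyK.valid,
      nNeg_actF D (etaOf D) hF.facts _ (hx.append (hyK.mono hKJ)).valid,
      hF.card_negSet_append hS K x y hx.valid hxK hyK, pow_add]

/-- the trivial group -/
theorem sum_weylSet_empty (q : ℕ) : ∑ f ∈ weylSet D (∅ : Set ℕ), q ^ nNeg D f = 1 := by
  have h1 : weylSet D (∅ : Set ℕ) = {actF D []} := by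
    ext f
    rw [mem_weylSet, Finset.mem_singleton]
    constructor
    · rintro ⟨w, hw, rfl⟩
      rcases w with _ | ⟨i, w⟩
      · rfl
      · exact absurd (hw i List.mem_cons_self).2 (Set.notMem_empty _)
    · rintro rfl
      exact ⟨[], fun i hi => by simp at hi, rfl⟩
  rw [h1, Finset.sum_singleton, nNeg_actF D (etaOf D) hF.facts [] (fun i hi => by simp at hi)]
  have : negSet D [] = ∅ := by
    ext r
    rw [mem_negSet]
    simp only [reflWord, Finset.notMem_empty, iff_false, not_and]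
    exact fun h => hF.sign.not_both r h
  rw [this, Finset.card_empty, pow_zero]

end ChevFacts

end Cfsg.Agent.Lead.Chev
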