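import Mathlib
import Cfsg.Agent.Lib.Lead.WeylSum
import Cfsg.Agent.Lib.Lead.ChevWeylTab

/-!
Certificates for the sets of minimal coset representatives `W_J^K`: a list of words, closed under left
multiplication by the generators of `J` modulo `W_K`, with separated actions.
-/

set_option autoImplicit false
set_option linter.unusedSectionVars false
set_option linter.unusedSimpArgs false
set_option linter.unusedVariables false

namespace Cfsg.Agent.Lead.Chev

open Cfsg Cfsg.Lie

/-- the coroot coordinates separate the roots -/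
def corInjChk (D : ChevalleyDatum) : Bool :=
  (List.range D.nroots).all fun r => (List.range D.nroots).all fun s =>
    r == s || (List.range D.rank).any fun k => cv D r k != cv D s k

def CorInj (D : ChevalleyDatum) : Prop :=
  ∀ r < D.nroots, ∀ s < D.nroots, (∀ k < D.rank, cv D r k = cv D s k) → r = s

theorem corInj_of_chk (D : ChevalleyDatum) (h : corInjChk D = true) : CorInj D := by
  intro r hr s hs hk
  unfold corInjChk at h
  rw [List.all_eq_true] at h
  have h1 := h r (List.mem_range.2 hr)
  rw [List.all_eq_true] at h1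
  have h2 := h1 s (List.mem_range.2 hs)
  rw [Bool.or_eq_true, List.any_eq_true] at h2
  rcases h2 with h2 | ⟨k, hk1, hk2⟩
  · exact beq_iff_eq.1 h2
  · exfalso
    rw [bne_iff_ne] at hk2
    exact hk2 (hk k (List.mem_range.1 hk1))

theorem getD_map_range (n : ℕ) (f : ℕ → ℕ) (k : ℕ) (hk : k < n) : ((List.range n).map f).getD k 0 = f k := by
  rw [List.getD_eq_getElem _ _ (by simp [hk])]
  simp

/-- a coset representative with its verified data -/
structure Rep where
  x : List ℕ
  img : List ℕ
  hints : List ℕ
  sep : List ℕ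
  N : ℕ

def Rep.nil : Rep := ⟨[], [], [], [], 0⟩

/-- the test of one representative -/
def repChk (D : ChevalleyDatum) (Ws Jl Kl Lam : List ℕ) (Reps : List Rep) (e : Rep) : Bool :=
  e.x.all (fun i => decide (i ∈ Jl)) &&
  (e.img == (List.range D.rank).map fun k => reflWordP Ws e.x (D.simple k)) &&
  Kl.all (fun k => decide (D.nroots / 2 ≤ e.img.getD k 0)) &&
  (e.sep == Lam.map (reflWordP Ws e.x)) &&
  (e.N == ((List.range' (D.nroots / 2) (D.nroots / 2)).filter
    fun r => decide (reflWordP Ws e.x r < D.nroots / 2)).length) &&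
  (e.hints.length == Jl.length) &&
  (List.zip Jl e.hints).all fun p =>
    if p.2 < Reps.length then
      ((List.range D.rank).map fun k => unpack8 (Ws.getD p.1 0) (e.img.getD k 0)) == (Reps.getD p.2 Rep.nil).img
    else
      decide (p.2 - Reps.length ∈ Kl) &&
        (((List.range D.rank).map fun k => unpack8 (Ws.getD p.1 0) (e.img.getD k 0)) ==
          (List.range D.rank).map fun k => reflWordP Ws e.x (unpack8 (Ws.getD (p.2 - Reps.length) 0) (D.simple k)))

/-- the test of a step `J ⊇ K` -/
def stepChk (D : ChevalleyDatum) (Ws Jl Kl Lam : List ℕ) (Reps : List Rep) : Bool :=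
  decide (D.nroots = 2 * (D.nroots / 2)) &&
  Jl.all (fun i => decide (i < D.rank)) && Kl.all (fun k => decide (k ∈ Jl)) &&
  Lam.all (fun r => decide (r < D.nroots)) &&
  (match Reps with
    | [] => false
    | e :: _ => e.x == []) &&
  decide ((Reps.map Rep.sep).Nodup) &&
  Reps.all (repChk D Ws Jl Kl Lam Reps)

variable {F : Type*} [Field F]

namespace ChevFacts

variable {D : ChevalleyDatum} (hF : ChevFacts D F)
include hF

theorem isPosRoot_iff_ge (s : ℕ) (hs : s < D.nroots) : D.IsPosRoot s ↔ D.nroots / 2 ≤ s := by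
  constructor
  · intro h
    exact (hF.posok s hs h).1
  · intro h
    rcases hF.sign.pos_or_neg s hs with h1 | h1
    · exact h1
    · exfalso
      have h2 := hF.sign.pos_of_neg s h1
      have h3 := (hF.posok _ h2.1 h2).2.1
      have e : D.negIdx.getD (D.neg s) 0 = D.neg (D.neg s) := rfl
      rw [e, hF.sign.neg_neg s hs] at h3
      omega

theorem isNegRoot_iff_lt (s : ℕ) (hs : s < D.nroots) : D.IsNegRoot s ↔ s < D.nroots / 2 := by
  constructor
  · intro h
    by_contra hge
    push Not at hge
    exact hF.sign.not_both s ((hF.isPosRoot_iff_ge s hs).2 hge) h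
  · intro h
    rcases hF.sign.pos_or_neg s hs with h1 | h1
    · have := (hF.isPosRoot_iff_ge s hs).1 h1
      omega
    · exact h1

/-- words agreeing on the fundamental roots agree on all roots -/
theorem reflWord_eq_of_simple (hI : CorInj D) (w w' : List ℕ) (hw : ∀ i ∈ w, i < D.rank)
    (hw' : ∀ i ∈ w', i < D.rank)
    (h : ∀ k < D.rank, reflWord D w (D.simple k) = reflWord D w' (D.simple k)) :
    ∀ r < D.nroots, reflWord D w r = reflWord D w' r := by
  intro r hr
  apply hI _ (hF.rlt w hw r hr) _ (hF.rlt w' hw' r hr)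
  intro k hk
  rw [cv_reflWord D (etaOf D) hF.facts hF.refl hF.simple_lt w hw r hr k hk,
    cv_reflWord D (etaOf D) hF.facts hF.refl hF.simple_lt w' hw' r hr k hk]
  apply Finset.sum_congr rfl
  intro j hj
  rw [h j (Finset.mem_range.1 hj)]

theorem card_negSet_eq_length (hn : D.nroots = 2 * (D.nroots / 2)) (Ws : List ℕ)
    (hWs : ∀ i < D.rank, ∀ v < D.nroots, unpack8 (Ws.getD i 0) v = D.reflectRoot i v)
    (x : List ℕ) (hx : ∀ i ∈ x, i < D.rank) :
    (negSet D x).card = ((List.range' (D.nroots / 2) (D.nroots / 2)).filter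
      fun r => decide (reflWordP Ws x r < D.nroots / 2)).length := by
  rw [← List.toFinset_card_of_nodup (List.Nodup.filter _ List.nodup_range')]
  congr 1
  ext r
  rw [mem_negSet, List.mem_toFinset, List.mem_filter, List.mem_range'_1, decide_eq_true_eq]
  constructor
  · rintro ⟨h1, h2⟩
    have h3 := (hF.isPosRoot_iff_ge r h1.1).1 h1
    refine ⟨⟨h3, by have := h1.1; omega⟩, ?_⟩
    rw [reflWordP_eq D (etaOf D) hF.facts Ws hWs x hx r h1.1]
    exact (hF.isNegRoot_iff_lt _ (hF.rlt x hx r h1.1)).1 h2
  · rintro ⟨⟨h1, h2⟩, h3⟩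
    have hr : r < D.nroots := by omega
    refine ⟨(hF.isPosRoot_iff_ge r hr).2 h1, ?_⟩
    rw [reflWordP_eq D (etaOf D) hF.facts Ws hWs x hx r hr] at h3
    exact (hF.isNegRoot_iff_lt _ (hF.rlt x hx r hr)).2 h3

theorem reflWord_append_congr (a b y : List ℕ) (hy : ∀ i ∈ y, i < D.rank)
    (h : ∀ r < D.nroots, reflWord D a r = reflWord D b r) :
    ∀ r < D.nroots, reflWord D (a ++ y) r = reflWord D (b ++ y) r := by
  intro r hr
  rw [reflWord_append, reflWord_append]
  exact h _ (hF.rlt y hy r hr)

/-- soundness of the certificate of a step -/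
theorem sum_weylSetPos_of_chk (hS : CorSize D) (hI : CorInj D) (Ws : List ℕ)
    (hWs : ∀ i < D.rank, ∀ v < D.nroots, unpack8 (Ws.getD i 0) v = D.reflectRoot i v)
    (Jl Kl Lam : List ℕ) (Reps : List Rep) (hchk : stepChk D Ws Jl Kl Lam Reps = true) (q : ℕ) :
    ∑ f ∈ weylSetPos D {i | i ∈ Jl} {i | i ∈ Kl}, q ^ nNeg D f = (Reps.map fun e => q ^ e.N).sum := by
  classical
  unfold stepChk at hchk
  simp only [Bool.and_eq_true, decide_eq_true_eq, List.all_eq_true] at hchk
  obtain ⟨⟨⟨⟨⟨⟨hn, hJl⟩, hKJ⟩, hLam⟩, hhead⟩, hnodup⟩, hreps⟩ := hchk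
  set J : Set ℕ := {i | i ∈ Jl} with hJ
  set K : Set ℕ := {i | i ∈ Kl} with hK
  have hKJ' : K ⊆ J := fun k hk => hKJ k hk
  -- unpack the test of each representative
  have hrep : ∀ e ∈ Reps, WordIn D J e.x ∧ KPos D K e.x ∧
      (e.img = (List.range D.rank).map fun k => reflWord D e.x (D.simple k)) ∧
      (e.sep = Lam.map (reflWord D e.x)) ∧ e.N = (negSet D e.x).card ∧
      ∀ i ∈ Jl, (∃ e' ∈ Reps, ∀ r < D.nroots, reflWord D (i :: e.x) r = reflWord D e'.x r) ∨
        ∃ j ∈ Kl, ∀ r < D.nroots, reflWord D (i :: e.x) r = reflWord D (e.x ++ [j]) r := by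
    intro e he
    have h := hreps e he
    unfold repChk at h
    simp only [Bool.and_eq_true, decide_eq_true_eq, List.all_eq_true, beq_iff_eq] at h
    obtain ⟨⟨⟨⟨⟨⟨h1, h2⟩, h3⟩, h4⟩, h5⟩, h6⟩, h7⟩ := h
    have hx : WordIn D J e.x := fun i hi => ⟨hJl i (h1 i hi), h1 i hi⟩
    have hxv := hx.valid
    have himg : e.img = (List.range D.rank).map fun k => reflWord D e.x (D.simple k) := by
      rw [h2]
      apply List.map_congr_left
      intro k hk
      exact reflWordP_eq D (etaOf D) hF.facts Ws hWs e.x hxv _ (hF.simple_lt k (List.mem_range.1 hk))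
    have himgk : ∀ k < D.rank, e.img.getD k 0 = reflWord D e.x (D.simple k) := by
      intro k hk
      rw [himg, getD_map_range _ _ k hk]
    refine ⟨hx, ?_, himg, ?_, ?_, ?_⟩
    · intro k hk hkr
      have := h3 k hk
      rw [himgk k hkr] at this
      exact (hF.isPosRoot_iff_ge _ (hF.rlt e.x hxv _ (hF.simple_lt k hkr))).2 this
    · rw [h4]
      apply List.map_congr_left
      intro r hr
      exact reflWordP_eq D (etaOf D) hF.facts Ws hWs e.x hxv r (hLam r hr)
    · rw [h5]
      exact (hF.card_negSet_eq_length hn Ws hWs e.x hxv).symm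
    · intro i hi
      -- the position of `i` in `Jl`
      obtain ⟨pos, hpos, rfl⟩ := List.getElem_of_mem hi
      have hlen : pos < e.hints.length := by rw [h6]; exact hpos
      have hmem : (Jl[pos], e.hints[pos]) ∈ List.zip Jl e.hints := by
        rw [List.mem_iff_getElem]
        refine ⟨pos, by rw [List.length_zip]; omega, ?_⟩
        rw [List.getElem_zip]
      have h8 := h7 _ hmem
      have hir : Jl[pos] < D.rank := hJl _ hi
      have hcons : ∀ k < D.rank, unpack8 (Ws.getD Jl[pos] 0) (e.img.getD k 0) =
          reflWord D (Jl[pos] :: e.x) (D.simple k) := by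
        intro k hk
        rw [himgk k hk, hWs _ hir _ (hF.rlt e.x hxv _ (hF.simple_lt k hk))]
        rfl
      have hixv : ∀ a ∈ Jl[pos] :: e.x, a < D.rank := by
        intro a ha
        rcases List.mem_cons.1 ha with rfl | ha
        · exact hir
        · exact hxv a ha
      simp only at h8
      split_ifs at h8 with hcode
      · left
        rw [beq_iff_eq] at h8
        have he' : Reps.getD (e.hints[pos]) Rep.nil ∈ Reps := by
          rw [List.getD_eq_getElem _ _ hcode]
          exact List.getElem_mem _
        refine ⟨_, he', ?_⟩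
        have h9 := hreps _ he'
        unfold repChk at h9
        simp only [Bool.and_eq_true, decide_eq_true_eq, List.all_eq_true, beq_iff_eq] at h9
        obtain ⟨⟨⟨⟨⟨⟨g1, g2⟩, -⟩, -⟩, -⟩, -⟩, -⟩ := h9
        have hx'v : ∀ a ∈ (Reps.getD (e.hints[pos]) Rep.nil).x, a < D.rank := fun a ha => hJl a (g1 a ha)
        apply hF.reflWord_eq_of_simple hI _ _ hixv hx'v
        intro k hk
        have e1 := congrArg (fun l => l.getD k 0) h8
        rw [g2, getD_map_range _ _ k hk, getD_map_range _ _ k hk] at e1
        rw [hcons k hk, reflWordP_eq D (etaOf D) hF.facts Ws hWs _ hx'v _ (hF.simple_lt k hk)] at e1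
        exact e1
      · right
        rw [Bool.and_eq_true, decide_eq_true_eq, beq_iff_eq] at h8
        obtain ⟨hjK, h8⟩ := h8
        set j := e.hints[pos] - Reps.length with hj
        have hjr : j < D.rank := hJl j (hKJ j hjK)
        refine ⟨j, hjK, ?_⟩
        have hxjv : ∀ a ∈ e.x ++ [j], a < D.rank := by
          intro a ha
          rcases List.mem_append.1 ha with ha | ha
          · exact hxv a ha
          · rw [List.mem_singleton.1 ha]; exact hjr
        apply hF.reflWord_eq_of_simple hI _ _ hixv hxjv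
        intro k hk
        have e1 := congrArg (fun l => l.getD k 0) h8
        rw [getD_map_range _ _ k hk, getD_map_range _ _ k hk] at e1
        rw [hcons k hk, hWs j hjr _ (hF.simple_lt k hk),
          reflWordP_eq D (etaOf D) hF.facts Ws hWs _ hxv _ ((hF.facts j hjr).wlt _ (hF.simple_lt k hk))] at e1
        rw [e1, reflWord_snoc]
  -- the empty word is a representative
  have hnil : ∃ e ∈ Reps, e.x = [] := by
    rcases Reps with _ | ⟨e, t⟩
    · simp at hhead
    · exact ⟨e, List.mem_cons_self, by simpa using hhead⟩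
  -- completeness
  have hcomplete : ∀ w : List ℕ, WordIn D J w → ∃ e ∈ Reps, ∃ y : List ℕ, WordIn D K y ∧
      ∀ r < D.nroots, reflWord D w r = reflWord D (e.x ++ y) r := by
    intro w
    induction w with
    | nil =>
      intro _
      obtain ⟨e, he, hex⟩ := hnil
      exact ⟨e, he, [], fun i hi => by simp at hi, fun r _ => by rw [hex]; rfl⟩
    | cons i w ih =>
      intro hw
      have hw' : WordIn D J w := fun a ha => hw a (List.mem_cons_of_mem _ ha)
      have hi := hw i List.mem_cons_self
      obtain ⟨e, he, y, hy, hwy⟩ := ih hw'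
      obtain ⟨hx, -, -, -, -, hcl⟩ := hrep e he
      have h1 : ∀ r < D.nroots, reflWord D (i :: w) r = reflWord D ((i :: e.x) ++ y) r := by
        intro r hr
        show D.reflectRoot i (reflWord D w r) = D.reflectRoot i (reflWord D (e.x ++ y) r)
        rw [hwy r hr]
      rcases hcl i hi.2 with ⟨e', he', h2⟩ | ⟨j, hj, h2⟩
      · refine ⟨e', he', y, hy, fun r hr => ?_⟩
        rw [h1 r hr]
        exact hF.reflWord_append_congr _ _ y hy.valid h2 r hr
      · have hjr : j < D.rank := hJl j (hKJ j hj)
        refine ⟨e, he, [j] ++ y, ?_, fun r hr => ?_⟩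
        · intro a ha
          rcases List.mem_append.1 ha with ha | ha
          · rw [List.mem_singleton.1 ha]; exact ⟨hjr, hj⟩
          · exact hy a ha
        · rw [h1 r hr, ← List.append_assoc]
          exact hF.reflWord_append_congr _ _ y hy.valid h2 r hr
  -- the set of actions
  have hset : weylSetPos D J K = (Reps.map fun e => actF D e.x).toFinset := by
    ext f
    rw [mem_weylSetPos, List.mem_toFinset, List.mem_map]
    constructor
    · rintro ⟨w, hw, hwK, rfl⟩
      obtain ⟨e, he, y, hy, hwy⟩ := hcomplete w hw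
      obtain ⟨hx, hxK, -, -, -, -⟩ := hrep e he
      refine ⟨e, he, ?_⟩
      have h0 : ∀ r < D.nroots, reflWord D (w ++ []) r = reflWord D (e.x ++ y) r := by
        intro r hr
        rw [List.append_nil]
        exact hwy r hr
      have := (hF.factor_unique hS K w e.x [] y hw.valid hx.valid hwK hxK
        (fun i hi => by simp at hi) hy h0).1
      exact ((actF_eq_iff D (etaOf D) hF.facts _ _ hw.valid hx.valid).2 this).symm
    · rintro ⟨e, he, rfl⟩
      obtain ⟨hx, hxK, -, -, -, -⟩ := hrep e he
      exact ⟨e.x, hx, hxK, rfl⟩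
  have hnd : (Reps.map fun e => actF D e.x).Nodup := by
    let k : (Fin D.nroots → Fin D.nroots) → List ℕ := fun f =>
      Lam.map fun r => if h : r < D.nroots then (f ⟨r, h⟩).val else 0
    apply List.Nodup.of_map k
    rw [List.map_map]
    have : (k ∘ fun e : Rep => actF D e.x) = fun e : Rep => if e ∈ Reps then e.sep else k (actF D e.x) := by
      funext e
      by_cases he : e ∈ Reps
      · rw [if_pos he]
        obtain ⟨hx, -, -, hsep, -, -⟩ := hrep e he
        rw [hsep]
        apply List.map_congr_left
        intro r hr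
        rw [dif_pos (hLam r hr), actF_val D (etaOf D) hF.facts _ hx.valid]
      · rw [if_neg he]
        rfl
    rw [this]
    have h2 : (Reps.map fun e : Rep => if e ∈ Reps then e.sep else k (actF D e.x)) = Reps.map Rep.sep := by
      apply List.map_congr_left
      intro e he
      rw [if_pos he]
    rw [h2]
    exact hnodup
  rw [hset, List.sum_toFinset _ hnd, List.map_map]
  congr 1
  apply List.map_congr_left
  intro e he
  obtain ⟨hx, -, -, -, hN, -⟩ := hrep e he
  simp only [Function.comp_apply]
  rw [nNeg_actF D (etaOf D) hF.facts _ hx.valid, hN]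

end ChevFacts

end Cfsg.Agent.Lead.Chev
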