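import Mathlib
import Cfsg.Agent.Lib.Lead.WeylCert
import Cfsg.Agent.Lib.Lead.PolyList

/-!
The order formula of a Chevalley group from a chain of certificates for the Poincaré sum.
-/

set_option autoImplicit false
set_option linter.unusedSectionVars false
set_option linter.unusedSimpArgs false
set_option linter.unusedVariables false

namespace Cfsg.Agent.Lead.Chev

open Cfsg Cfsg.Lie Cfsg.Agent.Lead.PolyL

/-- a chain of verified steps from `J` down to the empty set -/
def ChainOK (D : ChevalleyDatum) (Ws : List ℕ) : List ℕ → List (List ℕ × List ℕ × List Rep) → Prop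
  | J, [] => J = []
  | J, s :: rest => stepChk D Ws J s.1 s.2.1 s.2.2 = true ∧ ChainOK D Ws s.1 rest

/-- the polynomial of a step -/
def stepPoly (s : List ℕ × List ℕ × List Rep) : List ℤ := powSumL (s.2.2.map Rep.N)

variable {F : Type*} [Field F]

namespace ChevFacts

variable {D : ChevalleyDatum} (hF : ChevFacts D F)
include hF

theorem weylSet_congr (J J' : Set ℕ) (h : ∀ i < D.rank, i ∈ J ↔ i ∈ J') : weylSet D J = weylSet D J' := by
  ext f
  rw [mem_weylSet, mem_weylSet]
  constructor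
  · rintro ⟨w, hw, rfl⟩
    exact ⟨w, fun i hi => ⟨(hw i hi).1, (h i (hw i hi).1).1 (hw i hi).2⟩, rfl⟩
  · rintro ⟨w, hw, rfl⟩
    exact ⟨w, fun i hi => ⟨(hw i hi).1, (h i (hw i hi).1).2 (hw i hi).2⟩, rfl⟩

theorem sum_weylSet_of_chain (hS : CorSize D) (hI : CorInj D) (Ws : List ℕ)
    (hWs : ∀ i < D.rank, ∀ v < D.nroots, unpack8 (Ws.getD i 0) v = D.reflectRoot i v)
    (steps : List (List ℕ × List ℕ × List Rep)) (J : List ℕ) (h : ChainOK D Ws J steps) (q : ℕ) :
    ∑ f ∈ weylSet D {i | i ∈ J}, q ^ nNeg D f =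
      (steps.map fun s => (s.2.2.map fun e => q ^ e.N).sum).prod := by
  induction steps generalizing J with
  | nil =>
    have hJ : J = [] := h
    subst hJ
    rw [hF.weylSet_congr {i | i ∈ ([] : List ℕ)} ∅ (fun i _ => by simp), hF.sum_weylSet_empty]
    rfl
  | cons s rest ih =>
    obtain ⟨h1, h2⟩ := h
    have hKJ : ({i | i ∈ s.1} : Set ℕ) ⊆ {i | i ∈ J} := by
      intro k hk
      unfold stepChk at h1
      simp only [Bool.and_eq_true, decide_eq_true_eq, List.all_eq_true] at h1
      exact h1.1.1.1.1.2 k hk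
    rw [hF.sum_weylSet_factor hS _ _ hKJ, hF.sum_weylSetPos_of_chk hS hI Ws hWs J s.1 s.2.1 s.2.2 h1,
      ih s.1 h2, List.map_cons, List.prod_cons]

theorem card_borel [Fintype F] :
    Nat.card ↥(D.borelSubgroup F) = Nat.card ↥(D.posUnipotent F) * Nat.card ↥(D.diagonalSubgroup F) := by
  rw [← Nat.card_prod]
  let ψ : ↥(D.posUnipotent F) × ↥(D.diagonalSubgroup F) → ↥(D.borelSubgroup F) := fun p =>
    ⟨(p.1 : GL D.Idx F) * p.2, (hF.mem_borel_iff _).2 ⟨p.1, p.1.2, p.2, p.2.2, rfl⟩⟩
  have hinj : Function.Injective ψ := by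
    rintro ⟨u, h⟩ ⟨u', h'⟩ e
    have e1 : (u : GL D.Idx F) * h = u' * h' := congrArg Subtype.val e
    have e2 : (u' : GL D.Idx F)⁻¹ * u = h' * (h : GL D.Idx F)⁻¹ := by
      calc (u' : GL D.Idx F)⁻¹ * u = (u' : GL D.Idx F)⁻¹ * (u * h) * (h : GL D.Idx F)⁻¹ := by group
        _ = h' * (h : GL D.Idx F)⁻¹ := by rw [e1]; group
    have h3a : (u' : GL D.Idx F)⁻¹ * u ∈ D.posUnipotent F := mul_mem (inv_mem u'.2) u.2
    have h3b : (u' : GL D.Idx F)⁻¹ * u ∈ D.diagonalSubgroup F := by
      rw [e2]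
      exact mul_mem h'.2 (inv_mem h.2)
    have h3 : (u' : GL D.Idx F)⁻¹ * u ∈ D.posUnipotent F ⊓ D.diagonalSubgroup F := ⟨h3a, h3b⟩
    rw [posUnipotent_inf_diagonalSubgroup D hF.hall hF.posok, Subgroup.mem_bot] at h3
    have hu : (u : GL D.Idx F) = u' := (inv_mul_eq_one.1 h3).symm
    have hh : (h : GL D.Idx F) = h' := by
      rw [hu] at e1
      exact mul_left_cancel e1
    exact Prod.ext (Subtype.ext hu) (Subtype.ext hh)
  have hsurj : Function.Surjective ψ := by
    rintro ⟨b, hb⟩
    obtain ⟨u, hu, h, hh, rfl⟩ := (hF.mem_borel_iff b).1 hb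
    exact ⟨(⟨u, hu⟩, ⟨h, hh⟩), rfl⟩
  exact (Nat.card_congr (Equiv.ofBijective ψ ⟨hinj, hsurj⟩)).symm

/-- the order formula -/
theorem order_of_chain [Fintype F] (hS : CorSize D) (hC : CorComb D) (hI : CorInj D) (Ws : List ℕ)
    (hWs : ∀ i < D.rank, ∀ v < D.nroots, unpack8 (Ws.getD i 0) v = D.reflectRoot i v)
    (steps : List (List ℕ × List ℕ × List Rep)) (hchain : ChainOK D Ws (List.range D.rank) steps)
    (ds : List ℕ)
    (hpoly : mulL (prodP (List.replicate D.rank (pm1L 1))) (prodP (steps.map stepPoly)) = prodP (ds.map pm1L))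
    (d : ℕ) (hH : d * Nat.card ↥(D.diagonalSubgroup F) = (Fintype.card F - 1) ^ D.rank)
    (hU : Nat.card ↥(D.posUnipotent F) = Fintype.card F ^ (D.nroots / 2)) :
    d * Nat.card ↥(D.group F) =
      Fintype.card F ^ (D.nroots / 2) * (ds.map fun k => Fintype.card F ^ k - 1).prod := by
  set q := Fintype.card F with hq
  have hq1 : 1 ≤ q := Fintype.card_pos
  have hsum : ∑ f ∈ weylSet D Set.univ, q ^ nNeg D f =
      (steps.map fun s => (s.2.2.map fun e => q ^ e.N).sum).prod := by
    rw [hF.weylSet_congr Set.univ {i | i ∈ List.range D.rank} (fun i hi => by simp [hi])]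
    exact hF.sum_weylSet_of_chain hS hI Ws hWs steps _ hchain q
  -- the polynomial identity, over the integers
  have hZ : ((q - 1 : ℕ) : ℤ) ^ D.rank * ((steps.map fun s => (s.2.2.map fun e => q ^ e.N).sum).prod : ℕ) =
      (((ds.map fun k => q ^ k - 1).prod : ℕ) : ℤ) := by
    have e1 := congrArg (fun P => evalL P (q : ℤ)) hpoly
    simp only [evalL_mulL, evalL_prodP] at e1
    have a1 : ((List.replicate D.rank (pm1L 1)).map fun P => evalL P (q : ℤ)).prod = ((q - 1 : ℕ) : ℤ) ^ D.rank := by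
      rw [List.map_replicate, List.prod_replicate, evalL_pm1L, pow_one, Nat.cast_sub hq1, Nat.cast_one]
    have a2 : ((steps.map stepPoly).map fun P => evalL P (q : ℤ)).prod =
        (((steps.map fun s => (s.2.2.map fun e => q ^ e.N).sum).prod : ℕ) : ℤ) := by
      rw [List.map_map, Nat.cast_list_prod, List.map_map]
      congr 1
      apply List.map_congr_left
      intro s _
      simp only [Function.comp_apply, stepPoly]
      rw [evalL_powSumL, Nat.cast_list_sum, List.map_map, List.map_map]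
      congr 1 <;> (apply List.map_congr_left; intro e _; simp)
    have a3 : ((ds.map pm1L).map fun P => evalL P (q : ℤ)).prod = (((ds.map fun k => q ^ k - 1).prod : ℕ) : ℤ) := by
      rw [List.map_map, Nat.cast_list_prod, List.map_map]
      congr 1
      apply List.map_congr_left
      intro k _
      simp only [Function.comp_apply]
      rw [evalL_pm1L, Nat.cast_sub (Nat.one_le_pow _ _ hq1), Nat.cast_pow, Nat.cast_one]
    rw [a1, a2, a3] at e1
    exact e1
  have hN : (q - 1) ^ D.rank * (steps.map fun s => (s.2.2.map fun e => q ^ e.N).sum).prod =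
      (ds.map fun k => q ^ k - 1).prod := by
    have := hZ
    rw [← Nat.cast_pow, ← Nat.cast_mul] at this
    exact Nat.cast_injective this
  rw [hF.card_group hS hC, hsum, hF.card_borel, hU, ← hN, ← hH]
  ring

end ChevFacts

end Cfsg.Agent.Lead.Chev
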