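import Mathlib
import Cfsg.Agent.Lib.Lead.ChevOrder
import Cfsg.Agent.Lib.Lead.ChevFactsAll
import Cfsg.Agent.Lib.Lead.ChevComb_G2
import Cfsg.Agent.Lib.Lead.ChevComb_B2
import Cfsg.Agent.Lib.Lead.ChevComb_D4
import Cfsg.Agent.Lib.Lead.ChevComb_F4
import Cfsg.Agent.Lib.Lead.ChevComb_E6
import Cfsg.Agent.Lib.Lead.ChevComb_E7
import Cfsg.Agent.Lib.Lead.ChevComb_E8

/-!
The table facts `CorComb`, `CorInj` for the seven data.
-/

set_option autoImplicit false

namespace Cfsg.Agent.Lead.Chev

open Cfsg Cfsg.Lie

theorem corComb_of_mem (D : ChevalleyDatum)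
    (hD : D ∈ [chevG2, chevB2, chevD4, chevF4, chevE6, chevE7, chevE8]) : CorComb D := by
  simp only [List.mem_cons, List.not_mem_nil, or_false] at hD
  rcases hD with rfl | rfl | rfl | rfl | rfl | rfl | rfl
  · exact corComb_of_chk _ corCombOK_G2
  · exact corComb_of_chk _ corCombOK_B2
  · exact corComb_of_chk _ corCombOK_D4
  · exact corComb_of_chk _ corCombOK_F4
  · exact corComb_of_chk _ corCombOK_E6
  · exact corComb_of_chk _ corCombOK_E7
  · exact corComb_of_chk _ corCombOK_E8

theorem corInjOK_G2 : corInjChk chevG2 = true := by decide +kernel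
theorem corInjOK_B2 : corInjChk chevB2 = true := by decide +kernel
theorem corInjOK_D4 : corInjChk chevD4 = true := by decide +kernel
theorem corInjOK_F4 : corInjChk chevF4 = true := by decide +kernel
theorem corInjOK_E6 : corInjChk chevE6 = true := by decide +kernel
theorem corInjOK_E7 : corInjChk chevE7 = true := by decide +kernel
theorem corInjOK_E8 : corInjChk chevE8 = true := by decide +kernel

theorem corInj_of_mem (D : ChevalleyDatum)
    (hD : D ∈ [chevG2, chevB2, chevD4, chevF4, chevE6, chevE7, chevE8]) : CorInj D := by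
  simp only [List.mem_cons, List.not_mem_nil, or_false] at hD
  rcases hD with rfl | rfl | rfl | rfl | rfl | rfl | rfl
  · exact corInj_of_chk _ corInjOK_G2
  · exact corInj_of_chk _ corInjOK_B2
  · exact corInj_of_chk _ corInjOK_D4
  · exact corInj_of_chk _ corInjOK_F4
  · exact corInj_of_chk _ corInjOK_E6
  · exact corInj_of_chk _ corInjOK_E7
  · exact corInj_of_chk _ corInjOK_E8

end Cfsg.Agent.Lead.Chev
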