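import Mathlib
import Cfsg.Agent.Lib.Lead.WeylCert
import Cfsg.Prelude.Def_ChevB2

set_option autoImplicit false

namespace Cfsg.Agent.Lead.Chev

open Cfsg Cfsg.Lie

def weylJ_B2_0 : List ℕ := [0, 1]
def weylK_B2_0 : List ℕ := [0]
def weylLam_B2_0 : List ℕ := [1]
def weylReps_B2_0 : List Rep := [
  ⟨[], [5, 4], [4, 1], [1], 0⟩,
  ⟨[1], [6, 3], [2, 0], [2], 1⟩,
  ⟨[0, 1], [6, 0], [1, 3], [5], 2⟩,
  ⟨[1, 0, 1], [5, 0], [4, 2], [6], 3⟩]

set_option maxRecDepth 1000000 in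
theorem weylChk_B2_0 : stepChk chevB2 (wsOf chevB2) weylJ_B2_0 weylK_B2_0 weylLam_B2_0 weylReps_B2_0 = true := by
  decide +kernel

def weylJ_B2_1 : List ℕ := [0]
def weylK_B2_1 : List ℕ := []
def weylLam_B2_1 : List ℕ := [0]
def weylReps_B2_1 : List Rep := [
  ⟨[], [5, 4], [1], [0], 0⟩,
  ⟨[0], [2, 7], [0], [3], 1⟩]

set_option maxRecDepth 1000000 in
theorem weylChk_B2_1 : stepChk chevB2 (wsOf chevB2) weylJ_B2_1 weylK_B2_1 weylLam_B2_1 weylReps_B2_1 = true := by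
  decide +kernel

end Cfsg.Agent.Lead.Chev
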