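import Mathlib
import Cfsg.Agent.Lib.Lead.WeylData_B2
import Cfsg.Agent.Lib.Lead.ChevOrder

set_option autoImplicit false

namespace Cfsg.Agent.Lead.Chev

open Cfsg Cfsg.Lie Cfsg.Agent.Lead.PolyL

def weylSteps_B2 : List (List ℕ × List ℕ × List Rep) :=
  [(weylK_B2_0, weylLam_B2_0, weylReps_B2_0), (weylK_B2_1, weylLam_B2_1, weylReps_B2_1)]

theorem weylChain_B2 : ChainOK chevB2 (wsOf chevB2) (List.range chevB2.rank) weylSteps_B2 :=
  ⟨weylChk_B2_0, weylChk_B2_1, rfl⟩

def weylDegrees_B2 : List ℕ := [2, 4]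

set_option maxRecDepth 1000000 in
theorem weylPoly_B2 : mulL (prodP (List.replicate chevB2.rank (pm1L 1))) (prodP (weylSteps_B2.map stepPoly)) =
    prodP (weylDegrees_B2.map pm1L) := by decide +kernel

end Cfsg.Agent.Lead.Chev
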