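import Mathlib
import Cfsg.Agent.Lib.Lead.WeylCert
import Cfsg.Prelude.Def_ChevD4

set_option autoImplicit false

namespace Cfsg.Agent.Lead.Chev

open Cfsg Cfsg.Lie

def weylJ_D4_0 : List ℕ := [0, 1, 2, 3]
def weylK_D4_0 : List ℕ := [0, 1, 2]
def weylLam_D4_0 : List ℕ := [0, 1]
def weylReps_D4_0 : List Rep := [
  ⟨[], [18, 14, 13, 12], [8, 9, 10, 1], [0, 1], 0⟩,
  ⟨[3], [18, 15, 13, 11], [8, 2, 10, 0], [0, 2], 1⟩,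
  ⟨[1, 3], [19, 12, 16, 8], [3, 1, 4, 9], [1, 2], 2⟩,
  ⟨[0, 1, 3], [14, 12, 21, 3], [2, 8, 5, 9], [6, 7], 3⟩,
  ⟨[2, 1, 3], [21, 12, 14, 6], [5, 10, 2, 9], [3, 4], 3⟩,
  ⟨[2, 0, 1, 3], [16, 12, 19, 1], [4, 6, 3, 9], [8, 9], 4⟩,
  ⟨[1, 2, 0, 1, 3], [13, 15, 18, 0], [10, 5, 8, 7], [11, 14], 5⟩,
  ⟨[3, 1, 2, 0, 1, 3], [13, 14, 18, 0], [10, 9, 8, 6], [12, 15], 6⟩]

set_option maxRecDepth 1000000 in
theorem weylChk_D4_0 : stepChk chevD4 (wsOf chevD4) weylJ_D4_0 weylK_D4_0 weylLam_D4_0 weylReps_D4_0 = true := by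
  decide +kernel

def weylJ_D4_1 : List ℕ := [0, 1, 2]
def weylK_D4_1 : List ℕ := [0, 1]
def weylLam_D4_1 : List ℕ := [2]
def weylReps_D4_1 : List Rep := [
  ⟨[], [18, 14, 13, 12], [4, 5, 1], [2], 0⟩,
  ⟨[2], [18, 16, 10, 12], [4, 2, 0], [4], 1⟩,
  ⟨[1, 2], [19, 13, 7, 15], [3, 1, 5], [5], 2⟩,
  ⟨[0, 1, 2], [14, 13, 2, 20], [2, 4, 5], [18], 3⟩]

set_option maxRecDepth 1000000 in
theorem weylChk_D4_1 : stepChk chevD4 (wsOf chevD4) weylJ_D4_1 weylK_D4_1 weylLam_D4_1 weylReps_D4_1 = true := by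
  decide +kernel

def weylJ_D4_2 : List ℕ := [0, 1]
def weylK_D4_2 : List ℕ := [0]
def weylLam_D4_2 : List ℕ := [0]
def weylReps_D4_2 : List Rep := [
  ⟨[], [18, 14, 13, 12], [3, 1], [0], 0⟩,
  ⟨[1], [19, 9, 16, 15], [2, 0], [1], 1⟩,
  ⟨[0, 1], [14, 4, 21, 20], [1, 3], [6], 2⟩]

set_option maxRecDepth 1000000 in
theorem weylChk_D4_2 : stepChk chevD4 (wsOf chevD4) weylJ_D4_2 weylK_D4_2 weylLam_D4_2 weylReps_D4_2 = true := by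
  decide +kernel

def weylJ_D4_3 : List ℕ := [0]
def weylK_D4_3 : List ℕ := []
def weylLam_D4_3 : List ℕ := [1]
def weylReps_D4_3 : List Rep := [
  ⟨[], [18, 14, 13, 12], [1], [1], 0⟩,
  ⟨[0], [5, 19, 13, 12], [0], [6], 1⟩]

set_option maxRecDepth 1000000 in
theorem weylChk_D4_3 : stepChk chevD4 (wsOf chevD4) weylJ_D4_3 weylK_D4_3 weylLam_D4_3 weylReps_D4_3 = true := by
  decide +kernel

end Cfsg.Agent.Lead.Chev
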