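import Mathlib
import Cfsg.Agent.Lib.Lead.WeylData_D4
import Cfsg.Agent.Lib.Lead.ChevOrder

set_option autoImplicit false

namespace Cfsg.Agent.Lead.Chev

open Cfsg Cfsg.Lie Cfsg.Agent.Lead.PolyL

def weylSteps_D4 : List (List ℕ × List ℕ × List Rep) :=
  [(weylK_D4_0, weylLam_D4_0, weylReps_D4_0), (weylK_D4_1, weylLam_D4_1, weylReps_D4_1), (weylK_D4_2, weylLam_D4_2, weylReps_D4_2), (weylK_D4_3, weylLam_D4_3, weylReps_D4_3)]

theorem weylChain_D4 : ChainOK chevD4 (wsOf chevD4) (List.range chevD4.rank) weylSteps_D4 :=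
  ⟨weylChk_D4_0, weylChk_D4_1, weylChk_D4_2, weylChk_D4_3, rfl⟩

def weylDegrees_D4 : List ℕ := [2, 4, 4, 6]

set_option maxRecDepth 1000000 in
theorem weylPoly_D4 : mulL (prodP (List.replicate chevD4.rank (pm1L 1))) (prodP (weylSteps_D4.map stepPoly)) =
    prodP (weylDegrees_D4.map pm1L) := by decide +kernel

end Cfsg.Agent.Lead.Chev
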