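import Mathlib
import Cfsg.Agent.Lib.Lead.WeylCert
import Cfsg.Prelude.Def_ChevE6

set_option autoImplicit false

namespace Cfsg.Agent.Lead.Chev

open Cfsg Cfsg.Lie

def weylJ_E6_0 : List ℕ := [0, 1, 2, 3, 4, 5]
def weylK_E6_0 : List ℕ := [1, 2, 3, 4, 5]
def weylLam_E6_0 : List ℕ := [0, 11]
def weylReps_E6_0 : List Rep := [
  ⟨[], [56, 46, 42, 39, 37, 36], [1, 28, 29, 30, 31, 32], [0, 11], 0⟩,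
  ⟨[0], [15, 46, 57, 39, 37, 36], [0, 28, 2, 30, 31, 32], [0, 26], 1⟩,
  ⟨[2, 0], [14, 46, 56, 43, 37, 36], [29, 28, 1, 3, 31, 32], [0, 30], 2⟩,
  ⟨[3, 2, 0], [13, 47, 56, 42, 40, 36], [29, 4, 30, 2, 5, 32], [0, 33], 3⟩,
  ⟨[1, 3, 2, 0], [10, 39, 56, 42, 48, 36], [29, 3, 30, 28, 6, 32], [1, 33], 4⟩,
  ⟨[4, 3, 2, 0], [12, 48, 56, 42, 39, 38], [29, 6, 30, 31, 3, 7], [0, 35], 4⟩,
  ⟨[4, 1, 3, 2, 0], [9, 40, 56, 42, 47, 38], [29, 5, 30, 8, 4, 9], [1, 35], 5⟩,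
  ⟨[5, 4, 3, 2, 0], [11, 49, 56, 42, 39, 37], [29, 9, 30, 31, 32, 5], [0, 36], 5⟩,
  ⟨[3, 4, 1, 3, 2, 0], [7, 37, 56, 43, 46, 41], [29, 31, 10, 6, 28, 11], [2, 35], 6⟩,
  ⟨[5, 4, 1, 3, 2, 0], [8, 41, 56, 42, 47, 37], [29, 7, 30, 11, 32, 6], [1, 36], 6⟩,
  ⟨[2, 3, 4, 1, 3, 2, 0], [4, 37, 57, 39, 46, 45], [12, 31, 8, 30, 28, 13], [5, 35], 7⟩,
  ⟨[5, 3, 4, 1, 3, 2, 0], [6, 38, 56, 43, 46, 40], [29, 31, 13, 9, 14, 8], [2, 36], 7⟩,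
  ⟨[0, 2, 3, 4, 1, 3, 2, 0], [4, 37, 42, 39, 46, 60], [10, 31, 29, 30, 28, 15], [16, 35], 8⟩,
  ⟨[5, 2, 3, 4, 1, 3, 2, 0], [3, 38, 57, 39, 46, 44], [15, 31, 11, 30, 16, 10], [5, 36], 8⟩,
  ⟨[4, 5, 3, 4, 1, 3, 2, 0], [5, 36, 56, 44, 46, 39], [29, 31, 16, 32, 11, 28], [3, 38], 8⟩,
  ⟨[5, 0, 2, 3, 4, 1, 3, 2, 0], [3, 38, 42, 39, 46, 59], [13, 31, 29, 30, 17, 12], [16, 36], 9⟩,
  ⟨[4, 5, 2, 3, 4, 1, 3, 2, 0], [2, 36, 57, 40, 46, 43], [17, 31, 14, 18, 13, 28], [6, 38], 9⟩,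
  ⟨[4, 5, 0, 2, 3, 4, 1, 3, 2, 0], [2, 36, 42, 40, 46, 58], [16, 31, 29, 19, 15, 28], [17, 38], 10⟩,
  ⟨[3, 4, 5, 2, 3, 4, 1, 3, 2, 0], [1, 36, 58, 37, 47, 42], [19, 20, 32, 16, 30, 28], [8, 41], 10⟩,
  ⟨[3, 4, 5, 0, 2, 3, 4, 1, 3, 2, 0], [1, 36, 43, 37, 47, 57], [18, 21, 22, 17, 30, 28], [19, 41], 11⟩,
  ⟨[1, 3, 4, 5, 2, 3, 4, 1, 3, 2, 0], [0, 36, 61, 37, 39, 42], [21, 18, 32, 31, 30, 28], [11, 49], 11⟩,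
  ⟨[1, 3, 4, 5, 0, 2, 3, 4, 1, 3, 2, 0], [0, 36, 50, 37, 39, 57], [20, 19, 23, 31, 30, 28], [26, 49], 12⟩,
  ⟨[2, 3, 4, 5, 0, 2, 3, 4, 1, 3, 2, 0], [1, 36, 39, 37, 50, 56], [32, 23, 19, 29, 30, 28], [22, 45], 12⟩,
  ⟨[2, 1, 3, 4, 5, 0, 2, 3, 4, 1, 3, 2, 0], [0, 36, 47, 37, 43, 56], [32, 22, 21, 24, 30, 28], [30, 52], 13⟩,
  ⟨[3, 2, 1, 3, 4, 5, 0, 2, 3, 4, 1, 3, 2, 0], [0, 36, 46, 40, 42, 56], [32, 29, 31, 23, 25, 28], [33, 54], 14⟩,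
  ⟨[4, 3, 2, 1, 3, 4, 5, 0, 2, 3, 4, 1, 3, 2, 0], [0, 38, 46, 39, 42, 56], [32, 29, 31, 30, 24, 26], [35, 55], 15⟩,
  ⟨[5, 4, 3, 2, 1, 3, 4, 5, 0, 2, 3, 4, 1, 3, 2, 0], [0, 37, 46, 39, 42, 56], [32, 29, 31, 30, 28, 25], [36, 55], 16⟩]

set_option maxRecDepth 1000000 in
theorem weylChk_E6_0 : stepChk chevE6 (wsOf chevE6) weylJ_E6_0 weylK_E6_0 weylLam_E6_0 weylReps_E6_0 = true := by
  decide +kernel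

def weylJ_E6_1 : List ℕ := [1, 2, 3, 4, 5]
def weylK_E6_1 : List ℕ := [1, 2, 3, 4]
def weylLam_E6_1 : List ℕ := [16, 3]
def weylReps_E6_1 : List Rep := [
  ⟨[], [56, 46, 42, 39, 37, 36], [11, 12, 13, 14, 1], [16, 3], 0⟩,
  ⟨[5], [56, 46, 42, 39, 38, 35], [11, 12, 13, 2, 0], [16, 4], 1⟩,
  ⟨[4, 5], [56, 46, 42, 40, 36, 33], [11, 12, 3, 1, 14], [17, 4], 2⟩,
  ⟨[3, 4, 5], [56, 47, 43, 37, 36, 30], [4, 5, 2, 13, 14], [19, 4], 3⟩,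
  ⟨[1, 3, 4, 5], [56, 39, 50, 37, 36, 22], [3, 6, 11, 13, 14], [26, 4], 4⟩,
  ⟨[2, 3, 4, 5], [57, 50, 39, 37, 36, 26], [6, 3, 12, 13, 14], [22, 7], 4⟩,
  ⟨[2, 1, 3, 4, 5], [57, 43, 47, 37, 36, 19], [5, 4, 7, 13, 14], [30, 7], 5⟩,
  ⟨[3, 2, 1, 3, 4, 5], [58, 42, 46, 40, 36, 17], [12, 11, 6, 8, 14], [33, 9], 6⟩,
  ⟨[4, 3, 2, 1, 3, 4, 5], [59, 42, 46, 39, 38, 16], [12, 11, 13, 7, 9], [35, 10], 7⟩,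
  ⟨[5, 4, 3, 2, 1, 3, 4, 5], [60, 42, 46, 39, 37, 16], [12, 11, 13, 14, 8], [36, 10], 8⟩]

set_option maxRecDepth 1000000 in
theorem weylChk_E6_1 : stepChk chevE6 (wsOf chevE6) weylJ_E6_1 weylK_E6_1 weylLam_E6_1 weylReps_E6_1 = true := by
  decide +kernel

def weylJ_E6_2 : List ℕ := [1, 2, 3, 4]
def weylK_E6_2 : List ℕ := [1, 2, 3]
def weylLam_E6_2 : List ℕ := [16]
def weylReps_E6_2 : List Rep := [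
  ⟨[], [56, 46, 42, 39, 37, 36], [9, 10, 11, 1], [16], 0⟩,
  ⟨[4], [56, 46, 42, 40, 34, 38], [9, 10, 2, 0], [17], 1⟩,
  ⟨[3, 4], [56, 47, 43, 37, 31, 41], [3, 4, 1, 11], [19], 2⟩,
  ⟨[1, 3, 4], [56, 39, 50, 37, 23, 49], [2, 5, 9, 11], [26], 3⟩,
  ⟨[2, 3, 4], [57, 50, 39, 37, 27, 45], [5, 2, 10, 11], [22], 3⟩,
  ⟨[2, 1, 3, 4], [57, 43, 47, 37, 20, 52], [4, 3, 6, 11], [30], 4⟩,
  ⟨[3, 2, 1, 3, 4], [58, 42, 46, 40, 18, 54], [10, 9, 5, 7], [33], 5⟩,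
  ⟨[4, 3, 2, 1, 3, 4], [59, 42, 46, 39, 18, 55], [10, 9, 11, 6], [35], 6⟩]

set_option maxRecDepth 1000000 in
theorem weylChk_E6_2 : stepChk chevE6 (wsOf chevE6) weylJ_E6_2 weylK_E6_2 weylLam_E6_2 weylReps_E6_2 = true := by
  decide +kernel

def weylJ_E6_3 : List ℕ := [1, 2, 3]
def weylK_E6_3 : List ℕ := [1, 3]
def weylLam_E6_3 : List ℕ := [3]
def weylReps_E6_3 : List Rep := [
  ⟨[], [56, 46, 42, 39, 37, 36], [5, 1, 7], [3], 0⟩,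
  ⟨[2], [57, 46, 29, 43, 37, 36], [5, 0, 2], [6], 1⟩,
  ⟨[3, 2], [58, 47, 28, 42, 40, 36], [3, 7, 1], [8], 2⟩,
  ⟨[1, 3, 2], [61, 39, 21, 42, 48, 36], [2, 7, 5], [11], 3⟩]

set_option maxRecDepth 1000000 in
theorem weylChk_E6_3 : stepChk chevE6 (wsOf chevE6) weylJ_E6_3 weylK_E6_3 weylLam_E6_3 weylReps_E6_3 = true := by
  decide +kernel

def weylJ_E6_4 : List ℕ := [1, 3]
def weylK_E6_4 : List ℕ := [1]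
def weylLam_E6_4 : List ℕ := [2]
def weylReps_E6_4 : List Rep := [
  ⟨[], [56, 46, 42, 39, 37, 36], [4, 1], [2], 0⟩,
  ⟨[3], [56, 47, 43, 32, 40, 36], [2, 0], [1], 1⟩,
  ⟨[1, 3], [56, 39, 50, 24, 48, 36], [1, 4], [0], 2⟩]

set_option maxRecDepth 1000000 in
theorem weylChk_E6_4 : stepChk chevE6 (wsOf chevE6) weylJ_E6_4 weylK_E6_4 weylLam_E6_4 weylReps_E6_4 = true := by
  decide +kernel

def weylJ_E6_5 : List ℕ := [1]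
def weylK_E6_5 : List ℕ := []
def weylLam_E6_5 : List ℕ := [0]
def weylReps_E6_5 : List Rep := [
  ⟨[], [56, 46, 42, 39, 37, 36], [1], [0], 0⟩,
  ⟨[1], [56, 25, 42, 47, 37, 36], [0], [1], 1⟩]

set_option maxRecDepth 1000000 in
theorem weylChk_E6_5 : stepChk chevE6 (wsOf chevE6) weylJ_E6_5 weylK_E6_5 weylLam_E6_5 weylReps_E6_5 = true := by
  decide +kernel

end Cfsg.Agent.Lead.Chev
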