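import Mathlib
import Cfsg.Agent.Lib.Lead.WeylData_E6
import Cfsg.Agent.Lib.Lead.ChevOrder

set_option autoImplicit false

namespace Cfsg.Agent.Lead.Chev

open Cfsg Cfsg.Lie Cfsg.Agent.Lead.PolyL

def weylSteps_E6 : List (List ℕ × List ℕ × List Rep) :=
  [(weylK_E6_0, weylLam_E6_0, weylReps_E6_0), (weylK_E6_1, weylLam_E6_1, weylReps_E6_1), (weylK_E6_2, weylLam_E6_2, weylReps_E6_2), (weylK_E6_3, weylLam_E6_3, weylReps_E6_3), (weylK_E6_4, weylLam_E6_4, weylReps_E6_4), (weylK_E6_5, weylLam_E6_5, weylReps_E6_5)]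

theorem weylChain_E6 : ChainOK chevE6 (wsOf chevE6) (List.range chevE6.rank) weylSteps_E6 :=
  ⟨weylChk_E6_0, weylChk_E6_1, weylChk_E6_2, weylChk_E6_3, weylChk_E6_4, weylChk_E6_5, rfl⟩

def weylDegrees_E6 : List ℕ := [2, 5, 6, 8, 9, 12]

set_option maxRecDepth 1000000 in
theorem weylPoly_E6 : mulL (prodP (List.replicate chevE6.rank (pm1L 1))) (prodP (weylSteps_E6.map stepPoly)) =
    prodP (weylDegrees_E6.map pm1L) := by decide +kernel

end Cfsg.Agent.Lead.Chev
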