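import Mathlib
import Cfsg.Agent.Lib.Lead.WeylCert
import Cfsg.Prelude.Def_ChevE7

set_option autoImplicit false

namespace Cfsg.Agent.Lead.Chev

open Cfsg Cfsg.Lie

def weylJ_E7_0 : List ℕ := [0, 1, 2, 3, 4, 5, 6]
def weylK_E7_0 : List ℕ := [0, 1, 2, 3, 4, 5]
def weylLam_E7_0 : List ℕ := [0, 33, 5]
def weylReps_E7_0 : List Rep := [
  ⟨[], [93, 78, 73, 69, 66, 64, 63], [56, 57, 58, 59, 60, 61, 1], [0, 33, 5], 0⟩,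
  ⟨[6], [93, 78, 73, 69, 66, 65, 62], [56, 57, 58, 59, 60, 2, 0], [0, 33, 6], 1⟩,
  ⟨[5, 6], [93, 78, 73, 69, 67, 63, 60], [56, 57, 58, 59, 3, 1, 61], [0, 34, 6], 2⟩,
  ⟨[4, 5, 6], [93, 78, 73, 70, 64, 63, 57], [56, 57, 58, 4, 2, 60, 61], [0, 36, 6], 3⟩,
  ⟨[3, 4, 5, 6], [93, 79, 74, 66, 64, 63, 53], [56, 5, 6, 3, 59, 60, 61], [0, 39, 6], 4⟩,
  ⟨[1, 3, 4, 5, 6], [93, 69, 83, 66, 64, 63, 43], [56, 4, 7, 57, 59, 60, 61], [0, 48, 10], 5⟩,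
  ⟨[2, 3, 4, 5, 6], [94, 83, 69, 66, 64, 63, 48], [8, 7, 4, 58, 59, 60, 61], [0, 43, 6], 5⟩,
  ⟨[2, 1, 3, 4, 5, 6], [94, 74, 79, 66, 64, 63, 39], [9, 6, 5, 10, 59, 60, 61], [0, 53, 10], 6⟩,
  ⟨[0, 2, 3, 4, 5, 6], [73, 99, 69, 66, 64, 63, 27], [6, 9, 56, 58, 59, 60, 61], [1, 43, 6], 6⟩,
  ⟨[0, 2, 1, 3, 4, 5, 6], [73, 95, 79, 66, 64, 63, 23], [7, 8, 56, 11, 59, 60, 61], [1, 53, 10], 7⟩,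
  ⟨[3, 2, 1, 3, 4, 5, 6], [95, 73, 78, 70, 64, 63, 36], [11, 58, 57, 7, 12, 60, 61], [0, 57, 13], 7⟩,
  ⟨[3, 0, 2, 1, 3, 4, 5, 6], [74, 94, 78, 70, 64, 63, 20], [10, 58, 13, 9, 14, 60, 61], [1, 57, 13], 8⟩,
  ⟨[4, 3, 2, 1, 3, 4, 5, 6], [96, 73, 78, 69, 67, 63, 34], [14, 58, 57, 59, 10, 15, 61], [0, 60, 15], 8⟩,
  ⟨[2, 3, 0, 2, 1, 3, 4, 5, 6], [69, 93, 78, 75, 64, 63, 14], [57, 58, 11, 56, 16, 60, 61], [2, 57, 19], 9⟩,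
  ⟨[4, 3, 0, 2, 1, 3, 4, 5, 6], [75, 94, 78, 69, 67, 63, 18], [12, 58, 16, 59, 11, 17, 61], [1, 60, 15], 9⟩,
  ⟨[5, 4, 3, 2, 1, 3, 4, 5, 6], [97, 73, 78, 69, 66, 65, 33], [17, 58, 57, 59, 60, 12, 18], [0, 62, 16], 9⟩,
  ⟨[4, 2, 3, 0, 2, 1, 3, 4, 5, 6], [70, 93, 78, 74, 67, 63, 12], [57, 58, 14, 19, 13, 20, 61], [2, 60, 21], 10⟩,
  ⟨[5, 4, 3, 0, 2, 1, 3, 4, 5, 6], [76, 94, 78, 69, 66, 65, 17], [15, 58, 20, 59, 60, 14, 21], [1, 62, 16], 10⟩,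
  ⟨[6, 5, 4, 3, 2, 1, 3, 4, 5, 6], [98, 73, 78, 69, 66, 64, 33], [21, 58, 57, 59, 60, 61, 15], [0, 63, 16], 10⟩,
  ⟨[3, 4, 2, 3, 0, 2, 1, 3, 4, 5, 6], [66, 93, 79, 73, 71, 63, 9], [57, 22, 59, 16, 56, 23, 61], [3, 60, 24], 11⟩,
  ⟨[5, 4, 2, 3, 0, 2, 1, 3, 4, 5, 6], [71, 93, 78, 74, 66, 65, 11], [57, 58, 17, 23, 60, 16, 24], [2, 62, 22], 11⟩,
  ⟨[6, 5, 4, 3, 0, 2, 1, 3, 4, 5, 6], [77, 94, 78, 69, 66, 64, 17], [18, 58, 24, 59, 60, 61, 17], [1, 63, 16], 11⟩,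
  ⟨[1, 3, 4, 2, 3, 0, 2, 1, 3, 4, 5, 6], [66, 93, 69, 73, 81, 63, 5], [57, 19, 59, 58, 56, 25, 61], [7, 60, 28], 12⟩,
  ⟨[5, 3, 4, 2, 3, 0, 2, 1, 3, 4, 5, 6], [67, 93, 79, 73, 70, 65, 8], [57, 25, 59, 20, 26, 19, 27], [3, 62, 25], 12⟩,
  ⟨[6, 5, 4, 2, 3, 0, 2, 1, 3, 4, 5, 6], [72, 93, 78, 74, 66, 64, 11], [57, 58, 21, 27, 60, 61, 20], [2, 63, 22], 12⟩,
  ⟨[5, 1, 3, 4, 2, 3, 0, 2, 1, 3, 4, 5, 6], [67, 93, 69, 73, 80, 65, 4], [57, 23, 59, 58, 28, 22, 29], [7, 62, 29], 13⟩,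
  ⟨[4, 5, 3, 4, 2, 3, 0, 2, 1, 3, 4, 5, 6], [64, 93, 80, 73, 69, 68, 7], [57, 28, 59, 60, 23, 56, 30], [4, 62, 26], 13⟩,
  ⟨[6, 5, 3, 4, 2, 3, 0, 2, 1, 3, 4, 5, 6], [68, 93, 79, 73, 70, 64, 8], [57, 29, 59, 24, 30, 61, 23], [3, 63, 25], 13⟩,
  ⟨[4, 5, 1, 3, 4, 2, 3, 0, 2, 1, 3, 4, 5, 6], [64, 93, 70, 73, 79, 68, 3], [57, 26, 59, 31, 25, 56, 32], [8, 62, 30], 14⟩,
  ⟨[6, 5, 1, 3, 4, 2, 3, 0, 2, 1, 3, 4, 5, 6], [68, 93, 69, 73, 80, 64, 4], [57, 27, 59, 58, 32, 61, 25], [7, 63, 29], 14⟩,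
  ⟨[6, 4, 5, 3, 4, 2, 3, 0, 2, 1, 3, 4, 5, 6], [65, 93, 80, 73, 69, 67, 7], [57, 32, 59, 60, 27, 33, 26], [4, 63, 26], 14⟩,
  ⟨[3, 4, 5, 1, 3, 4, 2, 3, 0, 2, 1, 3, 4, 5, 6], [64, 93, 66, 74, 78, 72, 2], [57, 60, 34, 28, 58, 56, 35], [11, 62, 31], 15⟩,
  ⟨[6, 4, 5, 1, 3, 4, 2, 3, 0, 2, 1, 3, 4, 5, 6], [65, 93, 70, 73, 79, 67, 3], [57, 30, 59, 35, 29, 36, 28], [8, 63, 30], 15⟩,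
  ⟨[5, 6, 4, 5, 3, 4, 2, 3, 0, 2, 1, 3, 4, 5, 6], [63, 93, 81, 73, 69, 66, 7], [57, 36, 59, 60, 61, 30, 56], [5, 65, 26], 15⟩,
  ⟨[2, 3, 4, 5, 1, 3, 4, 2, 3, 0, 2, 1, 3, 4, 5, 6], [64, 94, 66, 69, 78, 77, 1], [37, 60, 31, 59, 58, 56, 38], [17, 62, 32], 16⟩,
  ⟨[6, 3, 4, 5, 1, 3, 4, 2, 3, 0, 2, 1, 3, 4, 5, 6], [65, 93, 66, 74, 78, 71, 2], [57, 60, 38, 32, 58, 39, 31], [11, 63, 31], 16⟩,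
  ⟨[5, 6, 4, 5, 1, 3, 4, 2, 3, 0, 2, 1, 3, 4, 5, 6], [63, 93, 71, 73, 79, 66, 3], [57, 33, 59, 39, 61, 32, 56], [9, 65, 30], 16⟩,
  ⟨[0, 2, 3, 4, 5, 1, 3, 4, 2, 3, 0, 2, 1, 3, 4, 5, 6], [64, 73, 66, 69, 78, 98, 0], [34, 60, 57, 59, 58, 56, 40], [33, 62, 93], 17⟩,
  ⟨[6, 2, 3, 4, 5, 1, 3, 4, 2, 3, 0, 2, 1, 3, 4, 5, 6], [65, 94, 66, 69, 78, 76, 1], [40, 60, 35, 59, 58, 41, 34], [17, 63, 32], 17⟩,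
  ⟨[5, 6, 3, 4, 5, 1, 3, 4, 2, 3, 0, 2, 1, 3, 4, 5, 6], [63, 93, 67, 74, 78, 70, 2], [57, 60, 41, 36, 42, 35, 56], [12, 65, 31], 17⟩,
  ⟨[6, 0, 2, 3, 4, 5, 1, 3, 4, 2, 3, 0, 2, 1, 3, 4, 5, 6], [65, 73, 66, 69, 78, 97, 0], [38, 60, 57, 59, 58, 43, 37], [33, 63, 93], 18⟩,
  ⟨[5, 6, 2, 3, 4, 5, 1, 3, 4, 2, 3, 0, 2, 1, 3, 4, 5, 6], [63, 94, 67, 69, 78, 75, 1], [43, 60, 39, 59, 44, 38, 56], [18, 65, 32], 18⟩,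
  ⟨[4, 5, 6, 3, 4, 5, 1, 3, 4, 2, 3, 0, 2, 1, 3, 4, 5, 6], [63, 93, 64, 75, 78, 69, 2], [57, 60, 44, 61, 39, 58, 56], [14, 68, 31], 18⟩,
  ⟨[5, 6, 0, 2, 3, 4, 5, 1, 3, 4, 2, 3, 0, 2, 1, 3, 4, 5, 6], [63, 73, 67, 69, 78, 96, 0], [41, 60, 57, 59, 45, 40, 56], [34, 65, 93], 19⟩,
  ⟨[4, 5, 6, 2, 3, 4, 5, 1, 3, 4, 2, 3, 0, 2, 1, 3, 4, 5, 6], [63, 94, 64, 70, 78, 74, 1], [45, 60, 42, 46, 41, 58, 56], [20, 68, 32], 19⟩,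
  ⟨[4, 5, 6, 0, 2, 3, 4, 5, 1, 3, 4, 2, 3, 0, 2, 1, 3, 4, 5, 6], [63, 73, 64, 70, 78, 95, 0], [44, 60, 57, 47, 43, 58, 56], [36, 68, 93], 20⟩,
  ⟨[3, 4, 5, 6, 2, 3, 4, 5, 1, 3, 4, 2, 3, 0, 2, 1, 3, 4, 5, 6], [63, 95, 64, 66, 79, 73, 1], [47, 48, 61, 44, 59, 58, 56], [23, 72, 32], 20⟩,
  ⟨[3, 4, 5, 6, 0, 2, 3, 4, 5, 1, 3, 4, 2, 3, 0, 2, 1, 3, 4, 5, 6], [63, 74, 64, 66, 79, 94, 0], [46, 49, 50, 45, 59, 58, 56], [39, 72, 93], 21⟩,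
  ⟨[1, 3, 4, 5, 6, 2, 3, 4, 5, 1, 3, 4, 2, 3, 0, 2, 1, 3, 4, 5, 6], [63, 99, 64, 66, 69, 73, 1], [49, 46, 61, 60, 59, 58, 56], [27, 82, 32], 21⟩,
  ⟨[1, 3, 4, 5, 6, 0, 2, 3, 4, 5, 1, 3, 4, 2, 3, 0, 2, 1, 3, 4, 5, 6], [63, 83, 64, 66, 69, 94, 0], [48, 47, 51, 60, 59, 58, 56], [48, 82, 93], 22⟩,
  ⟨[2, 3, 4, 5, 6, 0, 2, 3, 4, 5, 1, 3, 4, 2, 3, 0, 2, 1, 3, 4, 5, 6], [63, 69, 64, 66, 83, 93, 0], [61, 51, 47, 57, 59, 58, 56], [43, 77, 94], 22⟩,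
  ⟨[2, 1, 3, 4, 5, 6, 0, 2, 3, 4, 5, 1, 3, 4, 2, 3, 0, 2, 1, 3, 4, 5, 6], [63, 79, 64, 66, 74, 93, 0], [61, 50, 49, 52, 59, 58, 56], [53, 86, 94], 23⟩,
  ⟨[3, 2, 1, 3, 4, 5, 6, 0, 2, 3, 4, 5, 1, 3, 4, 2, 3, 0, 2, 1, 3, 4, 5, 6], [63, 78, 64, 70, 73, 93, 0], [61, 57, 60, 51, 53, 58, 56], [57, 89, 95], 24⟩,
  ⟨[4, 3, 2, 1, 3, 4, 5, 6, 0, 2, 3, 4, 5, 1, 3, 4, 2, 3, 0, 2, 1, 3, 4, 5, 6], [63, 78, 67, 69, 73, 93, 0], [61, 57, 60, 59, 52, 54, 56], [60, 91, 96], 25⟩,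
  ⟨[5, 4, 3, 2, 1, 3, 4, 5, 6, 0, 2, 3, 4, 5, 1, 3, 4, 2, 3, 0, 2, 1, 3, 4, 5, 6], [65, 78, 66, 69, 73, 93, 0], [61, 57, 60, 59, 58, 53, 55], [62, 92, 97], 26⟩,
  ⟨[6, 5, 4, 3, 2, 1, 3, 4, 5, 6, 0, 2, 3, 4, 5, 1, 3, 4, 2, 3, 0, 2, 1, 3, 4, 5, 6], [64, 78, 66, 69, 73, 93, 0], [61, 57, 60, 59, 58, 56, 54], [63, 92, 98], 27⟩]

set_option maxRecDepth 1000000 in
theorem weylChk_E7_0 : stepChk chevE7 (wsOf chevE7) weylJ_E7_0 weylK_E7_0 weylLam_E7_0 weylReps_E7_0 = true := by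
  decide +kernel

def weylJ_E7_1 : List ℕ := [0, 1, 2, 3, 4, 5]
def weylK_E7_1 : List ℕ := [1, 2, 3, 4, 5]
def weylLam_E7_1 : List ℕ := [0]
def weylReps_E7_1 : List Rep := [
  ⟨[], [93, 78, 73, 69, 66, 64, 63], [1, 28, 29, 30, 31, 32], [0], 0⟩,
  ⟨[0], [32, 78, 94, 69, 66, 64, 63], [0, 28, 2, 30, 31, 32], [1], 1⟩,
  ⟨[2, 0], [31, 78, 93, 74, 66, 64, 63], [29, 28, 1, 3, 31, 32], [2], 2⟩,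
  ⟨[3, 2, 0], [30, 79, 93, 73, 70, 64, 63], [29, 4, 30, 2, 5, 32], [3], 3⟩,
  ⟨[1, 3, 2, 0], [26, 69, 93, 73, 80, 64, 63], [29, 3, 30, 28, 6, 32], [7], 4⟩,
  ⟨[4, 3, 2, 0], [29, 80, 93, 73, 69, 67, 63], [29, 6, 30, 31, 3, 7], [4], 4⟩,
  ⟨[4, 1, 3, 2, 0], [25, 70, 93, 73, 79, 67, 63], [29, 5, 30, 8, 4, 9], [8], 5⟩,
  ⟨[5, 4, 3, 2, 0], [28, 81, 93, 73, 69, 66, 65], [29, 9, 30, 31, 32, 5], [5], 5⟩,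
  ⟨[3, 4, 1, 3, 2, 0], [22, 66, 93, 74, 78, 71, 63], [29, 31, 10, 6, 28, 11], [11], 6⟩,
  ⟨[5, 4, 1, 3, 2, 0], [24, 71, 93, 73, 79, 66, 65], [29, 7, 30, 11, 32, 6], [9], 6⟩,
  ⟨[2, 3, 4, 1, 3, 2, 0], [16, 66, 94, 69, 78, 76, 63], [12, 31, 8, 30, 28, 13], [17], 7⟩,
  ⟨[5, 3, 4, 1, 3, 2, 0], [21, 67, 93, 74, 78, 70, 65], [29, 31, 13, 9, 14, 8], [12], 7⟩,
  ⟨[0, 2, 3, 4, 1, 3, 2, 0], [16, 66, 73, 69, 78, 97, 63], [10, 31, 29, 30, 28, 15], [33], 8⟩,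
  ⟨[5, 2, 3, 4, 1, 3, 2, 0], [15, 67, 94, 69, 78, 75, 65], [15, 31, 11, 30, 16, 10], [18], 8⟩,
  ⟨[4, 5, 3, 4, 1, 3, 2, 0], [19, 64, 93, 75, 78, 69, 68], [29, 31, 16, 32, 11, 28], [14], 8⟩,
  ⟨[5, 0, 2, 3, 4, 1, 3, 2, 0], [15, 67, 73, 69, 78, 96, 65], [13, 31, 29, 30, 17, 12], [34], 9⟩,
  ⟨[4, 5, 2, 3, 4, 1, 3, 2, 0], [13, 64, 94, 70, 78, 74, 68], [17, 31, 14, 18, 13, 28], [20], 9⟩,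
  ⟨[4, 5, 0, 2, 3, 4, 1, 3, 2, 0], [13, 64, 73, 70, 78, 95, 68], [16, 31, 29, 19, 15, 28], [36], 10⟩,
  ⟨[3, 4, 5, 2, 3, 4, 1, 3, 2, 0], [10, 64, 95, 66, 79, 73, 72], [19, 20, 32, 16, 30, 28], [23], 10⟩,
  ⟨[3, 4, 5, 0, 2, 3, 4, 1, 3, 2, 0], [10, 64, 74, 66, 79, 94, 72], [18, 21, 22, 17, 30, 28], [39], 11⟩,
  ⟨[1, 3, 4, 5, 2, 3, 4, 1, 3, 2, 0], [6, 64, 99, 66, 69, 73, 82], [21, 18, 32, 31, 30, 28], [27], 11⟩,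
  ⟨[1, 3, 4, 5, 0, 2, 3, 4, 1, 3, 2, 0], [6, 64, 83, 66, 69, 94, 82], [20, 19, 23, 31, 30, 28], [48], 12⟩,
  ⟨[2, 3, 4, 5, 0, 2, 3, 4, 1, 3, 2, 0], [10, 64, 69, 66, 83, 93, 77], [32, 23, 19, 29, 30, 28], [43], 12⟩,
  ⟨[2, 1, 3, 4, 5, 0, 2, 3, 4, 1, 3, 2, 0], [6, 64, 79, 66, 74, 93, 86], [32, 22, 21, 24, 30, 28], [53], 13⟩,
  ⟨[3, 2, 1, 3, 4, 5, 0, 2, 3, 4, 1, 3, 2, 0], [6, 64, 78, 70, 73, 93, 89], [32, 29, 31, 23, 25, 28], [57], 14⟩,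
  ⟨[4, 3, 2, 1, 3, 4, 5, 0, 2, 3, 4, 1, 3, 2, 0], [6, 67, 78, 69, 73, 93, 91], [32, 29, 31, 30, 24, 26], [60], 15⟩,
  ⟨[5, 4, 3, 2, 1, 3, 4, 5, 0, 2, 3, 4, 1, 3, 2, 0], [6, 66, 78, 69, 73, 93, 92], [32, 29, 31, 30, 28, 25], [62], 16⟩]

set_option maxRecDepth 1000000 in
theorem weylChk_E7_1 : stepChk chevE7 (wsOf chevE7) weylJ_E7_1 weylK_E7_1 weylLam_E7_1 weylReps_E7_1 = true := by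
  decide +kernel

def weylJ_E7_2 : List ℕ := [1, 2, 3, 4, 5]
def weylK_E7_2 : List ℕ := [1, 2, 3, 4]
def weylLam_E7_2 : List ℕ := [33]
def weylReps_E7_2 : List Rep := [
  ⟨[], [93, 78, 73, 69, 66, 64, 63], [11, 12, 13, 14, 1], [33], 0⟩,
  ⟨[5], [93, 78, 73, 69, 67, 61, 65], [11, 12, 13, 2, 0], [34], 1⟩,
  ⟨[4, 5], [93, 78, 73, 70, 64, 58, 68], [11, 12, 3, 1, 14], [36], 2⟩,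
  ⟨[3, 4, 5], [93, 79, 74, 66, 64, 54, 72], [4, 5, 2, 13, 14], [39], 3⟩,
  ⟨[1, 3, 4, 5], [93, 69, 83, 66, 64, 44, 82], [3, 6, 11, 13, 14], [48], 4⟩,
  ⟨[2, 3, 4, 5], [94, 83, 69, 66, 64, 49, 77], [6, 3, 12, 13, 14], [43], 4⟩,
  ⟨[2, 1, 3, 4, 5], [94, 74, 79, 66, 64, 40, 86], [5, 4, 7, 13, 14], [53], 5⟩,
  ⟨[3, 2, 1, 3, 4, 5], [95, 73, 78, 70, 64, 37, 89], [12, 11, 6, 8, 14], [57], 6⟩,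
  ⟨[4, 3, 2, 1, 3, 4, 5], [96, 73, 78, 69, 67, 35, 91], [12, 11, 13, 7, 9], [60], 7⟩,
  ⟨[5, 4, 3, 2, 1, 3, 4, 5], [97, 73, 78, 69, 66, 35, 92], [12, 11, 13, 14, 8], [62], 8⟩]

set_option maxRecDepth 1000000 in
theorem weylChk_E7_2 : stepChk chevE7 (wsOf chevE7) weylJ_E7_2 weylK_E7_2 weylLam_E7_2 weylReps_E7_2 = true := by
  decide +kernel

def weylJ_E7_3 : List ℕ := [1, 2, 3, 4]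
def weylK_E7_3 : List ℕ := [1, 2, 3]
def weylLam_E7_3 : List ℕ := [34]
def weylReps_E7_3 : List Rep := [
  ⟨[], [93, 78, 73, 69, 66, 64, 63], [9, 10, 11, 1], [34], 0⟩,
  ⟨[4], [93, 78, 73, 70, 59, 67, 63], [9, 10, 2, 0], [36], 1⟩,
  ⟨[3, 4], [93, 79, 74, 66, 55, 71, 63], [3, 4, 1, 11], [39], 2⟩,
  ⟨[1, 3, 4], [93, 69, 83, 66, 45, 81, 63], [2, 5, 9, 11], [48], 3⟩,
  ⟨[2, 3, 4], [94, 83, 69, 66, 50, 76, 63], [5, 2, 10, 11], [43], 3⟩,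
  ⟨[2, 1, 3, 4], [94, 74, 79, 66, 41, 85, 63], [4, 3, 6, 11], [53], 4⟩,
  ⟨[3, 2, 1, 3, 4], [95, 73, 78, 70, 38, 88, 63], [10, 9, 5, 7], [57], 5⟩,
  ⟨[4, 3, 2, 1, 3, 4], [96, 73, 78, 69, 38, 90, 63], [10, 9, 11, 6], [60], 6⟩]

set_option maxRecDepth 1000000 in
theorem weylChk_E7_3 : stepChk chevE7 (wsOf chevE7) weylJ_E7_3 weylK_E7_3 weylLam_E7_3 weylReps_E7_3 = true := by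
  decide +kernel

def weylJ_E7_4 : List ℕ := [1, 2, 3]
def weylK_E7_4 : List ℕ := [1, 3]
def weylLam_E7_4 : List ℕ := [1]
def weylReps_E7_4 : List Rep := [
  ⟨[], [93, 78, 73, 69, 66, 64, 63], [5, 1, 7], [1], 0⟩,
  ⟨[2], [94, 78, 52, 74, 66, 64, 63], [5, 0, 2], [2], 1⟩,
  ⟨[3, 2], [95, 79, 51, 73, 70, 64, 63], [3, 7, 1], [3], 2⟩,
  ⟨[1, 3, 2], [99, 69, 42, 73, 80, 64, 63], [2, 7, 5], [7], 3⟩]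

set_option maxRecDepth 1000000 in
theorem weylChk_E7_4 : stepChk chevE7 (wsOf chevE7) weylJ_E7_4 weylK_E7_4 weylLam_E7_4 weylReps_E7_4 = true := by
  decide +kernel

def weylJ_E7_5 : List ℕ := [1, 3]
def weylK_E7_5 : List ℕ := [1]
def weylLam_E7_5 : List ℕ := [2]
def weylReps_E7_5 : List Rep := [
  ⟨[], [93, 78, 73, 69, 66, 64, 63], [4, 1], [2], 0⟩,
  ⟨[3], [93, 79, 74, 56, 70, 64, 63], [2, 0], [3], 1⟩,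
  ⟨[1, 3], [93, 69, 83, 46, 80, 64, 63], [1, 4], [7], 2⟩]

set_option maxRecDepth 1000000 in
theorem weylChk_E7_5 : stepChk chevE7 (wsOf chevE7) weylJ_E7_5 weylK_E7_5 weylLam_E7_5 weylReps_E7_5 = true := by
  decide +kernel

def weylJ_E7_6 : List ℕ := [1]
def weylK_E7_6 : List ℕ := []
def weylLam_E7_6 : List ℕ := [3]
def weylReps_E7_6 : List Rep := [
  ⟨[], [93, 78, 73, 69, 66, 64, 63], [1], [3], 0⟩,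
  ⟨[1], [93, 47, 73, 79, 66, 64, 63], [0], [7], 1⟩]

set_option maxRecDepth 1000000 in
theorem weylChk_E7_6 : stepChk chevE7 (wsOf chevE7) weylJ_E7_6 weylK_E7_6 weylLam_E7_6 weylReps_E7_6 = true := by
  decide +kernel

end Cfsg.Agent.Lead.Chev
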