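import Mathlib
import Cfsg.Agent.Lib.Lead.WeylData_E7
import Cfsg.Agent.Lib.Lead.ChevOrder

set_option autoImplicit false

namespace Cfsg.Agent.Lead.Chev

open Cfsg Cfsg.Lie Cfsg.Agent.Lead.PolyL

def weylSteps_E7 : List (List ℕ × List ℕ × List Rep) :=
  [(weylK_E7_0, weylLam_E7_0, weylReps_E7_0), (weylK_E7_1, weylLam_E7_1, weylReps_E7_1), (weylK_E7_2, weylLam_E7_2, weylReps_E7_2), (weylK_E7_3, weylLam_E7_3, weylReps_E7_3), (weylK_E7_4, weylLam_E7_4, weylReps_E7_4), (weylK_E7_5, weylLam_E7_5, weylReps_E7_5), (weylK_E7_6, weylLam_E7_6, weylReps_E7_6)]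

theorem weylChain_E7 : ChainOK chevE7 (wsOf chevE7) (List.range chevE7.rank) weylSteps_E7 :=
  ⟨weylChk_E7_0, weylChk_E7_1, weylChk_E7_2, weylChk_E7_3, weylChk_E7_4, weylChk_E7_5, weylChk_E7_6, rfl⟩

def weylDegrees_E7 : List ℕ := [2, 6, 8, 10, 12, 14, 18]

set_option maxRecDepth 1000000 in
theorem weylPoly_E7 : mulL (prodP (List.replicate chevE7.rank (pm1L 1))) (prodP (weylSteps_E7.map stepPoly)) =
    prodP (weylDegrees_E7.map pm1L) := by decide +kernel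

end Cfsg.Agent.Lead.Chev
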