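import Mathlib
import Cfsg.Agent.Lib.Lead.WeylData_E8
import Cfsg.Agent.Lib.Lead.ChevOrder

set_option autoImplicit false

namespace Cfsg.Agent.Lead.Chev

open Cfsg Cfsg.Lie Cfsg.Agent.Lead.PolyL

def weylSteps_E8 : List (List ℕ × List ℕ × List Rep) :=
  [(weylK_E8_0, weylLam_E8_0, weylReps_E8_0), (weylK_E8_1, weylLam_E8_1, weylReps_E8_1), (weylK_E8_2, weylLam_E8_2, weylReps_E8_2), (weylK_E8_3, weylLam_E8_3, weylReps_E8_3), (weylK_E8_4, weylLam_E8_4, weylReps_E8_4), (weylK_E8_5, weylLam_E8_5, weylReps_E8_5), (weylK_E8_6, weylLam_E8_6, weylReps_E8_6), (weylK_E8_7, weylLam_E8_7, weylReps_E8_7)]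

theorem weylChain_E8 : ChainOK chevE8 (wsOf chevE8) (List.range chevE8.rank) weylSteps_E8 :=
  ⟨weylChk_E8_0, weylChk_E8_1, weylChk_E8_2, weylChk_E8_3, weylChk_E8_4, weylChk_E8_5, weylChk_E8_6, weylChk_E8_7, rfl⟩

def weylDegrees_E8 : List ℕ := [2, 8, 12, 14, 18, 20, 24, 30]

set_option maxRecDepth 1000000 in
theorem weylPoly_E8 : mulL (prodP (List.replicate chevE8.rank (pm1L 1))) (prodP (weylSteps_E8.map stepPoly)) =
    prodP (weylDegrees_E8.map pm1L) := by decide +kernel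

end Cfsg.Agent.Lead.Chev
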