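import Mathlib
import Cfsg.Agent.Lib.Lead.WeylCert
import Cfsg.Prelude.Def_ChevF4

set_option autoImplicit false

namespace Cfsg.Agent.Lead.Chev

open Cfsg Cfsg.Lie

def weylJ_F4_0 : List ℕ := [0, 1, 2, 3]
def weylK_F4_0 : List ℕ := [0, 1, 2]
def weylLam_F4_0 : List ℕ := [0]
def weylReps_F4_0 : List Rep := [
  ⟨[], [33, 27, 25, 24], [24, 25, 26, 1], [0], 0⟩,
  ⟨[3], [33, 27, 26, 23], [24, 25, 2, 0], [1], 1⟩,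
  ⟨[2, 3], [33, 28, 24, 21], [24, 3, 1, 26], [2], 2⟩,
  ⟨[1, 2, 3], [34, 28, 24, 16], [4, 2, 5, 26], [4], 3⟩,
  ⟨[0, 1, 2, 3], [27, 35, 24, 5], [3, 24, 6, 26], [15], 4⟩,
  ⟨[2, 1, 2, 3], [35, 27, 26, 15], [6, 25, 3, 7], [5], 4⟩,
  ⟨[2, 0, 1, 2, 3], [28, 34, 26, 4], [5, 8, 4, 9], [16], 5⟩,
  ⟨[3, 2, 1, 2, 3], [36, 27, 25, 15], [9, 25, 26, 5], [6], 5⟩,
  ⟨[1, 2, 0, 1, 2, 3], [28, 33, 31, 2], [25, 6, 10, 11], [21], 6⟩,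
  ⟨[3, 2, 0, 1, 2, 3], [29, 34, 25, 4], [7, 11, 26, 6], [17], 6⟩,
  ⟨[2, 1, 2, 0, 1, 2, 3], [27, 33, 32, 1], [25, 24, 8, 12], [23], 7⟩,
  ⟨[3, 1, 2, 0, 1, 2, 3], [29, 33, 30, 2], [25, 9, 13, 8], [22], 7⟩,
  ⟨[3, 2, 1, 2, 0, 1, 2, 3], [27, 33, 32, 0], [25, 24, 14, 10], [24], 8⟩,
  ⟨[2, 3, 1, 2, 0, 1, 2, 3], [29, 33, 30, 1], [25, 15, 11, 14], [25], 8⟩,
  ⟨[2, 3, 2, 1, 2, 0, 1, 2, 3], [28, 33, 31, 0], [25, 16, 12, 13], [26], 9⟩,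
  ⟨[1, 2, 3, 1, 2, 0, 1, 2, 3], [29, 34, 25, 1], [17, 13, 26, 16], [30], 9⟩,
  ⟨[1, 2, 3, 2, 1, 2, 0, 1, 2, 3], [28, 34, 26, 0], [18, 14, 19, 15], [31], 10⟩,
  ⟨[0, 1, 2, 3, 1, 2, 0, 1, 2, 3], [36, 27, 25, 1], [15, 25, 26, 18], [41], 10⟩,
  ⟨[0, 1, 2, 3, 2, 1, 2, 0, 1, 2, 3], [35, 27, 26, 0], [16, 25, 20, 17], [42], 11⟩,
  ⟨[2, 1, 2, 3, 2, 1, 2, 0, 1, 2, 3], [27, 35, 24, 0], [20, 24, 16, 26], [32], 11⟩,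
  ⟨[2, 0, 1, 2, 3, 2, 1, 2, 0, 1, 2, 3], [34, 28, 24, 0], [19, 21, 18, 26], [43], 12⟩,
  ⟨[1, 2, 0, 1, 2, 3, 2, 1, 2, 0, 1, 2, 3], [33, 28, 24, 0], [24, 20, 22, 26], [45], 13⟩,
  ⟨[2, 1, 2, 0, 1, 2, 3, 2, 1, 2, 0, 1, 2, 3], [33, 27, 26, 0], [24, 25, 21, 23], [46], 14⟩,
  ⟨[3, 2, 1, 2, 0, 1, 2, 3, 2, 1, 2, 0, 1, 2, 3], [33, 27, 25, 1], [24, 25, 26, 22], [47], 15⟩]

set_option maxRecDepth 1000000 in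
theorem weylChk_F4_0 : stepChk chevF4 (wsOf chevF4) weylJ_F4_0 weylK_F4_0 weylLam_F4_0 weylReps_F4_0 = true := by
  decide +kernel

def weylJ_F4_1 : List ℕ := [0, 1, 2]
def weylK_F4_1 : List ℕ := [0, 1]
def weylLam_F4_1 : List ℕ := [1]
def weylReps_F4_1 : List Rep := [
  ⟨[], [33, 27, 25, 24], [8, 9, 1], [1], 0⟩,
  ⟨[2], [33, 28, 22, 26], [8, 2, 0], [2], 1⟩,
  ⟨[1, 2], [34, 28, 17, 31], [3, 1, 4], [4], 2⟩,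
  ⟨[0, 1, 2], [27, 35, 6, 42], [2, 8, 5], [15], 3⟩,
  ⟨[2, 1, 2], [35, 27, 17, 32], [5, 9, 2], [5], 3⟩,
  ⟨[2, 0, 1, 2], [28, 34, 6, 43], [4, 6, 3], [16], 4⟩,
  ⟨[1, 2, 0, 1, 2], [28, 33, 6, 45], [9, 5, 7], [21], 5⟩,
  ⟨[2, 1, 2, 0, 1, 2], [27, 33, 6, 46], [9, 8, 6], [23], 6⟩]

set_option maxRecDepth 1000000 in
theorem weylChk_F4_1 : stepChk chevF4 (wsOf chevF4) weylJ_F4_1 weylK_F4_1 weylLam_F4_1 weylReps_F4_1 = true := by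
  decide +kernel

def weylJ_F4_2 : List ℕ := [0, 1]
def weylK_F4_2 : List ℕ := [0]
def weylLam_F4_2 : List ℕ := [2]
def weylReps_F4_2 : List Rep := [
  ⟨[], [33, 27, 25, 24], [3, 1], [2], 0⟩,
  ⟨[1], [34, 20, 30, 24], [2, 0], [4], 1⟩,
  ⟨[0, 1], [27, 13, 41, 24], [1, 3], [15], 2⟩]

set_option maxRecDepth 1000000 in
theorem weylChk_F4_2 : stepChk chevF4 (wsOf chevF4) weylJ_F4_2 weylK_F4_2 weylLam_F4_2 weylReps_F4_2 = true := by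
  decide +kernel

def weylJ_F4_3 : List ℕ := [0]
def weylK_F4_3 : List ℕ := []
def weylLam_F4_3 : List ℕ := [3]
def weylReps_F4_3 : List Rep := [
  ⟨[], [33, 27, 25, 24], [1], [3], 0⟩,
  ⟨[0], [14, 34, 25, 24], [0], [7], 1⟩]

set_option maxRecDepth 1000000 in
theorem weylChk_F4_3 : stepChk chevF4 (wsOf chevF4) weylJ_F4_3 weylK_F4_3 weylLam_F4_3 weylReps_F4_3 = true := by
  decide +kernel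

end Cfsg.Agent.Lead.Chev
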