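import Mathlib
import Cfsg.Agent.Lib.Lead.WeylData_F4
import Cfsg.Agent.Lib.Lead.ChevOrder

set_option autoImplicit false

namespace Cfsg.Agent.Lead.Chev

open Cfsg Cfsg.Lie Cfsg.Agent.Lead.PolyL

def weylSteps_F4 : List (List ℕ × List ℕ × List Rep) :=
  [(weylK_F4_0, weylLam_F4_0, weylReps_F4_0), (weylK_F4_1, weylLam_F4_1, weylReps_F4_1), (weylK_F4_2, weylLam_F4_2, weylReps_F4_2), (weylK_F4_3, weylLam_F4_3, weylReps_F4_3)]

theorem weylChain_F4 : ChainOK chevF4 (wsOf chevF4) (List.range chevF4.rank) weylSteps_F4 :=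
  ⟨weylChk_F4_0, weylChk_F4_1, weylChk_F4_2, weylChk_F4_3, rfl⟩

def weylDegrees_F4 : List ℕ := [2, 6, 8, 12]

set_option maxRecDepth 1000000 in
theorem weylPoly_F4 : mulL (prodP (List.replicate chevF4.rank (pm1L 1))) (prodP (weylSteps_F4.map stepPoly)) =
    prodP (weylDegrees_F4.map pm1L) := by decide +kernel

end Cfsg.Agent.Lead.Chev
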