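import Mathlib
import Cfsg.Agent.Lib.Lead.WeylCert
import Cfsg.Prelude.Def_ChevG2

set_option autoImplicit false

namespace Cfsg.Agent.Lead.Chev

open Cfsg Cfsg.Lie

def weylJ_G2_0 : List ℕ := [0, 1]
def weylK_G2_0 : List ℕ := [0]
def weylLam_G2_0 : List ℕ := [0]
def weylReps_G2_0 : List Rep := [
  ⟨[], [7, 6], [6, 1], [0], 0⟩,
  ⟨[1], [8, 5], [2, 0], [1], 1⟩,
  ⟨[0, 1], [9, 1], [1, 3], [5], 2⟩,
  ⟨[1, 0, 1], [9, 0], [4, 2], [6], 3⟩,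
  ⟨[0, 1, 0, 1], [8, 0], [3, 5], [10], 4⟩,
  ⟨[1, 0, 1, 0, 1], [7, 1], [6, 4], [11], 5⟩]

set_option maxRecDepth 1000000 in
theorem weylChk_G2_0 : stepChk chevG2 (wsOf chevG2) weylJ_G2_0 weylK_G2_0 weylLam_G2_0 weylReps_G2_0 = true := by
  decide +kernel

def weylJ_G2_1 : List ℕ := [0]
def weylK_G2_1 : List ℕ := []
def weylLam_G2_1 : List ℕ := [1]
def weylReps_G2_1 : List Rep := [
  ⟨[], [7, 6], [1], [1], 0⟩,
  ⟨[0], [4, 10], [0], [5], 1⟩]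

set_option maxRecDepth 1000000 in
theorem weylChk_G2_1 : stepChk chevG2 (wsOf chevG2) weylJ_G2_1 weylK_G2_1 weylLam_G2_1 weylReps_G2_1 = true := by
  decide +kernel

end Cfsg.Agent.Lead.Chev
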