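import Mathlib
import Cfsg.Agent.Lib.Lead.WeylData_G2
import Cfsg.Agent.Lib.Lead.ChevOrder

set_option autoImplicit false

namespace Cfsg.Agent.Lead.Chev

open Cfsg Cfsg.Lie Cfsg.Agent.Lead.PolyL

def weylSteps_G2 : List (List ℕ × List ℕ × List Rep) :=
  [(weylK_G2_0, weylLam_G2_0, weylReps_G2_0), (weylK_G2_1, weylLam_G2_1, weylReps_G2_1)]

theorem weylChain_G2 : ChainOK chevG2 (wsOf chevG2) (List.range chevG2.rank) weylSteps_G2 :=
  ⟨weylChk_G2_0, weylChk_G2_1, rfl⟩

def weylDegrees_G2 : List ℕ := [2, 6]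

set_option maxRecDepth 1000000 in
theorem weylPoly_G2 : mulL (prodP (List.replicate chevG2.rank (pm1L 1))) (prodP (weylSteps_G2.map stepPoly)) =
    prodP (weylDegrees_G2.map pm1L) := by decide +kernel

end Cfsg.Agent.Lead.Chev
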