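import Mathlib

/-!
Integer matrices acting on tuples of a commutative group by `(M • x)_i = ∏_j x_j ^ M_ij`, and the size of the kernel
of such a map through a Smith normal form `U C V = diag(s)`.
-/

set_option autoImplicit false

namespace Cfsg.Agent.Lead.ZPM

variable {A : Type*} [CommGroup A] {l : ℕ}

theorem zpow_finsum {ι : Type*} (a : A) (s : Finset ι) (f : ι → ℤ) :
    a ^ (∑ i ∈ s, f i) = ∏ i ∈ s, a ^ f i := by
  classical
  induction s using Finset.induction_on with
  | empty => simp
  | insert i s h ih => rw [Finset.sum_insert h, Finset.prod_insert h, zpow_add, ih]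

/-- the action of an integer matrix on a tuple of group elements -/
def zpv (M : Matrix (Fin l) (Fin l) ℤ) (x : Fin l → A) : Fin l → A := fun i => ∏ j, x j ^ M i j

theorem zpv_one (x : Fin l → A) : zpv 1 x = x := by
  funext i
  unfold zpv
  rw [Finset.prod_eq_single i]
  · rw [Matrix.one_apply_eq, zpow_one]
  · intro j _ hj
    rw [Matrix.one_apply_ne (Ne.symm hj), zpow_zero]
  · intro h
    exact absurd (Finset.mem_univ i) h

theorem zpv_mul (M N : Matrix (Fin l) (Fin l) ℤ) (x : Fin l → A) : zpv (M * N) x = zpv M (zpv N x) := by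
  funext i
  unfold zpv
  calc ∏ k, x k ^ (M * N) i k = ∏ k, ∏ j, x k ^ (M i j * N j k) := by
        apply Finset.prod_congr rfl
        intro k _
        rw [Matrix.mul_apply, zpow_finsum]
    _ = ∏ j, ∏ k, x k ^ (M i j * N j k) := Finset.prod_comm
    _ = ∏ j, (∏ k, x k ^ N j k) ^ M i j := by
        apply Finset.prod_congr rfl
        intro j _
        rw [← Finset.prod_zpow]
        apply Finset.prod_congr rfl
        intro k _
        rw [mul_comm, zpow_mul]

theorem zpv_const_one (M : Matrix (Fin l) (Fin l) ℤ) : zpv M (1 : Fin l → A) = 1 := by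
  funext i
  unfold zpv
  simp

theorem zpv_diagonal (s : Fin l → ℤ) (x : Fin l → A) (i : Fin l) :
    zpv (Matrix.diagonal s) x i = x i ^ s i := by
  unfold zpv
  rw [Finset.prod_eq_single i]
  · rw [Matrix.diagonal_apply_eq]
  · intro j _ hj
    rw [Matrix.diagonal_apply_ne _ (Ne.symm hj), zpow_zero]
  · intro h
    exact absurd (Finset.mem_univ i) h

/-- the kernel of `C` is in bijection with the kernel of its Smith normal form -/
def kerEquiv (C U U' V V' : Matrix (Fin l) (Fin l) ℤ) (s : Fin l → ℤ)
    (h1 : U * C * V = Matrix.diagonal s) (hU : U' * U = 1) (hV : V * V' = 1) (hV' : V' * V = 1) :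
    {x : Fin l → A // zpv C x = 1} ≃ {y : Fin l → A // zpv (Matrix.diagonal s) y = 1} where
  toFun x := ⟨zpv V' x.1, by
    rw [← h1, ← zpv_mul, mul_assoc, hV, mul_one, zpv_mul, x.2, zpv_const_one]⟩
  invFun y := ⟨zpv V y.1, by
    have : C * V = U' * Matrix.diagonal s := by
      rw [← h1, ← mul_assoc, ← mul_assoc, hU, one_mul]
    rw [← zpv_mul, this, zpv_mul, y.2, zpv_const_one]⟩
  left_inv x := by
    apply Subtype.ext
    show zpv V (zpv V' x.1) = x.1
    rw [← zpv_mul, hV, zpv_one]
  right_inv y := by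
    apply Subtype.ext
    show zpv V' (zpv V y.1) = y.1
    rw [← zpv_mul, hV', zpv_one]

/-- the kernel of a diagonal matrix is a product -/
def diagEquiv (s : Fin l → ℤ) :
    {y : Fin l → A // zpv (Matrix.diagonal s) y = 1} ≃ ((i : Fin l) → {a : A // a ^ s i = 1}) where
  toFun y i := ⟨y.1 i, by
    have := congrFun y.2 i
    rwa [zpv_diagonal] at this⟩
  invFun z := ⟨fun i => (z i).1, by
    funext i
    rw [zpv_diagonal]
    exact (z i).2⟩
  left_inv y := rfl
  right_inv z := rfl

theorem card_ker_zpv (C U U' V V' : Matrix (Fin l) (Fin l) ℤ) (s : Fin l → ℤ)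
    (h1 : U * C * V = Matrix.diagonal s) (hU : U' * U = 1) (hV : V * V' = 1) (hV' : V' * V = 1) :
    Nat.card {x : Fin l → A // zpv C x = 1} = ∏ i, Nat.card {a : A // a ^ s i = 1} := by
  rw [Nat.card_congr ((kerEquiv (A := A) C U U' V V' s h1 hU hV hV').trans (diagEquiv s)), Nat.card_pi]

/-- in a finite cyclic group, the number of solutions of `a ^ n = 1` -/
theorem card_zpow_eq_one [IsCyclic A] [Finite A] (n : ℕ) :
    Nat.card {a : A // a ^ (n : ℤ) = 1} = (Nat.card A).gcd n := by
  rw [← IsCyclic.card_powMonoidHom_ker A n]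
  apply Nat.card_congr
  exact Equiv.subtypeEquivRight (fun a => by
    rw [MonoidHom.mem_ker, powMonoidHom_apply, zpow_natCast])

end Cfsg.Agent.Lead.ZPM
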