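import Mathlib
import Cfsg.Agent.Lib.Lead.ZpowMat
import Cfsg.Agent.Lib.Lead.ChevGL
import Cfsg.Agent.Lib.Lead.ChevDiagGroup

/-!
The order of the diagonal subgroup `H` over a finite field: `H` is the image of the torus map
`c ↦ T(c)` on `(Fˣ)^l`, whose kernel is the kernel of the Cartan matrix acting on `(Fˣ)^l`.
-/

set_option autoImplicit false
set_option linter.unusedSectionVars false
set_option linter.unusedSimpArgs false
set_option linter.unusedVariables false

namespace Cfsg.Agent.Lead.Chev

open Cfsg Cfsg.Lie Cfsg.Agent.Lead.ZPM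

variable {F : Type*} [Field F]

/-- a tuple of units as a function on `ℕ` -/
def extC (D : ChevalleyDatum) (c : Fin D.rank → Fˣ) : ℕ → F :=
  fun i => if h : i < D.rank then ((c ⟨i, h⟩ : Fˣ) : F) else 1

theorem extC_lt (D : ChevalleyDatum) (c : Fin D.rank → Fˣ) (i : ℕ) (h : i < D.rank) :
    extC D c i = ((c ⟨i, h⟩ : Fˣ) : F) := by
  unfold extC
  rw [dif_pos h]

theorem extC_ne_zero (D : ChevalleyDatum) (c : Fin D.rank → Fˣ) (i : ℕ) : extC D c i ≠ 0 := by
  unfold extC
  split_ifs
  · exact Units.ne_zero _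
  · exact one_ne_zero

/-- the Cartan matrix, rows indexed by the fundamental root at which the character is evaluated -/
def cartanMat (D : ChevalleyDatum) : Matrix (Fin D.rank) (Fin D.rank) ℤ :=
  Matrix.of fun j i => D.cartan i.val (D.simple j.val)

theorem chi_eq_finprod (D : ChevalleyDatum) (c : ℕ → F) (v : ℕ) :
    chi D c v = ∏ i : Fin D.rank, c i.val ^ D.cartan i.val v := by
  unfold chi
  rw [Fin.prod_univ_eq_prod_range (fun i => c i ^ D.cartan i v) D.rank,
    ← List.prod_toFinset _ (List.nodup_range), List.toFinset_range]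

/-- the character values as units -/
def chiU (D : ChevalleyDatum) (c : Fin D.rank → Fˣ) (v : ℕ) : Fˣ := ∏ i : Fin D.rank, c i ^ D.cartan i.val v

theorem chiU_val (D : ChevalleyDatum) (c : Fin D.rank → Fˣ) (v : ℕ) :
    ((chiU D c v : Fˣ) : F) = chi D (extC D c) v := by
  rw [chi_eq_finprod]
  unfold chiU
  rw [Units.coe_prod]
  apply Finset.prod_congr rfl
  intro i _
  rw [Units.val_zpow_eq_zpow_val, extC_lt D c i.val i.2]

theorem chiU_simple (D : ChevalleyDatum) (c : Fin D.rank → Fˣ) (j : Fin D.rank) :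
    chiU D c (D.simple j.val) = zpv (cartanMat D) c j := rfl

/-- the torus map `c ↦ T(c)` -/
def torusHom (D : ChevalleyDatum) (F : Type*) [Field F] : (Fin D.rank → Fˣ) →* GL D.Idx F where
  toFun c := ⟨Tmat D (extC D c), Tmat D (fun i => (extC D c i)⁻¹),
    Tmat_mul_inv D _ (fun i _ => extC_ne_zero D c i), by
      have := Tmat_mul_inv D (fun i => (extC D c i)⁻¹) (fun i _ => inv_ne_zero (extC_ne_zero D c i))
      simp only [inv_inv] at this
      exact this⟩
  map_one' := by
    apply Units.ext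
    show Tmat D (extC D 1) = 1
    rw [← Tmat_one]
    apply Tmat_congr
    intro i hi
    rw [extC_lt D 1 i hi]
    rfl
  map_mul' c c' := by
    apply Units.ext
    show Tmat D (extC D (c * c')) = Tmat D (extC D c) * Tmat D (extC D c')
    rw [Tmat_mul]
    apply Tmat_congr
    intro i hi
    rw [extC_lt D _ i hi, extC_lt D _ i hi, extC_lt D _ i hi]
    rfl

theorem torusHom_val (D : ChevalleyDatum) (c : Fin D.rank → Fˣ) :
    ((torusHom D F c : GL D.Idx F) : Matrix D.Idx D.Idx F) = Tmat D (extC D c) := rfl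

theorem wordGL_hWords_mem (D : ChevalleyDatum) (hX : XAdd D F) (hsl : ∀ i < D.rank, D.simple i < D.nroots)
    (c : ℕ → F) (hc : ∀ i, c i ≠ 0) (L : List ℕ) (hL : ∀ i ∈ L, i < D.rank) :
    wordGL D hX (L.flatMap fun i => D.hWord (D.simple i) (c i)) ∈ D.diagonalSubgroup F := by
  induction L with
  | nil => exact one_mem _
  | cons i L ih =>
    rw [List.flatMap_cons, wordGL_append]
    refine mul_mem ?_ (ih fun j hj => hL j (List.mem_cons_of_mem _ hj))
    unfold ChevalleyDatum.diagonalSubgroup
    apply Subgroup.subset_closure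
    refine ⟨D.simple i, c i, hsl i (hL i List.mem_cons_self), hc i, ?_⟩
    rw [wordGL_val]
    rfl

theorem torusHom_range (D : ChevalleyDatum) (hX : XAdd D F) (hS : HSimple D F) (hA : HAll D F)
    (hsl : ∀ i < D.rank, D.simple i < D.nroots) :
    (torusHom D F).range = D.diagonalSubgroup F := by
  apply le_antisymm
  · rintro g ⟨c, rfl⟩
    have e : torusHom D F c =
        wordGL D hX ((List.range D.rank).flatMap fun i => D.hWord (D.simple i) (extC D c i)) := by
      apply Units.ext
      rw [wordGL_val, torusHom_val, wordMat_eq_Tmat D hS _ (fun i _ => extC_ne_zero D c i)]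
    rw [e]
    exact wordGL_hWords_mem D hX hsl _ (extC_ne_zero D c) _ (fun i hi => List.mem_range.1 hi)
  · intro g hg
    obtain ⟨c, hc, hgc⟩ := exists_Tmat_of_mem D hA g hg
    refine ⟨fun i => Units.mk0 (c i.val) (hc i.val i.2), ?_⟩
    apply Units.ext
    rw [torusHom_val, hgc]
    apply Tmat_congr
    intro i hi
    rw [extC_lt D _ i hi]
    rfl

theorem mem_ker_torusHom (D : ChevalleyDatum) (c : Fin D.rank → Fˣ) :
    c ∈ (torusHom D F).ker ↔ ∀ v < D.nroots, chiU D c v = 1 := by
  rw [MonoidHom.mem_ker]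
  constructor
  · intro h v hv
    have h1 := congrArg (fun g : GL D.Idx F => (g : Matrix D.Idx D.Idx F) (Sum.inr ⟨v, hv⟩) (Sum.inr ⟨v, hv⟩)) h
    simp only [torusHom_val, Tmat, Matrix.diagonal_apply_eq, Sum.elim_inr, Units.val_one,
      Matrix.one_apply_eq] at h1
    apply Units.ext
    rw [chiU_val, h1]
    rfl
  · intro h
    apply Units.ext
    rw [torusHom_val, Units.val_one, ← Matrix.diagonal_one]
    unfold Tmat
    congr 1
    funext idx
    rcases idx with j | v
    · rfl
    · simp only [Sum.elim_inr]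
      rw [← chiU_val, h v.val v.2]
      rfl

/-- the root-coefficient certificate: the column `A_{·, v}` is the combination `∑_j m_j(v) A_{·, p_j}` -/
def RootCoef (D : ChevalleyDatum) (m : ℕ → Fin D.rank → ℤ) : Prop :=
  ∀ v < D.nroots, ∀ i : Fin D.rank, D.cartan i.val v = ∑ j : Fin D.rank, m v j * cartanMat D j i

theorem chiU_eq_of_rootCoef (D : ChevalleyDatum) (m : ℕ → Fin D.rank → ℤ) (hm : RootCoef D m)
    (c : Fin D.rank → Fˣ) (v : ℕ) (hv : v < D.nroots) :
    chiU D c v = ∏ j : Fin D.rank, zpv (cartanMat D) c j ^ m v j := by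
  unfold chiU zpv
  calc ∏ i, c i ^ D.cartan i.val v = ∏ i, ∏ j, c i ^ (m v j * cartanMat D j i) := by
        apply Finset.prod_congr rfl
        intro i _
        rw [hm v hv i, zpow_finsum]
    _ = ∏ j, ∏ i, c i ^ (m v j * cartanMat D j i) := Finset.prod_comm
    _ = ∏ j, (∏ i, c i ^ cartanMat D j i) ^ m v j := by
        apply Finset.prod_congr rfl
        intro j _
        rw [← Finset.prod_zpow]
        apply Finset.prod_congr rfl
        intro i _
        rw [mul_comm, zpow_mul]

theorem mem_ker_torusHom_iff (D : ChevalleyDatum) (m : ℕ → Fin D.rank → ℤ) (hm : RootCoef D m)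
    (hsl : ∀ i < D.rank, D.simple i < D.nroots) (c : Fin D.rank → Fˣ) :
    c ∈ (torusHom D F).ker ↔ zpv (cartanMat D) c = 1 := by
  rw [mem_ker_torusHom]
  constructor
  · intro h
    funext j
    rw [← chiU_simple, h _ (hsl j.val j.2)]
    rfl
  · intro h v hv
    rw [chiU_eq_of_rootCoef D m hm c v hv, h]
    simp

/-- `|ker| · |H| = (q - 1)^l` and `|ker| = ∏ gcd(q - 1, s_i)` -/
theorem card_diagonalSubgroup [Fintype F] (D : ChevalleyDatum) (hX : XAdd D F) (hS : HSimple D F)
    (hA : HAll D F) (hsl : ∀ i < D.rank, D.simple i < D.nroots)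
    (m : ℕ → Fin D.rank → ℤ) (hm : RootCoef D m)
    (U U' V V' : Matrix (Fin D.rank) (Fin D.rank) ℤ) (s : Fin D.rank → ℕ)
    (h1 : U * cartanMat D * V = Matrix.diagonal (fun i => (s i : ℤ))) (hU : U' * U = 1)
    (hV : V * V' = 1) (hV' : V' * V = 1) :
    (∏ i, (Fintype.card F - 1).gcd (s i)) * Nat.card (D.diagonalSubgroup F) =
      (Fintype.card F - 1) ^ D.rank := by
  classical
  have hcard : Nat.card Fˣ = Fintype.card F - 1 := by
    rw [Nat.card_eq_fintype_card, Fintype.card_units]
  have hker : Nat.card (torusHom D F).ker = ∏ i, (Fintype.card F - 1).gcd (s i) := by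
    have e : ↥(torusHom D F).ker ≃ {x : Fin D.rank → Fˣ // zpv (cartanMat D) x = 1} :=
      Equiv.subtypeEquivRight (fun c => mem_ker_torusHom_iff D m hm hsl c)
    rw [Nat.card_congr e, card_ker_zpv (cartanMat D) U U' V V' _ h1 hU hV hV']
    apply Finset.prod_congr rfl
    intro i _
    rw [card_zpow_eq_one, hcard]
  rw [← hker, ← torusHom_range D hX hS hA hsl, ← Subgroup.index_ker, Subgroup.card_mul_index,
    Nat.card_fun, hcard]
  simp

end Cfsg.Agent.Lead.Chev
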