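import Mathlib
import Cfsg.Agent.Lib.Lead.ChevHCard
import Cfsg.Prelude.Def_ChevG2
import Cfsg.Prelude.Def_ChevB2
import Cfsg.Prelude.Def_ChevD4
import Cfsg.Prelude.Def_ChevF4
import Cfsg.Prelude.Def_ChevE6
import Cfsg.Prelude.Def_ChevE7
import Cfsg.Prelude.Def_ChevE8

/-!
Smith normal forms of the Cartan matrices and the coefficients of the roots on the fundamental roots, for the
seven data (found outside, verified by the kernel).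
-/

set_option autoImplicit false

namespace Cfsg.Agent.Lead.Chev

open Cfsg Cfsg.Lie

/-- an integer matrix from a list of rows -/
def matOfL (l : ℕ) (L : List (List ℤ)) : Matrix (Fin l) (Fin l) ℤ :=
  Matrix.of fun i j => (L.getD i.val []).getD j.val 0

/-- a coefficient family from a list of rows -/
def coefOfL (l : ℕ) (L : List (List ℤ)) : ℕ → Fin l → ℤ := fun v j => (L.getD v []).getD j.val 0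

def smithU_G2 : List (List ℤ) := [[-1, 0], [2, 1]]
def smithUi_G2 : List (List ℤ) := [[-1, 0], [2, 1]]
def smithV_G2 : List (List ℤ) := [[0, 1], [1, 2]]
def smithVi_G2 : List (List ℤ) := [[-2, 1], [1, 0]]
def smithS_G2 : List ℕ := [1, 1]
def rootCoefL_G2 : List (List ℤ) := [[-3, -2], [-3, -1], [-2, -1], [-1, -1], [-1, 0], [0, -1], [0, 1], [1, 0], [1, 1], [2, 1], [3, 1], [3, 2]]

theorem smith1_G2 : matOfL chevG2.rank smithU_G2 * cartanMat chevG2 * matOfL chevG2.rank smithV_G2 =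
    Matrix.diagonal (fun i => ((smithS_G2.getD i.val 0 : ℕ) : ℤ)) := by decide +kernel
theorem smith2_G2 : matOfL chevG2.rank smithUi_G2 * matOfL chevG2.rank smithU_G2 = 1 := by decide +kernel
theorem smith3_G2 : matOfL chevG2.rank smithV_G2 * matOfL chevG2.rank smithVi_G2 = 1 := by decide +kernel
theorem smith4_G2 : matOfL chevG2.rank smithVi_G2 * matOfL chevG2.rank smithV_G2 = 1 := by decide +kernel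
theorem rootCoef_G2 : RootCoef chevG2 (coefOfL chevG2.rank rootCoefL_G2) := by
  unfold RootCoef
  decide +kernel

def smithU_B2 : List (List ℤ) := [[-1, 0], [2, 1]]
def smithUi_B2 : List (List ℤ) := [[-1, 0], [2, 1]]
def smithV_B2 : List (List ℤ) := [[0, 1], [1, 2]]
def smithVi_B2 : List (List ℤ) := [[-2, 1], [1, 0]]
def smithS_B2 : List ℕ := [1, 2]
def rootCoefL_B2 : List (List ℤ) := [[-2, -1], [-1, -1], [-1, 0], [0, -1], [0, 1], [1, 0], [1, 1], [2, 1]]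

theorem smith1_B2 : matOfL chevB2.rank smithU_B2 * cartanMat chevB2 * matOfL chevB2.rank smithV_B2 =
    Matrix.diagonal (fun i => ((smithS_B2.getD i.val 0 : ℕ) : ℤ)) := by decide +kernel
theorem smith2_B2 : matOfL chevB2.rank smithUi_B2 * matOfL chevB2.rank smithU_B2 = 1 := by decide +kernel
theorem smith3_B2 : matOfL chevB2.rank smithV_B2 * matOfL chevB2.rank smithVi_B2 = 1 := by decide +kernel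
theorem smith4_B2 : matOfL chevB2.rank smithVi_B2 * matOfL chevB2.rank smithV_B2 = 1 := by decide +kernel
theorem rootCoef_B2 : RootCoef chevB2 (coefOfL chevB2.rank rootCoefL_B2) := by
  unfold RootCoef
  decide +kernel

def smithU_D4 : List (List ℤ) := [[-1, 0, 0, 0], [-2, -1, 0, 0], [-3, -2, -1, 0], [2, 2, 1, 1]]
def smithUi_D4 : List (List ℤ) := [[-1, 0, 0, 0], [2, -1, 0, 0], [-1, 2, -1, 0], [-1, 0, 1, 1]]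
def smithV_D4 : List (List ℤ) := [[0, 0, 0, 1], [1, 0, 0, 2], [0, 1, -1, 1], [0, 0, 1, 2]]
def smithVi_D4 : List (List ℤ) := [[-2, 1, 0, 0], [-3, 0, 1, 1], [-2, 0, 0, 1], [1, 0, 0, 0]]
def smithS_D4 : List ℕ := [1, 1, 2, 2]
def rootCoefL_D4 : List (List ℤ) := [[-1, -2, -1, -1], [-1, -1, -1, -1], [-1, -1, -1, 0], [-1, -1, 0, -1], [-1, -1, 0, 0], [-1, 0, 0, 0], [0, -1, -1, -1], [0, -1, -1, 0], [0, -1, 0, -1], [0, -1, 0, 0], [0, 0, -1, 0], [0, 0, 0, -1], [0, 0, 0, 1], [0, 0, 1, 0], [0, 1, 0, 0], [0, 1, 0, 1], [0, 1, 1, 0], [0, 1, 1, 1], [1, 0, 0, 0], [1, 1, 0, 0], [1, 1, 0, 1], [1, 1, 1, 0], [1, 1, 1, 1], [1, 2, 1, 1]]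

theorem smith1_D4 : matOfL chevD4.rank smithU_D4 * cartanMat chevD4 * matOfL chevD4.rank smithV_D4 =
    Matrix.diagonal (fun i => ((smithS_D4.getD i.val 0 : ℕ) : ℤ)) := by decide +kernel
theorem smith2_D4 : matOfL chevD4.rank smithUi_D4 * matOfL chevD4.rank smithU_D4 = 1 := by decide +kernel
theorem smith3_D4 : matOfL chevD4.rank smithV_D4 * matOfL chevD4.rank smithVi_D4 = 1 := by decide +kernel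
theorem smith4_D4 : matOfL chevD4.rank smithVi_D4 * matOfL chevD4.rank smithV_D4 = 1 := by decide +kernel
theorem rootCoef_D4 : RootCoef chevD4 (coefOfL chevD4.rank rootCoefL_D4) := by
  unfold RootCoef
  decide +kernel

def smithU_F4 : List (List ℤ) := [[-1, 0, 0, 0], [-2, -1, 0, 0], [-2, -2, -1, 0], [2, 3, 2, 1]]
def smithUi_F4 : List (List ℤ) := [[-1, 0, 0, 0], [2, -1, 0, 0], [-2, 2, -1, 0], [0, -1, 2, 1]]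
def smithV_F4 : List (List ℤ) := [[0, 0, 0, 1], [1, 0, 0, 2], [0, 1, 0, 3], [0, 0, 1, 2]]
def smithVi_F4 : List (List ℤ) := [[-2, 1, 0, 0], [-3, 0, 1, 0], [-2, 0, 0, 1], [1, 0, 0, 0]]
def smithS_F4 : List ℕ := [1, 1, 1, 1]
def rootCoefL_F4 : List (List ℤ) := [[-2, -4, -3, -2], [-2, -4, -3, -1], [-2, -4, -2, -1], [-2, -3, -2, -1], [-2, -2, -2, -1], [-2, -2, -1, -1], [-2, -2, -1, 0], [-1, -3, -2, -1], [-1, -2, -2, -1], [-1, -2, -1, -1], [-1, -2, -1, 0], [-1, -1, -1, -1], [-1, -1, -1, 0], [-1, -1, 0, 0], [-1, 0, 0, 0], [0, -2, -2, -1], [0, -2, -1, -1], [0, -2, -1, 0], [0, -1, -1, -1], [0, -1, -1, 0], [0, -1, 0, 0], [0, 0, -1, -1], [0, 0, -1, 0], [0, 0, 0, -1], [0, 0, 0, 1], [0, 0, 1, 0], [0, 0, 1, 1], [0, 1, 0, 0], [0, 1, 1, 0], [0, 1, 1, 1], [0, 2, 1, 0], [0, 2, 1, 1], [0, 2,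 2, 1], [1, 0, 0, 0], [1, 1, 0, 0], [1, 1, 1, 0], [1, 1, 1, 1], [1, 2, 1, 0], [1, 2, 1, 1], [1, 2, 2, 1], [1, 3, 2, 1], [2, 2, 1, 0], [2, 2, 1, 1], [2, 2, 2, 1], [2, 3, 2, 1], [2, 4, 2, 1], [2, 4, 3, 1], [2, 4, 3, 2]]

theorem smith1_F4 : matOfL chevF4.rank smithU_F4 * cartanMat chevF4 * matOfL chevF4.rank smithV_F4 =
    Matrix.diagonal (fun i => ((smithS_F4.getD i.val 0 : ℕ) : ℤ)) := by decide +kernel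
theorem smith2_F4 : matOfL chevF4.rank smithUi_F4 * matOfL chevF4.rank smithU_F4 = 1 := by decide +kernel
theorem smith3_F4 : matOfL chevF4.rank smithV_F4 * matOfL chevF4.rank smithVi_F4 = 1 := by decide +kernel
theorem smith4_F4 : matOfL chevF4.rank smithVi_F4 * matOfL chevF4.rank smithV_F4 = 1 := by decide +kernel
theorem rootCoef_F4 : RootCoef chevF4 (coefOfL chevF4.rank rootCoefL_F4) := by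
  unfold RootCoef
  decide +kernel

def smithU_E6 : List (List ℤ) := [[-1, 0, 0, 0, 0, 0], [0, -1, 0, 0, 0, 0], [1, -2, 0, -1, 0, 0], [2, -3, 0, -2, -1, 0], [-2, 1, -1, 0, 0, 0], [-5, 0, -4, -3, -2, -1]]
def smithUi_E6 : List (List ℤ) := [[-1, 0, 0, 0, 0, 0], [0, -1, 0, 0, 0, 0], [2, -1, 0, 0, -1, 0], [-1, 2, -1, 0, 0, 0], [0, -1, 2, -1, 0, 0], [0, 0, -1, 2, 4, -1]]
def smithV_E6 : List (List ℤ) := [[0, 0, 0, 0, 1, -2], [0, 0, 0, 0, 2, -3], [1, 0, 0, 0, 2, -4], [0, 1, 0, 0, 4, -6], [0, 0, 1, 0, 4, -5], [0, 0, 0, 1, 4, -4]]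
def smithVi_E6 : List (List ℤ) := [[-2, 0, 1, 0, 0, 0], [0, -2, 0, 1, 0, 0], [2, -3, 0, 0, 1, 0], [4, -4, 0, 0, 0, 1], [-3, 2, 0, 0, 0, 0], [-2, 1, 0, 0, 0, 0]]
def smithS_E6 : List ℕ := [1, 1, 1, 1, 1, 3]
def rootCoefL_E6 : List (List ℤ) := [[-1, -2, -2, -3, -2, -1], [-1, -1, -2, -3, -2, -1], [-1, -1, -2, -2, -2, -1], [-1, -1, -2, -2, -1, -1], [-1, -1, -2, -2, -1, 0], [-1, -1, -1, -2, -2, -1], [-1, -1, -1, -2, -1, -1], [-1, -1, -1, -2, -1, 0], [-1, -1, -1, -1, -1, -1], [-1, -1, -1, -1, -1, 0], [-1, -1, -1, -1, 0, 0], [-1, 0, -1, -1, -1, -1], [-1, 0, -1, -1, -1, 0], [-1, 0, -1, -1, 0, 0], [-1, 0, -1, 0, 0, 0], [-1, 0, 0, 0, 0, 0], [0, -1, -1, -2, -2, -1], [0, -1, -1, -2, -1, -1], [0, -1, -1, -2, -1, 0], [0, -1, -1, -1, -1, -1], [0, -1, -1, -1, -1, 0], [0, -1, -1, -1, 0, 0],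 [0, -1, 0, -1, -1, -1], [0, -1, 0, -1, -1, 0], [0, -1, 0, -1, 0, 0], [0, -1, 0, 0, 0, 0], [0, 0, -1, -1, -1, -1], [0, 0, -1, -1, -1, 0], [0, 0, -1, -1, 0, 0], [0, 0, -1, 0, 0, 0], [0, 0, 0, -1, -1, -1], [0, 0, 0, -1, -1, 0], [0, 0, 0, -1, 0, 0], [0, 0, 0, 0, -1, -1], [0, 0, 0, 0, -1, 0], [0, 0, 0, 0, 0, -1], [0, 0, 0, 0, 0, 1], [0, 0, 0, 0, 1, 0], [0, 0, 0, 0, 1, 1], [0, 0, 0, 1, 0, 0], [0, 0, 0, 1, 1, 0], [0, 0, 0, 1, 1, 1], [0, 0, 1, 0, 0, 0], [0, 0, 1, 1, 0, 0], [0, 0, 1, 1, 1, 0], [0, 0, 1, 1, 1, 1], [0, 1, 0, 0, 0, 0], [0, 1, 0, 1, 0, 0], [0, 1, 0, 1, 1, 0], [0, 1, 0, 1, 1, 1], [0, 1, 1, 1, 0, 0], [0, 1, 1, 1, 1, 0], [0, 1, 1, 1, 1, 1], [0, 1, 1, 2, 1, 0], [0, 1, 1, 2, 1, 1], [0, 1, 1, 2, 2, 1], [1, 0, 0, 0, 0, 0], [1, 0, 1, 0, 0, 0], [1, 0, 1, 1, 0, 0], [1, 0, 1, 1,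 1, 0], [1, 0, 1, 1, 1, 1], [1, 1, 1, 1, 0, 0], [1, 1, 1, 1, 1, 0], [1, 1, 1, 1, 1, 1], [1, 1, 1, 2, 1, 0], [1, 1, 1, 2, 1, 1], [1, 1, 1, 2, 2, 1], [1, 1, 2, 2, 1, 0], [1, 1, 2, 2, 1, 1], [1, 1, 2, 2, 2, 1], [1, 1, 2, 3, 2, 1], [1, 2, 2, 3, 2, 1]]

theorem smith1_E6 : matOfL chevE6.rank smithU_E6 * cartanMat chevE6 * matOfL chevE6.rank smithV_E6 =
    Matrix.diagonal (fun i => ((smithS_E6.getD i.val 0 : ℕ) : ℤ)) := by decide +kernel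
theorem smith2_E6 : matOfL chevE6.rank smithUi_E6 * matOfL chevE6.rank smithU_E6 = 1 := by decide +kernel
theorem smith3_E6 : matOfL chevE6.rank smithV_E6 * matOfL chevE6.rank smithVi_E6 = 1 := by decide +kernel
theorem smith4_E6 : matOfL chevE6.rank smithVi_E6 * matOfL chevE6.rank smithV_E6 = 1 := by decide +kernel
theorem rootCoef_E6 : RootCoef chevE6 (coefOfL chevE6.rank rootCoefL_E6) := by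
  unfold RootCoef
  decide +kernel

def smithU_E7 : List (List ℤ) := [[-1, 0, 0, 0, 0, 0, 0], [0, -1, 0, 0, 0, 0, 0], [1, -2, 0, -1, 0, 0, 0], [2, -3, 0, -2, -1, 0, 0], [3, -4, 0, -3, -2, -1, 0], [-2, 1, -1, 0, 0, 0, 0], [-4, -1, -4, -4, -3, -2, -1]]
def smithUi_E7 : List (List ℤ) := [[-1, 0, 0, 0, 0, 0, 0], [0, -1, 0, 0, 0, 0, 0], [2, -1, 0, 0, 0, -1, 0], [-1, 2, -1, 0, 0, 0, 0], [0, -1, 2, -1, 0, 0, 0], [0, 0, -1, 2, -1, 0, 0], [0, 0, 0, -1, 2, 4, -1]]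
def smithV_E7 : List (List ℤ) := [[0, 0, 0, 0, 0, 1, -2], [0, 0, 0, 0, 0, 2, -3], [1, 0, 0, 0, 0, 2, -4], [0, 1, 0, 0, 0, 4, -6], [0, 0, 1, 0, 0, 4, -5], [0, 0, 0, 1, 0, 4, -4], [0, 0, 0, 0, 1, 4, -3]]
def smithVi_E7 : List (List ℤ) := [[-2, 0, 1, 0, 0, 0, 0], [0, -2, 0, 1, 0, 0, 0], [2, -3, 0, 0, 1, 0, 0], [4, -4, 0, 0, 0, 1, 0], [6, -5, 0, 0, 0, 0, 1], [-3, 2, 0, 0, 0, 0, 0], [-2, 1, 0, 0, 0, 0, 0]]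
def smithS_E7 : List ℕ := [1, 1, 1, 1, 1, 1, 2]
def rootCoefL_E7 : List (List ℤ) := [[-2, -2, -3, -4, -3, -2, -1], [-1, -2, -3, -4, -3, -2, -1], [-1, -2, -2, -4, -3, -2, -1], [-1, -2, -2, -3, -3, -2, -1], [-1, -2, -2, -3, -2, -2, -1], [-1, -2, -2, -3, -2, -1, -1], [-1, -2, -2, -3, -2, -1, 0], [-1, -1, -2, -3, -3, -2, -1], [-1, -1, -2, -3, -2, -2, -1], [-1, -1, -2, -3, -2, -1, -1], [-1, -1, -2, -3, -2, -1, 0], [-1, -1, -2, -2, -2, -2, -1], [-1, -1, -2, -2, -2, -1, -1], [-1, -1, -2, -2, -2, -1, 0], [-1, -1, -2, -2, -1, -1, -1], [-1, -1, -2, -2, -1, -1, 0], [-1, -1, -2, -2, -1, 0, 0], [-1, -1, -1, -2, -2, -2, -1], [-1, -1, -1, -2, -2, -1, -1], [-1, -1, -1, -2, -2, -1, 0], [-1, -1, -1, -2, -1, -1, -1], [-1, -1, -1, -2, -1, -1, 0], [-1, -1, -1, -2, -1, 0, 0], [-1, -1, -1, -1, -1,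 -1, -1], [-1, -1, -1, -1, -1, -1, 0], [-1, -1, -1, -1, -1, 0, 0], [-1, -1, -1, -1, 0, 0, 0], [-1, 0, -1, -1, -1, -1, -1], [-1, 0, -1, -1, -1, -1, 0], [-1, 0, -1, -1, -1, 0, 0], [-1, 0, -1, -1, 0, 0, 0], [-1, 0, -1, 0, 0, 0, 0], [-1, 0, 0, 0, 0, 0, 0], [0, -1, -1, -2, -2, -2, -1], [0, -1, -1, -2, -2, -1, -1], [0, -1, -1, -2, -2, -1, 0], [0, -1, -1, -2, -1, -1, -1], [0, -1, -1, -2, -1, -1, 0], [0, -1, -1, -2, -1, 0, 0], [0, -1, -1, -1, -1, -1, -1], [0, -1, -1, -1, -1, -1, 0], [0, -1, -1, -1, -1, 0, 0], [0, -1, -1, -1, 0, 0, 0], [0, -1, 0, -1, -1, -1, -1], [0, -1, 0, -1, -1, -1, 0], [0, -1, 0, -1, -1, 0, 0], [0, -1, 0, -1, 0, 0, 0], [0, -1, 0, 0, 0, 0, 0], [0, 0, -1, -1, -1, -1, -1], [0, 0, -1, -1, -1, -1, 0], [0, 0, -1, -1, -1, 0, 0], [0, 0, -1, -1, 0, 0, 0], [0, 0, -1, 0, 0,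 0, 0], [0, 0, 0, -1, -1, -1, -1], [0, 0, 0, -1, -1, -1, 0], [0, 0, 0, -1, -1, 0, 0], [0, 0, 0, -1, 0, 0, 0], [0, 0, 0, 0, -1, -1, -1], [0, 0, 0, 0, -1, -1, 0], [0, 0, 0, 0, -1, 0, 0], [0, 0, 0, 0, 0, -1, -1], [0, 0, 0, 0, 0, -1, 0], [0, 0, 0, 0, 0, 0, -1], [0, 0, 0, 0, 0, 0, 1], [0, 0, 0, 0, 0, 1, 0], [0, 0, 0, 0, 0, 1, 1], [0, 0, 0, 0, 1, 0, 0], [0, 0, 0, 0, 1, 1, 0], [0, 0, 0, 0, 1, 1, 1], [0, 0, 0, 1, 0, 0, 0], [0, 0, 0, 1, 1, 0, 0], [0, 0, 0, 1, 1, 1, 0], [0, 0, 0, 1, 1, 1, 1], [0, 0, 1, 0, 0, 0, 0], [0, 0, 1, 1, 0, 0, 0], [0, 0, 1, 1, 1, 0, 0], [0, 0, 1, 1, 1, 1, 0], [0, 0, 1, 1, 1, 1, 1], [0, 1, 0, 0, 0, 0, 0], [0, 1, 0, 1, 0, 0, 0], [0, 1, 0, 1, 1, 0, 0], [0, 1, 0, 1, 1, 1, 0], [0, 1, 0, 1, 1, 1, 1], [0, 1, 1, 1, 0, 0, 0], [0, 1, 1, 1, 1, 0, 0], [0, 1, 1, 1, 1, 1, 0],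 [0, 1, 1, 1, 1, 1, 1], [0, 1, 1, 2, 1, 0, 0], [0, 1, 1, 2, 1, 1, 0], [0, 1, 1, 2, 1, 1, 1], [0, 1, 1, 2, 2, 1, 0], [0, 1, 1, 2, 2, 1, 1], [0, 1, 1, 2, 2, 2, 1], [1, 0, 0, 0, 0, 0, 0], [1, 0, 1, 0, 0, 0, 0], [1, 0, 1, 1, 0, 0, 0], [1, 0, 1, 1, 1, 0, 0], [1, 0, 1, 1, 1, 1, 0], [1, 0, 1, 1, 1, 1, 1], [1, 1, 1, 1, 0, 0, 0], [1, 1, 1, 1, 1, 0, 0], [1, 1, 1, 1, 1, 1, 0], [1, 1, 1, 1, 1, 1, 1], [1, 1, 1, 2, 1, 0, 0], [1, 1, 1, 2, 1, 1, 0], [1, 1, 1, 2, 1, 1, 1], [1, 1, 1, 2, 2, 1, 0], [1, 1, 1, 2, 2, 1, 1], [1, 1, 1, 2, 2, 2, 1], [1, 1, 2, 2, 1, 0, 0], [1, 1, 2, 2, 1, 1, 0], [1, 1, 2, 2, 1, 1, 1], [1, 1, 2, 2, 2, 1, 0], [1, 1, 2, 2, 2, 1, 1], [1, 1, 2, 2, 2, 2, 1], [1, 1, 2, 3, 2, 1, 0], [1, 1, 2, 3, 2, 1, 1], [1, 1, 2, 3, 2, 2, 1], [1, 1, 2, 3, 3, 2, 1], [1, 2, 2, 3, 2, 1, 0], [1,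 2, 2, 3, 2, 1, 1], [1, 2, 2, 3, 2, 2, 1], [1, 2, 2, 3, 3, 2, 1], [1, 2, 2, 4, 3, 2, 1], [1, 2, 3, 4, 3, 2, 1], [2, 2, 3, 4, 3, 2, 1]]

theorem smith1_E7 : matOfL chevE7.rank smithU_E7 * cartanMat chevE7 * matOfL chevE7.rank smithV_E7 =
    Matrix.diagonal (fun i => ((smithS_E7.getD i.val 0 : ℕ) : ℤ)) := by decide +kernel
theorem smith2_E7 : matOfL chevE7.rank smithUi_E7 * matOfL chevE7.rank smithU_E7 = 1 := by decide +kernel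
theorem smith3_E7 : matOfL chevE7.rank smithV_E7 * matOfL chevE7.rank smithVi_E7 = 1 := by decide +kernel
theorem smith4_E7 : matOfL chevE7.rank smithVi_E7 * matOfL chevE7.rank smithV_E7 = 1 := by decide +kernel
theorem rootCoef_E7 : RootCoef chevE7 (coefOfL chevE7.rank rootCoefL_E7) := by
  unfold RootCoef
  decide +kernel

def smithU_E8 : List (List ℤ) := [[-1, 0, 0, 0, 0, 0, 0, 0], [0, -1, 0, 0, 0, 0, 0, 0], [1, -2, 0, -1, 0, 0, 0, 0], [2, -3, 0, -2, -1, 0, 0, 0], [3, -4, 0, -3, -2, -1, 0, 0], [4, -5, 0, -4, -3, -2, -1, 0], [-2, 1, -1, 0, 0, 0, 0, 0], [-3, -2, -4, -5, -4, -3, -2, -1]]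
def smithUi_E8 : List (List ℤ) := [[-1, 0, 0, 0, 0, 0, 0, 0], [0, -1, 0, 0, 0, 0, 0, 0], [2, -1, 0, 0, 0, 0, -1, 0], [-1, 2, -1, 0, 0, 0, 0, 0], [0, -1, 2, -1, 0, 0, 0, 0], [0, 0, -1, 2, -1, 0, 0, 0], [0, 0, 0, -1, 2, -1, 0, 0], [0, 0, 0, 0, -1, 2, 4, -1]]
def smithV_E8 : List (List ℤ) := [[0, 0, 0, 0, 0, 0, 1, -2], [0, 0, 0, 0, 0, 0, 2, -3], [1, 0, 0, 0, 0, 0, 2, -4], [0, 1, 0, 0, 0, 0, 4, -6], [0, 0, 1, 0, 0, 0, 4, -5], [0, 0, 0, 1, 0, 0, 4, -4], [0, 0, 0, 0, 1, 0, 4, -3], [0, 0, 0, 0, 0, 1, 4, -2]]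
def smithVi_E8 : List (List ℤ) := [[-2, 0, 1, 0, 0, 0, 0, 0], [0, -2, 0, 1, 0, 0, 0, 0], [2, -3, 0, 0, 1, 0, 0, 0], [4, -4, 0, 0, 0, 1, 0, 0], [6, -5, 0, 0, 0, 0, 1, 0], [8, -6, 0, 0, 0, 0, 0, 1], [-3, 2, 0, 0, 0, 0, 0, 0], [-2, 1, 0, 0, 0, 0, 0, 0]]
def smithS_E8 : List ℕ := [1, 1, 1, 1, 1, 1, 1, 1]
def rootCoefL_E8 : List (List ℤ) := [[-2, -3, -4, -6, -5, -4, -3, -2], [-2, -3, -4, -6, -5, -4, -3, -1], [-2, -3, -4, -6, -5, -4, -2, -1], [-2, -3, -4, -6, -5, -3, -2, -1], [-2, -3, -4, -6, -4, -3, -2, -1], [-2, -3, -4, -5, -4, -3, -2, -1], [-2, -3, -3, -5, -4, -3, -2, -1], [-2, -2, -4, -5, -4, -3, -2, -1], [-2, -2, -3, -5, -4, -3, -2, -1], [-2, -2, -3, -4, -4, -3, -2, -1], [-2, -2, -3, -4, -3, -3, -2, -1], [-2, -2, -3, -4, -3, -2, -2, -1], [-2, -2, -3, -4, -3, -2, -1, -1], [-2,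 -2, -3, -4, -3, -2, -1, 0], [-1, -3, -3, -5, -4, -3, -2, -1], [-1, -2, -3, -5, -4, -3, -2, -1], [-1, -2, -3, -4, -4, -3, -2, -1], [-1, -2, -3, -4, -3, -3, -2, -1], [-1, -2, -3, -4, -3, -2, -2, -1], [-1, -2, -3, -4, -3, -2, -1, -1], [-1, -2, -3, -4, -3, -2, -1, 0], [-1, -2, -2, -4, -4, -3, -2, -1], [-1, -2, -2, -4, -3, -3, -2, -1], [-1, -2, -2, -4, -3, -2, -2, -1], [-1, -2, -2, -4, -3, -2, -1, -1], [-1, -2, -2, -4, -3, -2, -1, 0], [-1, -2, -2, -3, -3, -3, -2, -1], [-1, -2, -2, -3, -3, -2, -2, -1], [-1, -2, -2, -3, -3, -2, -1, -1], [-1, -2, -2, -3, -3, -2, -1, 0], [-1, -2, -2, -3, -2, -2, -2, -1], [-1, -2, -2, -3, -2, -2, -1, -1], [-1, -2, -2, -3, -2, -2, -1, 0], [-1, -2, -2, -3, -2, -1, -1, -1], [-1, -2, -2, -3, -2, -1, -1, 0], [-1, -2, -2, -3, -2, -1, 0, 0], [-1, -1, -2, -3,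 -3, -3, -2, -1], [-1, -1, -2, -3, -3, -2, -2, -1], [-1, -1, -2, -3, -3, -2, -1, -1], [-1, -1, -2, -3, -3, -2, -1, 0], [-1, -1, -2, -3, -2, -2, -2, -1], [-1, -1, -2, -3, -2, -2, -1, -1], [-1, -1, -2, -3, -2, -2, -1, 0], [-1, -1, -2, -3, -2, -1, -1, -1], [-1, -1, -2, -3, -2, -1, -1, 0], [-1, -1, -2, -3, -2, -1, 0, 0], [-1, -1, -2, -2, -2, -2, -2, -1], [-1, -1, -2, -2, -2, -2, -1, -1], [-1, -1, -2, -2, -2, -2, -1, 0], [-1, -1, -2, -2, -2, -1, -1, -1], [-1, -1, -2, -2, -2, -1, -1, 0], [-1, -1, -2, -2, -2, -1, 0, 0], [-1, -1, -2, -2, -1, -1, -1, -1], [-1, -1, -2, -2, -1, -1, -1, 0], [-1, -1, -2, -2, -1, -1, 0, 0], [-1, -1, -2, -2, -1, 0, 0, 0], [-1, -1, -1, -2, -2, -2, -2, -1], [-1, -1, -1, -2, -2, -2, -1, -1], [-1, -1, -1, -2, -2, -2, -1, 0], [-1, -1, -1, -2, -2, -1, -1, -1],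 [-1, -1, -1, -2, -2, -1, -1, 0], [-1, -1, -1, -2, -2, -1, 0, 0], [-1, -1, -1, -2, -1, -1, -1, -1], [-1, -1, -1, -2, -1, -1, -1, 0], [-1, -1, -1, -2, -1, -1, 0, 0], [-1, -1, -1, -2, -1, 0, 0, 0], [-1, -1, -1, -1, -1, -1, -1, -1], [-1, -1, -1, -1, -1, -1, -1, 0], [-1, -1, -1, -1, -1, -1, 0, 0], [-1, -1, -1, -1, -1, 0, 0, 0], [-1, -1, -1, -1, 0, 0, 0, 0], [-1, 0, -1, -1, -1, -1, -1, -1], [-1, 0, -1, -1, -1, -1, -1, 0], [-1, 0, -1, -1, -1, -1, 0, 0], [-1, 0, -1, -1, -1, 0, 0, 0], [-1, 0, -1, -1, 0, 0, 0, 0], [-1, 0, -1, 0, 0, 0, 0, 0], [-1, 0, 0, 0, 0, 0, 0, 0], [0, -1, -1, -2, -2, -2, -2, -1], [0, -1, -1, -2, -2, -2, -1, -1], [0, -1, -1, -2, -2, -2, -1, 0], [0, -1, -1, -2, -2, -1, -1, -1], [0, -1, -1, -2, -2, -1, -1, 0], [0, -1, -1, -2, -2, -1, 0, 0], [0, -1, -1, -2, -1, -1,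 -1, -1], [0, -1, -1, -2, -1, -1, -1, 0], [0, -1, -1, -2, -1, -1, 0, 0], [0, -1, -1, -2, -1, 0, 0, 0], [0, -1, -1, -1, -1, -1, -1, -1], [0, -1, -1, -1, -1, -1, -1, 0], [0, -1, -1, -1, -1, -1, 0, 0], [0, -1, -1, -1, -1, 0, 0, 0], [0, -1, -1, -1, 0, 0, 0, 0], [0, -1, 0, -1, -1, -1, -1, -1], [0, -1, 0, -1, -1, -1, -1, 0], [0, -1, 0, -1, -1, -1, 0, 0], [0, -1, 0, -1, -1, 0, 0, 0], [0, -1, 0, -1, 0, 0, 0, 0], [0, -1, 0, 0, 0, 0, 0, 0], [0, 0, -1, -1, -1, -1, -1, -1], [0, 0, -1, -1, -1, -1, -1, 0], [0, 0, -1, -1, -1, -1, 0, 0], [0, 0, -1, -1, -1, 0, 0, 0], [0, 0, -1, -1, 0, 0, 0, 0], [0, 0, -1, 0, 0, 0, 0, 0], [0, 0, 0, -1, -1, -1, -1, -1], [0, 0, 0, -1, -1, -1, -1, 0], [0, 0, 0, -1, -1, -1, 0, 0], [0, 0, 0, -1, -1, 0, 0, 0], [0, 0, 0, -1, 0, 0, 0, 0], [0, 0, 0, 0, -1, -1, -1, -1],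 [0, 0, 0, 0, -1, -1, -1, 0], [0, 0, 0, 0, -1, -1, 0, 0], [0, 0, 0, 0, -1, 0, 0, 0], [0, 0, 0, 0, 0, -1, -1, -1], [0, 0, 0, 0, 0, -1, -1, 0], [0, 0, 0, 0, 0, -1, 0, 0], [0, 0, 0, 0, 0, 0, -1, -1], [0, 0, 0, 0, 0, 0, -1, 0], [0, 0, 0, 0, 0, 0, 0, -1], [0, 0, 0, 0, 0, 0, 0, 1], [0, 0, 0, 0, 0, 0, 1, 0], [0, 0, 0, 0, 0, 0, 1, 1], [0, 0, 0, 0, 0, 1, 0, 0], [0, 0, 0, 0, 0, 1, 1, 0], [0, 0, 0, 0, 0, 1, 1, 1], [0, 0, 0, 0, 1, 0, 0, 0], [0, 0, 0, 0, 1, 1, 0, 0], [0, 0, 0, 0, 1, 1, 1, 0], [0, 0, 0, 0, 1, 1, 1, 1], [0, 0, 0, 1, 0, 0, 0, 0], [0, 0, 0, 1, 1, 0, 0, 0], [0, 0, 0, 1, 1, 1, 0, 0], [0, 0, 0, 1, 1, 1, 1, 0], [0, 0, 0, 1, 1, 1, 1, 1], [0, 0, 1, 0, 0, 0, 0, 0], [0, 0, 1, 1, 0, 0, 0, 0], [0, 0, 1, 1, 1, 0, 0, 0], [0, 0, 1, 1, 1, 1, 0, 0], [0, 0, 1, 1, 1, 1, 1, 0], [0, 0, 1, 1,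 1, 1, 1, 1], [0, 1, 0, 0, 0, 0, 0, 0], [0, 1, 0, 1, 0, 0, 0, 0], [0, 1, 0, 1, 1, 0, 0, 0], [0, 1, 0, 1, 1, 1, 0, 0], [0, 1, 0, 1, 1, 1, 1, 0], [0, 1, 0, 1, 1, 1, 1, 1], [0, 1, 1, 1, 0, 0, 0, 0], [0, 1, 1, 1, 1, 0, 0, 0], [0, 1, 1, 1, 1, 1, 0, 0], [0, 1, 1, 1, 1, 1, 1, 0], [0, 1, 1, 1, 1, 1, 1, 1], [0, 1, 1, 2, 1, 0, 0, 0], [0, 1, 1, 2, 1, 1, 0, 0], [0, 1, 1, 2, 1, 1, 1, 0], [0, 1, 1, 2, 1, 1, 1, 1], [0, 1, 1, 2, 2, 1, 0, 0], [0, 1, 1, 2, 2, 1, 1, 0], [0, 1, 1, 2, 2, 1, 1, 1], [0, 1, 1, 2, 2, 2, 1, 0], [0, 1, 1, 2, 2, 2, 1, 1], [0, 1, 1, 2, 2, 2, 2, 1], [1, 0, 0, 0, 0, 0, 0, 0], [1, 0, 1, 0, 0, 0, 0, 0], [1, 0, 1, 1, 0, 0, 0, 0], [1, 0, 1, 1, 1, 0, 0, 0], [1, 0, 1, 1, 1, 1, 0, 0], [1, 0, 1, 1, 1, 1, 1, 0], [1, 0, 1, 1, 1, 1, 1, 1], [1, 1, 1, 1, 0, 0, 0, 0], [1, 1, 1, 1, 1,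 0, 0, 0], [1, 1, 1, 1, 1, 1, 0, 0], [1, 1, 1, 1, 1, 1, 1, 0], [1, 1, 1, 1, 1, 1, 1, 1], [1, 1, 1, 2, 1, 0, 0, 0], [1, 1, 1, 2, 1, 1, 0, 0], [1, 1, 1, 2, 1, 1, 1, 0], [1, 1, 1, 2, 1, 1, 1, 1], [1, 1, 1, 2, 2, 1, 0, 0], [1, 1, 1, 2, 2, 1, 1, 0], [1, 1, 1, 2, 2, 1, 1, 1], [1, 1, 1, 2, 2, 2, 1, 0], [1, 1, 1, 2, 2, 2, 1, 1], [1, 1, 1, 2, 2, 2, 2, 1], [1, 1, 2, 2, 1, 0, 0, 0], [1, 1, 2, 2, 1, 1, 0, 0], [1, 1, 2, 2, 1, 1, 1, 0], [1, 1, 2, 2, 1, 1, 1, 1], [1, 1, 2, 2, 2, 1, 0, 0], [1, 1, 2, 2, 2, 1, 1, 0], [1, 1, 2, 2, 2, 1, 1, 1], [1, 1, 2, 2, 2, 2, 1, 0], [1, 1, 2, 2, 2, 2, 1, 1], [1, 1, 2, 2, 2, 2, 2, 1], [1, 1, 2, 3, 2, 1, 0, 0], [1, 1, 2, 3, 2, 1, 1, 0], [1, 1, 2, 3, 2, 1, 1, 1], [1, 1, 2, 3, 2, 2, 1, 0], [1, 1, 2, 3, 2, 2, 1, 1], [1, 1, 2, 3, 2, 2, 2, 1], [1, 1, 2, 3, 3, 2,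 1, 0], [1, 1, 2, 3, 3, 2, 1, 1], [1, 1, 2, 3, 3, 2, 2, 1], [1, 1, 2, 3, 3, 3, 2, 1], [1, 2, 2, 3, 2, 1, 0, 0], [1, 2, 2, 3, 2, 1, 1, 0], [1, 2, 2, 3, 2, 1, 1, 1], [1, 2, 2, 3, 2, 2, 1, 0], [1, 2, 2, 3, 2, 2, 1, 1], [1, 2, 2, 3, 2, 2, 2, 1], [1, 2, 2, 3, 3, 2, 1, 0], [1, 2, 2, 3, 3, 2, 1, 1], [1, 2, 2, 3, 3, 2, 2, 1], [1, 2, 2, 3, 3, 3, 2, 1], [1, 2, 2, 4, 3, 2, 1, 0], [1, 2, 2, 4, 3, 2, 1, 1], [1, 2, 2, 4, 3, 2, 2, 1], [1, 2, 2, 4, 3, 3, 2, 1], [1, 2, 2, 4, 4, 3, 2, 1], [1, 2, 3, 4, 3, 2, 1, 0], [1, 2, 3, 4, 3, 2, 1, 1], [1, 2, 3, 4, 3, 2, 2, 1], [1, 2, 3, 4, 3, 3, 2, 1], [1, 2, 3, 4, 4, 3, 2, 1], [1, 2, 3, 5, 4, 3, 2, 1], [1, 3, 3, 5, 4, 3, 2, 1], [2, 2, 3, 4, 3, 2, 1, 0], [2, 2, 3, 4, 3, 2, 1, 1], [2, 2, 3, 4, 3, 2, 2, 1], [2, 2, 3, 4, 3, 3, 2, 1], [2, 2, 3, 4, 4, 3, 2,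 1], [2, 2, 3, 5, 4, 3, 2, 1], [2, 2, 4, 5, 4, 3, 2, 1], [2, 3, 3, 5, 4, 3, 2, 1], [2, 3, 4, 5, 4, 3, 2, 1], [2, 3, 4, 6, 4, 3, 2, 1], [2, 3, 4, 6, 5, 3, 2, 1], [2, 3, 4, 6, 5, 4, 2, 1], [2, 3, 4, 6, 5, 4, 3, 1], [2, 3, 4, 6, 5, 4, 3, 2]]

theorem smith1_E8 : matOfL chevE8.rank smithU_E8 * cartanMat chevE8 * matOfL chevE8.rank smithV_E8 =
    Matrix.diagonal (fun i => ((smithS_E8.getD i.val 0 : ℕ) : ℤ)) := by decide +kernel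
theorem smith2_E8 : matOfL chevE8.rank smithUi_E8 * matOfL chevE8.rank smithU_E8 = 1 := by decide +kernel
theorem smith3_E8 : matOfL chevE8.rank smithV_E8 * matOfL chevE8.rank smithVi_E8 = 1 := by decide +kernel
theorem smith4_E8 : matOfL chevE8.rank smithVi_E8 * matOfL chevE8.rank smithV_E8 = 1 := by decide +kernel
theorem rootCoef_E8 : RootCoef chevE8 (coefOfL chevE8.rank rootCoefL_E8) := by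
  unfold RootCoef
  decide +kernel

end Cfsg.Agent.Lead.Chev
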