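import Mathlib
import Cfsg.Agent.Lib.Lead.ChevOrderAll
import Cfsg.Agent.Lib.Lead.WeylChain_G2
import Cfsg.Agent.Lib.Lead.WeylChain_B2
import Cfsg.Agent.Lib.Lead.WeylChain_D4
import Cfsg.Agent.Lib.Lead.WeylChain_F4
import Cfsg.Agent.Lib.Lead.WeylChain_E6
import Cfsg.Agent.Lib.Lead.WeylChain_E7
import Cfsg.Agent.Lib.Lead.WeylChain_E8
import Cfsg.Agent.S1027
import Cfsg.Agent.S1035

/-!
# A uniform shape of the order formula for the seven Chevalley data

`d · |G| = q^N · Π (q^{d_i} - 1)` with positive degrees `d_i`.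
-/

set_option autoImplicit false
open Cfsg Cfsg.Lie

namespace Cfsg.Agent.Lead.Chev

variable {F : Type*} [Field F] [Fintype F]

theorem exists_order_formula (D : ChevalleyDatum)
    (hD : D ∈ [chevG2, chevB2, chevD4, chevF4, chevE6, chevE7, chevE8]) :
    ∃ (d : ℕ) (ds : List ℕ), (∀ k ∈ ds, 0 < k) ∧
      d * Nat.card ↥(D.group F) =
        Fintype.card F ^ (D.nroots / 2) * (ds.map fun k => Fintype.card F ^ k - 1).prod := by
  have hF : ChevFacts D F := chevFacts_of_mem D hD
  have key : ∀ (steps : List (List ℕ × List ℕ × List Rep))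
      (hchain : ChainOK D (wsOf D) (List.range D.rank) steps) (ds : List ℕ)
      (hpoly : PolyL.mulL (PolyL.prodP (List.replicate D.rank (PolyL.pm1L 1)))
        (PolyL.prodP (steps.map stepPoly)) = PolyL.prodP (ds.map PolyL.pm1L))
      (d : ℕ) (hH : d * Nat.card ↥(D.diagonalSubgroup F) = (Fintype.card F - 1) ^ D.rank),
      d * Nat.card ↥(D.group F) =
        Fintype.card F ^ (D.nroots / 2) * (ds.map fun k => Fintype.card F ^ k - 1).prod := by
    intro steps hchain ds hpoly d hH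
    exact hF.order_of_chain (corSize_of_mem _ hD) (corComb_of_mem _ hD) (corInj_of_mem _ hD) (wsOf D)
      (wsTab_of_mem _ hD) steps hchain ds hpoly d hH (Cfsg.Agent.S1027.result D hD)
  have hD' := hD
  simp only [List.mem_cons, List.mem_nil_iff, or_false] at hD'
  rcases hD' with rfl | rfl | rfl | rfl | rfl | rfl | rfl
  · exact ⟨1, weylDegrees_G2, by decide, key weylSteps_G2 weylChain_G2 weylDegrees_G2 weylPoly_G2 1
      (Cfsg.Agent.S1035.result rfl (chevG2, 1) (by simp))⟩
  · exact ⟨Nat.gcd 2 (Fintype.card F - 1), weylDegrees_B2, by decide,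
      key weylSteps_B2 weylChain_B2 weylDegrees_B2 weylPoly_B2 _
      (Cfsg.Agent.S1035.result rfl (chevB2, Nat.gcd 2 (Fintype.card F - 1)) (by simp))⟩
  · exact ⟨Nat.gcd 2 (Fintype.card F - 1) ^ 2, weylDegrees_D4, by decide,
      key weylSteps_D4 weylChain_D4 weylDegrees_D4 weylPoly_D4 _
      (Cfsg.Agent.S1035.result rfl (chevD4, Nat.gcd 2 (Fintype.card F - 1) ^ 2) (by simp))⟩
  · exact ⟨1, weylDegrees_F4, by decide, key weylSteps_F4 weylChain_F4 weylDegrees_F4 weylPoly_F4 1
      (Cfsg.Agent.S1035.result rfl (chevF4, 1) (by simp))⟩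
  · exact ⟨Nat.gcd 3 (Fintype.card F - 1), weylDegrees_E6, by decide,
      key weylSteps_E6 weylChain_E6 weylDegrees_E6 weylPoly_E6 _
      (Cfsg.Agent.S1035.result rfl (chevE6, Nat.gcd 3 (Fintype.card F - 1)) (by simp))⟩
  · exact ⟨Nat.gcd 2 (Fintype.card F - 1), weylDegrees_E7, by decide,
      key weylSteps_E7 weylChain_E7 weylDegrees_E7 weylPoly_E7 _
      (Cfsg.Agent.S1035.result rfl (chevE7, Nat.gcd 2 (Fintype.card F - 1)) (by simp))⟩
  · exact ⟨1, weylDegrees_E8, by decide, key weylSteps_E8 weylChain_E8 weylDegrees_E8 weylPoly_E8 1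
      (Cfsg.Agent.S1035.result rfl (chevE8, 1) (by simp))⟩

end Cfsg.Agent.Lead.Chev
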