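import Mathlib

set_option autoImplicit false

namespace Cfsg.Agent.Lead

open DihedralGroup

/-- Recognition of dihedral groups: a group of order `2n` containing an element `a` of order `n`
and an involution `s` outside `⟨a⟩` inverting `a` is isomorphic to `DihedralGroup n`. -/
theorem nonempty_mulEquiv_dihedral {G : Type*} [Group G] (n : ℕ) [NeZero n] (a s : G)
    (ha : orderOf a = n) (hs : s * s = 1) (hsa : s * a * s = a⁻¹)
    (hsn : s ∉ Subgroup.zpowers a) (hcard : Nat.card G = 2 * n) :
    Nonempty (G ≃* DihedralGroup n) := by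
  have hn0 : n ≠ 0 := NeZero.ne n
  haveI : Finite G := Nat.finite_of_card_ne_zero (by rw [hcard]; omega)
  have hsinv : s⁻¹ = s := inv_eq_of_mul_eq_one_right hs
  let ρ : ZMod n → G := fun i => a ^ i.val
  have hρadd : ∀ i j : ZMod n, ρ (i + j) = ρ i * ρ j := by
    intro i j
    show a ^ (i + j).val = a ^ i.val * a ^ j.val
    have hmod : ∀ k, a ^ (k % n) = a ^ k := by
      intro k
      have := pow_mod_orderOf a k
      rwa [ha] at this
    rw [ZMod.val_add, ← pow_add, hmod]
  have hρcomm : ∀ i j : ZMod n, ρ i * ρ j = ρ j * ρ i := by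
    intro i j
    show a ^ i.val * a ^ j.val = a ^ j.val * a ^ i.val
    rw [← pow_add, ← pow_add, add_comm]
  have hρsub : ∀ i j : ZMod n, ρ (j - i) = (ρ i)⁻¹ * ρ j := by
    intro i j
    have := hρadd (j - i) i
    rw [sub_add_cancel] at this
    rw [this, hρcomm, inv_mul_cancel_left]
  -- ρ i * s = s * (ρ i)⁻¹
  have has : ∀ k : ℕ, a ^ k * s = s * (a ^ k)⁻¹ := by
    intro k
    induction k with
    | zero => simp
    | succ k ih =>
      have h1 : a * s = s * a⁻¹ := by
        rw [← hsa]
        calc a * s = (s * s) * a * s := by rw [hs, one_mul]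
          _ = s * (s * a * s) := by group
      calc a ^ (k + 1) * s = a ^ k * (a * s) := by rw [pow_succ, mul_assoc]
        _ = a ^ k * (s * a⁻¹) := by rw [h1]
        _ = (a ^ k * s) * a⁻¹ := by rw [mul_assoc]
        _ = s * (a ^ k)⁻¹ * a⁻¹ := by rw [ih]
        _ = s * (a ^ (k + 1))⁻¹ := by
          rw [pow_succ', mul_inv_rev, mul_assoc]
  have hρs : ∀ i : ZMod n, ρ i * s = s * (ρ i)⁻¹ := fun i => has i.val
  let f : DihedralGroup n → G := fun x =>
    match x with
    | r i => ρ i
    | sr i => s * ρ i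
  have hfr : ∀ i, f (r i) = ρ i := fun _ => rfl
  have hfsr : ∀ i, f (sr i) = s * ρ i := fun _ => rfl
  have hmul : ∀ x y : DihedralGroup n, f (x * y) = f x * f y := by
    intro x y
    rcases x with i | i <;> rcases y with j | j
    · rw [r_mul_r, hfr, hfr, hfr, hρadd]
    · rw [r_mul_sr, hfr, hfsr, hfsr, hρsub]
      calc s * ((ρ i)⁻¹ * ρ j) = s * (ρ i)⁻¹ * ρ j := by rw [mul_assoc]
        _ = (ρ i * s) * ρ j := by rw [hρs]
        _ = ρ i * (s * ρ j) := by rw [mul_assoc]
    · rw [sr_mul_r, hfsr, hfsr, hfr, hρadd, mul_assoc]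
    · rw [sr_mul_sr, hfr, hfsr, hfsr, hρsub]
      calc (ρ i)⁻¹ * ρ j = (s * s) * (ρ i)⁻¹ * ρ j := by rw [hs, one_mul]
        _ = s * (s * (ρ i)⁻¹) * ρ j := by group
        _ = s * (ρ i * s) * ρ j := by rw [hρs]
        _ = s * ρ i * (s * ρ j) := by group
  let F : DihedralGroup n →* G := MonoidHom.mk' f hmul
  have hinj : Function.Injective F := by
    rw [injective_iff_map_eq_one]
    intro x hx
    rcases x with i | i
    · have h1 : a ^ i.val = 1 := hx
      have h2 : n ∣ i.val := by
        have := orderOf_dvd_of_pow_eq_one h1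
        rwa [ha] at this
      have h3 : i.val < n := ZMod.val_lt i
      have h4 : i.val = 0 := Nat.eq_zero_of_dvd_of_lt h2 h3
      have h5 : i = 0 := (ZMod.val_eq_zero i).1 h4
      rw [h5, r_zero]
    · exfalso
      apply hsn
      have h1 : s * a ^ i.val = 1 := hx
      have h2 : s = (a ^ i.val)⁻¹ := eq_inv_of_mul_eq_one_left h1
      rw [h2]
      exact (Subgroup.zpowers a).inv_mem ((Subgroup.zpowers a).pow_mem (Subgroup.mem_zpowers a) _)
  have hbij : Function.Bijective F :=
    hinj.bijective_of_nat_card_le (by rw [hcard, DihedralGroup.nat_card])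
  exact ⟨(MulEquiv.ofBijective F hbij).symm⟩

end Cfsg.Agent.Lead
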