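import Mathlib
import Cfsg.Agent.S0073

set_option autoImplicit false
open Pointwise

namespace Cfsg.Agent.Lead

variable {G : Type*} [Group G] [Finite G]

/-- A finite simple group whose order is not prime is nonabelian. -/
theorem nonabelian_of_not_prime [IsSimpleGroup G] (h : ¬ (Nat.card G).Prime) :
    ∃ x y : G, x * y ≠ y * x := by
  by_contra hc
  push Not at hc
  letI : CommGroup G := { ‹Group G› with mul_comm := hc }
  exact h IsSimpleGroup.prime_card

/-- In a simple group, the order divides the factorial of the index of any proper subgroup. -/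
theorem card_dvd_factorial_index [IsSimpleGroup G] (H : Subgroup G) (hH : H ≠ ⊤) :
    Nat.card G ∣ (H.index).factorial := by
  classical
  haveI : Fintype (G ⧸ H) := Fintype.ofFinite _
  have hker : (MulAction.toPermHom G (G ⧸ H)).ker = ⊥ := by
    rcases ((MulAction.toPermHom G (G ⧸ H)).normal_ker).eq_bot_or_eq_top with h | h
    · exact h
    · exfalso
      apply hH
      rw [eq_top_iff]
      intro g _
      have hg : g ∈ (MulAction.toPermHom G (G ⧸ H)).ker := by rw [h]; trivial
      rw [MonoidHom.mem_ker] at hg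
      have h3 : g • ((1 : G) : G ⧸ H) = ((1 : G) : G ⧸ H) := by
        have := congrArg (fun σ : Equiv.Perm (G ⧸ H) => σ ((1 : G) : G ⧸ H)) hg
        simpa using this
      rw [MulAction.Quotient.smul_coe, smul_eq_mul, mul_one, QuotientGroup.eq, mul_one,
        inv_mem_iff] at h3
      exact h3
  have hinj : Function.Injective (MulAction.toPermHom G (G ⧸ H)) :=
    (MonoidHom.ker_eq_bot_iff _).1 hker
  have := Subgroup.card_dvd_of_injective _ hinj
  rw [Nat.card_perm] at this
  exact this

/-- In a nonabelian simple group the normalizer of a nontrivial Sylow subgroup is proper. -/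
theorem sylow_normalizer_ne_top [IsSimpleGroup G] (hG : ∃ x y : G, x * y ≠ y * x)
    {p : ℕ} [Fact p.Prime] (hp : p ∣ Nat.card G) (P : Sylow p G) :
    Subgroup.normalizer ((P : Subgroup G) : Set G) ≠ ⊤ := by
  intro h
  apply Cfsg.Agent.S0073.not_normalizer_le_centralizer hG P hp
  have hn : (P : Subgroup G).Normal := Subgroup.normalizer_eq_top_iff.1 h
  rcases hn.eq_bot_or_eq_top with hb | ht
  · exact (P.ne_bot_of_dvd_card hp hb).elim
  · -- G is a p-group: center is nontrivial hence everything
    exfalso
    have hpg : IsPGroup p G := by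
      have := P.2
      rw [ht] at this
      exact IsPGroup.of_surjective this (Subgroup.topEquiv (G := G)).toMonoidHom
        (Subgroup.topEquiv (G := G)).surjective
    haveI : Nontrivial G := IsSimpleGroup.toNontrivial
    have hc : Subgroup.center G ≠ ⊥ := by
      intro hcb
      have := hpg.center_nontrivial
      rw [hcb] at this
      exact not_subsingleton _ (inferInstance : Subsingleton (⊥ : Subgroup G))
    have hct : Subgroup.center G = ⊤ :=
      ((inferInstance : (Subgroup.center G).Normal).eq_bot_or_eq_top).resolve_left hc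
    obtain ⟨x, y, hxy⟩ := hG
    apply hxy
    have hy : y ∈ Subgroup.center G := by rw [hct]; trivial
    exact (Subgroup.mem_center_iff.1 hy x)

/-- In a nonabelian simple group the order divides `n_p !`. -/
theorem card_dvd_factorial_card_sylow [IsSimpleGroup G] (hG : ∃ x y : G, x * y ≠ y * x)
    {p : ℕ} [Fact p.Prime] (hp : p ∣ Nat.card G) :
    Nat.card G ∣ (Nat.card (Sylow p G)).factorial := by
  obtain ⟨P⟩ : Nonempty (Sylow p G) := inferInstance
  rw [P.card_eq_index_normalizer]
  exact card_dvd_factorial_index _ (sylow_normalizer_ne_top hG hp P)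

/-- `n_p * |N(P)| = |G|`. -/
theorem card_sylow_mul_card_normalizer {p : ℕ} [Fact p.Prime] (P : Sylow p G) :
    Nat.card (Sylow p G) * Nat.card (Subgroup.normalizer ((P : Subgroup G) : Set G)) =
      Nat.card G := by
  rw [P.card_eq_index_normalizer, mul_comm]
  exact Subgroup.card_mul_index _

/-- N/C: for a Sylow subgroup of prime order, `|N(P) : C(P)|` divides `p - 1`. -/
theorem relIndex_centralizer_normalizer_dvd {p : ℕ} [Fact p.Prime] (P : Sylow p G)
    (hP : Nat.card (P : Subgroup G) = p) :
    (Subgroup.centralizer ((P : Subgroup G) : Set G)).relIndex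
      (Subgroup.normalizer ((P : Subgroup G) : Set G)) ∣ p - 1 := by
  have hpp : p.Prime := Fact.out
  have key := Subgroup.card_dvd_of_injective _
    (QuotientGroup.kerLift_injective (P : Subgroup G).normalizerMonoidHom)
  rw [Subgroup.normalizerMonoidHom_ker, ← Subgroup.index, ← Subgroup.relIndex] at key
  haveI : IsCyclic (P : Subgroup G) := isCyclic_of_prime_card hP
  have hc : Nat.card (MulAut (P : Subgroup G)) = p - 1 := by
    rw [IsCyclic.card_mulAut, hP, Nat.totient_prime hpp]
  rw [hc] at key
  exact key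

/-- `|N(P) : C(P)|` divides `|N(P)| / |P|` for an abelian Sylow subgroup. -/
theorem relIndex_centralizer_normalizer_dvd_div {p : ℕ} [Fact p.Prime] (P : Sylow p G)
    (hab : ∀ x ∈ (P : Subgroup G), ∀ y ∈ (P : Subgroup G), x * y = y * x) :
    (Subgroup.centralizer ((P : Subgroup G) : Set G)).relIndex
      (Subgroup.normalizer ((P : Subgroup G) : Set G)) ∣
      Nat.card (Subgroup.normalizer ((P : Subgroup G) : Set G)) / Nat.card (P : Subgroup G) := by
  set N := Subgroup.normalizer ((P : Subgroup G) : Set G) with hN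
  set C := Subgroup.centralizer ((P : Subgroup G) : Set G) with hC
  have hPC : (P : Subgroup G) ≤ C := by
    intro x hx
    rw [hC, Subgroup.mem_centralizer_iff]
    intro y hy
    exact hab y hy x hx
  have hPN : (P : Subgroup G) ≤ N := Subgroup.le_normalizer
  have hPCN : (P : Subgroup G) ≤ C ⊓ N := le_inf hPC hPN
  -- |N| = |C ⊓ N| * relIndex
  have h1 : Nat.card (C.subgroupOf N) * C.relIndex N = Nat.card N :=
    Subgroup.card_mul_index (C.subgroupOf N)
  have h2 : Nat.card (C.subgroupOf N) = Nat.card (C ⊓ N : Subgroup G) := by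
    rw [← Subgroup.card_map_of_injective N.subtype_injective, Subgroup.subgroupOf_map_subtype]
  have h3 : Nat.card (P : Subgroup G) ∣ Nat.card (C ⊓ N : Subgroup G) :=
    Subgroup.card_dvd_of_le hPCN
  obtain ⟨k, hk⟩ := h3
  have hpos : 0 < Nat.card (P : Subgroup G) := Nat.card_pos
  rw [h2, hk] at h1
  rw [← h1, mul_assoc, Nat.mul_div_cancel_left _ hpos]
  exact Dvd.intro_left _ rfl

/-- Burnside-type obstruction: in a nonabelian simple group, for a Sylow subgroup `P` of prime
order `p`, the numbers `|N(P)| / p` and `p - 1` are not coprime. -/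
theorem not_coprime_of_prime_sylow [IsSimpleGroup G] (hG : ∃ x y : G, x * y ≠ y * x)
    {p : ℕ} [Fact p.Prime] (P : Sylow p G) (hP : Nat.card (P : Subgroup G) = p)
    (hcop : Nat.Coprime (Nat.card (Subgroup.normalizer ((P : Subgroup G) : Set G)) / p) (p - 1)) :
    False := by
  have hpp : p.Prime := Fact.out
  have hpd : p ∣ Nat.card G := hP ▸ Subgroup.card_subgroup_dvd_card _
  haveI : IsCyclic (P : Subgroup G) := isCyclic_of_prime_card hP
  have hab : ∀ x ∈ (P : Subgroup G), ∀ y ∈ (P : Subgroup G), x * y = y * x := by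
    intro x hx y hy
    obtain ⟨g, hg⟩ := IsCyclic.exists_generator (α := (P : Subgroup G))
    obtain ⟨m, hm⟩ := Subgroup.mem_zpowers_iff.1 (hg ⟨x, hx⟩)
    obtain ⟨n, hn⟩ := Subgroup.mem_zpowers_iff.1 (hg ⟨y, hy⟩)
    have hx' : x = (g : G) ^ m := by rw [← Subgroup.coe_zpow, hm]
    have hy' : y = (g : G) ^ n := by rw [← Subgroup.coe_zpow, hn]
    rw [hx', hy', ← zpow_add, ← zpow_add, add_comm]
  have h1 := relIndex_centralizer_normalizer_dvd P hP
  have h2 := relIndex_centralizer_normalizer_dvd_div P hab
  rw [hP] at h2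
  have h3 := Nat.eq_one_of_dvd_coprimes hcop h2 h1
  exact Cfsg.Agent.S0073.not_normalizer_le_centralizer hG P hpd (Subgroup.relIndex_eq_one.1 h3)

end Cfsg.Agent.Lead

namespace Cfsg.Agent.Lead

variable {G : Type*} [Group G] [Finite G]

/-- In a simple group, the normalizer of a nontrivial proper subgroup is proper. -/
theorem normalizer_ne_top_of_simple [IsSimpleGroup G] (D : Subgroup G) (hb : D ≠ ⊥) (ht : D ≠ ⊤) :
    Subgroup.normalizer (D : Set G) ≠ ⊤ := by
  intro h
  have hn : D.Normal := Subgroup.normalizer_eq_top_iff.1 h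
  rcases hn.eq_bot_or_eq_top with h1 | h1
  · exact hb h1
  · exact ht h1

/-- If two distinct Sylow `p`-subgroups of `G` lie in `H`, then `H` has at least `p + 1`
Sylow `p`-subgroups and `(p + 1) * |P| ≤ |H|`. -/
theorem card_ge_of_two_sylow_le {p : ℕ} [Fact p.Prime] (P R : Sylow p G) (hPR : P ≠ R)
    (H : Subgroup G) (hP : (P : Subgroup G) ≤ H) (hR : (R : Subgroup G) ≤ H) :
    p + 1 ≤ Nat.card (Sylow p H) ∧ (p + 1) * Nat.card (P : Subgroup G) ≤ Nat.card H := by
  have hpp : p.Prime := Fact.out
  have hne : P.subtype hP ≠ R.subtype hR := by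
    intro h
    apply hPR
    have h1 : ((P.subtype hP : Sylow p H) : Subgroup H) = ((R.subtype hR : Sylow p H) : Subgroup H) := by
      rw [h]
    rw [Sylow.coe_subtype, Sylow.coe_subtype, Subgroup.subgroupOf_inj, inf_of_le_left hP,
      inf_of_le_left hR] at h1
    exact Sylow.ext h1
  have h2 : 2 ≤ Nat.card (Sylow p H) := by
    rw [Nat.succ_le_iff, Finite.one_lt_card_iff_nontrivial]
    exact ⟨⟨_, _, hne⟩⟩
  have hmod : Nat.card (Sylow p H) ≡ 1 [MOD p] := card_sylow_modEq_one p H
  have h3 : p + 1 ≤ Nat.card (Sylow p H) := by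
    have h4 : (1 : ℕ) ≤ Nat.card (Sylow p H) := by omega
    have h5 := (Nat.modEq_iff_dvd' h4).1 hmod.symm
    have h6 : 0 < Nat.card (Sylow p H) - 1 := by omega
    have := Nat.le_of_dvd h6 h5
    omega
  refine ⟨h3, ?_⟩
  have h7 : Nat.card (Sylow p H) ∣ ((P.subtype hP : Sylow p H) : Subgroup H).index :=
    Sylow.card_dvd_index _
  have h8 : Nat.card ((P.subtype hP : Sylow p H) : Subgroup H) *
      ((P.subtype hP : Sylow p H) : Subgroup H).index = Nat.card H := Subgroup.card_mul_index _
  have h9 : Nat.card ((P.subtype hP : Sylow p H) : Subgroup H) = Nat.card (P : Subgroup G) := by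
    rw [Sylow.coe_subtype, ← Subgroup.card_map_of_injective H.subtype_injective,
      Subgroup.subgroupOf_map_subtype, inf_of_le_left hP]
  have h10 : 0 < ((P.subtype hP : Sylow p H) : Subgroup H).index := by
    rcases Nat.eq_zero_or_pos ((P.subtype hP : Sylow p H) : Subgroup H).index with h | h
    · rw [h, mul_zero] at h8
      have : 0 < Nat.card H := Nat.card_pos
      omega
    · exact h
  have h11 := Nat.le_of_dvd h10 h7
  rw [h9] at h8
  calc (p + 1) * Nat.card (P : Subgroup G) ≤
      ((P.subtype hP : Sylow p H) : Subgroup H).index * Nat.card (P : Subgroup G) :=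
        Nat.mul_le_mul_right _ (h3.trans h11)
    _ = Nat.card H := by rw [mul_comm]; exact h8

/-- card of `K.subgroupOf H` is card of `K ⊓ H`. -/
theorem card_subgroupOf_eq (K H : Subgroup G) :
    Nat.card (K.subgroupOf H) = Nat.card (K ⊓ H : Subgroup G) := by
  rw [← Subgroup.card_map_of_injective H.subtype_injective, Subgroup.subgroupOf_map_subtype]

end Cfsg.Agent.Lead
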