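import Mathlib
import Cfsg.Agent.Lib.Lead.ChevBruhat2

/-!
Elements of `H` conjugate in `G` are conjugate under `N`.
-/

set_option autoImplicit false
set_option linter.unusedSectionVars false
set_option linter.unusedSimpArgs false
set_option linter.unusedVariables false

namespace Cfsg.Agent.Lead.Chev

open Cfsg Cfsg.Lie

variable {F : Type*} [Field F]

namespace ChevFacts

variable {D : ChevalleyDatum} (hF : ChevFacts D F)
include hF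

theorem diagonal_commute (h₁ h₂ : GL D.Idx F) (h1 : h₁ ∈ D.diagonalSubgroup F)
    (h2 : h₂ ∈ D.diagonalSubgroup F) : h₁ * h₂ = h₂ * h₁ := by
  obtain ⟨c, _, e1⟩ := exists_Tmat_of_mem D hF.hall h₁ h1
  obtain ⟨c', _, e2⟩ := exists_Tmat_of_mem D hF.hall h₂ h2
  apply Units.ext
  rw [Units.val_mul, Units.val_mul, e1, e2]
  unfold Tmat
  rw [Matrix.diagonal_mul_diagonal, Matrix.diagonal_mul_diagonal]
  congr 1
  funext i
  exact mul_comm _ _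

/-- `H` normalises `U_n⁻` -/
theorem diagonal_conj_negPartN (n : GL D.Idx F) (h : GL D.Idx F) (hh : h ∈ D.diagonalSubgroup F)
    (u : GL D.Idx F) (hu : u ∈ negPartN D F n) : h * u * h⁻¹ ∈ negPartN D F n := by
  have hle : negPartN D F n ≤ (negPartN D F n).comap (MulAut.conj h).toMonoidHom := by
    unfold negPartN
    rw [Subgroup.closure_le]
    rintro x ⟨r, t, hr1, hr2, hx⟩
    have e : x = xGL D hF.xadd r t := Units.ext (by rw [hx, xGL_val])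
    refine Subgroup.mem_comap.2 ?_
    obtain ⟨c, _, hc⟩ := hF.diagonal_conj_xGL h hh r hr1.1
    rw [MulEquiv.coe_toMonoidHom, MulAut.conj_apply, e, hc]
    exact Subgroup.subset_closure ⟨r, _, hr1, hr2, xGL_val D hF.xadd _ _⟩
  have := hle hu
  rwa [Subgroup.mem_comap, MulEquiv.coe_toMonoidHom, MulAut.conj_apply] at this

theorem conj_diagonal_by_monomial (hS : CorSize D) (h₁ h₂ g : GL D.Idx F)
    (h1 : h₁ ∈ D.diagonalSubgroup F) (h2 : h₂ ∈ D.diagonalSubgroup F)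
    (hg : g ∈ D.group F) (hc : g * h₁ * g⁻¹ = h₂) :
    ∃ n ∈ D.monomialSubgroup F, n * h₁ * n⁻¹ = h₂ := by
  obtain ⟨b, hb, n, hn, u, hu, e⟩ := hF.exists_canonical hS g hg
  refine ⟨n, hn, ?_⟩
  have hc' : g * h₁ = h₂ * g := by rw [← hc]; group
  have hnh : n * h₁ * n⁻¹ ∈ D.diagonalSubgroup F := hF.monomial_conj_mem_diagonal n hn h₁ h1
  have hu' := hF.diagonal_conj_negPartN n h₁⁻¹ (inv_mem h1) u hu
  rw [inv_inv] at hu'
  have e1 : (b * (n * h₁ * n⁻¹)) * n * (h₁⁻¹ * u * h₁) = (h₂ * b) * n * u := by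
    calc (b * (n * h₁ * n⁻¹)) * n * (h₁⁻¹ * u * h₁) = (b * n * u) * h₁ := by group
      _ = h₂ * (b * n * u) := by rw [← e, hc']
      _ = (h₂ * b) * n * u := by group
  have hb1 : b * (n * h₁ * n⁻¹) ∈ D.borelSubgroup F := mul_mem hb (diagonal_le_borel D hnh)
  have hb2 : h₂ * b ∈ D.borelSubgroup F := mul_mem (diagonal_le_borel D h2) hb
  obtain ⟨hbb, _⟩ := (hF.canonical_unique _ _ n n _ _ hb1 hb2 hn hn hu' hu e1).2 rfl
  obtain ⟨u₁, hu₁, h, hh, rfl⟩ := (hF.mem_borel_iff b).1 hb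
  -- `u₁ h (n h₁ n⁻¹) = h₂ u₁ h`
  have hnorm := diagonalSubgroup_le_normalizer D hF.hall hF.hconj h2
  have hu₂ : h₂ * u₁ * h₂⁻¹ ∈ D.posUnipotent F := (Subgroup.mem_normalizer_iff.1 hnorm u₁).1 hu₁
  have e2 : (h₂ * u₁ * h₂⁻¹)⁻¹ * u₁ = (h₂ * h) * (h * (n * h₁ * n⁻¹))⁻¹ := by
    have : u₁ * (h * (n * h₁ * n⁻¹)) = (h₂ * u₁ * h₂⁻¹) * (h₂ * h) := by
      calc u₁ * (h * (n * h₁ * n⁻¹)) = u₁ * h * (n * h₁ * n⁻¹) := by group
        _ = h₂ * (u₁ * h) := hbb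
        _ = (h₂ * u₁ * h₂⁻¹) * (h₂ * h) := by group
    calc (h₂ * u₁ * h₂⁻¹)⁻¹ * u₁ = (h₂ * u₁ * h₂⁻¹)⁻¹ * (u₁ * (h * (n * h₁ * n⁻¹))) * (h * (n * h₁ * n⁻¹))⁻¹ := by
          group
      _ = (h₂ * h) * (h * (n * h₁ * n⁻¹))⁻¹ := by rw [this]; group
  have h3a : (h₂ * u₁ * h₂⁻¹)⁻¹ * u₁ ∈ D.posUnipotent F := mul_mem (inv_mem hu₂) hu₁
  have h3b : (h₂ * u₁ * h₂⁻¹)⁻¹ * u₁ ∈ D.diagonalSubgroup F := by
    rw [e2]
    exact mul_mem (mul_mem h2 hh) (inv_mem (mul_mem hh hnh))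
  have h3 : (h₂ * u₁ * h₂⁻¹)⁻¹ * u₁ ∈ D.posUnipotent F ⊓ D.diagonalSubgroup F := ⟨h3a, h3b⟩
  rw [posUnipotent_inf_diagonalSubgroup D hF.hall hF.posok, Subgroup.mem_bot, e2, mul_inv_eq_one] at h3
  -- `h₂ h = h (n h₁ n⁻¹)`
  have h4 : h * (n * h₁ * n⁻¹) = h * h₂ := by rw [← h3, hF.diagonal_commute h₂ h h2 hh]
  exact mul_left_cancel h4

end ChevFacts

end Cfsg.Agent.Lead.Chev
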