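import Mathlib
import Cfsg.Agent.Lib.Lead.ChevBruhat2
import Cfsg.Agent.Lib.Lead.ChevBV
import Cfsg.Agent.Lib.Lead.ChevRank1

/-!
# Twisting data for Chevalley groups

An endomorphism `σ` of the Chevalley group permuting the root subgroups, `σ (x_r(t)) = x_{ρ r}(c_r t)`, with `ρ`
preserving positivity.  The fixed points of `σ` inherit the Bruhat canonical form: `G_σ = U_σ N_σ U_σ`.
-/

set_option autoImplicit false
set_option linter.unusedSectionVars false
set_option linter.unusedSimpArgs false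
set_option linter.unusedVariables false

namespace Cfsg.Agent.Lead.Tw

open Cfsg Cfsg.Lie Cfsg.Agent.Lead.Chev

variable {K : Type*} [Field K]

/-- twisting data -/
structure Twist (D : ChevalleyDatum) (K : Type*) [Field K] (hX : XAdd D K) where
  σ : GL D.Idx K → GL D.Idx K
  ρ : ℕ → ℕ
  c : ℕ → K → K
  π : ℕ → ℕ
  map_mul : ∀ g h, g ∈ D.group K → h ∈ D.group K → σ (g * h) = σ g * σ h
  ρ_lt : ∀ r < D.nroots, ρ r < D.nroots
  ρ_pos : ∀ r, D.IsPosRoot r → D.IsPosRoot (ρ r)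
  ρ_neg : ∀ r < D.nroots, ρ (D.neg r) = D.neg (ρ r)
  c_ne : ∀ r < D.nroots, ∀ t, t ≠ 0 → c r t ≠ 0
  c_neg : ∀ r < D.nroots, ∀ t, t ≠ 0 → c (D.neg r) (-t⁻¹) = -(c r t)⁻¹
  c_surj : ∀ r < D.nroots, Function.Surjective (c r)
  map_x : ∀ r < D.nroots, ∀ t, σ (xGL D hX r t) = xGL D hX (ρ r) (c r t)
  π_lt : ∀ i < D.rank, π i < D.rank
  ρ_simple : ∀ i < D.rank, ρ (D.simple i) = D.simple (π i)
  ρ_refl : ∀ i < D.rank, ∀ r < D.nroots, D.reflectRoot (π i) (ρ r) = ρ (D.reflectRoot i r)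

namespace Twist

variable {D : ChevalleyDatum} (hF : ChevFacts D K) (T : Twist D K hF.xadd)
include hF

theorem map_one : T.σ 1 = 1 := by
  have h := T.map_mul 1 1 (one_mem _) (one_mem _)
  rw [mul_one] at h
  exact (mul_eq_left (a := T.σ 1) (b := T.σ 1)).1 h.symm

theorem map_inv (g : GL D.Idx K) (hg : g ∈ D.group K) : T.σ g⁻¹ = (T.σ g)⁻¹ := by
  have h := T.map_mul g g⁻¹ hg (inv_mem hg)
  rw [mul_inv_cancel, T.map_one hF] at h
  exact eq_inv_of_mul_eq_one_right h.symm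

theorem map_mem_group (g : GL D.Idx K) (hg : g ∈ D.group K) : T.σ g ∈ D.group K := by
  have key : ∀ g ∈ D.group K, g ∈ D.group K ∧ T.σ g ∈ D.group K := by
    intro g hg
    unfold ChevalleyDatum.group at hg
    induction hg using Subgroup.closure_induction with
    | mem x hx =>
      obtain ⟨r, t, hx⟩ := hx
      have hxe : x = xGL D hF.xadd r.val t := by
        apply Units.ext
        rw [hx, xGL_val, x_of_lt D r.val r.2]
      rw [hxe, T.map_x r.val r.2]
      exact ⟨xGL_mem_group D hF.xadd _ _, xGL_mem_group D hF.xadd _ _⟩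
    | one => exact ⟨one_mem _, by rw [T.map_one hF]; exact one_mem _⟩
    | mul x y _ _ hx hy =>
      refine ⟨mul_mem hx.1 hy.1, ?_⟩
      rw [T.map_mul x y hx.1 hy.1]
      exact mul_mem hx.2 hy.2
    | inv x _ hx =>
      refine ⟨inv_mem hx.1, ?_⟩
      rw [T.map_inv hF x hx.1]
      exact inv_mem hx.2
  exact (key g hg).2

/-- negative roots go to negative roots -/
theorem ρ_negRoot (r : ℕ) (hr : D.IsNegRoot r) : D.IsNegRoot (T.ρ r) := by
  have hp := hF.sign.pos_of_neg r hr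
  have h1 := T.ρ_pos _ hp
  have h2 := T.ρ_neg r hr.1
  have h3 := hF.sign.neg_of_pos _ h1
  rw [h2, hF.sign.neg_neg _ (T.ρ_lt r hr.1)] at h3
  exact h3

theorem map_nGLt (r : ℕ) (hr : r < D.nroots) (t : K) (ht : t ≠ 0) :
    T.σ (nGLt D hF.xadd r t) = nGLt D hF.xadd (T.ρ r) (T.c r t) := by
  rw [nGLt_eq, nGLt_eq, T.map_mul _ _ (mul_mem (xGL_mem_group D hF.xadd _ _) (xGL_mem_group D hF.xadd _ _))
    (xGL_mem_group D hF.xadd _ _), T.map_mul _ _ (xGL_mem_group D hF.xadd _ _) (xGL_mem_group D hF.xadd _ _),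
    T.map_x r hr, T.map_x _ (hF.sign.neg_lt r hr), T.ρ_neg r hr, T.c_neg r hr t ht]

theorem map_mem_posUnipotent (u : GL D.Idx K) (hu : u ∈ D.posUnipotent K) : T.σ u ∈ D.posUnipotent K := by
  have key : ∀ u ∈ D.posUnipotent K, u ∈ D.group K ∧ T.σ u ∈ D.posUnipotent K := by
    intro u hu
    unfold ChevalleyDatum.posUnipotent at hu
    induction hu using Subgroup.closure_induction with
    | mem x hx =>
      obtain ⟨r, t, hr, hx⟩ := hx
      have hxe : x = xGL D hF.xadd r t := Units.ext (by rw [hx, xGL_val])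
      rw [hxe, T.map_x r hr.1]
      exact ⟨xGL_mem_group D hF.xadd _ _, xGL_mem_posUnipotent D hF.xadd _ (T.ρ_pos r hr) _⟩
    | one => exact ⟨one_mem _, by rw [T.map_one hF]; exact one_mem _⟩
    | mul x y _ _ hx hy =>
      refine ⟨mul_mem hx.1 hy.1, ?_⟩
      rw [T.map_mul x y hx.1 hy.1]
      exact mul_mem hx.2 hy.2
    | inv x _ hx =>
      refine ⟨inv_mem hx.1, ?_⟩
      rw [T.map_inv hF x hx.1]
      exact inv_mem hx.2
  exact (key u hu).2

theorem map_mem_negUnipotent (u : GL D.Idx K) (hu : u ∈ D.negUnipotent K) : T.σ u ∈ D.negUnipotent K := by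
  have key : ∀ u ∈ D.negUnipotent K, u ∈ D.group K ∧ T.σ u ∈ D.negUnipotent K := by
    intro u hu
    unfold ChevalleyDatum.negUnipotent at hu
    induction hu using Subgroup.closure_induction with
    | mem x hx =>
      obtain ⟨r, t, hr, hx⟩ := hx
      have hxe : x = xGL D hF.xadd r t := Units.ext (by rw [hx, xGL_val])
      rw [hxe, T.map_x r hr.1]
      refine ⟨xGL_mem_group D hF.xadd _ _, ?_⟩
      exact Subgroup.subset_closure ⟨_, _, T.ρ_negRoot hF r hr, xGL_val D hF.xadd _ _⟩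
    | one => exact ⟨one_mem _, by rw [T.map_one hF]; exact one_mem _⟩
    | mul x y _ _ hx hy =>
      refine ⟨mul_mem hx.1 hy.1, ?_⟩
      rw [T.map_mul x y hx.1 hy.1]
      exact mul_mem hx.2 hy.2
    | inv x _ hx =>
      refine ⟨inv_mem hx.1, ?_⟩
      rw [T.map_inv hF x hx.1]
      exact inv_mem hx.2
  exact (key u hu).2

theorem map_hGLt (r : ℕ) (hr : r < D.nroots) (t : K) (ht : t ≠ 0) :
    T.σ (hGLt D hF.xadd r t) ∈ D.diagonalSubgroup K := by
  rw [hGLt_eq, T.map_mul _ _ (nGLt_mem_group D hF.xadd _ _) (nGLt_mem_group D hF.xadd _ _),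
    T.map_nGLt hF r hr t ht, T.map_nGLt hF r hr (-1) (neg_ne_zero.2 one_ne_zero)]
  exact nGLt_mul_nGLt_mem D hF.xadd _ (T.ρ_lt r hr) _ _ (T.c_ne r hr t ht)
    (T.c_ne r hr _ (neg_ne_zero.2 one_ne_zero))

theorem map_mem_diagonal (h : GL D.Idx K) (hh : h ∈ D.diagonalSubgroup K) : T.σ h ∈ D.diagonalSubgroup K := by
  have key : ∀ u ∈ D.diagonalSubgroup K, u ∈ D.group K ∧ T.σ u ∈ D.diagonalSubgroup K := by
    intro u hu
    unfold ChevalleyDatum.diagonalSubgroup at hu
    induction hu using Subgroup.closure_induction with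
    | mem x hx =>
      obtain ⟨r, t, hr, ht, hx⟩ := hx
      have hxe : x = hGLt D hF.xadd r t := Units.ext (by rw [hx, hGLt_val])
      rw [hxe]
      exact ⟨hGLt_mem_group D hF.xadd _ _, T.map_hGLt hF r hr t ht⟩
    | one => exact ⟨one_mem _, by rw [T.map_one hF]; exact one_mem _⟩
    | mul x y _ _ hx hy =>
      refine ⟨mul_mem hx.1 hy.1, ?_⟩
      rw [T.map_mul x y hx.1 hy.1]
      exact mul_mem hx.2 hy.2
    | inv x _ hx =>
      refine ⟨inv_mem hx.1, ?_⟩
      rw [T.map_inv hF x hx.1]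
      exact inv_mem hx.2
  exact (key h hh).2

theorem map_mem_borel (b : GL D.Idx K) (hb : b ∈ D.borelSubgroup K) : T.σ b ∈ D.borelSubgroup K := by
  obtain ⟨u, hu, h, hh, rfl⟩ := (hF.mem_borel_iff b).1 hb
  rw [T.map_mul _ _ (hF.posUnipotent_le_group hu) (hF.diagonal_le_group hh)]
  exact mul_mem (posUnipotent_le_borel D (T.map_mem_posUnipotent hF u hu))
    (diagonal_le_borel D (T.map_mem_diagonal hF h hh))

theorem map_mem_monomial (n : GL D.Idx K) (hn : n ∈ D.monomialSubgroup K) : T.σ n ∈ D.monomialSubgroup K := by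
  have key : ∀ u ∈ D.monomialSubgroup K, u ∈ D.group K ∧ T.σ u ∈ D.monomialSubgroup K := by
    intro u hu
    unfold ChevalleyDatum.monomialSubgroup at hu
    rw [← Subgroup.closure_eq (D.diagonalSubgroup K), ← Subgroup.closure_union] at hu
    induction hu using Subgroup.closure_induction with
    | mem x hx =>
      rcases hx with hx | ⟨r, hr, hx⟩
      · exact ⟨hF.diagonal_le_group hx, hF.diagonal_le_monomial (T.map_mem_diagonal hF x hx)⟩
      · have hxe : x = nGLt D hF.xadd r 1 := Units.ext (by rw [hx, nGLt_val])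
        rw [hxe, T.map_nGLt hF r hr 1 one_ne_zero]
        refine ⟨nGLt_mem_group D hF.xadd _ _, ?_⟩
        rw [nGLt_eq_hGLt_mul]
        exact mul_mem (hF.diagonal_le_monomial (hGLt_mem_diagonal D hF.xadd _ (T.ρ_lt r hr) _
          (T.c_ne r hr 1 one_ne_zero))) (nGL_mem_monomial D hF.xadd _ (T.ρ_lt r hr))
    | one => exact ⟨one_mem _, by rw [T.map_one hF]; exact one_mem _⟩
    | mul x y _ _ hx hy =>
      refine ⟨mul_mem hx.1 hy.1, ?_⟩
      rw [T.map_mul x y hx.1 hy.1]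
      exact mul_mem hx.2 hy.2
    | inv x _ hx =>
      refine ⟨inv_mem hx.1, ?_⟩
      rw [T.map_inv hF x hx.1]
      exact inv_mem hx.2
  exact (key n hn).2

/-- `σ` maps `U_n⁻` into `U_{σ n}⁻` -/
theorem map_mem_negPartN (n : GL D.Idx K) (hn : n ∈ D.group K) (u : GL D.Idx K) (hu : u ∈ negPartN D K n) :
    T.σ u ∈ negPartN D K (T.σ n) := by
  have key : ∀ u ∈ negPartN D K n, u ∈ D.group K ∧ T.σ u ∈ negPartN D K (T.σ n) := by
    intro u hu
    unfold negPartN at hu
    induction hu using Subgroup.closure_induction with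
    | mem x hx =>
      obtain ⟨r, t, hr, hmap, hx⟩ := hx
      have hxe : x = xGL D hF.xadd r t := Units.ext (by rw [hx, xGL_val])
      rw [hxe, T.map_x r hr.1]
      refine ⟨xGL_mem_group D hF.xadd _ _, ?_⟩
      refine Subgroup.subset_closure ⟨T.ρ r, T.c r t, T.ρ_pos r hr, ?_, xGL_val D hF.xadd _ _⟩
      rintro y ⟨z, hz, rfl⟩
      obtain ⟨s, rfl⟩ := (mem_rootSubgroup_iff D hF.xadd _ z).1 hz
      obtain ⟨s', rfl⟩ := T.c_surj r hr.1 s
      rw [MulEquiv.coe_toMonoidHom, MulAut.conj_apply, ← T.map_x r hr.1, ← T.map_inv hF n hn,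
        ← T.map_mul _ _ hn (xGL_mem_group D hF.xadd _ _),
        ← T.map_mul _ _ (mul_mem hn (xGL_mem_group D hF.xadd _ _)) (inv_mem hn)]
      apply T.map_mem_negUnipotent hF
      apply hmap
      refine ⟨xGL D hF.xadd r s', (mem_rootSubgroup_iff D hF.xadd _ _).2 ⟨s', rfl⟩, ?_⟩
      rw [MulEquiv.coe_toMonoidHom, MulAut.conj_apply]
    | one => exact ⟨one_mem _, by rw [T.map_one hF]; exact one_mem _⟩
    | mul x y _ _ hx hy =>
      refine ⟨mul_mem hx.1 hy.1, ?_⟩
      rw [T.map_mul x y hx.1 hy.1]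
      exact mul_mem hx.2 hy.2
    | inv x _ hx =>
      refine ⟨inv_mem hx.1, ?_⟩
      rw [T.map_inv hF x hx.1]
      exact inv_mem hx.2
  exact (key u hu).2

end Twist

/-- `U_{hn}⁻ = U_n⁻` for `h ∈ H` -/
theorem negPartN_diag_mul {D : ChevalleyDatum} (hF : ChevFacts D K) (h : GL D.Idx K)
    (hh : h ∈ D.diagonalSubgroup K) (n : GL D.Idx K) : negPartN D K (h * n) = negPartN D K n := by
  have key : ∀ (h : GL D.Idx K), h ∈ D.diagonalSubgroup K → ∀ n : GL D.Idx K,
      negPartN D K n ≤ negPartN D K (h * n) := by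
    intro h hh n
    unfold negPartN
    apply Subgroup.closure_mono
    rintro x ⟨r, t, hr, hmap, hx⟩
    refine ⟨r, t, hr, ?_, hx⟩
    rintro y ⟨z, hz, rfl⟩
    rw [MulEquiv.coe_toMonoidHom, MulAut.conj_apply]
    have h1 : n * z * n⁻¹ ∈ D.negUnipotent K := by
      apply hmap
      exact ⟨z, hz, by rw [MulEquiv.coe_toMonoidHom, MulAut.conj_apply]⟩
    have e : h * n * z * (h * n)⁻¹ = h * (n * z * n⁻¹) * h⁻¹ := by group
    rw [e]
    exact hF.diagonal_conj_mem_negUnipotent h hh _ h1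
  apply le_antisymm
  · have := key h⁻¹ (inv_mem hh) (h * n)
    rwa [inv_mul_cancel_left] at this
  · exact key h hh n

namespace Twist

variable {D : ChevalleyDatum} (hF : ChevFacts D K) (T : Twist D K hF.xadd)
include hF

/-- fixed points in `B`: both components are fixed -/
theorem fixed_borel (u h : GL D.Idx K) (hu : u ∈ D.posUnipotent K) (hh : h ∈ D.diagonalSubgroup K)
    (u' h' : GL D.Idx K) (hu' : u' ∈ D.posUnipotent K) (hh' : h' ∈ D.diagonalSubgroup K)
    (e : u * h = u' * h') : u = u' ∧ h = h' := by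
  have e1 : u'⁻¹ * u = h' * h⁻¹ := by
    have : u = u' * h' * h⁻¹ := by rw [← e]; group
    rw [this]; group
  have h1 : u'⁻¹ * u ∈ D.posUnipotent K ⊓ D.diagonalSubgroup K := by
    refine Subgroup.mem_inf.2 ⟨mul_mem (inv_mem hu') hu, ?_⟩
    rw [e1]
    exact mul_mem hh' (inv_mem hh)
  rw [posUnipotent_inf_diagonalSubgroup D hF.hall hF.posok, Subgroup.mem_bot] at h1
  have hu1 : u = u' := by
    have : u = u' * (u'⁻¹ * u) := by group
    rw [this, h1, mul_one]
  refine ⟨hu1, ?_⟩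
  rw [hu1] at e
  exact mul_left_cancel e

/-- **The canonical form of a fixed point**: `g = u₁ n u` with all three factors fixed. -/
theorem exists_fixed_canonical (hS : CorSize D) (g : GL D.Idx K) (hg : g ∈ D.group K) (hfix : T.σ g = g) :
    ∃ u₁ ∈ D.posUnipotent K, ∃ n ∈ D.monomialSubgroup K, ∃ u ∈ negPartN D K n,
      T.σ u₁ = u₁ ∧ T.σ n = n ∧ T.σ u = u ∧ g = u₁ * n * u := by
  obtain ⟨b, hb, n, hn, u, hu, e⟩ := hF.exists_canonical hS g hg
  have hbG := hF.borel_le_group hb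
  have hnG := hF.monomial_le_group hn
  have huU := hF.negPartN_le_posUnipotent n hu
  have huG := hF.posUnipotent_le_group huU
  have e2 : g = T.σ b * T.σ n * T.σ u := by
    rw [← T.map_mul _ _ hbG hnG, ← T.map_mul _ _ (mul_mem hbG hnG) huG, ← e, hfix]
  have hb' := T.map_mem_borel hF b hb
  have hn' := T.map_mem_monomial hF n hn
  have hu' := T.map_mem_negPartN hF n hnG u hu
  have e3 : b * n * u = T.σ b * T.σ n * T.σ u := by rw [← e, ← e2]
  have hh0 := (hF.canonical_unique b (T.σ b) n (T.σ n) u (T.σ u) hb hb' hn hn' hu hu' e3).1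
  -- `n = h₂ * σ n`
  set h₂ := n * (T.σ n)⁻¹ with hh₂
  have hh₂H : h₂ ∈ D.diagonalSubgroup K := by
    have h1 := hF.monomial_conj_mem_diagonal n hn _ (inv_mem hh0)
    have e4 : n * (n⁻¹ * T.σ n)⁻¹ * n⁻¹ = h₂ := by rw [hh₂]; group
    rwa [e4] at h1
  have en : n = h₂ * T.σ n := by rw [hh₂]; group
  have hu2 : u ∈ negPartN D K (T.σ n) := by
    rw [← negPartN_diag_mul hF h₂ hh₂H (T.σ n), ← en]
    exact hu
  have e5 : (b * h₂) * T.σ n * u = T.σ b * T.σ n * T.σ u := by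
    rw [← e3]
    conv_rhs => rw [en]
    group
  have huniq := (hF.canonical_unique (b * h₂) (T.σ b) (T.σ n) (T.σ n) u (T.σ u)
    (mul_mem hb (diagonal_le_borel D hh₂H)) hb' hn' hn' hu2 hu' e5).2 rfl
  obtain ⟨u₁, hu₁, h, hh, rfl⟩ := (hF.mem_borel_iff b).1 hb
  have hu₁G := hF.posUnipotent_le_group hu₁
  have hhG := hF.diagonal_le_group hh
  have e6 : u₁ * (h * h₂) = T.σ u₁ * T.σ h := by
    rw [← T.map_mul _ _ hu₁G hhG, ← huniq.1]
    group
  obtain ⟨e7, e8⟩ := Twist.fixed_borel hF u₁ (h * h₂) hu₁ (mul_mem hh hh₂H) (T.σ u₁) (T.σ h)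
    (T.map_mem_posUnipotent hF u₁ hu₁) (T.map_mem_diagonal hF h hh) e6
  refine ⟨u₁, hu₁, h * n, mul_mem (hF.diagonal_le_monomial hh) hn, u, ?_, e7.symm, ?_, huniq.2.symm, ?_⟩
  · rw [negPartN_diag_mul hF h hh n]
    exact hu
  · rw [T.map_mul _ _ hhG hnG, ← e8]
    conv_rhs => rw [en]
    group
  · rw [e]
    group

end Twist

end Cfsg.Agent.Lead.Tw
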