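import Mathlib
import Cfsg.Agent.Lib.Lead.TwBase
import Cfsg.Agent.Lib.Lead.ChevCount

/-!
# Twisting data: the action on the monomial group and on double cosets
-/

set_option autoImplicit false
set_option linter.unusedSectionVars false
set_option linter.unusedSimpArgs false
set_option linter.unusedVariables false

namespace Cfsg.Agent.Lead.Tw

open Cfsg Cfsg.Lie Cfsg.Agent.Lead.Chev

variable {K : Type*} [Field K]

/-- the action of the word `w` on the roots commutes with `ρ` -/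
def RhoComm (D : ChevalleyDatum) (ρ : ℕ → ℕ) (w : List ℕ) : Prop :=
  ∀ r < D.nroots, reflWord D w (ρ r) = ρ (reflWord D w r)

theorem rhoComm_nil (D : ChevalleyDatum) (ρ : ℕ → ℕ) : RhoComm D ρ [] := fun _ _ => rfl

theorem RhoComm.append {D : ChevalleyDatum} {ρ : ℕ → ℕ} (η : ℕ → ℕ → ℤ)
    (hfa : ∀ i < D.rank, NXFacts D (η i) i) {w w' : List ℕ} (hw' : ∀ i ∈ w', i < D.rank)
    (h : RhoComm D ρ w) (h' : RhoComm D ρ w') : RhoComm D ρ (w ++ w') := by
  intro r hr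
  rw [reflWord_append, reflWord_append, h' r hr, h _ (reflWord_lt D η hfa w' hw' r hr)]

theorem RhoComm.congr {D : ChevalleyDatum} {ρ : ℕ → ℕ} (hρ : ∀ r < D.nroots, ρ r < D.nroots) {w w' : List ℕ}
    (h : RhoComm D ρ w) (e : ∀ r < D.nroots, reflWord D w r = reflWord D w' r) : RhoComm D ρ w' := by
  intro r hr
  rw [← e r hr, ← e _ (hρ r hr), h r hr]

namespace Twist

variable {D : ChevalleyDatum} (hF : ChevFacts D K) (T : Twist D K hF.xadd)
include hF

/-- `ρ`-equivariance of words -/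
theorem reflWord_map (w : List ℕ) (hw : ∀ i ∈ w, i < D.rank) (r : ℕ) (hr : r < D.nroots) :
    reflWord D (w.map T.π) (T.ρ r) = T.ρ (reflWord D w r) := by
  induction w with
  | nil => rfl
  | cons i w ih =>
    have hw' : ∀ j ∈ w, j < D.rank := fun j hj => hw j (List.mem_cons_of_mem _ hj)
    have hi := hw i List.mem_cons_self
    simp only [List.map_cons, reflWord]
    rw [ih hw', T.ρ_refl i hi _ (reflWord_lt D (etaOf D) hF.facts w hw' r hr)]

theorem map_valid (w : List ℕ) (hw : ∀ i ∈ w, i < D.rank) : ∀ i ∈ w.map T.π, i < D.rank := by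
  intro i hi
  obtain ⟨j, hj, rfl⟩ := List.mem_map.1 hi
  exact T.π_lt j (hw j hj)

/-- `σ (n_w) ∈ H n_{π w}` -/
theorem map_nWordGL (w : List ℕ) (hw : ∀ i ∈ w, i < D.rank) :
    ∃ h ∈ D.diagonalSubgroup K, T.σ (nWordGL D hF.xadd w) = h * nWordGL D hF.xadd (w.map T.π) := by
  induction w with
  | nil => exact ⟨1, one_mem _, by simp [nWordGL_nil, T.map_one hF]⟩
  | cons i w ih =>
    have hw' : ∀ j ∈ w, j < D.rank := fun j hj => hw j (List.mem_cons_of_mem _ hj)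
    have hi := hw i List.mem_cons_self
    obtain ⟨h, hh, e⟩ := ih hw'
    have e1 : T.σ (nGL D hF.xadd (D.simple i)) =
        hGLt D hF.xadd (D.simple (T.π i)) (T.c (D.simple i) 1) * nGL D hF.xadd (D.simple (T.π i)) := by
      rw [nGL_eq_nGLt, T.map_nGLt hF _ (hF.simple_lt i hi) 1 one_ne_zero, T.ρ_simple i hi, nGLt_eq_hGLt_mul]
      rfl
    have hh1 : hGLt D hF.xadd (D.simple (T.π i)) (T.c (D.simple i) 1) ∈ D.diagonalSubgroup K :=
      hGLt_mem_diagonal D hF.xadd _ (hF.simple_lt _ (T.π_lt i hi)) _ (T.c_ne _ (hF.simple_lt i hi) 1 one_ne_zero)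
    have hn1 : nGL D hF.xadd (D.simple (T.π i)) ∈ D.monomialSubgroup K :=
      nGL_mem_monomial D hF.xadd _ (hF.simple_lt _ (T.π_lt i hi))
    refine ⟨hGLt D hF.xadd (D.simple (T.π i)) (T.c (D.simple i) 1) *
      (nGL D hF.xadd (D.simple (T.π i)) * h * (nGL D hF.xadd (D.simple (T.π i)))⁻¹),
      mul_mem hh1 (hF.monomial_conj_mem_diagonal _ hn1 h hh), ?_⟩
    rw [nWordGL_cons, T.map_mul _ _ (nGL_mem_group D hF.xadd _) (nWordGL_mem_group D hF.xadd w), e, e1,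
      List.map_cons, nWordGL_cons]
    group

/-- a fixed element `h n_w` of `N`: the word commutes with `ρ` -/
theorem rhoComm_of_fixed (h : GL D.Idx K) (hh : h ∈ D.diagonalSubgroup K) (w : List ℕ)
    (hw : ∀ i ∈ w, i < D.rank) (hfix : T.σ (h * nWordGL D hF.xadd w) = h * nWordGL D hF.xadd w) :
    RhoComm D T.ρ w := by
  obtain ⟨h', hh', e⟩ := T.map_nWordGL hF w hw
  rw [T.map_mul _ _ (hF.diagonal_le_group hh) (nWordGL_mem_group D hF.xadd w), e] at hfix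
  have hmem : (nWordGL D hF.xadd w)⁻¹ * nWordGL D hF.xadd (w.map T.π) ∈ D.diagonalSubgroup K := by
    have e2 : nWordGL D hF.xadd (w.map T.π) = (T.σ h * h')⁻¹ * h * nWordGL D hF.xadd w := by
      rw [mul_assoc, ← hfix]; group
    have hk : (T.σ h * h')⁻¹ * h ∈ D.diagonalSubgroup K :=
      mul_mem (inv_mem (mul_mem (T.map_mem_diagonal hF h hh) hh')) hh
    have hn : nWordGL D hF.xadd w ∈ D.monomialSubgroup K := nWordGL_mem_monomial D hF.xadd hF.simple_lt w hw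
    have e3 : (nWordGL D hF.xadd w)⁻¹ * nWordGL D hF.xadd (w.map T.π) =
        (nWordGL D hF.xadd w)⁻¹ * ((T.σ h * h')⁻¹ * h) * ((nWordGL D hF.xadd w)⁻¹)⁻¹ := by
      rw [e2]; group
    rw [e3]
    exact hF.monomial_conj_mem_diagonal _ (inv_mem hn) _ hk
  have hact := hF.reflWord_eq_of_inv_mul_mem w (w.map T.π) hw (T.map_valid hF w hw) hmem
  intro r hr
  rw [hact _ (T.ρ_lt r hr), T.reflWord_map hF w hw r hr]

end Twist

namespace ChevFacts'

variable {D : ChevalleyDatum} (hF : ChevFacts D K)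
include hF

/-- `B n_w B ⊆ B n_w U_w⁻` -/
theorem borel_word_borel (hS : CorSize D) (w : List ℕ) (hw : ∀ i ∈ w, i < D.rank) (b₁ b₂ : GL D.Idx K)
    (hb₁ : b₁ ∈ D.borelSubgroup K) (hb₂ : b₂ ∈ D.borelSubgroup K) :
    ∃ b ∈ D.borelSubgroup K, ∃ u ∈ negPart D hF.xadd w,
      b₁ * nWordGL D hF.xadd w * b₂ = b * nWordGL D hF.xadd w * u := by
  obtain ⟨u₂, hu₂, h₂, hh₂, rfl⟩ := (hF.mem_borel_iff b₂).1 hb₂
  obtain ⟨b₃, hb₃, u₃, hu₃, e⟩ := hF.nWordGL_mul_posUnipotent hS w hw u₂ hu₂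
  have h1 := nWordGL_conj_mem_diagonal D hF.xadd (etaOf D) hF.nsimple w hw h₂ hh₂
  have h2 := hF.diagonal_conj_negPart w h₂⁻¹ (inv_mem hh₂) u₃ hu₃
  refine ⟨b₁ * b₃ * (nWordGL D hF.xadd w * h₂ * (nWordGL D hF.xadd w)⁻¹),
    mul_mem (mul_mem hb₁ hb₃) (diagonal_le_borel D h1), h₂⁻¹ * u₃ * h₂⁻¹⁻¹, h2, ?_⟩
  have e2 : b₁ * nWordGL D hF.xadd w * (u₂ * h₂) = b₁ * (nWordGL D hF.xadd w * u₂) * h₂ := by group
  rw [e2, e]
  group

/-- two double cosets `B n_w B`, `B n_{w'} B` which meet belong to the same action -/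
theorem double_coset_action (hS : CorSize D) (w w' : List ℕ) (hw : ∀ i ∈ w, i < D.rank)
    (hw' : ∀ i ∈ w', i < D.rank) (b₁ b₂ b₁' b₂' : GL D.Idx K) (hb₁ : b₁ ∈ D.borelSubgroup K)
    (hb₂ : b₂ ∈ D.borelSubgroup K) (hb₁' : b₁' ∈ D.borelSubgroup K) (hb₂' : b₂' ∈ D.borelSubgroup K)
    (e : b₁ * nWordGL D hF.xadd w * b₂ = b₁' * nWordGL D hF.xadd w' * b₂') :
    ∀ r < D.nroots, reflWord D w r = reflWord D w' r := by
  obtain ⟨b, hb, u, hu, e1⟩ := borel_word_borel hF hS w hw b₁ b₂ hb₁ hb₂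
  obtain ⟨b', hb', u', hu', e2⟩ := borel_word_borel hF hS w' hw' b₁' b₂' hb₁' hb₂'
  rw [e1, e2] at e
  exact hF.cell_action w w' hw hw' b b' u u' hb hb' hu hu' e

/-- the double coset rule for words: `n_w B n ⊆ ⋃ B n_v n B` over the sublists `v` of `w` -/
theorem nWordGL_mul_borel_mul (w : List ℕ) (hw : ∀ i ∈ w, i < D.rank) (b : GL D.Idx K)
    (hb : b ∈ D.borelSubgroup K) (n : GL D.Idx K) (hn : n ∈ D.monomialSubgroup K) :
    ∃ v : List ℕ, v.Sublist w ∧ ∃ b₁ ∈ D.borelSubgroup K, ∃ b₂ ∈ D.borelSubgroup K,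
      nWordGL D hF.xadd w * b * n = b₁ * (nWordGL D hF.xadd v * n) * b₂ := by
  induction w generalizing b with
  | nil => exact ⟨[], List.Sublist.refl _, b, hb, 1, one_mem _, by simp [nWordGL_nil]⟩
  | cons i w ih =>
    have hw' : ∀ j ∈ w, j < D.rank := fun j hj => hw j (List.mem_cons_of_mem _ hj)
    have hi := hw i List.mem_cons_self
    obtain ⟨v, hv, b₁, hb₁, b₂, hb₂, e⟩ := ih hw' b hb
    have hvv : ∀ j ∈ v, j < D.rank := fun j hj => hw' j (hv.subset hj)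
    have hvn : nWordGL D hF.xadd v * n ∈ D.monomialSubgroup K :=
      mul_mem (nWordGL_mem_monomial D hF.xadd hF.simple_lt v hvv) hn
    have e1 : nWordGL D hF.xadd (i :: w) * b * n =
        nGL D hF.xadd (D.simple i) * b₁ * (nWordGL D hF.xadd v * n) * b₂ := by
      rw [nWordGL_cons]
      have : nGL D hF.xadd (D.simple i) * nWordGL D hF.xadd w * b * n =
          nGL D hF.xadd (D.simple i) * (nWordGL D hF.xadd w * b * n) := by group
      rw [this, e]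
      group
    rcases hF.nGL_mul_borel_mul i hi b₁ hb₁ _ hvn with ⟨c₁, hc₁, c₂, hc₂, e2⟩ | ⟨c₁, hc₁, c₂, hc₂, e2⟩
    · refine ⟨i :: v, List.Sublist.cons₂ i hv, c₁, hc₁, c₂ * b₂, mul_mem hc₂ hb₂, ?_⟩
      rw [e1, e2, nWordGL_cons]
      group
    · refine ⟨v, List.Sublist.cons i hv, c₁, hc₁, c₂ * b₂, mul_mem hc₂ hb₂, ?_⟩
      rw [e1, e2]
      group

end ChevFacts'

end Cfsg.Agent.Lead.Tw
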