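import Mathlib
import Cfsg.Agent.Lib.Lead.TwWeyl

/-!
# The (B,N)-pair of a twisted group

`G₁` a subgroup of the fixed points of `σ` containing `U_σ` and representatives of the twisted reflections.
-/

set_option autoImplicit false
set_option linter.unusedSectionVars false
set_option linter.unusedSimpArgs false
set_option linter.unusedVariables false

namespace Cfsg.Agent.Lead.Tw

open Cfsg Cfsg.Lie Cfsg.Agent.Lead.Chev

variable {K : Type*} [Field K]

/-- the hypotheses on a twisted group `G₁` with twisted reflections given by the words of `S` -/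
structure TwGroup {D : ChevalleyDatum} (hF : ChevFacts D K) (T : Twist D K hF.xadd)
    (G₁ : Subgroup (GL D.Idx K)) (S : List (List ℕ)) : Prop where
  le_group : G₁ ≤ D.group K
  fixed : ∀ g ∈ G₁, T.σ g = g
  U_le : ∀ u ∈ D.posUnipotent K, T.σ u = u → u ∈ G₁
  s_valid : ∀ w ∈ S, ∀ i ∈ w, i < D.rank
  s_mem : ∀ w ∈ S, nWordGL D hF.xadd w ∈ G₁
  s_sq : ∀ w ∈ S, ∀ r < D.nroots, reflWord D (w ++ w) r = r
  s_inj : ∀ w ∈ S, ∀ w' ∈ S, (∀ r < D.nroots, reflWord D w r = reflWord D w' r) → w = w'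
  gen : ∀ w : List ℕ, (∀ i ∈ w, i < D.rank) → RhoComm D T.ρ w →
    ∃ l : List (List ℕ), (∀ v ∈ l, v ∈ S) ∧ ∀ r < D.nroots, reflWord D w r = reflWord D l.flatten r
  sub : ∀ w ∈ S, ∀ v : List ℕ, v.Sublist w → RhoComm D T.ρ v →
    (∀ r < D.nroots, reflWord D v r = r) ∨ (∀ r < D.nroots, reflWord D v r = reflWord D w r)
  ne : ∀ w ∈ S, ∃ u ∈ D.posUnipotent K, T.σ u = u ∧
    nWordGL D hF.xadd w * u * nWordGL D hF.xadd w ∉ D.borelSubgroup K

section lemmas

variable {D : ChevalleyDatum} (hF : ChevFacts D K)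
include hF

theorem flatten_valid (S l : List (List ℕ)) (hS : ∀ w ∈ S, ∀ i ∈ w, i < D.rank) (hl : ∀ v ∈ l, v ∈ S) :
    ∀ i ∈ l.flatten, i < D.rank := by
  intro i hi
  obtain ⟨v, hv, hiv⟩ := List.mem_flatten.1 hi
  exact hS v (hl v hv) i hiv

theorem nWordGL_flatten (l : List (List ℕ)) :
    nWordGL D hF.xadd l.flatten = (l.map (nWordGL D hF.xadd)).prod := by
  induction l with
  | nil => rfl
  | cons v l ih => rw [List.flatten_cons, nWordGL_append, ih, List.map_cons, List.prod_cons]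

/-- elements `h₁ n_{w₁}` and `h₂ n_{w₂}` with the same action differ by an element of `H` -/
theorem monomial_mul_inv_mem_diagonal (h₁ h₂ : GL D.Idx K) (hh₁ : h₁ ∈ D.diagonalSubgroup K)
    (hh₂ : h₂ ∈ D.diagonalSubgroup K) (w₁ w₂ : List ℕ) (hw₁ : ∀ i ∈ w₁, i < D.rank)
    (hw₂ : ∀ i ∈ w₂, i < D.rank) (hact : ∀ r < D.nroots, reflWord D w₁ r = reflWord D w₂ r) :
    (h₁ * nWordGL D hF.xadd w₁) * (h₂ * nWordGL D hF.xadd w₂)⁻¹ ∈ D.diagonalSubgroup K := by
  have h1 := hF.nWordGL_inv_mul_mem_diagonal w₁ w₂ hw₁ hw₂ hact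
  have hn : nWordGL D hF.xadd w₁ ∈ D.monomialSubgroup K := nWordGL_mem_monomial D hF.xadd hF.simple_lt w₁ hw₁
  have h2 := hF.monomial_conj_mem_diagonal _ hn _ (inv_mem h1)
  have e : (h₁ * nWordGL D hF.xadd w₁) * (h₂ * nWordGL D hF.xadd w₂)⁻¹ =
      h₁ * (nWordGL D hF.xadd w₁ * ((nWordGL D hF.xadd w₁)⁻¹ * nWordGL D hF.xadd w₂)⁻¹ *
        (nWordGL D hF.xadd w₁)⁻¹) * h₂⁻¹ := by group
  rw [e]
  exact mul_mem (mul_mem hh₁ h2) (inv_mem hh₂)

theorem rhoComm_reverse (ρ : ℕ → ℕ) (hρ : ∀ r < D.nroots, ρ r < D.nroots) (w : List ℕ)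
    (hw : ∀ i ∈ w, i < D.rank) (h : RhoComm D ρ w) : RhoComm D ρ w.reverse := by
  intro r hr
  have hrw : ∀ i ∈ w.reverse, i < D.rank := fun i hi => hw i (List.mem_reverse.1 hi)
  have h1 : reflWord D w (reflWord D w.reverse (ρ r)) = ρ r :=
    reflWord_reverse_cancel D (etaOf D) hF.facts w hw _ (hρ r hr)
  have hlt := reflWord_lt D (etaOf D) hF.facts w.reverse hrw r hr
  have h2 : reflWord D w (ρ (reflWord D w.reverse r)) = ρ r := by
    rw [h _ hlt, reflWord_reverse_cancel D (etaOf D) hF.facts w hw r hr]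
  have h3 := congrArg (reflWord D w.reverse) (h1.trans h2.symm)
  rwa [reflWord_reverse_cancel' D (etaOf D) hF.facts w hw _
      (reflWord_lt D (etaOf D) hF.facts w.reverse hrw _ (hρ r hr)),
    reflWord_reverse_cancel' D (etaOf D) hF.facts w hw _ (hρ _ hlt)] at h3

end lemmas

namespace TwGroup

variable {D : ChevalleyDatum} {hF : ChevFacts D K} {T : Twist D K hF.xadd}
  {G₁ : Subgroup (GL D.Idx K)} {S : List (List ℕ)} (hG : TwGroup hF T G₁ S)
include hG

/-- the decomposition `G₁ = U_σ N¹ U_σ` -/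
theorem exists_decomp (hS : CorSize D) (g : GL D.Idx K) (hg : g ∈ G₁) :
    ∃ u₁ ∈ D.posUnipotent K, ∃ n ∈ D.monomialSubgroup K, ∃ u ∈ D.posUnipotent K,
      u₁ ∈ G₁ ∧ n ∈ G₁ ∧ u ∈ G₁ ∧ g = u₁ * n * u := by
  obtain ⟨u₁, hu₁, n, hn, u, hu, f1, f2, f3, e⟩ :=
    T.exists_fixed_canonical hF hS g (hG.le_group hg) (hG.fixed g hg)
  have huU := hF.negPartN_le_posUnipotent n hu
  have h1 := hG.U_le u₁ hu₁ f1
  have h3 := hG.U_le u huU f3
  refine ⟨u₁, hu₁, n, hn, u, huU, h1, ?_, h3, e⟩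
  have : n = u₁⁻¹ * g * u⁻¹ := by rw [e]; group
  rw [this]
  exact mul_mem (mul_mem (inv_mem h1) hg) (inv_mem h3)

/-- elements of `N ∩ G₁` are `h n_w` with `w` commuting with `ρ` -/
theorem exists_word (n : GL D.Idx K) (hn : n ∈ D.monomialSubgroup K) (hn₁ : n ∈ G₁) :
    ∃ h ∈ D.diagonalSubgroup K, ∃ w : List ℕ, (∀ i ∈ w, i < D.rank) ∧ RhoComm D T.ρ w ∧
      n = h * nWordGL D hF.xadd w := by
  obtain ⟨h, hh, w, hw, e⟩ :=
    exists_word_of_mem_monomial D hF.xadd (etaOf D) hF.nsimple hF.simple_lt hF.orbit n hn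
  refine ⟨h, hh, w, hw, ?_, e⟩
  apply T.rhoComm_of_fixed hF h hh w hw
  rw [← e]
  exact hG.fixed n hn₁

/-- the (B,N)-pair of `G₁` -/
noncomputable def bnPair (hS : CorSize D) : Cfsg.BNPair ↥G₁ where
  B := (D.borelSubgroup K ⊓ G₁).subgroupOf G₁
  N := (D.monomialSubgroup K ⊓ G₁).subgroupOf G₁
  S := {s : ↥G₁ | ∃ w ∈ S, (s : GL D.Idx K) = nWordGL D hF.xadd w}
  sup_eq_top := by
    rw [eq_top_iff]
    rintro ⟨g, hg⟩ -
    obtain ⟨u₁, hu₁, n, hn, u, hu, h1, h2, h3, e⟩ := hG.exists_decomp hS g hg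
    have e' : (⟨g, hg⟩ : ↥G₁) = ⟨u₁, h1⟩ * ⟨n, h2⟩ * ⟨u, h3⟩ := Subtype.ext e
    rw [e']
    refine mul_mem (mul_mem (Subgroup.mem_sup_left ?_) (Subgroup.mem_sup_right ?_)) (Subgroup.mem_sup_left ?_)
    · exact Subgroup.mem_subgroupOf.2 ⟨posUnipotent_le_borel D hu₁, h1⟩
    · exact Subgroup.mem_subgroupOf.2 ⟨hn, h2⟩
    · exact Subgroup.mem_subgroupOf.2 ⟨posUnipotent_le_borel D hu, h3⟩
  conj_mem := by
    intro n hn t ht
    rw [Subgroup.mem_subgroupOf] at hn ⊢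
    have ht1 : (t : GL D.Idx K) ∈ D.borelSubgroup K := (Subgroup.mem_subgroupOf.1 ht.1).1
    have ht2 : (t : GL D.Idx K) ∈ D.monomialSubgroup K := (Subgroup.mem_subgroupOf.1 ht.2).1
    have ht' : (t : GL D.Idx K) ∈ D.borelSubgroup K ⊓ D.monomialSubgroup K := ⟨ht1, ht2⟩
    rw [hF.borel_inf_monomial] at ht'
    refine ⟨?_, (n * t * n⁻¹).2⟩
    rw [Subgroup.coe_mul, Subgroup.coe_mul, Subgroup.coe_inv]
    exact diagonal_le_borel D (hF.monomial_conj_mem_diagonal _ hn.1 _ ht')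
  subset := by
    rintro s ⟨w, hw, hs⟩
    refine Subgroup.mem_subgroupOf.2 ⟨?_, s.2⟩
    rw [hs]
    exact nWordGL_mem_monomial D hF.xadd hF.simple_lt w (hG.s_valid w hw)
  sq_mem := by
    rintro s ⟨w, hw, hs⟩
    refine Subgroup.mem_subgroupOf.2 ⟨?_, (s * s).2⟩
    rw [Subgroup.coe_mul, hs, ← nWordGL_append]
    have hv : ∀ i ∈ w ++ w, i < D.rank := by
      intro i hi
      rcases List.mem_append.1 hi with h | h <;> exact hG.s_valid w hw i h
    have h1 := hF.nWordGL_inv_mul_mem_diagonal [] (w ++ w) (by simp) hv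
      (fun r hr => (hG.s_sq w hw r hr).symm)
    rw [nWordGL_nil, inv_one, one_mul] at h1
    exact diagonal_le_borel D h1
  inj := by
    rintro s ⟨w, hw, hs⟩ s' ⟨w', hw', hs'⟩ h
    have h1 : ((s⁻¹ * s' : ↥G₁) : GL D.Idx K) ∈ D.borelSubgroup K := (Subgroup.mem_subgroupOf.1 h).1
    rw [Subgroup.coe_mul, Subgroup.coe_inv, hs, hs'] at h1
    have hn : (nWordGL D hF.xadd w)⁻¹ * nWordGL D hF.xadd w' ∈ D.monomialSubgroup K :=
      mul_mem (inv_mem (nWordGL_mem_monomial D hF.xadd hF.simple_lt w (hG.s_valid w hw)))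
        (nWordGL_mem_monomial D hF.xadd hF.simple_lt w' (hG.s_valid w' hw'))
    have h2 : (nWordGL D hF.xadd w)⁻¹ * nWordGL D hF.xadd w' ∈ D.borelSubgroup K ⊓ D.monomialSubgroup K :=
      ⟨h1, hn⟩
    rw [hF.borel_inf_monomial] at h2
    have h3 := hF.reflWord_eq_of_inv_mul_mem w w' (hG.s_valid w hw) (hG.s_valid w' hw') h2
    have h4 := hG.s_inj w hw w' hw' h3
    apply Subtype.ext
    rw [hs, hs', h4]
  closure_sup := by
    apply le_antisymm
    · apply sup_le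
      · rw [Subgroup.closure_le]
        rintro s ⟨w, hw, hs⟩
        refine Subgroup.mem_subgroupOf.2 ⟨?_, s.2⟩
        rw [hs]
        exact nWordGL_mem_monomial D hF.xadd hF.simple_lt w (hG.s_valid w hw)
      · exact inf_le_right
    · rintro ⟨n, hn₁⟩ hn
      have hnN : n ∈ D.monomialSubgroup K := (Subgroup.mem_subgroupOf.1 hn).1
      obtain ⟨h, hh, w, hw, hc, e⟩ := hG.exists_word n hnN hn₁
      obtain ⟨l, hl, hact⟩ := hG.gen w hw hc
      have hlv := flatten_valid hF S l hG.s_valid hl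
      -- the product of the representatives
      have hprod : ∀ l : List (List ℕ), (∀ v ∈ l, v ∈ S) → ∃ m : ↥G₁,
          (m : GL D.Idx K) = nWordGL D hF.xadd l.flatten ∧
          m ∈ Subgroup.closure {s : ↥G₁ | ∃ w ∈ S, (s : GL D.Idx K) = nWordGL D hF.xadd w} := by
        intro l
        induction l with
        | nil => intro _; exact ⟨1, rfl, one_mem _⟩
        | cons v l ih =>
          intro hl
          obtain ⟨m, hm1, hm2⟩ := ih (fun x hx => hl x (List.mem_cons_of_mem _ hx))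
          have hvS := hl v List.mem_cons_self
          refine ⟨⟨nWordGL D hF.xadd v, hG.s_mem v hvS⟩ * m, ?_, ?_⟩
          · rw [Subgroup.coe_mul, hm1, List.flatten_cons, nWordGL_append]
          · exact mul_mem (Subgroup.subset_closure ⟨v, hvS, rfl⟩) hm2
      obtain ⟨m, hm1, hm2⟩ := hprod l hl
      have hk : n * (m : GL D.Idx K)⁻¹ ∈ D.diagonalSubgroup K := by
        have := monomial_mul_inv_mem_diagonal hF h 1 hh (one_mem _) w l.flatten hw hlv hact
        rwa [one_mul, ← e, ← hm1] at this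
      have hk₁ : n * (m : GL D.Idx K)⁻¹ ∈ G₁ := mul_mem hn₁ (inv_mem m.2)
      have e' : (⟨n, hn₁⟩ : ↥G₁) = ⟨n * (m : GL D.Idx K)⁻¹, hk₁⟩ * m := by
        apply Subtype.ext
        rw [Subgroup.coe_mul]
        group
      rw [e', sup_comm]
      refine Subgroup.mul_mem_sup ?_ hm2
      refine ⟨Subgroup.mem_subgroupOf.2 ⟨diagonal_le_borel D hk, hk₁⟩,
        Subgroup.mem_subgroupOf.2 ⟨hF.diagonal_le_monomial hk, hk₁⟩⟩
  mul_mem_union := by
    rintro s ⟨w, hw, hs⟩ n hn b hb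
    have hwv := hG.s_valid w hw
    have hnN : (n : GL D.Idx K) ∈ D.monomialSubgroup K := (Subgroup.mem_subgroupOf.1 hn).1
    have hbB : (b : GL D.Idx K) ∈ D.borelSubgroup K := (Subgroup.mem_subgroupOf.1 hb).1
    obtain ⟨h, hh, x, hx, hcx, ex⟩ := hG.exists_word n hnN n.2
    -- canonical form of the product
    obtain ⟨u₁, hu₁, n', hn', u, hu, h1, h2, h3, e⟩ :=
      hG.exists_decomp hS ((s * b * n : ↥G₁) : GL D.Idx K) (s * b * n).2
    obtain ⟨h', hh', x', hx', hcx', ex'⟩ := hG.exists_word n' hn' h2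
    -- the double coset rule
    obtain ⟨v, hv, b₁, hb₁, b₂, hb₂, e2⟩ := ChevFacts'.nWordGL_mul_borel_mul hF w hwv b hbB n hnN
    have hvv : ∀ j ∈ v, j < D.rank := fun j hj => hwv j (hv.subset hj)
    have hvx : ∀ j ∈ v ++ x, j < D.rank := by
      intro j hj
      rcases List.mem_append.1 hj with h | h
      · exact hvv j h
      · exact hx j h
    have hact1 : ∀ r < D.nroots, reflWord D x' r = reflWord D (v ++ x) r := by
      have hc1 := nWordGL_conj_mem_diagonal D hF.xadd (etaOf D) hF.nsimple v hvv h hh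
      have e3 : (u₁ * h') * nWordGL D hF.xadd x' * u =
          (b₁ * (nWordGL D hF.xadd v * h * (nWordGL D hF.xadd v)⁻¹)) * nWordGL D hF.xadd (v ++ x) * b₂ := by
        have e4 : (u₁ * h') * nWordGL D hF.xadd x' * u = u₁ * n' * u := by rw [ex']; group
        rw [e4, ← e, Subgroup.coe_mul, Subgroup.coe_mul, hs, e2, ex, nWordGL_append]
        group
      exact ChevFacts'.double_coset_action hF hS x' (v ++ x) hx' hvx _ _ _ _
        (mul_mem (posUnipotent_le_borel D hu₁) (diagonal_le_borel D hh')) (posUnipotent_le_borel D hu)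
        (mul_mem hb₁ (diagonal_le_borel D hc1)) hb₂ e3
    -- `v` commutes with `ρ`
    have hxr : ∀ i ∈ x.reverse, i < D.rank := fun i hi => hx i (List.mem_reverse.1 hi)
    have hcv : RhoComm D T.ρ v := by
      have hc2 : RhoComm D T.ρ (x' ++ x.reverse) :=
        RhoComm.append (etaOf D) hF.facts hxr hcx' (rhoComm_reverse hF T.ρ T.ρ_lt x hx hcx)
      apply hc2.congr T.ρ_lt
      intro r hr
      have hlt := reflWord_lt D (etaOf D) hF.facts x.reverse hxr r hr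
      rw [reflWord_append, hact1 _ hlt, reflWord_append,
        reflWord_reverse_cancel D (etaOf D) hF.facts x hx r hr]
    have hu₁B : (⟨u₁, h1⟩ : ↥G₁) ∈ (D.borelSubgroup K ⊓ G₁).subgroupOf G₁ :=
      Subgroup.mem_subgroupOf.2 ⟨posUnipotent_le_borel D hu₁, h1⟩
    have huB : (⟨u, h3⟩ : ↥G₁) ∈ (D.borelSubgroup K ⊓ G₁).subgroupOf G₁ :=
      Subgroup.mem_subgroupOf.2 ⟨posUnipotent_le_borel D hu, h3⟩
    rcases hG.sub w hw v hv hcv with hid | hww
    · right
      -- `x' ~ x`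
      have hact2 : ∀ r < D.nroots, reflWord D x' r = reflWord D x r := by
        intro r hr
        rw [hact1 r hr, reflWord_append, hid _ (reflWord_lt D (etaOf D) hF.facts x hx r hr)]
      have hk : n' * (n : GL D.Idx K)⁻¹ ∈ D.diagonalSubgroup K := by
        have := monomial_mul_inv_mem_diagonal hF h' h hh' hh x' x hx' hx hact2
        rwa [← ex', ← ex] at this
      have hk₁ : n' * (n : GL D.Idx K)⁻¹ ∈ G₁ := mul_mem h2 (inv_mem n.2)
      refine DoubleCoset.mem_doubleCoset.2 ⟨⟨u₁, h1⟩ * ⟨n' * (n : GL D.Idx K)⁻¹, hk₁⟩, ?_, ⟨u, h3⟩, huB, ?_⟩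
      · exact mul_mem hu₁B (Subgroup.mem_subgroupOf.2 ⟨diagonal_le_borel D hk, hk₁⟩)
      · apply Subtype.ext
        rw [e]
        simp only [Subgroup.coe_mul]
        group
    · left
      have hwx : ∀ j ∈ w ++ x, j < D.rank := by
        intro j hj
        rcases List.mem_append.1 hj with h | h
        · exact hwv j h
        · exact hx j h
      have hact2 : ∀ r < D.nroots, reflWord D x' r = reflWord D (w ++ x) r := by
        intro r hr
        rw [hact1 r hr, reflWord_append, reflWord_append,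
          hww _ (reflWord_lt D (etaOf D) hF.facts x hx r hr)]
      have hc1 := nWordGL_conj_mem_diagonal D hF.xadd (etaOf D) hF.nsimple w hwv h hh
      have esn : ((s * n : ↥G₁) : GL D.Idx K) =
          (nWordGL D hF.xadd w * h * (nWordGL D hF.xadd w)⁻¹) * nWordGL D hF.xadd (w ++ x) := by
        rw [Subgroup.coe_mul, hs, ex, nWordGL_append]
        group
      have hk : n' * ((s * n : ↥G₁) : GL D.Idx K)⁻¹ ∈ D.diagonalSubgroup K := by
        have := monomial_mul_inv_mem_diagonal hF h' _ hh' hc1 x' (w ++ x) hx' hwx hact2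
        rwa [← ex', ← esn] at this
      have hk₁ : n' * ((s * n : ↥G₁) : GL D.Idx K)⁻¹ ∈ G₁ := mul_mem h2 (inv_mem (s * n).2)
      refine DoubleCoset.mem_doubleCoset.2
        ⟨⟨u₁, h1⟩ * ⟨n' * ((s * n : ↥G₁) : GL D.Idx K)⁻¹, hk₁⟩, ?_, ⟨u, h3⟩, huB, ?_⟩
      · exact mul_mem hu₁B (Subgroup.mem_subgroupOf.2 ⟨diagonal_le_borel D hk, hk₁⟩)
      · apply Subtype.ext
        rw [e]
        simp only [Subgroup.coe_mul]
        group
  conj_ne := by
    rintro s ⟨w, hw, hs⟩ heq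
    obtain ⟨u, hu, hfu, hne⟩ := hG.ne w hw
    have hu₁ := hG.U_le u hu hfu
    have hx : (⟨u, hu₁⟩ : ↥G₁) ∈
        (((D.borelSubgroup K ⊓ G₁).subgroupOf G₁ : Subgroup ↥G₁) : Set ↥G₁) :=
      Subgroup.mem_subgroupOf.2 ⟨posUnipotent_le_borel D hu, hu₁⟩
    have h1 : s * ⟨u, hu₁⟩ * s ∈ (fun b : ↥G₁ => s * b * s) ''
        (((D.borelSubgroup K ⊓ G₁).subgroupOf G₁ : Subgroup ↥G₁) : Set ↥G₁) := ⟨_, hx, rfl⟩
    rw [heq] at h1
    have h2 : ((s * ⟨u, hu₁⟩ * s : ↥G₁) : GL D.Idx K) ∈ D.borelSubgroup K :=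
      (Subgroup.mem_subgroupOf.1 h1).1
    simp only [Subgroup.coe_mul] at h2
    rw [hs] at h2
    exact hne h2

end TwGroup

end Cfsg.Agent.Lead.Tw
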