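import Mathlib
import Cfsg.Agent.Lib.Lead.TwWeyl
import Cfsg.Agent.Lib.Lead.WeylFact

/-!
# The twisted Weyl group is generated by the twisted reflections

Every word commuting with `ρ` has the same action as a reduced product of the words of `S` (the longest elements of the
rank one parabolic subgroups attached to the `ρ`-orbits of fundamental roots).
-/

set_option autoImplicit false
set_option linter.unusedSectionVars false
set_option linter.unusedSimpArgs false
set_option linter.unusedVariables false

namespace Cfsg.Agent.Lead.Tw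

open Cfsg Cfsg.Lie Cfsg.Agent.Lead.Chev

variable {K : Type*} [Field K]

/-- the set of letters of a word -/
def letters (v : List ℕ) : Set ℕ := {i | i ∈ v}

instance (v : List ℕ) (i : ℕ) : Decidable (i ∈ letters v) := by unfold letters; exact inferInstanceAs (Decidable (i ∈ v))

/-- the word of a chain (the chain lists the factors from right to left) -/
def wordOf : List (List ℕ) → List ℕ
  | [] => []
  | v :: l => wordOf l ++ v

/-- a reduced chain: each prefix maps the fundamental roots of the next factor to positive roots -/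
def RedChain (D : ChevalleyDatum) : List (List ℕ) → Prop
  | [] => True
  | v :: l => KPos D (letters v) (wordOf l) ∧ RedChain D l

theorem wordOf_valid {D : ChevalleyDatum} (S l : List (List ℕ)) (hS : ∀ w ∈ S, ∀ i ∈ w, i < D.rank)
    (hl : ∀ v ∈ l, v ∈ S) : ∀ i ∈ wordOf l, i < D.rank := by
  induction l with
  | nil => intro i hi; simp [wordOf] at hi
  | cons v l ih =>
    intro i hi
    simp only [wordOf] at hi
    rcases List.mem_append.1 hi with h | h
    · exact ih (fun x hx => hl x (List.mem_cons_of_mem _ hx)) i h
    · exact hS v (hl v List.mem_cons_self) i h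

theorem wordOf_eq_flatten (l : List (List ℕ)) : wordOf l = l.reverse.flatten := by
  induction l with
  | nil => rfl
  | cons v l ih => simp [wordOf, ih]

/-- the table conditions on the twisted reflections -/
structure GenData (D : ChevalleyDatum) (ρ π : ℕ → ℕ) (S : List (List ℕ)) : Prop where
  valid : ∀ w ∈ S, ∀ i ∈ w, i < D.rank
  comm : ∀ w ∈ S, RhoComm D ρ w
  sq : ∀ w ∈ S, ∀ r < D.nroots, reflWord D (w ++ w) r = r
  cover : ∀ i < D.rank, ∃ v ∈ S, i ∈ v ∧ ∀ j ∈ v, ∃ k, π^[k] i = j
  long : ∀ v ∈ S, ∀ r, D.IsPosRoot r → InSpan D (letters v) r → D.IsNegRoot (reflWord D v r)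

namespace ChevFacts'

variable {D : ChevalleyDatum} (hF : ChevFacts D K)
include hF

theorem reflWord_eq_of_card_negSet_zero (w : List ℕ) (hw : ∀ i ∈ w, i < D.rank)
    (h : (negSet D w).card = 0) : ∀ r < D.nroots, reflWord D w r = r := by
  have h1 := hF.pos_of_card_negSet_eq_zero w hw h
  have hrw : ∀ i ∈ w.reverse, i < D.rank := fun i hi => hw i (List.mem_reverse.1 hi)
  apply hF.reflWord_eq_of_pos w hw h1
  intro r hr
  rcases hF.sign.pos_or_neg _ (hF.rlt w.reverse hrw r hr.1) with h2 | h2
  · exact h2
  · exfalso
    have h3 := hF.sign.pos_of_neg _ h2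
    have h4 := h1 _ h3
    rw [reflWord_neg D (etaOf D) hF.facts w hw _ h2.1,
      reflWord_reverse_cancel D (etaOf D) hF.facts w hw r hr.1] at h4
    exact hF.sign.not_both _ h4 (hF.sign.neg_of_pos r hr)

/-- a word mapping the fundamental roots of `J` to negative roots maps the positive roots of the span to
negative roots -/
theorem neg_of_inSpan_of_neg (hS : CorSize D) (J : Set ℕ) (x : List ℕ) (hx : ∀ i ∈ x, i < D.rank)
    (hxJ : ∀ k ∈ J, k < D.rank → D.IsNegRoot (reflWord D x (D.simple k)))
    (r : ℕ) (hr : D.IsPosRoot r) (hs : InSpan D J r) : D.IsNegRoot (reflWord D x r) := by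
  apply isNegRoot_of_cv D hS _ (hF.rlt x hx r hr.1)
  intro k hk
  rw [cv_reflWord D (etaOf D) hF.facts hF.refl hF.simple_lt x hx r hr.1 k hk]
  apply Finset.sum_nonpos
  intro j hj
  by_cases hjJ : j ∈ J
  · exact mul_nonpos_of_nonneg_of_nonpos (cv_nonneg D r hr j)
      (cv_nonpos D _ (hxJ j hjJ (Finset.mem_range.1 hj)) k)
  · rw [hs j (Finset.mem_range.1 hj) hjJ, zero_mul]

/-- and the negative ones to positive roots -/
theorem pos_of_inSpan_of_neg (hS : CorSize D) (J : Set ℕ) (x : List ℕ) (hx : ∀ i ∈ x, i < D.rank)
    (hxJ : ∀ k ∈ J, k < D.rank → D.IsNegRoot (reflWord D x (D.simple k)))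
    (r : ℕ) (hr : D.IsNegRoot r) (hs : InSpan D J r) : D.IsPosRoot (reflWord D x r) := by
  apply isPosRoot_of_cv D hS _ (hF.rlt x hx r hr.1)
  intro k hk
  rw [cv_reflWord D (etaOf D) hF.facts hF.refl hF.simple_lt x hx r hr.1 k hk]
  apply Finset.sum_nonneg
  intro j hj
  by_cases hjJ : j ∈ J
  · exact mul_nonneg_of_nonpos_of_nonpos (cv_nonpos D r hr j)
      (cv_nonpos D _ (hxJ j hjJ (Finset.mem_range.1 hj)) k)
  · rw [hs j (Finset.mem_range.1 hj) hjJ, zero_mul]

theorem wordIn_letters (v : List ℕ) (hv : ∀ i ∈ v, i < D.rank) : WordIn D (letters v) v :=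
  fun i hi => ⟨hv i hi, hi⟩

/-- **Generation of the twisted Weyl group**, with reduced decompositions. -/
theorem exists_redChain (hS : CorSize D) (ρ π : ℕ → ℕ) (S : List (List ℕ)) (hG : GenData D ρ π S)
    (hρlt : ∀ r < D.nroots, ρ r < D.nroots)
    (hρneg : ∀ r, D.IsNegRoot r → D.IsNegRoot (ρ r))
    (hρs : ∀ i < D.rank, ρ (D.simple i) = D.simple (π i)) (hπ : ∀ i < D.rank, π i < D.rank)
    (w : List ℕ) (hw : ∀ i ∈ w, i < D.rank) (hc : RhoComm D ρ w) :
    ∃ l : List (List ℕ), (∀ v ∈ l, v ∈ S) ∧ RedChain D l ∧
      ∀ r < D.nroots, reflWord D w r = reflWord D (wordOf l) r := by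
  induction h : (negSet D w).card using Nat.strong_induction_on generalizing w with
  | _ n ih =>
    by_cases hall : ∀ j < D.rank, D.IsPosRoot (reflWord D w (D.simple j))
    · -- `w` acts trivially
      have hpos := reflWord_pos_of_simple D (etaOf D) hF.facts hF.refl hS hF.simple_lt w hw hall
      have h0 : (negSet D w).card = 0 := by
        rw [Finset.card_eq_zero, Finset.eq_empty_iff_forall_notMem]
        intro r hr
        rw [mem_negSet] at hr
        exact hF.sign.not_both _ (hpos r hr.1) hr.2
      have hid := reflWord_eq_of_card_negSet_zero hF w hw h0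
      exact ⟨[], by simp, trivial, fun r hr => by rw [hid r hr]; rfl⟩
    · push_neg at hall
      obtain ⟨i, hi, hni⟩ := hall
      have hnegi : D.IsNegRoot (reflWord D w (D.simple i)) := by
        rcases hF.sign.pos_or_neg _ (hF.rlt w hw _ (hF.simple_lt i hi)) with h1 | h1
        · exact absurd h1 hni
        · exact h1
      obtain ⟨v, hvS, hiv, horb⟩ := hG.cover i hi
      have hvv := hG.valid v hvS
      have hcv := hG.comm v hvS
      -- the orbit of `i` is made negative
      have hpow : ∀ k, π^[k] i < D.rank ∧ D.IsNegRoot (reflWord D w (D.simple (π^[k] i))) := by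
        intro k
        induction k with
        | zero => exact ⟨hi, hnegi⟩
        | succ k ihk =>
          rw [Function.iterate_succ_apply']
          refine ⟨hπ _ ihk.1, ?_⟩
          rw [← hρs _ ihk.1, hc _ (hF.simple_lt _ ihk.1)]
          exact hρneg _ ihk.2
      have hJneg : ∀ k ∈ letters v, k < D.rank → D.IsNegRoot (reflWord D w (D.simple k)) := by
        intro k hk _
        obtain ⟨m, rfl⟩ := horb k hk
        exact (hpow m).2
      -- `w' = w v`
      have hw' : ∀ j ∈ w ++ v, j < D.rank := by
        intro j hj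
        rcases List.mem_append.1 hj with h1 | h1
        · exact hw j h1
        · exact hvv j h1
      have hc' : RhoComm D ρ (w ++ v) := RhoComm.append (etaOf D) hF.facts hvv hc hcv
      have hwI := wordIn_letters hF v hvv
      have hKpos : KPos D (letters v) (w ++ v) := by
        intro k hk hkr
        rw [reflWord_append]
        have h1 : D.IsNegRoot (reflWord D v (D.simple k)) :=
          hG.long v hvS _ (hF.simple_pos k hkr) (hF.inSpan_simple _ k hkr hk)
        have h2 : InSpan D (letters v) (reflWord D v (D.simple k)) :=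
          (hF.inSpan_reflWord _ v hwI _ (hF.simple_lt k hkr)).2 (hF.inSpan_simple _ k hkr hk)
        exact pos_of_inSpan_of_neg hF hS _ w hw hJneg _ h1 h2
      -- `w ~ w' v`
      have hwv : ∀ r < D.nroots, reflWord D w r = reflWord D ((w ++ v) ++ v) r := by
        intro r hr
        rw [List.append_assoc, reflWord_append, hG.sq v hvS r hr]
      have hcard := hF.card_negSet_append hS (letters v) (w ++ v) v hw' hKpos hwI
      have hcw := hF.card_negSet_congr w _ hwv
      have hvpos : 0 < (negSet D v).card := by
        apply Finset.card_pos.2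
        refine ⟨D.simple i, (mem_negSet D v _).2 ⟨hF.simple_pos i hi, ?_⟩⟩
        exact hG.long v hvS _ (hF.simple_pos i hi) (hF.inSpan_simple _ i hi hiv)
      have hlt : (negSet D (w ++ v)).card < n := by omega
      obtain ⟨l, hl, hred, hact⟩ := ih _ hlt (w ++ v) hw' hc' rfl
      refine ⟨v :: l, ?_, ⟨?_, hred⟩, ?_⟩
      · intro x hx
        rcases List.mem_cons.1 hx with rfl | hx
        · exact hvS
        · exact hl x hx
      · intro k hk hkr
        rw [← hact _ (hF.simple_lt k hkr)]
        exact hKpos k hk hkr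
      · intro r hr
        rw [hwv r hr]
        simp only [wordOf]
        rw [reflWord_append, reflWord_append (w₁ := wordOf l), hact _ (hF.rlt v hvv r hr)]

end ChevFacts'

end Cfsg.Agent.Lead.Tw
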