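import Mathlib
import Cfsg.Agent.Lib.Lead.TwGen
import Cfsg.Agent.Lib.Lead.ChevUw

/-!
# The product decomposition of `U_w⁻` along a reduced factorisation, and its fixed points
-/

set_option autoImplicit false
set_option linter.unusedSectionVars false
set_option linter.unusedSimpArgs false
set_option linter.unusedVariables false

namespace Cfsg.Agent.Lead.Tw

open Cfsg Cfsg.Lie Cfsg.Agent.Lead.Chev

variable {K : Type*} [Field K]

namespace ChevFacts'

variable {D : ChevalleyDatum} (hF : ChevFacts D K)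
include hF

/-- `n_y⁻¹ U_x⁻ n_y ⊆ U_{xy}⁻` for a reduced product -/
theorem conj_inv_negPart_mem (hS : CorSize D) (J : Set ℕ) (x y : List ℕ) (hx : ∀ i ∈ x, i < D.rank)
    (hxJ : KPos D J x) (hy : WordIn D J y) (a : GL D.Idx K) (ha : a ∈ negPart D hF.xadd x) :
    (nWordGL D hF.xadd y)⁻¹ * a * nWordGL D hF.xadd y ∈ negPart D hF.xadd (x ++ y) := by
  have hyv := hy.valid
  have hyr := hy.reverse
  obtain ⟨k, hk, ek⟩ := nWordGL_inv D hF.xadd (etaOf D) hF.nsimple hF.simple_lt y hyv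
  have hle : negPart D hF.xadd x ≤
      (negPart D hF.xadd (x ++ y)).comap (MulAut.conj (nWordGL D hF.xadd y)⁻¹).toMonoidHom := by
    unfold Chev.negPart
    rw [Subgroup.closure_le]
    rintro g ⟨s, t, hs1, hs2, rfl⟩
    rw [SetLike.mem_coe, Subgroup.mem_comap, MulEquiv.coe_toMonoidHom, MulAut.conj_apply, inv_inv]
    -- `s` is not in the span of `J`
    have hns : ¬ InSpan D J s := by
      intro h
      exact hF.sign.not_both _ (hF.pos_of_inSpan hS J x hx hxJ s hs1 h) hs2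
    have hpos := hF.pos_of_not_inSpan J y.reverse hyr s hs1 hns
    obtain ⟨c, hc, hconj⟩ := hF.diagonal_conj_xGL k hk (reflWord D y.reverse s) hpos.1
    have e1 : (nWordGL D hF.xadd y)⁻¹ * xGL D hF.xadd s t * nWordGL D hF.xadd y =
        k * (nWordGL D hF.xadd y.reverse * xGL D hF.xadd s t * (nWordGL D hF.xadd y.reverse)⁻¹) * k⁻¹ := by
      have : nWordGL D hF.xadd y = ((nWordGL D hF.xadd y)⁻¹)⁻¹ := (inv_inv _).symm
      rw [this, ek]
      group
    rw [e1, nWordGL_conj D hF.xadd (etaOf D) hF.nsimple y.reverse hyr.valid s hs1.1, hconj]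
    refine Subgroup.subset_closure ⟨_, _, hpos, ?_, rfl⟩
    rw [reflWord_append, reflWord_reverse_cancel D (etaOf D) hF.facts y hyv s hs1.1]
    exact hs2
  have := hle ha
  rwa [Subgroup.mem_comap, MulEquiv.coe_toMonoidHom, MulAut.conj_apply, inv_inv] at this

/-- `U_y⁻ ⊆ U_{xy}⁻` for a reduced product -/
theorem negPart_le_append (hS : CorSize D) (J : Set ℕ) (x y : List ℕ) (hx : ∀ i ∈ x, i < D.rank)
    (hxJ : KPos D J x) (hy : WordIn D J y) : negPart D hF.xadd y ≤ negPart D hF.xadd (x ++ y) := by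
  unfold Chev.negPart
  apply Subgroup.closure_mono
  rintro g ⟨r, t, hr1, hr2, rfl⟩
  refine ⟨r, t, hr1, ?_, rfl⟩
  rw [reflWord_append]
  have hsp : InSpan D J r := by
    by_contra h
    exact hF.sign.not_both _ (hF.pos_of_not_inSpan J y hy r hr1 h) hr2
  exact hF.neg_of_inSpan hS J x hx hxJ _ hr2 ((hF.inSpan_reflWord J y hy r hr1.1).2 hsp)

/-- uniqueness of the decomposition -/
theorem decomp_unique (y : List ℕ) (hy : ∀ i ∈ y, i < D.rank) (a a' b b' : GL D.Idx K)
    (ha : a ∈ D.posUnipotent K) (ha' : a' ∈ D.posUnipotent K)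
    (hb : b ∈ negPart D hF.xadd y) (hb' : b' ∈ negPart D hF.xadd y)
    (e : (nWordGL D hF.xadd y)⁻¹ * a * nWordGL D hF.xadd y * b =
      (nWordGL D hF.xadd y)⁻¹ * a' * nWordGL D hF.xadd y * b') : a = a' ∧ b = b' := by
  set n := nWordGL D hF.xadd y with hn
  have e1 : a'⁻¹ * a = n * (b' * b⁻¹) * n⁻¹ := by
    have : a = n * (n⁻¹ * a * n * b) * b⁻¹ * n⁻¹ := by group
    rw [this, e]
    group
  have h1 : n * (b' * b⁻¹) * n⁻¹ ∈ D.negUnipotent K :=
    hF.conj_negPartN_mem n _ (hF.negPart_le_negPartN y hy (mul_mem hb' (inv_mem hb)))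
  have h2 : a'⁻¹ * a ∈ D.borelSubgroup K ⊓ D.negUnipotent K := by
    refine Subgroup.mem_inf.2 ⟨posUnipotent_le_borel D (mul_mem (inv_mem ha') ha), ?_⟩
    rw [e1]
    exact h1
  rw [hF.borel_inf_negUnipotent, Subgroup.mem_bot] at h2
  have haa : a = a' := by
    have : a = a' * (a'⁻¹ * a) := by group
    rw [this, h2, mul_one]
  refine ⟨haa, ?_⟩
  rw [haa] at e
  exact mul_left_cancel e

/-- existence of the decomposition, by counting -/
theorem exists_decomp [Fintype K] (hS : CorSize D) (hC : CorComb D) (J : Set ℕ) (x y : List ℕ)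
    (hx : ∀ i ∈ x, i < D.rank) (hxJ : KPos D J x) (hy : WordIn D J y) (u : GL D.Idx K)
    (hu : u ∈ negPart D hF.xadd (x ++ y)) :
    ∃ a ∈ negPart D hF.xadd x, ∃ b ∈ negPart D hF.xadd y,
      u = (nWordGL D hF.xadd y)⁻¹ * a * nWordGL D hF.xadd y * b := by
  classical
  have hyv := hy.valid
  have hxy : ∀ i ∈ x ++ y, i < D.rank := by
    intro i hi
    rcases List.mem_append.1 hi with h | h
    · exact hx i h
    · exact hyv i h
  let f : ↥(negPart D hF.xadd x) × ↥(negPart D hF.xadd y) → ↥(negPart D hF.xadd (x ++ y)) := fun p =>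
    ⟨(nWordGL D hF.xadd y)⁻¹ * p.1 * nWordGL D hF.xadd y * p.2,
      mul_mem (conj_inv_negPart_mem hF hS J x y hx hxJ hy _ p.1.2) (negPart_le_append hF hS J x y hx hxJ hy p.2.2)⟩
  have hinj : Function.Injective f := by
    rintro ⟨a, b⟩ ⟨a', b'⟩ h
    have h' : (nWordGL D hF.xadd y)⁻¹ * a * nWordGL D hF.xadd y * b =
        (nWordGL D hF.xadd y)⁻¹ * a' * nWordGL D hF.xadd y * b' := congrArg Subtype.val h
    obtain ⟨h1, h2⟩ := decomp_unique hF y hyv a a' b b' (hF.negPart_le_posUnipotent x a.2)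
      (hF.negPart_le_posUnipotent x a'.2) b.2 b'.2 h'
    exact Prod.ext (Subtype.ext h1) (Subtype.ext h2)
  haveI : Finite ↥(negPart D hF.xadd (x ++ y)) := inferInstance
  have hcard : Nat.card ↥(negPart D hF.xadd (x ++ y)) ≤
      Nat.card (↥(negPart D hF.xadd x) × ↥(negPart D hF.xadd y)) := by
    rw [Nat.card_prod, hF.card_negPart hS hC x hx, hF.card_negPart hS hC y hyv, hF.card_negPart hS hC _ hxy,
      hF.card_negSet_append hS J x y hx hxJ hy, pow_add]
  obtain ⟨⟨a, b⟩, hab⟩ := (hinj.bijective_of_nat_card_le hcard).2 ⟨u, hu⟩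
  exact ⟨a, a.2, b, b.2, (congrArg Subtype.val hab).symm⟩

end ChevFacts'

namespace Twist

variable {D : ChevalleyDatum} (hF : ChevFacts D K) (T : Twist D K hF.xadd)
include hF

/-- `σ` preserves `U_w⁻` when `w` commutes with `ρ` -/
theorem map_mem_negPart (w : List ℕ) (hw : ∀ i ∈ w, i < D.rank) (hc : RhoComm D T.ρ w) (u : GL D.Idx K)
    (hu : u ∈ negPart D hF.xadd w) : T.σ u ∈ negPart D hF.xadd w := by
  have key : ∀ u ∈ negPart D hF.xadd w, u ∈ D.group K ∧ T.σ u ∈ negPart D hF.xadd w := by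
    intro u hu
    unfold Chev.negPart at hu
    induction hu using Subgroup.closure_induction with
    | mem x hx =>
      obtain ⟨r, t, hr1, hr2, rfl⟩ := hx
      rw [T.map_x r hr1.1]
      refine ⟨xGL_mem_group D hF.xadd _ _, Subgroup.subset_closure ⟨_, _, T.ρ_pos r hr1, ?_, rfl⟩⟩
      rw [hc r hr1.1]
      exact T.ρ_negRoot hF _ hr2
    | one => exact ⟨one_mem _, by rw [T.map_one hF]; exact one_mem _⟩
    | mul x y _ _ hx hy =>
      refine ⟨mul_mem hx.1 hy.1, ?_⟩
      rw [T.map_mul x y hx.1 hy.1]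
      exact mul_mem hx.2 hy.2
    | inv x _ hx =>
      refine ⟨inv_mem hx.1, ?_⟩
      rw [T.map_inv hF x hx.1]
      exact inv_mem hx.2
  exact (key u hu).2

/-- the fixed points of a reduced product: both factors are fixed -/
theorem fixed_decomp (y : List ℕ) (hy : ∀ i ∈ y, i < D.rank) (x : List ℕ) (hx : ∀ i ∈ x, i < D.rank)
    (hcx : RhoComm D T.ρ x) (hcy : RhoComm D T.ρ y)
    (hny : T.σ (nWordGL D hF.xadd y) = nWordGL D hF.xadd y)
    (a b : GL D.Idx K) (ha : a ∈ negPart D hF.xadd x) (hb : b ∈ negPart D hF.xadd y)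
    (hfix : T.σ ((nWordGL D hF.xadd y)⁻¹ * a * nWordGL D hF.xadd y * b) =
      (nWordGL D hF.xadd y)⁻¹ * a * nWordGL D hF.xadd y * b) : T.σ a = a ∧ T.σ b = b := by
  have hnG := nWordGL_mem_group D hF.xadd y
  have haG := hF.posUnipotent_le_group (hF.negPart_le_posUnipotent x ha)
  have hbG := hF.posUnipotent_le_group (hF.negPart_le_posUnipotent y hb)
  have e : T.σ ((nWordGL D hF.xadd y)⁻¹ * a * nWordGL D hF.xadd y * b) =
      (nWordGL D hF.xadd y)⁻¹ * T.σ a * nWordGL D hF.xadd y * T.σ b := by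
    rw [T.map_mul _ _ (mul_mem (mul_mem (inv_mem hnG) haG) hnG) hbG,
      T.map_mul _ _ (mul_mem (inv_mem hnG) haG) hnG, T.map_mul _ _ (inv_mem hnG) haG,
      T.map_inv hF _ hnG, hny]
  rw [e] at hfix
  obtain ⟨h1, h2⟩ := ChevFacts'.decomp_unique hF y hy _ _ _ _
    (hF.negPart_le_posUnipotent x (T.map_mem_negPart hF x hx hcx a ha)) (hF.negPart_le_posUnipotent x ha)
    (T.map_mem_negPart hF y hy hcy b hb) hb hfix
  exact ⟨h1, h2⟩

end Twist

end Cfsg.Agent.Lead.Tw
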