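import Mathlib
import Cfsg.Agent.Lib.Lead.TwU

/-!
# Classes of pairwise strongly orthogonal fundamental roots

For a list `v` of fundamental roots whose root subgroups (and those of the negatives) commute, the groups
`X_v = ∏ X_{p_i}` and `X_{-v}`, and the element `n_v`.
-/

set_option autoImplicit false
set_option linter.unusedSectionVars false
set_option linter.unusedSimpArgs false
set_option linter.unusedVariables false

namespace Cfsg.Agent.Lead.Tw

open Cfsg Cfsg.Lie Cfsg.Agent.Lead.Chev

variable {K : Type*} [Field K]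

/-- strongly orthogonal roots: the commutator formula has no terms -/
def Orth (D : ChevalleyDatum) (a b : ℕ) : Prop := b ≠ a ∧ b ≠ D.neg a ∧ D.commTerms a b = []

instance (D : ChevalleyDatum) (a b : ℕ) : Decidable (Orth D a b) := by unfold Orth; exact inferInstance

/-- a class of pairwise strongly orthogonal fundamental roots -/
structure OrthClass (D : ChevalleyDatum) (v : List ℕ) : Prop where
  nodup : v.Nodup
  valid : ∀ i ∈ v, i < D.rank
  orth : ∀ i ∈ v, ∀ j ∈ v, i ≠ j →
    Orth D (D.simple i) (D.simple j) ∧ Orth D (D.simple i) (D.neg (D.simple j)) ∧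
    Orth D (D.neg (D.simple i)) (D.simple j) ∧ Orth D (D.neg (D.simple i)) (D.neg (D.simple j))
  /-- the positive roots made negative are the roots of the class -/
  negs : ∀ r, D.IsPosRoot r → D.IsNegRoot (reflWord D v r) → ∃ i ∈ v, r = D.simple i

/-- products of commuting families -/
theorem prod_map_mul_of_commute {G : Type*} [Group G] (v : List ℕ) (a b : ℕ → G)
    (hv : v.Nodup) (hc : ∀ i ∈ v, ∀ j ∈ v, i ≠ j → Commute (b i) (a j)) :
    (v.map fun i => a i * b i).prod = (v.map a).prod * (v.map b).prod := by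
  induction v with
  | nil => simp
  | cons i v ih =>
    have hnd := List.nodup_cons.1 hv
    have ih' := ih hnd.2 (fun x hx y hy hxy => hc x (List.mem_cons_of_mem _ hx) y (List.mem_cons_of_mem _ hy) hxy)
    simp only [List.map_cons, List.prod_cons]
    rw [ih']
    have hcomm : Commute (b i) (v.map a).prod := by
      apply Commute.list_prod_right
      intro x hx
      obtain ⟨j, hj, rfl⟩ := List.mem_map.1 hx
      have hij : i ≠ j := fun h => hnd.1 (h ▸ hj)
      exact hc i List.mem_cons_self j (List.mem_cons_of_mem _ hj) hij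
    calc a i * b i * ((v.map a).prod * (v.map b).prod)
        = a i * (b i * (v.map a).prod) * (v.map b).prod := by group
      _ = a i * ((v.map a).prod * b i) * (v.map b).prod := by rw [hcomm.eq]
      _ = _ := by group

section

variable {D : ChevalleyDatum} (hF : ChevFacts D K)
include hF

theorem xGL_commute (a b : ℕ) (ha : a < D.nroots) (hb : b < D.nroots) (h : Orth D a b) (t u : K) :
    Commute (xGL D hF.xadd a t) (xGL D hF.xadd b u) := by
  have hc := hF.comm a ha b hb h.1 h.2.1 t u
  have hw : D.commWord K a b t u = [] := by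
    unfold ChevalleyDatum.commWord
    rw [h.2.2]
    rfl
  rw [hw, wordMat_nil, mul_one] at hc
  show xGL D hF.xadd a t * xGL D hF.xadd b u = xGL D hF.xadd b u * xGL D hF.xadd a t
  apply Units.ext
  rw [Units.val_mul, Units.val_mul, xGL_val, xGL_val]
  exact hc.symm

/-- `∏ x_{p_i}(f i)` -/
def xs (v : List ℕ) (f : ℕ → K) : GL D.Idx K := (v.map fun i => xGL D hF.xadd (D.simple i) (f i)).prod

/-- `∏ x_{-p_i}(f i)` -/
def ys (v : List ℕ) (f : ℕ → K) : GL D.Idx K :=
  (v.map fun i => xGL D hF.xadd (D.neg (D.simple i)) (f i)).prod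

theorem xs_mem_posUnipotent (v : List ℕ) (hv : ∀ i ∈ v, i < D.rank) (f : ℕ → K) :
    xs hF v f ∈ D.posUnipotent K := by
  unfold xs
  apply Subgroup.list_prod_mem
  intro x hx
  obtain ⟨i, hi, rfl⟩ := List.mem_map.1 hx
  exact xGL_mem_posUnipotent D hF.xadd _ (hF.simple_pos i (hv i hi)) _

theorem ys_mem_negUnipotent (v : List ℕ) (hv : ∀ i ∈ v, i < D.rank) (f : ℕ → K) :
    ys hF v f ∈ D.negUnipotent K := by
  unfold ys
  apply Subgroup.list_prod_mem
  intro x hx
  obtain ⟨i, hi, rfl⟩ := List.mem_map.1 hx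
  exact Subgroup.subset_closure ⟨_, _, hF.sign.neg_of_pos _ (hF.simple_pos i (hv i hi)), xGL_val D hF.xadd _ _⟩

theorem xs_mem_group (v : List ℕ) (f : ℕ → K) : xs hF v f ∈ D.group K := by
  unfold xs
  apply Subgroup.list_prod_mem
  intro x hx
  obtain ⟨i, hi, rfl⟩ := List.mem_map.1 hx
  exact xGL_mem_group D hF.xadd _ _

theorem ys_mem_group (v : List ℕ) (f : ℕ → K) : ys hF v f ∈ D.group K := by
  unfold ys
  apply Subgroup.list_prod_mem
  intro x hx
  obtain ⟨i, hi, rfl⟩ := List.mem_map.1 hx
  exact xGL_mem_group D hF.xadd _ _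

theorem xs_congr (v : List ℕ) (f g : ℕ → K) (h : ∀ i ∈ v, f i = g i) : xs hF v f = xs hF v g := by
  unfold xs
  congr 1
  apply List.map_congr_left
  intro i hi
  rw [h i hi]

theorem ys_congr (v : List ℕ) (f g : ℕ → K) (h : ∀ i ∈ v, f i = g i) : ys hF v f = ys hF v g := by
  unfold ys
  congr 1
  apply List.map_congr_left
  intro i hi
  rw [h i hi]

theorem xs_zero (v : List ℕ) : xs hF v (fun _ => 0) = 1 := by
  unfold xs
  apply List.prod_eq_one
  intro x hx
  obtain ⟨i, hi, rfl⟩ := List.mem_map.1 hx
  exact xGL_zero D hF.xadd _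

theorem ys_zero (v : List ℕ) : ys hF v (fun _ => 0) = 1 := by
  unfold ys
  apply List.prod_eq_one
  intro x hx
  obtain ⟨i, hi, rfl⟩ := List.mem_map.1 hx
  exact xGL_zero D hF.xadd _

theorem xs_single (v : List ℕ) (hnd : v.Nodup) (i : ℕ) (hi : i ∈ v) (a : K) :
    xs hF v (fun j => if j = i then a else 0) = xGL D hF.xadd (D.simple i) a := by
  unfold xs
  induction v with
  | nil => simp at hi
  | cons b v ih =>
    have hnd' := List.nodup_cons.1 hnd
    simp only [List.map_cons, List.prod_cons]
    by_cases hbi : b = i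
    · subst hbi
      rw [if_pos rfl]
      have : (v.map fun j => xGL D hF.xadd (D.simple j) (if j = b then a else 0)).prod = 1 := by
        apply List.prod_eq_one
        intro x hx
        obtain ⟨j, hj, rfl⟩ := List.mem_map.1 hx
        have : j ≠ b := fun h => hnd'.1 (h ▸ hj)
        rw [if_neg this, xGL_zero]
      rw [this, mul_one]
    · rw [if_neg hbi, xGL_zero, one_mul]
      rcases List.mem_cons.1 hi with h | h
      · exact absurd h.symm hbi
      · exact ih hnd'.2 h

theorem ys_single (v : List ℕ) (hnd : v.Nodup) (i : ℕ) (hi : i ∈ v) (a : K) :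
    ys hF v (fun j => if j = i then a else 0) = xGL D hF.xadd (D.neg (D.simple i)) a := by
  unfold ys
  induction v with
  | nil => simp at hi
  | cons b v ih =>
    have hnd' := List.nodup_cons.1 hnd
    simp only [List.map_cons, List.prod_cons]
    by_cases hbi : b = i
    · subst hbi
      rw [if_pos rfl]
      have : (v.map fun j => xGL D hF.xadd (D.neg (D.simple j)) (if j = b then a else 0)).prod = 1 := by
        apply List.prod_eq_one
        intro x hx
        obtain ⟨j, hj, rfl⟩ := List.mem_map.1 hx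
        have : j ≠ b := fun h => hnd'.1 (h ▸ hj)
        rw [if_neg this, xGL_zero]
      rw [this, mul_one]
    · rw [if_neg hbi, xGL_zero, one_mul]
      rcases List.mem_cons.1 hi with h | h
      · exact absurd h.symm hbi
      · exact ih hnd'.2 h

variable {v : List ℕ} (hv : OrthClass D v)
include hv

theorem xs_add (f g : ℕ → K) : xs hF v (fun i => f i + g i) = xs hF v f * xs hF v g := by
  unfold xs
  rw [← prod_map_mul_of_commute v _ _ hv.nodup]
  · congr 1
    apply List.map_congr_left
    intro i hi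
    rw [xGL_mul]
  · intro i hi j hj hij
    exact xGL_commute hF _ _ (hF.simple_lt i (hv.valid i hi)) (hF.simple_lt j (hv.valid j hj))
      (hv.orth i hi j hj hij).1 _ _

theorem ys_add (f g : ℕ → K) : ys hF v (fun i => f i + g i) = ys hF v f * ys hF v g := by
  unfold ys
  rw [← prod_map_mul_of_commute v _ _ hv.nodup]
  · congr 1
    apply List.map_congr_left
    intro i hi
    rw [xGL_mul]
  · intro i hi j hj hij
    exact xGL_commute hF _ _ (hF.neg_simple_lt i (hv.valid i hi)) (hF.neg_simple_lt j (hv.valid j hj))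
      (hv.orth i hi j hj hij).2.2.2 _ _

theorem xs_inv (f : ℕ → K) : (xs hF v f)⁻¹ = xs hF v (fun i => - f i) := by
  apply inv_eq_of_mul_eq_one_right
  rw [← xs_add hF hv]
  simp only [add_neg_cancel]
  exact xs_zero hF v

theorem ys_inv (f : ℕ → K) : (ys hF v f)⁻¹ = ys hF v (fun i => - f i) := by
  apply inv_eq_of_mul_eq_one_right
  rw [← ys_add hF hv]
  simp only [add_neg_cancel]
  exact ys_zero hF v

/-- `n_v = x_v(1) x_{-v}(-1) x_v(1)` -/
theorem nWordGL_eq_xs : nWordGL D hF.xadd v = xs hF v (fun _ => 1) * ys hF v (fun _ => -1) * xs hF v (fun _ => 1) := by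
  have e1 : nWordGL D hF.xadd v = (v.map fun i => nGL D hF.xadd (D.simple i)).prod := by
    clear hv
    induction v with
    | nil => rfl
    | cons i v ih => rw [nWordGL_cons, ih, List.map_cons, List.prod_cons]
  rw [e1]
  have e2 : (v.map fun i => nGL D hF.xadd (D.simple i)) =
      v.map fun i => (xGL D hF.xadd (D.simple i) 1 * xGL D hF.xadd (D.neg (D.simple i)) (-1)) *
        xGL D hF.xadd (D.simple i) 1 := by
    apply List.map_congr_left
    intro i hi
    rw [nGL_eq_nGLt, nGLt_eq, inv_one]
  rw [e2, prod_map_mul_of_commute v _ _ hv.nodup, prod_map_mul_of_commute v _ _ hv.nodup]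
  · rfl
  · intro i hi j hj hij
    exact xGL_commute hF _ _ (hF.neg_simple_lt i (hv.valid i hi)) (hF.simple_lt j (hv.valid j hj))
      (hv.orth i hi j hj hij).2.2.1 _ _
  · intro i hi j hj hij
    have h := hv.orth i hi j hj hij
    exact Commute.mul_right
      (xGL_commute hF _ _ (hF.simple_lt i (hv.valid i hi)) (hF.simple_lt j (hv.valid j hj)) h.1 _ _)
      (xGL_commute hF _ _ (hF.simple_lt i (hv.valid i hi)) (hF.neg_simple_lt j (hv.valid j hj)) h.2.1 _ _)

/-- a root element of a fundamental root lying in the group generated by the other positive root subgroups is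
trivial -/
theorem eq_zero_of_mem_posExcept (i : ℕ) (hi : i < D.rank) (t : K)
    (h : xGL D hF.xadd (D.simple i) t ∈ posExcept D K (D.simple i)) : t = 0 := by
  clear hv
  have h1 := hF.nGL_inv_conj_posExcept i hi _ h
  have h2 := posUnipotent_le_borel D (hF.posExcept_le_posUnipotent i hi h1)
  set n := nGL D hF.xadd (D.simple i) with hn
  have hsq : n * n ∈ D.diagonalSubgroup K := nGL_sq_mem_diagonal D hF.xadd _ (hF.simple_lt i hi)
  have e : xGL D hF.xadd (D.neg (D.simple i)) (-t) =
      (n * n) * (n⁻¹ * xGL D hF.xadd (D.simple i) t * n) * (n * n)⁻¹ := by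
    rw [← hF.nGL_conj_simple i hi t, ← hn]
    group
  have h3 : xGL D hF.xadd (D.neg (D.simple i)) (-t) ∈ D.borelSubgroup K := by
    rw [e]
    exact mul_mem (mul_mem (diagonal_le_borel D hsq) h2) (inv_mem (diagonal_le_borel D hsq))
  have := hF.eq_zero_of_xGL_neg_mem_borel _ (hF.simple_pos i hi) _ h3
  exact neg_eq_zero.1 this

/-- uniqueness of the parameters -/
theorem xs_eq_one (f : ℕ → K) (h : xs hF v f = 1) : ∀ i ∈ v, f i = 0 := by
  intro i hi
  have hir := hv.valid i hi
  have e1 : xs hF v f = xs hF v (fun j => (if j = i then 0 else f j) + (if j = i then f i else 0)) := by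
    apply xs_congr
    intro j _
    by_cases hji : j = i
    · simp [hji]
    · simp [hji]
  rw [e1, xs_add hF hv, xs_single hF v hv.nodup i hi] at h
  apply eq_zero_of_mem_posExcept hF hv i hir
  have e2 : xGL D hF.xadd (D.simple i) (f i) = (xs hF v (fun j => if j = i then 0 else f j))⁻¹ :=
    eq_inv_of_mul_eq_one_right h
  rw [e2]
  apply inv_mem
  unfold xs
  apply Subgroup.list_prod_mem
  intro x hx
  obtain ⟨j, hj, rfl⟩ := List.mem_map.1 hx
  by_cases hji : j = i
  · simp only [hji, if_true]
    rw [xGL_zero]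
    exact one_mem _
  · apply xGL_mem_posExcept D hF.xadd _ _ (hF.simple_pos j (hv.valid j hj))
    intro h'
    exact hji (hF.refl.simple_inj j (hv.valid j hj) i hir h')

theorem xs_injective (f g : ℕ → K) (h : xs hF v f = xs hF v g) : ∀ i ∈ v, f i = g i := by
  intro i hi
  have h1 : xs hF v (fun j => f j + - g j) = 1 := by
    rw [xs_add hF hv, ← xs_inv hF hv, h, mul_inv_cancel]
  have := xs_eq_one hF hv _ h1 i hi
  exact add_neg_eq_zero.1 this

/-- the elements of `U_v⁻` are the products `x_v(f)` -/
theorem exists_xs_of_mem_negPart (u : GL D.Idx K) (hu : u ∈ negPart D hF.xadd v) : ∃ f : ℕ → K, u = xs hF v f := by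
  unfold Chev.negPart at hu
  induction hu using Subgroup.closure_induction with
  | mem x hx =>
    obtain ⟨r, t, hr1, hr2, rfl⟩ := hx
    obtain ⟨i, hi, rfl⟩ := hv.negs r hr1 hr2
    exact ⟨_, (xs_single hF v hv.nodup i hi t).symm⟩
  | one => exact ⟨_, (xs_zero hF v).symm⟩
  | mul x y _ _ hx hy =>
    obtain ⟨f, rfl⟩ := hx
    obtain ⟨g, rfl⟩ := hy
    exact ⟨_, (xs_add hF hv f g).symm⟩
  | inv x _ hx =>
    obtain ⟨f, rfl⟩ := hx
    exact ⟨_, xs_inv hF hv f⟩

theorem xs_mem_negPart (f : ℕ → K)
    (hneg : ∀ i ∈ v, D.IsNegRoot (reflWord D v (D.simple i))) : xs hF v f ∈ negPart D hF.xadd v := by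
  unfold xs
  apply Subgroup.list_prod_mem
  intro x hx
  obtain ⟨i, hi, rfl⟩ := List.mem_map.1 hx
  exact Subgroup.subset_closure ⟨_, _, hF.simple_pos i (hv.valid i hi), hneg i hi, rfl⟩

end

end Cfsg.Agent.Lead.Tw
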