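import Mathlib
import Cfsg.Agent.Lib.Lead.TwClass
import Cfsg.Agent.Lib.Lead.TwBN

/-!
# Fixed points of `σ` on the class subgroups and along reduced chains
-/

set_option autoImplicit false
set_option linter.unusedSectionVars false
set_option linter.unusedSimpArgs false
set_option linter.unusedVariables false

namespace Cfsg.Agent.Lead.Tw

open Cfsg Cfsg.Lie Cfsg.Agent.Lead.Chev

variable {K : Type*} [Field K]

/-- `π` permutes the class `v`, with inverse `π'` -/
structure PermClass (π π' : ℕ → ℕ) (v : List ℕ) : Prop where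
  mem : ∀ i ∈ v, π i ∈ v
  mem' : ∀ i ∈ v, π' i ∈ v
  left : ∀ i ∈ v, π' (π i) = i
  right : ∀ i ∈ v, π (π' i) = i

theorem PermClass.perm {π π' : ℕ → ℕ} {v : List ℕ} (h : PermClass π π' v) (hnd : v.Nodup) :
    (v.map π).Perm v := by
  have hnd' : (v.map π).Nodup := by
    apply List.Nodup.map_on _ hnd
    intro x hx y hy hxy
    rw [← h.left x hx, ← h.left y hy, hxy]
  rw [List.perm_ext_iff_of_nodup hnd' hnd]
  intro a
  constructor
  · intro ha
    obtain ⟨i, hi, rfl⟩ := List.mem_map.1 ha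
    exact h.mem i hi
  · intro ha
    exact List.mem_map.2 ⟨π' a, h.mem' a ha, h.right a ha⟩

namespace Twist

variable {D : ChevalleyDatum} (hF : ChevFacts D K) (T : Twist D K hF.xadd)
include hF

theorem map_list_prod (l : List (GL D.Idx K)) (hl : ∀ x ∈ l, x ∈ D.group K) :
    T.σ l.prod = (l.map T.σ).prod := by
  induction l with
  | nil => simp [T.map_one hF]
  | cons a l ih =>
    have hl' : ∀ x ∈ l, x ∈ D.group K := fun x hx => hl x (List.mem_cons_of_mem _ hx)
    rw [List.prod_cons, T.map_mul _ _ (hl a List.mem_cons_self) (Subgroup.list_prod_mem _ hl'), ih hl',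
      List.map_cons, List.prod_cons]

variable {v : List ℕ} (hv : OrthClass D v) {π' : ℕ → ℕ} (hp : PermClass T.π π' v)
include hv hp

/-- the action of `σ` on `x_v(f)` -/
theorem map_xs (f g : ℕ → K) (hg : ∀ i ∈ v, g (T.π i) = T.c (D.simple i) (f i)) :
    T.σ (xs hF v f) = xs hF v g := by
  unfold xs
  rw [T.map_list_prod hF _ (by
    intro x hx
    obtain ⟨i, hi, rfl⟩ := List.mem_map.1 hx
    exact xGL_mem_group D hF.xadd _ _), List.map_map]
  have e1 : (v.map (T.σ ∘ fun i => xGL D hF.xadd (D.simple i) (f i))) =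
      (v.map T.π).map fun j => xGL D hF.xadd (D.simple j) (g j) := by
    rw [List.map_map]
    apply List.map_congr_left
    intro i hi
    simp only [Function.comp]
    rw [T.map_x _ (hF.simple_lt i (hv.valid i hi)), T.ρ_simple i (hv.valid i hi), hg i hi]
  rw [e1]
  apply List.Perm.prod_eq' ((hp.perm hv.nodup).map _)
  apply List.pairwise_of_forall_mem_list
  intro a ha b hb
  obtain ⟨i, hi, rfl⟩ := List.mem_map.1 ha
  obtain ⟨j, hj, rfl⟩ := List.mem_map.1 hb
  obtain ⟨i', hi', rfl⟩ := List.mem_map.1 hi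
  obtain ⟨j', hj', rfl⟩ := List.mem_map.1 hj
  have hi2 := hp.mem i' hi'
  have hj2 := hp.mem j' hj'
  by_cases hij : T.π i' = T.π j'
  · rw [hij]
    exact Commute.refl _
  · exact xGL_commute hF _ _ (hF.simple_lt _ (hv.valid _ hi2)) (hF.simple_lt _ (hv.valid _ hj2))
      (hv.orth _ hi2 _ hj2 hij).1 _ _

/-- the action of `σ` on `x_{-v}(f)` -/
theorem map_ys (f g : ℕ → K) (hg : ∀ i ∈ v, g (T.π i) = T.c (D.neg (D.simple i)) (f i)) :
    T.σ (ys hF v f) = ys hF v g := by
  unfold ys
  rw [T.map_list_prod hF _ (by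
    intro x hx
    obtain ⟨i, hi, rfl⟩ := List.mem_map.1 hx
    exact xGL_mem_group D hF.xadd _ _), List.map_map]
  have e1 : (v.map (T.σ ∘ fun i => xGL D hF.xadd (D.neg (D.simple i)) (f i))) =
      (v.map T.π).map fun j => xGL D hF.xadd (D.neg (D.simple j)) (g j) := by
    rw [List.map_map]
    apply List.map_congr_left
    intro i hi
    simp only [Function.comp]
    rw [T.map_x _ (hF.neg_simple_lt i (hv.valid i hi)), T.ρ_neg _ (hF.simple_lt i (hv.valid i hi)),
      T.ρ_simple i (hv.valid i hi), hg i hi]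
  rw [e1]
  apply List.Perm.prod_eq' ((hp.perm hv.nodup).map _)
  apply List.pairwise_of_forall_mem_list
  intro a ha b hb
  obtain ⟨i, hi, rfl⟩ := List.mem_map.1 ha
  obtain ⟨j, hj, rfl⟩ := List.mem_map.1 hb
  obtain ⟨i', hi', rfl⟩ := List.mem_map.1 hi
  obtain ⟨j', hj', rfl⟩ := List.mem_map.1 hj
  have hi2 := hp.mem i' hi'
  have hj2 := hp.mem j' hj'
  by_cases hij : T.π i' = T.π j'
  · rw [hij]
    exact Commute.refl _
  · exact xGL_commute hF _ _ (hF.neg_simple_lt _ (hv.valid _ hi2)) (hF.neg_simple_lt _ (hv.valid _ hj2))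
      (hv.orth _ hi2 _ hj2 hij).2.2.2 _ _

/-- the fixed points of `σ` on `U_v⁻` -/
theorem fixed_negPart (u : GL D.Idx K) (hu : u ∈ negPart D hF.xadd v) (hfix : T.σ u = u) :
    ∃ f : ℕ → K, (∀ i ∈ v, f (T.π i) = T.c (D.simple i) (f i)) ∧ u = xs hF v f := by
  obtain ⟨f, rfl⟩ := exists_xs_of_mem_negPart hF hv u hu
  refine ⟨f, ?_, rfl⟩
  set g : ℕ → K := fun j => T.c (D.simple (π' j)) (f (π' j)) with hg
  have h1 := T.map_xs hF hv hp f g (by
    intro i hi
    simp only [hg]
    rw [hp.left i hi])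
  rw [hfix] at h1
  have h2 := xs_injective hF hv f g h1
  intro i hi
  rw [h2 _ (hp.mem i hi)]
  simp only [hg]
  rw [hp.left i hi]

end Twist

/-! ### Induction along a reduced chain -/

namespace Twist

variable {D : ChevalleyDatum} (hF : ChevFacts D K) (T : Twist D K hF.xadd)
include hF

theorem rhoComm_wordOf (S l : List (List ℕ)) (hv : ∀ w ∈ S, ∀ i ∈ w, i < D.rank)
    (hc : ∀ w ∈ S, RhoComm D T.ρ w) (hl : ∀ v ∈ l, v ∈ S) : RhoComm D T.ρ (wordOf l) := by
  induction l with
  | nil => exact rhoComm_nil D T.ρ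
  | cons v l ih =>
    simp only [wordOf]
    exact RhoComm.append (etaOf D) hF.facts (hv v (hl v List.mem_cons_self))
      (ih fun x hx => hl x (List.mem_cons_of_mem _ hx)) (hc v (hl v List.mem_cons_self))

/-- fixed points of `U_w⁻` along a reduced chain lie in any subgroup containing the fixed points of the
factors and the representatives -/
theorem fixed_mem_of_chain [Fintype K] (hS : CorSize D) (hC : CorComb D) (S : List (List ℕ))
    (hv : ∀ w ∈ S, ∀ i ∈ w, i < D.rank) (hc : ∀ w ∈ S, RhoComm D T.ρ w)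
    (G₁ : Subgroup (GL D.Idx K))
    (hn : ∀ w ∈ S, nWordGL D hF.xadd w ∈ G₁ ∧ T.σ (nWordGL D hF.xadd w) = nWordGL D hF.xadd w)
    (hX : ∀ w ∈ S, ∀ b ∈ negPart D hF.xadd w, T.σ b = b → b ∈ G₁)
    (l : List (List ℕ)) (hl : ∀ v ∈ l, v ∈ S) (hred : RedChain D l) :
    ∀ u ∈ negPart D hF.xadd (wordOf l), T.σ u = u → u ∈ G₁ := by
  induction l with
  | nil =>
    intro u hu _
    have : negPart D hF.xadd (wordOf []) = ⊥ := by
      unfold Chev.negPart
      rw [Subgroup.closure_eq_bot_iff]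
      rintro g ⟨r, t, hr1, hr2, rfl⟩
      exact absurd hr2 (hF.sign.not_both _ hr1)
    rw [this, Subgroup.mem_bot] at hu
    rw [hu]
    exact one_mem _
  | cons v l ih =>
    intro u hu hfix
    have hl' : ∀ x ∈ l, x ∈ S := fun x hx => hl x (List.mem_cons_of_mem _ hx)
    have hvS := hl v List.mem_cons_self
    have hvv := hv v hvS
    have hxv := wordOf_valid S l hv hl'
    simp only [wordOf] at hu
    obtain ⟨a, ha, b, hb, rfl⟩ := ChevFacts'.exists_decomp hF hS hC (letters v) (wordOf l) v hxv hred.1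
      (ChevFacts'.wordIn_letters hF v hvv) u hu
    obtain ⟨fa, fb⟩ := T.fixed_decomp hF v hvv (wordOf l) hxv (T.rhoComm_wordOf hF S l hv hc hl')
      (hc v hvS) (hn v hvS).2 a b ha hb hfix
    have h1 := ih hl' hred.2 a ha fa
    have h2 := hX v hvS b hb fb
    exact mul_mem (mul_mem (mul_mem (inv_mem (hn v hvS).1) h1) (hn v hvS).1) h2

/-- a word mapping the positive roots to negative roots: `U_w⁻ = U` -/
theorem negPart_eq_posUnipotent (w : List ℕ) (h : ∀ r, D.IsPosRoot r → D.IsNegRoot (reflWord D w r)) :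
    negPart D hF.xadd w = D.posUnipotent K := by
  apply le_antisymm (hF.negPart_le_posUnipotent w)
  unfold ChevalleyDatum.posUnipotent Chev.negPart
  apply Subgroup.closure_mono
  rintro g ⟨r, t, hr, hg⟩
  exact ⟨r, t, hr, h r hr, Units.ext (by rw [hg, xGL_val])⟩

end Twist

end Cfsg.Agent.Lead.Tw
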