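import Mathlib
import Cfsg.Agent.Lib.Lead.TwFix

/-!
# Twisted groups all of whose classes consist of pairwise strongly orthogonal roots

The group generated by the fixed points of `σ` on the groups `X_v`, `X_{-v}`, `v` running over the classes, satisfies
the hypotheses `TwGroup`.
-/

set_option autoImplicit false
set_option linter.unusedSectionVars false
set_option linter.unusedSimpArgs false
set_option linter.unusedVariables false

namespace Cfsg.Agent.Lead.Tw

open Cfsg Cfsg.Lie Cfsg.Agent.Lead.Chev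

variable {K : Type*} [Field K]

/-- conjugation by `n_w` maps `U_w⁻` into `V` -/
theorem ChevFacts'.conj_negPart_mem_negUnipotent {D : ChevalleyDatum} (hF : ChevFacts D K) (w : List ℕ)
    (hw : ∀ i ∈ w, i < D.rank) (a : GL D.Idx K) (ha : a ∈ negPart D hF.xadd w) :
    nWordGL D hF.xadd w * a * (nWordGL D hF.xadd w)⁻¹ ∈ D.negUnipotent K := by
  have hle : negPart D hF.xadd w ≤
      (D.negUnipotent K).comap (MulAut.conj (nWordGL D hF.xadd w)).toMonoidHom := by
    unfold Chev.negPart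
    rw [Subgroup.closure_le]
    rintro g ⟨r, t, hr1, hr2, rfl⟩
    refine Subgroup.mem_comap.2 ?_
    rw [MulEquiv.coe_toMonoidHom, MulAut.conj_apply, nWordGL_conj D hF.xadd (etaOf D) hF.nsimple w hw r hr1.1]
    exact Subgroup.subset_closure ⟨_, _, hr2, xGL_val D hF.xadd _ _⟩
  have := hle ha
  rwa [Subgroup.mem_comap, MulEquiv.coe_toMonoidHom, MulAut.conj_apply] at this

section

variable {D : ChevalleyDatum} (hF : ChevFacts D K) (T : Twist D K hF.xadd)

/-- parameters of the fixed elements of `X_v` -/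
def FixPos (v : List ℕ) (f : ℕ → K) : Prop := ∀ i ∈ v, f (T.π i) = T.c (D.simple i) (f i)

/-- parameters of the fixed elements of `X_{-v}` -/
def FixNeg (v : List ℕ) (f : ℕ → K) : Prop := ∀ i ∈ v, f (T.π i) = T.c (D.neg (D.simple i)) (f i)

/-- the group generated by the fixed points on the class subgroups -/
def orthGroup (S : List (List ℕ)) : Subgroup (GL D.Idx K) :=
  Subgroup.closure ({g | ∃ v ∈ S, ∃ f : ℕ → K, FixPos hF T v f ∧ g = xs hF v f} ∪
    {g | ∃ v ∈ S, ∃ f : ℕ → K, FixNeg hF T v f ∧ g = ys hF v f})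

/-- the table conditions -/
structure OrthData (π' : ℕ → ℕ) (S l₀ : List (List ℕ)) : Prop where
  cls : ∀ v ∈ S, OrthClass D v
  perm : ∀ v ∈ S, PermClass T.π π' v
  gen : GenData D T.ρ T.π S
  ne_nil : ∀ v ∈ S, v ≠ []
  c_one : ∀ v ∈ S, ∀ i ∈ v, T.c (D.simple i) 1 = 1
  c_neg_one : ∀ v ∈ S, ∀ i ∈ v, T.c (D.neg (D.simple i)) (-1) = -1
  s_inj : ∀ w ∈ S, ∀ w' ∈ S, (∀ r < D.nroots, reflWord D w r = reflWord D w' r) → w = w'
  sub : ∀ w ∈ S, ∀ v : List ℕ, v.Sublist w → RhoComm D T.ρ v →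
    (∀ r < D.nroots, reflWord D v r = r) ∨ (∀ r < D.nroots, reflWord D v r = reflWord D w r)
  chain_mem : ∀ v ∈ l₀, v ∈ S
  chain_red : RedChain D l₀
  chain_long : ∀ r, D.IsPosRoot r → D.IsNegRoot (reflWord D (wordOf l₀) r)

variable {hF T}
variable {π' : ℕ → ℕ} {S l₀ : List (List ℕ)} (h : OrthData hF T π' S l₀)
include h

theorem OrthData.xs_mem (v : List ℕ) (hv : v ∈ S) (f : ℕ → K) (hf : FixPos hF T v f) :
    xs hF v f ∈ orthGroup hF T S :=
  Subgroup.subset_closure (Or.inl ⟨v, hv, f, hf, rfl⟩)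

theorem OrthData.ys_mem (v : List ℕ) (hv : v ∈ S) (f : ℕ → K) (hf : FixNeg hF T v f) :
    ys hF v f ∈ orthGroup hF T S :=
  Subgroup.subset_closure (Or.inr ⟨v, hv, f, hf, rfl⟩)

theorem OrthData.le_group : orthGroup hF T S ≤ D.group K := by
  unfold orthGroup
  rw [Subgroup.closure_le]
  rintro g (⟨v, hv, f, hf, rfl⟩ | ⟨v, hv, f, hf, rfl⟩)
  · exact xs_mem_group hF v f
  · exact ys_mem_group hF v f

theorem OrthData.fixed (g : GL D.Idx K) (hg : g ∈ orthGroup hF T S) : T.σ g = g := by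
  have key : ∀ g ∈ orthGroup hF T S, g ∈ D.group K ∧ T.σ g = g := by
    intro g hg
    unfold orthGroup at hg
    induction hg using Subgroup.closure_induction with
    | mem x hx =>
      rcases hx with ⟨v, hv, f, hf, rfl⟩ | ⟨v, hv, f, hf, rfl⟩
      · exact ⟨xs_mem_group hF v f, T.map_xs hF (h.cls v hv) (h.perm v hv) f f hf⟩
      · exact ⟨ys_mem_group hF v f, T.map_ys hF (h.cls v hv) (h.perm v hv) f f hf⟩
    | one => exact ⟨one_mem _, T.map_one hF⟩
    | mul x y _ _ hx hy =>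
      refine ⟨mul_mem hx.1 hy.1, ?_⟩
      rw [T.map_mul x y hx.1 hy.1, hx.2, hy.2]
    | inv x _ hx =>
      refine ⟨inv_mem hx.1, ?_⟩
      rw [T.map_inv hF x hx.1, hx.2]
  exact (key g hg).2

theorem OrthData.s_mem (v : List ℕ) (hv : v ∈ S) : nWordGL D hF.xadd v ∈ orthGroup hF T S := by
  rw [nWordGL_eq_xs hF (h.cls v hv)]
  have h1 : xs hF v (fun _ => (1 : K)) ∈ orthGroup hF T S :=
    h.xs_mem v hv _ (fun i hi => (h.c_one v hv i hi).symm)
  have h2 : ys hF v (fun _ => (-1 : K)) ∈ orthGroup hF T S :=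
    h.ys_mem v hv _ (fun i hi => (h.c_neg_one v hv i hi).symm)
  exact mul_mem (mul_mem h1 h2) h1

theorem OrthData.neg_simple (v : List ℕ) (hv : v ∈ S) :
    ∀ i ∈ v, D.IsNegRoot (reflWord D v (D.simple i)) := by
  intro i hi
  have hi' := h.gen.valid v hv i hi
  exact h.gen.long v hv _ (hF.simple_pos i hi') (hF.inSpan_simple (letters v) i hi' hi)

theorem OrthData.ne (v : List ℕ) (hv : v ∈ S) :
    ∃ u ∈ D.posUnipotent K, T.σ u = u ∧
      nWordGL D hF.xadd v * u * nWordGL D hF.xadd v ∉ D.borelSubgroup K := by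
  have hvv := h.gen.valid v hv
  refine ⟨xs hF v (fun _ => 1), xs_mem_posUnipotent hF v hvv _,
    T.map_xs hF (h.cls v hv) (h.perm v hv) _ _ (fun i hi => (h.c_one v hv i hi).symm), ?_⟩
  intro hb
  set n := nWordGL D hF.xadd v with hn
  set u := xs hF v (fun _ => (1 : K)) with hu
  have huN : u ∈ negPart D hF.xadd v := xs_mem_negPart hF (h.cls v hv) _ (h.neg_simple v hv)
  have ha := ChevFacts'.conj_negPart_mem_negUnipotent hF v hvv u huN
  have hnn : n * n ∈ D.diagonalSubgroup K := by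
    have hvv2 : ∀ i ∈ v ++ v, i < D.rank := by
      intro i hi
      rcases List.mem_append.1 hi with h1 | h1 <;> exact hvv i h1
    have := hF.nWordGL_inv_mul_mem_diagonal [] (v ++ v) (by simp) hvv2 (by
      intro r hr
      rw [h.gen.sq v hv r hr]
      rfl)
    rwa [nWordGL_nil, inv_one, one_mul, nWordGL_append] at this
  have e : n * u * n = (n * u * n⁻¹) * (n * n) := by group
  rw [e] at hb
  have h1 := hF.eq_one_of_neg_mul_diag_mem_borel _ ha _ hnn hb
  have h2 : u = 1 := by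
    have : u = n⁻¹ * (n * u * n⁻¹) * n := by group
    rw [this, h1]
    group
  obtain ⟨i, hi⟩ := List.exists_mem_of_ne_nil v (h.ne_nil v hv)
  have := xs_eq_one hF (h.cls v hv) _ h2 i hi
  exact one_ne_zero this

/-- **The twisted group of an orthogonal datum satisfies `TwGroup`.** -/
theorem OrthData.twGroup [Fintype K] (hS : CorSize D) (hC : CorComb D) : TwGroup hF T (orthGroup hF T S) S where
  le_group := h.le_group
  fixed := h.fixed
  U_le := by
    intro u hu hfix
    have hn : ∀ w ∈ S, nWordGL D hF.xadd w ∈ orthGroup hF T S ∧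
        T.σ (nWordGL D hF.xadd w) = nWordGL D hF.xadd w :=
      fun w hw => ⟨h.s_mem w hw, h.fixed _ (h.s_mem w hw)⟩
    have hX : ∀ w ∈ S, ∀ b ∈ negPart D hF.xadd w, T.σ b = b → b ∈ orthGroup hF T S := by
      intro w hw b hb hfb
      obtain ⟨f, hf, rfl⟩ := T.fixed_negPart hF (h.cls w hw) (h.perm w hw) b hb hfb
      exact h.xs_mem w hw f hf
    apply T.fixed_mem_of_chain hF hS hC S h.gen.valid h.gen.comm _ hn hX l₀ h.chain_mem h.chain_red u _ hfix
    rw [Twist.negPart_eq_posUnipotent hF _ h.chain_long]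
    exact hu
  s_valid := h.gen.valid
  s_mem := h.s_mem
  s_sq := h.gen.sq
  s_inj := h.s_inj
  gen := by
    intro w hw hc
    obtain ⟨l, hl, _, hact⟩ := ChevFacts'.exists_redChain hF hS T.ρ T.π S h.gen T.ρ_lt (T.ρ_negRoot hF)
      T.ρ_simple T.π_lt w hw hc
    refine ⟨l.reverse, fun v hv => hl v (List.mem_reverse.1 hv), ?_⟩
    intro r hr
    rw [hact r hr, wordOf_eq_flatten]
  sub := h.sub
  ne := h.ne

end

end Cfsg.Agent.Lead.Tw
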