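import Mathlib
import Cfsg.Agent.Lib.Lead.TwOrth

/-!
# Counting the fixed points of `σ` on `U`
-/

set_option autoImplicit false
set_option linter.unusedSectionVars false
set_option linter.unusedSimpArgs false
set_option linter.unusedVariables false

namespace Cfsg.Agent.Lead.Tw

open Cfsg Cfsg.Lie Cfsg.Agent.Lead.Chev

variable {K : Type*} [Field K]

/-- the fixed points of `σ` in a subgroup -/
def FixedIn {D : ChevalleyDatum} {hX : XAdd D K} (T : Twist D K hX) (H : Subgroup (GL D.Idx K)) : Type _ :=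
  {u : GL D.Idx K // u ∈ H ∧ T.σ u = u}

namespace Twist

variable {D : ChevalleyDatum} (hF : ChevFacts D K) (T : Twist D K hF.xadd)
include hF

/-- the fixed points of a reduced product -/
theorem card_fixed_append [Fintype K] (hS : CorSize D) (hC : CorComb D) (J : Set ℕ) (x y : List ℕ)
    (hx : ∀ i ∈ x, i < D.rank) (hxJ : KPos D J x) (hy : WordIn D J y)
    (hcx : RhoComm D T.ρ x) (hcy : RhoComm D T.ρ y)
    (hny : T.σ (nWordGL D hF.xadd y) = nWordGL D hF.xadd y) :
    Nat.card (FixedIn T (negPart D hF.xadd (x ++ y))) =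
      Nat.card (FixedIn T (negPart D hF.xadd x)) * Nat.card (FixedIn T (negPart D hF.xadd y)) := by
  have hyv := hy.valid
  have hnG := nWordGL_mem_group D hF.xadd y
  rw [← Nat.card_prod]
  let f : FixedIn T (negPart D hF.xadd x) × FixedIn T (negPart D hF.xadd y) →
      FixedIn T (negPart D hF.xadd (x ++ y)) := fun p =>
    ⟨(nWordGL D hF.xadd y)⁻¹ * p.1.1 * nWordGL D hF.xadd y * p.2.1,
      mul_mem (ChevFacts'.conj_inv_negPart_mem hF hS J x y hx hxJ hy _ p.1.2.1)
        (ChevFacts'.negPart_le_append hF hS J x y hx hxJ hy p.2.2.1), by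
      have haG := hF.posUnipotent_le_group (hF.negPart_le_posUnipotent x p.1.2.1)
      have hbG := hF.posUnipotent_le_group (hF.negPart_le_posUnipotent y p.2.2.1)
      rw [T.map_mul _ _ (mul_mem (mul_mem (inv_mem hnG) haG) hnG) hbG,
        T.map_mul _ _ (mul_mem (inv_mem hnG) haG) hnG, T.map_mul _ _ (inv_mem hnG) haG,
        T.map_inv hF _ hnG, hny, p.1.2.2, p.2.2.2]⟩
  have hinj : Function.Injective f := by
    rintro ⟨a, b⟩ ⟨a', b'⟩ h
    have h' : (nWordGL D hF.xadd y)⁻¹ * a.1 * nWordGL D hF.xadd y * b.1 =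
        (nWordGL D hF.xadd y)⁻¹ * a'.1 * nWordGL D hF.xadd y * b'.1 := congrArg Subtype.val h
    obtain ⟨h1, h2⟩ := ChevFacts'.decomp_unique hF y hyv a.1 a'.1 b.1 b'.1
      (hF.negPart_le_posUnipotent x a.2.1) (hF.negPart_le_posUnipotent x a'.2.1) b.2.1 b'.2.1 h'
    exact Prod.ext (Subtype.ext h1) (Subtype.ext h2)
  have hsurj : Function.Surjective f := by
    rintro ⟨u, hu, hfix⟩
    obtain ⟨a, ha, b, hb, rfl⟩ := ChevFacts'.exists_decomp hF hS hC J x y hx hxJ hy u hu
    obtain ⟨fa, fb⟩ := T.fixed_decomp hF y hyv x hx hcx hcy hny a b ha hb hfix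
    exact ⟨(⟨a, ha, fa⟩, ⟨b, hb, fb⟩), rfl⟩
  exact (Nat.card_congr (Equiv.ofBijective f ⟨hinj, hsurj⟩)).symm

/-- the fixed points along a reduced chain -/
theorem card_fixed_chain [Fintype K] (hS : CorSize D) (hC : CorComb D) (S : List (List ℕ))
    (hv : ∀ w ∈ S, ∀ i ∈ w, i < D.rank) (hc : ∀ w ∈ S, RhoComm D T.ρ w)
    (hn : ∀ w ∈ S, T.σ (nWordGL D hF.xadd w) = nWordGL D hF.xadd w)
    (l : List (List ℕ)) (hl : ∀ v ∈ l, v ∈ S) (hred : RedChain D l) :
    Nat.card (FixedIn T (negPart D hF.xadd (wordOf l))) =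
      (l.map fun v => Nat.card (FixedIn T (negPart D hF.xadd v))).prod := by
  induction l with
  | nil =>
    have : negPart D hF.xadd (wordOf []) = ⊥ := by
      unfold Chev.negPart
      rw [Subgroup.closure_eq_bot_iff]
      rintro g ⟨r, t, hr1, hr2, rfl⟩
      exact absurd hr2 (hF.sign.not_both _ hr1)
    rw [List.map_nil, List.prod_nil, this]
    haveI : Subsingleton (FixedIn T (⊥ : Subgroup (GL D.Idx K))) :=
      ⟨fun a b => Subtype.ext (by rw [Subgroup.mem_bot.1 a.2.1, Subgroup.mem_bot.1 b.2.1])⟩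
    haveI : Nonempty (FixedIn T (⊥ : Subgroup (GL D.Idx K))) := ⟨⟨1, one_mem _, T.map_one hF⟩⟩
    exact Nat.card_unique
  | cons v l ih =>
    have hl' : ∀ x ∈ l, x ∈ S := fun x hx => hl x (List.mem_cons_of_mem _ hx)
    have hvS := hl v List.mem_cons_self
    have hvv := hv v hvS
    have hxv := wordOf_valid S l hv hl'
    simp only [wordOf, List.map_cons, List.prod_cons]
    rw [T.card_fixed_append hF hS hC (letters v) (wordOf l) v hxv hred.1
      (ChevFacts'.wordIn_letters hF v hvv) (T.rhoComm_wordOf hF S l hv hc hl') (hc v hvS) (hn v hvS),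
      ih hl' hred.2, mul_comm]

variable {v : List ℕ} (hv : OrthClass D v) {π' : ℕ → ℕ} (hp : PermClass T.π π' v)
include hv hp

/-- the fixed points of a class subgroup, counted through one coordinate -/
theorem card_fixed_class (hneg : ∀ i ∈ v, D.IsNegRoot (reflWord D v (D.simple i))) (i₀ : ℕ) (hi₀ : i₀ ∈ v)
    (A : Set K) (hA : ∀ t, t ∈ A ↔ ∃ φ : ℕ → K, FixPos hF T v φ ∧ φ i₀ = t)
    (hdet : ∀ φ ψ : ℕ → K, FixPos hF T v φ → FixPos hF T v ψ → φ i₀ = ψ i₀ → ∀ i ∈ v, φ i = ψ i) :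
    Nat.card (FixedIn T (negPart D hF.xadd v)) = Nat.card A := by
  have hex : ∀ u : FixedIn T (negPart D hF.xadd v), ∃ φ : ℕ → K, FixPos hF T v φ ∧ u.1 = xs hF v φ :=
    fun u => T.fixed_negPart hF hv hp u.1 u.2.1 u.2.2
  let g : FixedIn T (negPart D hF.xadd v) → A := fun u =>
    ⟨(hex u).choose i₀, (hA _).2 ⟨(hex u).choose, (hex u).choose_spec.1, rfl⟩⟩
  have hinj : Function.Injective g := by
    intro u u' h
    have h1 : (hex u).choose i₀ = (hex u').choose i₀ := congrArg Subtype.val h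
    have h2 := hdet _ _ (hex u).choose_spec.1 (hex u').choose_spec.1 h1
    apply Subtype.ext
    rw [(hex u).choose_spec.2, (hex u').choose_spec.2]
    exact xs_congr hF v _ _ h2
  have hsurj : Function.Surjective g := by
    rintro ⟨t, ht⟩
    obtain ⟨φ, hφ, rfl⟩ := (hA t).1 ht
    let u : FixedIn T (negPart D hF.xadd v) :=
      ⟨xs hF v φ, xs_mem_negPart hF hv φ hneg, T.map_xs hF hv hp φ φ hφ⟩
    refine ⟨u, Subtype.ext ?_⟩
    show (hex u).choose i₀ = φ i₀
    have h1 : xs hF v φ = xs hF v (hex u).choose := (hex u).choose_spec.2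
    exact (xs_injective hF hv _ _ h1 i₀ hi₀).symm
  exact Nat.card_congr (Equiv.ofBijective g ⟨hinj, hsurj⟩)

end Twist

/-- product of powers along a list -/
theorem prod_map_pow (q : ℕ) (l : List (List ℕ)) (g : List ℕ → ℕ) (h : ∀ v ∈ l, g v = q ^ v.length) :
    (l.map g).prod = q ^ (l.map List.length).sum := by
  induction l with
  | nil => simp
  | cons v l ih =>
    rw [List.map_cons, List.prod_cons, List.map_cons, List.sum_cons, pow_add, h v List.mem_cons_self,
      ih fun x hx => h x (List.mem_cons_of_mem _ hx)]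

section

variable {D : ChevalleyDatum} {hF : ChevFacts D K} {T : Twist D K hF.xadd}
  {π' : ℕ → ℕ} {S l₀ : List (List ℕ)} (h : OrthData hF T π' S l₀)
include h

/-- `U ∩ G¹` is the set of fixed points of `σ` on `U` -/
theorem OrthData.card_posUnipotent_inf [Fintype K] (hS : CorSize D) (hC : CorComb D) :
    Nat.card ↥(D.posUnipotent K ⊓ orthGroup hF T S) =
      (l₀.map fun v => Nat.card (FixedIn T (negPart D hF.xadd v))).prod := by
  have hG := h.twGroup hS hC
  rw [← T.card_fixed_chain hF hS hC S h.gen.valid h.gen.comm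
    (fun w hw => h.fixed _ (h.s_mem w hw)) l₀ h.chain_mem h.chain_red,
    Twist.negPart_eq_posUnipotent hF _ h.chain_long]
  apply Nat.card_congr
  apply Equiv.subtypeEquivRight
  intro u
  constructor
  · rintro ⟨h1, h2⟩
    exact ⟨h1, h.fixed u h2⟩
  · rintro ⟨h1, h2⟩
    exact ⟨h1, hG.U_le u h1 h2⟩

end

end Cfsg.Agent.Lead.Tw
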