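import Mathlib
import Cfsg.Agent.Lib.Lead.ChevBV
import Cfsg.Agent.Lib.Lead.ChevBN4

/-!
The normal core of `B` in the Chevalley group is trivial.
-/

set_option autoImplicit false
set_option linter.unusedSectionVars false
set_option linter.unusedSimpArgs false
set_option linter.unusedVariables false

namespace Cfsg.Agent.Lead.Chev

open Cfsg Cfsg.Lie

variable {F : Type*} [Field F]

theorem chi_neg (D : ChevalleyDatum) (hneg : ∀ i < D.rank, ∀ s < D.nroots, D.cartan i (D.neg s) = - D.cartan i s)
    (c : ℕ → F) (s : ℕ) (hs : s < D.nroots) : chi D c (D.neg s) = (chi D c s)⁻¹ := by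
  unfold chi
  have h1 : (List.range D.rank).map (fun i => c i ^ D.cartan i (D.neg s)) =
      (List.range D.rank).map (fun i => (c i ^ D.cartan i s)⁻¹) := by
    apply List.map_congr_left
    intro i hi
    rw [hneg i (List.mem_range.1 hi) s hs, zpow_neg]
  rw [h1]
  generalize (List.range D.rank) = l
  induction l with
  | nil => simp
  | cons a l ih => rw [List.map_cons, List.prod_cons, ih, List.map_cons, List.prod_cons, mul_inv]

namespace ChevFacts

variable {D : ChevalleyDatum} (hF : ChevFacts D F)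
include hF

/-- conjugation of a root element by `T(c)` -/
theorem Tmat_conj_xGL (h : GL D.Idx F) (c : ℕ → F) (hc : ∀ i < D.rank, c i ≠ 0)
    (hh : (h : Matrix D.Idx D.Idx F) = Tmat D c) (s : ℕ) (hs : s < D.nroots) (t : F) :
    h * xGL D hF.xadd s t * h⁻¹ = xGL D hF.xadd s (chi D c s * t) := by
  rw [mul_inv_eq_iff_eq_mul]
  apply Units.ext
  rw [Units.val_mul, Units.val_mul, hh, xGL_val, xGL_val]
  exact Tmat_conj D hF.hconj s hs c hc t

/-- an element of `G` all of whose conjugates lie in `B` is trivial -/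
theorem eq_one_of_conj_mem_borel (k : GL D.Idx F) (hk : ∀ g ∈ D.group F, g * k * g⁻¹ ∈ D.borelSubgroup F) :
    k = 1 := by
  have hkB : k ∈ D.borelSubgroup F := by
    have := hk 1 (one_mem _)
    simpa using this
  obtain ⟨w, hw, hw1, hw2⟩ := hF.w0
  obtain ⟨u, hu, h, hh, rfl⟩ := (hF.mem_borel_iff k).1 hkB
  -- step 1: `u = 1`
  have hmap := map_conj_posUnipotent D hF.xadd (etaOf D) hF.nsimple w hw hw1 hw2
  have hv : nWordGL D hF.xadd w * u * (nWordGL D hF.xadd w)⁻¹ ∈ D.negUnipotent F := by
    rw [← hmap]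
    exact ⟨u, hu, rfl⟩
  have hh' := nWordGL_conj_mem_diagonal D hF.xadd (etaOf D) hF.nsimple w hw h hh
  have h1 := hk _ (nWordGL_mem_group D hF.xadd w)
  have e1 : nWordGL D hF.xadd w * (u * h) * (nWordGL D hF.xadd w)⁻¹ =
      (nWordGL D hF.xadd w * u * (nWordGL D hF.xadd w)⁻¹) *
        (nWordGL D hF.xadd w * h * (nWordGL D hF.xadd w)⁻¹) := by group
  rw [e1] at h1
  have h2 := hF.eq_one_of_neg_mul_diag_mem_borel _ hv _ hh' h1
  have hu1 : u = 1 := by
    have h2' : nWordGL D hF.xadd w * u = nWordGL D hF.xadd w := by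
      have := mul_inv_eq_one.1 h2
      exact this
    exact mul_left_cancel (a := nWordGL D hF.xadd w) (by rw [h2', mul_one])
  subst hu1
  rw [one_mul] at hk ⊢
  -- step 2: all character values of `h` are `1`
  obtain ⟨c, hc, hgc⟩ := exists_Tmat_of_mem D hF.hall h hh
  have hneg : ∀ s, D.IsNegRoot s → chi D c s = 1 := by
    intro s hs
    have h3 := hk _ (xGL_mem_group D hF.xadd s 1)
    have h4 : xGL D hF.xadd s 1 * h * (xGL D hF.xadd s 1)⁻¹ * h⁻¹ ∈ D.borelSubgroup F :=
      mul_mem h3 (inv_mem (diagonal_le_borel D hh))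
    have e2 : xGL D hF.xadd s 1 * h * (xGL D hF.xadd s 1)⁻¹ * h⁻¹ =
        xGL D hF.xadd s 1 * (h * xGL D hF.xadd s (-1) * h⁻¹) := by
      rw [xGL_inv]
      group
    rw [e2, hF.Tmat_conj_xGL h c hc hgc s hs.1, xGL_mul] at h4
    have hp := hF.sign.pos_of_neg s hs
    have hnn := hF.sign.neg_neg s hs.1
    rw [← hnn] at h4
    have h5 := hF.eq_zero_of_xGL_neg_mem_borel _ hp _ h4
    rw [hnn] at h5
    have : chi D c s = 1 := by
      have : 1 - chi D c s = 0 := by
        rw [← h5]
        ring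
      exact (sub_eq_zero.1 this).symm
    exact this
  have hall : ∀ s < D.nroots, chi D c s = 1 := by
    intro s hs
    rcases hF.sign.pos_or_neg s hs with hp | hn
    · have h6 := hneg _ (hF.sign.neg_of_pos s hp)
      rw [chi_neg D hF.cartan_neg c s hs, inv_eq_one] at h6
      exact h6
    · exact hneg s hn
  apply Units.ext
  rw [hgc, Units.val_one, ← Matrix.diagonal_one]
  unfold Tmat
  congr 1
  funext idx
  rcases idx with j | v
  · rfl
  · simp only [Sum.elim_inr]
    exact hall v.val v.2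

/-- the normal core of `B` in `G` is trivial -/
theorem normalCore_borel : ((D.borelSubgroup F).subgroupOf (D.group F)).normalCore = ⊥ := by
  rw [eq_bot_iff]
  intro k hk
  rw [Subgroup.mem_bot]
  apply Subtype.ext
  rw [Subgroup.coe_one]
  apply hF.eq_one_of_conj_mem_borel
  intro g hg
  have := hk ⟨g, hg⟩
  exact this

end ChevFacts

end Cfsg.Agent.Lead.Chev
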