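import Mathlib
import Cfsg.Agent.Lib.Lead.TwOrth
import Cfsg.Agent.Lib.Lead.ChevCore

/-!
# The normal core of `B¹` in a twisted group is trivial
-/

set_option autoImplicit false
set_option linter.unusedSectionVars false
set_option linter.unusedSimpArgs false
set_option linter.unusedVariables false

namespace Cfsg.Agent.Lead.Tw

open Cfsg Cfsg.Lie Cfsg.Agent.Lead.Chev

variable {K : Type*} [Field K]

namespace ChevFacts'

variable {D : ChevalleyDatum} (hF : ChevFacts D K)
include hF

/-- an element commuting with the fundamental root subgroups and their negatives centralises `G` -/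
theorem commute_group (h : GL D.Idx K)
    (hpos : ∀ i < D.rank, ∀ t : K, Commute h (xGL D hF.xadd (D.simple i) t))
    (hneg : ∀ i < D.rank, ∀ t : K, Commute h (xGL D hF.xadd (D.neg (D.simple i)) t)) :
    ∀ g ∈ D.group K, Commute h g := by
  have hn : ∀ i < D.rank, Commute h (nGL D hF.xadd (D.simple i)) := by
    intro i hi
    rw [nGL_eq_nGLt, nGLt_eq]
    exact ((hpos i hi _).mul_right (hneg i hi _)).mul_right (hpos i hi _)
  have hw : ∀ w : List ℕ, (∀ i ∈ w, i < D.rank) → Commute h (nWordGL D hF.xadd w) := by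
    intro w hw
    induction w with
    | nil =>
      rw [nWordGL_nil]
      exact Commute.one_right _
    | cons i w ih =>
      rw [nWordGL_cons]
      exact (hn i (hw i List.mem_cons_self)).mul_right (ih fun j hj => hw j (List.mem_cons_of_mem _ hj))
  have hx : ∀ r < D.nroots, ∀ t : K, Commute h (xGL D hF.xadd r t) := by
    intro r hr t
    obtain ⟨i, hi, w, hwv, rfl⟩ := hF.orbit r hr
    have hs := signWord_sq D (etaOf D) w (fun j hj s => (hF.nsimple j (hwv j hj)).sign s) (D.simple i)
    have e := nWordGL_conj D hF.xadd (etaOf D) hF.nsimple w hwv (D.simple i) (hF.simple_lt i hi)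
      (((signWord D (etaOf D) w (D.simple i) : ℤ) : K) * t)
    have e2 : ((signWord D (etaOf D) w (D.simple i) : ℤ) : K) *
        (((signWord D (etaOf D) w (D.simple i) : ℤ) : K) * t) = t := by
      rcases hs with h1 | h1 <;> rw [h1] <;> simp
    rw [e2] at e
    rw [← e]
    exact ((hw w hwv).mul_right (hpos i hi _)).mul_right (hw w hwv).inv_right
  intro g hg
  unfold ChevalleyDatum.group at hg
  induction hg using Subgroup.closure_induction with
  | mem x hx' =>
    obtain ⟨r, t, hx'⟩ := hx'
    have hxe : x = xGL D hF.xadd r.val t := by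
      apply Units.ext
      rw [hx', xGL_val, x_of_lt D r.val r.2]
    rw [hxe]
    exact hx r.val r.2 t
  | one => exact Commute.one_right _
  | mul x y _ _ hx hy => exact hx.mul_right hy
  | inv x _ hx => exact hx.inv_right

/-- `U ∩ H = 1` -/
theorem eq_one_of_mem_posUnipotent_of_mem_diagonal (u : GL D.Idx K) (hu : u ∈ D.posUnipotent K)
    (hh : u ∈ D.diagonalSubgroup K) : u = 1 := by
  obtain ⟨c, hc, e⟩ := exists_Tmat_of_mem D hF.hall u hh
  apply Units.ext
  rw [Units.val_one, e, ← Matrix.diagonal_one]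
  unfold Tmat
  congr 1
  funext i
  have h1 := hF.posUnipotent_entry u hu i i le_rfl
  rw [if_pos rfl, e] at h1
  unfold Tmat at h1
  rw [Matrix.diagonal_apply_eq] at h1
  exact h1

/-- conjugation of a class element by a diagonal element -/
theorem conj_xs (h : GL D.Idx K) (c : ℕ → K) (hc : ∀ i < D.rank, c i ≠ 0)
    (hh : (h : Matrix D.Idx D.Idx K) = Tmat D c) (v : List ℕ) (hv : ∀ i ∈ v, i < D.rank) (φ : ℕ → K) :
    h * xs hF v φ * h⁻¹ = xs hF v (fun i => chi D c (D.simple i) * φ i) := by
  unfold xs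
  induction v with
  | nil => simp
  | cons i v ih =>
    have hv' : ∀ j ∈ v, j < D.rank := fun j hj => hv j (List.mem_cons_of_mem _ hj)
    simp only [List.map_cons, List.prod_cons]
    rw [← ih hv', ← hF.Tmat_conj_xGL h c hc hh (D.simple i) (hF.simple_lt i (hv i List.mem_cons_self))]
    group

end ChevFacts'

section

variable {D : ChevalleyDatum} {hF : ChevFacts D K} {T : Twist D K hF.xadd}
  {π' : ℕ → ℕ} {S l₀ : List (List ℕ)} (h : OrthData hF T π' S l₀)
include h

theorem OrthData.nWordGL_wordOf_mem (l : List (List ℕ)) (hl : ∀ v ∈ l, v ∈ S) :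
    nWordGL D hF.xadd (wordOf l) ∈ orthGroup hF T S := by
  induction l with
  | nil =>
    simp only [wordOf, nWordGL_nil]
    exact one_mem _
  | cons v l ih =>
    simp only [wordOf]
    rw [nWordGL_append]
    exact mul_mem (ih fun x hx => hl x (List.mem_cons_of_mem _ hx)) (h.s_mem v (hl v List.mem_cons_self))

/-- an element of `G¹` all of whose `G¹`-conjugates lie in `B` is trivial -/
theorem OrthData.eq_one_of_conj_mem_borel (k : GL D.Idx K) (hk : k ∈ orthGroup hF T S)
    (hkc : ∀ g ∈ orthGroup hF T S, g * k * g⁻¹ ∈ D.borelSubgroup K) : k = 1 := by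
  -- step 1: such elements lie in `H`
  have step1 : ∀ k : GL D.Idx K, (∀ g ∈ orthGroup hF T S, g * k * g⁻¹ ∈ D.borelSubgroup K) →
      k ∈ D.diagonalSubgroup K := by
    intro k hkc
    have hkB : k ∈ D.borelSubgroup K := by
      have := hkc 1 (one_mem _)
      simpa using this
    obtain ⟨u, hu, d, hd, rfl⟩ := (hF.mem_borel_iff k).1 hkB
    set n := nWordGL D hF.xadd (wordOf l₀) with hn
    have hw : ∀ i ∈ wordOf l₀, i < D.rank := wordOf_valid S l₀ h.gen.valid h.chain_mem
    have huN : u ∈ negPart D hF.xadd (wordOf l₀) := by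
      rw [Twist.negPart_eq_posUnipotent hF _ h.chain_long]
      exact hu
    have hv := ChevFacts'.conj_negPart_mem_negUnipotent hF (wordOf l₀) hw u huN
    have hd' := nWordGL_conj_mem_diagonal D hF.xadd (etaOf D) hF.nsimple (wordOf l₀) hw d hd
    have h1 := hkc n (h.nWordGL_wordOf_mem l₀ h.chain_mem)
    have e1 : n * (u * d) * n⁻¹ = (n * u * n⁻¹) * (n * d * n⁻¹) := by group
    rw [e1] at h1
    have h2 := hF.eq_one_of_neg_mul_diag_mem_borel _ hv _ hd' h1
    have hu1 : u = 1 := by
      have : u = n⁻¹ * (n * u * n⁻¹) * n := by group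
      rw [this, h2]
      group
    rw [hu1, one_mul]
    exact hd
  have hkH := step1 k hkc
  -- the conjugates have the same property
  have hconj : ∀ x ∈ orthGroup hF T S, x * k * x⁻¹ ∈ D.diagonalSubgroup K := by
    intro x hx
    apply step1
    intro g hg
    have : g * (x * k * x⁻¹) * g⁻¹ = (g * x) * k * (g * x)⁻¹ := by group
    rw [this]
    exact hkc _ (mul_mem hg hx)
  obtain ⟨c, hc, hgc⟩ := exists_Tmat_of_mem D hF.hall k hkH
  -- step 2: the character values at the fundamental roots are `1`
  have hchi : ∀ i < D.rank, chi D c (D.simple i) = 1 := by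
    intro i hi
    obtain ⟨v, hv, hiv, _⟩ := h.gen.cover i hi
    have hvv := h.gen.valid v hv
    set x := xs hF v (fun _ => (1 : K)) with hx
    have hxG : x ∈ orthGroup hF T S := h.xs_mem v hv _ (fun j hj => (h.c_one v hv j hj).symm)
    have h1 := hconj x hxG
    have h2 : x * k * x⁻¹ * k⁻¹ ∈ D.diagonalSubgroup K := mul_mem h1 (inv_mem hkH)
    have e2 : x * k * x⁻¹ * k⁻¹ = x * (k * x * k⁻¹)⁻¹ := by group
    have hkx := ChevFacts'.conj_xs hF k c hc hgc v hvv (fun _ => (1 : K))
    rw [e2, hkx] at h2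
    have h3 : x * (xs hF v fun i => chi D c (D.simple i) * 1)⁻¹ ∈ D.posUnipotent K :=
      mul_mem (xs_mem_posUnipotent hF v hvv _) (inv_mem (xs_mem_posUnipotent hF v hvv _))
    have h4 := ChevFacts'.eq_one_of_mem_posUnipotent_of_mem_diagonal hF _ h3 h2
    have h5 : x = xs hF v fun i => chi D c (D.simple i) * 1 := mul_inv_eq_one.1 h4
    have h6 := xs_injective hF (h.cls v hv) _ _ h5 i hiv
    rw [mul_one] at h6
    exact h6.symm
  -- step 3: `k` centralises `G`
  have hpos : ∀ i < D.rank, ∀ t : K, Commute k (xGL D hF.xadd (D.simple i) t) := by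
    intro i hi t
    have := hF.Tmat_conj_xGL k c hc hgc (D.simple i) (hF.simple_lt i hi) t
    rw [hchi i hi, one_mul] at this
    exact mul_inv_eq_iff_eq_mul.1 this
  have hneg : ∀ i < D.rank, ∀ t : K, Commute k (xGL D hF.xadd (D.neg (D.simple i)) t) := by
    intro i hi t
    have := hF.Tmat_conj_xGL k c hc hgc (D.neg (D.simple i)) (hF.neg_simple_lt i hi) t
    rw [chi_neg D hF.cartan_neg c _ (hF.simple_lt i hi), hchi i hi, inv_one, one_mul] at this
    exact mul_inv_eq_iff_eq_mul.1 this
  have hcomm := ChevFacts'.commute_group hF k hpos hneg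
  apply hF.eq_one_of_conj_mem_borel
  intro g hg
  have e : g * k * g⁻¹ = k := by
    rw [← (hcomm g hg).eq]
    group
  rw [e]
  exact diagonal_le_borel D hkH

/-- **the normal core of `B¹` is trivial** -/
theorem OrthData.normalCore_borel :
    ((D.borelSubgroup K ⊓ orthGroup hF T S).subgroupOf (orthGroup hF T S)).normalCore = ⊥ := by
  rw [eq_bot_iff]
  intro k hk
  rw [Subgroup.mem_bot]
  apply Subtype.ext
  rw [Subgroup.coe_one]
  apply h.eq_one_of_conj_mem_borel k.1 k.2
  intro g hg
  have := hk ⟨g, hg⟩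
  exact (Subgroup.mem_subgroupOf.1 this).1

end

end Cfsg.Agent.Lead.Tw
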