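import Mathlib
import Cfsg.Agent.Lib.Lead.TwCard
import Cfsg.Agent.Lib.Lead.TwCore
import Cfsg.Agent.Lib.Lead.ChevCount

/-!
# The order of a twisted group

`|G¹| = |B¹| ∑_{w ∈ W¹} q^{N(w)}`, the sum over the actions of the words commuting with `ρ`, and `|B¹| = |U¹| |H¹|`.
-/

set_option autoImplicit false
set_option linter.unusedSectionVars false
set_option linter.unusedSimpArgs false
set_option linter.unusedVariables false

namespace Cfsg.Agent.Lead.Tw

open Cfsg Cfsg.Lie Cfsg.Agent.Lead.Chev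

variable {K : Type*} [Field K]

open Classical in
/-- the actions of the words commuting with `ρ` -/
noncomputable def weylSetσ (D : ChevalleyDatum) (ρ : ℕ → ℕ) : Finset (Fin D.nroots → Fin D.nroots) :=
  Finset.univ.filter fun f => ∃ w : List ℕ, (∀ i ∈ w, i < D.rank) ∧ RhoComm D ρ w ∧ actF D w = f

theorem mem_weylSetσ (D : ChevalleyDatum) (ρ : ℕ → ℕ) (f : Fin D.nroots → Fin D.nroots) :
    f ∈ weylSetσ D ρ ↔ ∃ w : List ℕ, (∀ i ∈ w, i < D.rank) ∧ RhoComm D ρ w ∧ actF D w = f := by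
  classical
  unfold weylSetσ
  rw [Finset.mem_filter]
  exact ⟨fun h => h.2, fun h => ⟨Finset.mem_univ _, h⟩⟩

/-- `U_n⁻ ≤ U_w⁻` for `n = h n_w` -/
theorem ChevFacts'.negPartN_le_negPart {D : ChevalleyDatum} (hF : ChevFacts D K) (hS : CorSize D)
    (h : GL D.Idx K) (hh : h ∈ D.diagonalSubgroup K) (w : List ℕ) (hw : ∀ i ∈ w, i < D.rank) :
    negPartN D K (h * nWordGL D hF.xadd w) ≤ negPart D hF.xadd w := by
  intro u hu
  have hu0 : u ∈ negPartN D K (nWordGL D hF.xadd w) := by rwa [negPartN_diag_mul hF h hh] at hu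
  have huU := hF.negPartN_le_posUnipotent _ hu0
  obtain ⟨b, hb, u', hu', e3⟩ := hF.nWordGL_mul_posUnipotent hS w hw u huU
  have hn := nWordGL_mem_monomial D hF.xadd hF.simple_lt w hw
  have e : 1 * nWordGL D hF.xadd w * u = b * nWordGL D hF.xadd w * u' := by rw [one_mul]; exact e3
  have := ((hF.canonical_unique 1 b _ _ u u' (one_mem _) hb hn hn hu0
    (hF.negPart_le_negPartN w hw hu') e).2 rfl).2
  rw [this]
  exact hu'

/-- the number of roots made negative along a reduced chain -/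
theorem ChevFacts'.card_negSet_wordOf {D : ChevalleyDatum} (hF : ChevFacts D K) (hS : CorSize D)
    (S : List (List ℕ)) (hv : ∀ w ∈ S, ∀ i ∈ w, i < D.rank)
    (hlen : ∀ v ∈ S, (negSet D v).card = v.length)
    (l : List (List ℕ)) (hl : ∀ v ∈ l, v ∈ S) (hred : RedChain D l) :
    (negSet D (wordOf l)).card = (l.map List.length).sum := by
  induction l with
  | nil =>
    simp only [wordOf, List.map_nil, List.sum_nil]
    rw [Finset.card_eq_zero, Finset.eq_empty_iff_forall_notMem]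
    intro r hr
    rw [mem_negSet] at hr
    exact hF.sign.not_both _ hr.1 hr.2
  | cons v l ih =>
    have hl' : ∀ x ∈ l, x ∈ S := fun x hx => hl x (List.mem_cons_of_mem _ hx)
    have hvS := hl v List.mem_cons_self
    simp only [wordOf, List.map_cons, List.sum_cons]
    rw [hF.card_negSet_append hS (letters v) (wordOf l) v (wordOf_valid S l hv hl') hred.1
      (ChevFacts'.wordIn_letters hF v (hv v hvS)), ih hl' hred.2, hlen v hvS, add_comm]

section

variable {D : ChevalleyDatum} {hF : ChevFacts D K} {T : Twist D K hF.xadd}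
  {π' : ℕ → ℕ} {S l₀ : List (List ℕ)} (h : OrthData hF T π' S l₀)
include h

/-- the sharp form of the Bruhat decomposition of the twisted group -/
theorem OrthData.exists_bruhat [Fintype K] (hS : CorSize D) (hC : CorComb D) (g : GL D.Idx K)
    (hg : g ∈ orthGroup hF T S) :
    ∃ l : List (List ℕ), (∀ v ∈ l, v ∈ S) ∧ RedChain D l ∧
      ∃ b ∈ D.borelSubgroup K ⊓ orthGroup hF T S, ∃ u ∈ negPart D hF.xadd (wordOf l),
        T.σ u = u ∧ g = b * nWordGL D hF.xadd (wordOf l) * u := by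
  have hG := h.twGroup hS hC
  obtain ⟨u₁, hu₁, n, hn, u, hu, f1, f2, f3, e⟩ :=
    T.exists_fixed_canonical hF hS g (hG.le_group hg) (hG.fixed g hg)
  have huU := hF.negPartN_le_posUnipotent n hu
  have h1 := hG.U_le u₁ hu₁ f1
  have h3 := hG.U_le u huU f3
  have hn₁ : n ∈ orthGroup hF T S := by
    have : n = u₁⁻¹ * g * u⁻¹ := by rw [e]; group
    rw [this]
    exact mul_mem (mul_mem (inv_mem h1) hg) (inv_mem h3)
  obtain ⟨hd, hhd, w, hw, hwc, en⟩ := hG.exists_word n hn hn₁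
  obtain ⟨l, hl, hred, hact⟩ := ChevFacts'.exists_redChain hF hS T.ρ T.π S h.gen T.ρ_lt
    (fun r hr => T.ρ_negRoot hF r hr) T.ρ_simple T.π_lt w hw hwc
  have hw' := wordOf_valid S l h.gen.valid hl
  have hnl := h.nWordGL_wordOf_mem l hl
  have hd' : n * (nWordGL D hF.xadd (wordOf l))⁻¹ ∈ D.diagonalSubgroup K := by
    have := monomial_mul_inv_mem_diagonal hF hd 1 hhd (one_mem _) w (wordOf l) hw hw' hact
    rwa [one_mul, ← en] at this
  refine ⟨l, hl, hred, u₁ * (n * (nWordGL D hF.xadd (wordOf l))⁻¹), Subgroup.mem_inf.2 ⟨?_, ?_⟩, u, ?_, f3, ?_⟩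
  · exact mul_mem (posUnipotent_le_borel D hu₁) (diagonal_le_borel D hd')
  · exact mul_mem h1 (mul_mem hn₁ (inv_mem hnl))
  · rw [← negPart_congr D hF.xadd w (wordOf l) hact]
    apply ChevFacts'.negPartN_le_negPart hF hS hd hhd w hw
    rw [← en]
    exact hu
  · rw [e]
    group

/-- `|G¹| = |B¹| ∑_w q^{N(w)}` -/
theorem OrthData.card_group [Fintype K] (hS : CorSize D) (hC : CorComb D) (q : ℕ)
    (hq : ∀ v ∈ S, Nat.card (FixedIn T (negPart D hF.xadd v)) = q ^ v.length)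
    (hlen : ∀ v ∈ S, (negSet D v).card = v.length) :
    Nat.card ↥(orthGroup hF T S) = Nat.card ↥(D.borelSubgroup K ⊓ orthGroup hF T S) *
      ∑ f ∈ weylSetσ D T.ρ, q ^ nNeg D f := by
  classical
  have hG := h.twGroup hS hC
  have hex := fun g : ↥(orthGroup hF T S) => h.exists_bruhat hS hC g.1 g.2
  choose lOf hlOf hred hcell using hex
  have hwOf : ∀ g, ∀ i ∈ wordOf (lOf g), i < D.rank := fun g => wordOf_valid S _ h.gen.valid (hlOf g)
  set φ : ↥(orthGroup hF T S) → (Fin D.nroots → Fin D.nroots) := fun g => actF D (wordOf (lOf g)) with hφ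
  have hfixn : ∀ w ∈ S, T.σ (nWordGL D hF.xadd w) = nWordGL D hF.xadd w :=
    fun w hw => h.fixed _ (h.s_mem w hw)
  have hfib : ∀ f : Fin D.nroots → Fin D.nroots, Nat.card {g : ↥(orthGroup hF T S) // φ g = f} =
      if f ∈ weylSetσ D T.ρ then Nat.card ↥(D.borelSubgroup K ⊓ orthGroup hF T S) * q ^ nNeg D f else 0 := by
    intro f
    by_cases hf : f ∈ weylSetσ D T.ρ
    · rw [if_pos hf]
      obtain ⟨w₁, hw₁, hwc₁, rfl⟩ := (mem_weylSetσ D _ f).1 hf
      obtain ⟨l, hl, hlred, hact⟩ := ChevFacts'.exists_redChain hF hS T.ρ T.π S h.gen T.ρ_lt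
        (fun r hr => T.ρ_negRoot hF r hr) T.ρ_simple T.π_lt w₁ hw₁ hwc₁
      set w₀ := wordOf l with hw₀def
      have hw₀' : ∀ i ∈ w₀, i < D.rank := wordOf_valid S l h.gen.valid hl
      have hactF : actF D w₁ = actF D w₀ := (actF_eq_iff D (etaOf D) hF.facts _ _ hw₁ hw₀').2 hact
      rw [hactF, nNeg_actF D (etaOf D) hF.facts w₀ hw₀',
        ChevFacts'.card_negSet_wordOf hF hS S h.gen.valid hlen l hl hlred,
        ← prod_map_pow q l (fun v => Nat.card (FixedIn T (negPart D hF.xadd v))) (fun v hv => hq v (hl v hv)),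
        ← T.card_fixed_chain hF hS hC S h.gen.valid h.gen.comm hfixn l hl hlred, ← Nat.card_prod]
      have hn₀ : nWordGL D hF.xadd w₀ ∈ orthGroup hF T S := h.nWordGL_wordOf_mem l hl
      have hval : ∀ (b : ↥(D.borelSubgroup K ⊓ orthGroup hF T S)) (u : FixedIn T (negPart D hF.xadd w₀)),
          (b : GL D.Idx K) * nWordGL D hF.xadd w₀ * u.1 ∈ orthGroup hF T S := fun b u =>
        mul_mem (mul_mem b.2.2 hn₀) (hG.U_le u.1 (hF.negPart_le_posUnipotent w₀ u.2.1) u.2.2)
      have hφv : ∀ (b : ↥(D.borelSubgroup K ⊓ orthGroup hF T S)) (u : FixedIn T (negPart D hF.xadd w₀)),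
          φ ⟨_, hval b u⟩ = actF D w₀ := by
        intro b u
        obtain ⟨b', hb', u', hu', -, e⟩ := hcell ⟨_, hval b u⟩
        have e' : (b : GL D.Idx K) * nWordGL D hF.xadd w₀ * u.1 =
            b' * nWordGL D hF.xadd (wordOf (lOf ⟨_, hval b u⟩)) * u' := e
        have := hF.cell_action w₀ _ hw₀' (hwOf _) b b' u.1 u' b.2.1 hb'.1 u.2.1 hu' e'
        exact ((actF_eq_iff D (etaOf D) hF.facts _ _ hw₀' (hwOf _)).2 this).symm
      let ψ : ↥(D.borelSubgroup K ⊓ orthGroup hF T S) × FixedIn T (negPart D hF.xadd w₀) →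
          {g : ↥(orthGroup hF T S) // φ g = actF D w₀} := fun p => ⟨⟨_, hval p.1 p.2⟩, hφv p.1 p.2⟩
      have hinj : Function.Injective ψ := by
        rintro ⟨b, u⟩ ⟨b', u'⟩ hh
        have h1 : (b : GL D.Idx K) * nWordGL D hF.xadd w₀ * u.1 = b' * nWordGL D hF.xadd w₀ * u'.1 :=
          congrArg (fun x : {g : ↥(orthGroup hF T S) // φ g = actF D w₀} =>
            ((x : ↥(orthGroup hF T S)) : GL D.Idx K)) hh
        obtain ⟨h2, h3⟩ := hF.cell_unique w₀ hw₀' b b' u.1 u'.1 b.2.1 b'.2.1 u.2.1 u'.2.1 h1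
        exact Prod.ext (Subtype.ext h2) (Subtype.ext h3)
      have hsurj : Function.Surjective ψ := by
        rintro ⟨g, hg⟩
        obtain ⟨b', hb', u', hu', hfu', e⟩ := hcell g
        have hact' : ∀ r < D.nroots, reflWord D w₀ r = reflWord D (wordOf (lOf g)) r :=
          (actF_eq_iff D (etaOf D) hF.facts _ _ hw₀' (hwOf g)).1 hg.symm
        have hh := hF.nWordGL_inv_mul_mem_diagonal w₀ (wordOf (lOf g)) hw₀' (hwOf g) hact'
        have hh' := nWordGL_conj_mem_diagonal D hF.xadd (etaOf D) hF.nsimple w₀ hw₀' _ hh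
        have hng : nWordGL D hF.xadd (wordOf (lOf g)) ∈ orthGroup hF T S := h.nWordGL_wordOf_mem _ (hlOf g)
        have hu'' : u' ∈ negPart D hF.xadd w₀ := by
          rw [negPart_congr D hF.xadd w₀ (wordOf (lOf g)) hact']
          exact hu'
        have hb'' := Subgroup.mem_inf.1 hb'
        refine ⟨(⟨b' * (nWordGL D hF.xadd w₀ * ((nWordGL D hF.xadd w₀)⁻¹ * nWordGL D hF.xadd (wordOf (lOf g))) *
          (nWordGL D hF.xadd w₀)⁻¹), Subgroup.mem_inf.2 ⟨mul_mem hb''.1 (diagonal_le_borel D hh'),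
          mul_mem hb''.2 (mul_mem (mul_mem hn₀ (mul_mem (inv_mem hn₀) hng)) (inv_mem hn₀))⟩⟩,
          ⟨u', hu'', hfu'⟩), ?_⟩
        apply Subtype.ext
        apply Subtype.ext
        show b' * (nWordGL D hF.xadd w₀ * ((nWordGL D hF.xadd w₀)⁻¹ * nWordGL D hF.xadd (wordOf (lOf g))) *
          (nWordGL D hF.xadd w₀)⁻¹) * nWordGL D hF.xadd w₀ * u' = (g : GL D.Idx K)
        rw [e]
        group
      exact (Nat.card_congr (Equiv.ofBijective ψ ⟨hinj, hsurj⟩)).symm
    · rw [if_neg hf]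
      have : IsEmpty {g : ↥(orthGroup hF T S) // φ g = f} := by
        constructor
        rintro ⟨g, hg⟩
        exact hf ((mem_weylSetσ D _ f).2 ⟨wordOf (lOf g), hwOf g,
          T.rhoComm_wordOf hF S _ h.gen.valid h.gen.comm (hlOf g), hg⟩)
      exact Nat.card_of_isEmpty
  rw [Nat.card_congr (Equiv.sigmaFiberEquiv φ).symm, Nat.card_sigma]
  simp_rw [hfib]
  rw [← Finset.sum_filter, Finset.mul_sum]
  apply Finset.sum_congr
  · ext f
    simp
  · intro f _
    rfl

/-- `|B¹| = |U¹| |H¹|` -/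
theorem OrthData.card_borel_inf [Fintype K] (hS : CorSize D) (hC : CorComb D) :
    Nat.card ↥(D.borelSubgroup K ⊓ orthGroup hF T S) =
      Nat.card ↥(D.posUnipotent K ⊓ orthGroup hF T S) * Nat.card ↥(D.diagonalSubgroup K ⊓ orthGroup hF T S) := by
  have hG := h.twGroup hS hC
  rw [← Nat.card_prod]
  symm
  let ψ : ↥(D.posUnipotent K ⊓ orthGroup hF T S) × ↥(D.diagonalSubgroup K ⊓ orthGroup hF T S) →
      ↥(D.borelSubgroup K ⊓ orthGroup hF T S) := fun p =>
    ⟨p.1.1 * p.2.1, mul_mem (posUnipotent_le_borel D p.1.2.1) (diagonal_le_borel D p.2.2.1),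
      mul_mem p.1.2.2 p.2.2.2⟩
  have hinj : Function.Injective ψ := by
    rintro ⟨u, d⟩ ⟨u', d'⟩ hh
    have h1 : (u : GL D.Idx K) * d = u' * d' := congrArg (fun x : ↥(D.borelSubgroup K ⊓ orthGroup hF T S) =>
      (x : GL D.Idx K)) hh
    obtain ⟨h2, h3⟩ := Twist.fixed_borel hF u d u.2.1 d.2.1 u' d' u'.2.1 d'.2.1 h1
    exact Prod.ext (Subtype.ext h2) (Subtype.ext h3)
  have hsurj : Function.Surjective ψ := by
    rintro ⟨b, hb, hb₁⟩
    obtain ⟨u, hu, d, hd, rfl⟩ := (hF.mem_borel_iff b).1 hb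
    have hfix := hG.fixed _ hb₁
    have huG := hF.posUnipotent_le_group hu
    have hdG := hF.diagonal_le_group hd
    rw [T.map_mul _ _ huG hdG] at hfix
    obtain ⟨e1, e2⟩ := Twist.fixed_borel hF (T.σ u) (T.σ d) (T.map_mem_posUnipotent hF u hu)
      (T.map_mem_diagonal hF d hd) u d hu hd hfix
    have hu₁ := hG.U_le u hu e1
    have hd₁ : d ∈ orthGroup hF T S := by
      have : d = u⁻¹ * (u * d) := by group
      rw [this]
      exact mul_mem (inv_mem hu₁) hb₁
    exact ⟨(⟨u, hu, hu₁⟩, ⟨d, hd, hd₁⟩), rfl⟩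
  exact Nat.card_congr (Equiv.ofBijective ψ ⟨hinj, hsurj⟩)

end

end Cfsg.Agent.Lead.Tw
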