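import Mathlib
import Cfsg.Agent.Lib.Helper11.G2TDefs

/-!
# S2371, piece TC: torus conjugation through the sharp Bruhat form

If `y h' = h y` with `h, h'` in the diagonal subgroup `T` and `y` in the Chevalley group, then
`y = u t n_w u'` with `n_w h' n_w⁻¹ = h`, `h u h⁻¹ = u` and `h' u' h'⁻¹ = u'`.
-/

set_option autoImplicit false
set_option linter.unusedSectionVars false
set_option linter.unusedSimpArgs false
set_option linter.unusedVariables false

namespace Cfsg.Agent.Helper11.G2T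

open Cfsg Cfsg.Lie Cfsg.Agent.Lead.Chev Cfsg.Agent.Lead.Tw

namespace TC

variable {F : Type*} [Field F]

/-- the general form, for any Chevalley datum with the facts -/
theorem torus_conj_gen {D : ChevalleyDatum} (hF : ChevFacts D F) (hS : CorSize D)
    (y h h' : GL D.Idx F) (hy : y ∈ D.group F)
    (hh : h ∈ D.diagonalSubgroup F) (hh' : h' ∈ D.diagonalSubgroup F) (e : y * h' = h * y) :
    ∃ u ∈ D.posUnipotent F, ∃ t ∈ D.diagonalSubgroup F, ∃ w : List ℕ, (∀ i ∈ w, i < D.rank) ∧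
      ∃ u' ∈ D.posUnipotent F,
        y = u * t * nWordGL D hF.xadd w * u' ∧
        nWordGL D hF.xadd w * h' * (nWordGL D hF.xadd w)⁻¹ = h ∧
        h * u * h⁻¹ = u ∧ h' * u' * h'⁻¹ = u' := by
  obtain ⟨b, hb, w, hw, u', hu'0, ey⟩ := hF.exists_bruhat hS y hy
  have hn : nWordGL D hF.xadd w ∈ D.monomialSubgroup F :=
    nWordGL_mem_monomial D hF.xadd hF.simple_lt w hw
  have hu' : u' ∈ negPartN D F (nWordGL D hF.xadd w) := hF.negPart_le_negPartN w hw hu'0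
  generalize hn_def : nWordGL D hF.xadd w = n at hn hu' ey
  have hnh : n * h' * n⁻¹ ∈ D.diagonalSubgroup F := hF.monomial_conj_mem_diagonal n hn h' hh'
  have hu'' := hF.diagonal_conj_negPartN n h'⁻¹ (inv_mem hh') u' hu'
  rw [inv_inv] at hu''
  have e1 : (b * (n * h' * n⁻¹)) * n * (h'⁻¹ * u' * h') = (h * b) * n * u' := by
    calc (b * (n * h' * n⁻¹)) * n * (h'⁻¹ * u' * h') = (b * n * u') * h' := by group
      _ = h * (b * n * u') := by rw [← ey, e]
      _ = (h * b) * n * u' := by group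
  have hb1 : b * (n * h' * n⁻¹) ∈ D.borelSubgroup F := mul_mem hb (diagonal_le_borel D hnh)
  have hb2 : h * b ∈ D.borelSubgroup F := mul_mem (diagonal_le_borel D hh) hb
  obtain ⟨hbb, huu⟩ := (hF.canonical_unique _ _ n n _ _ hb1 hb2 hn hn hu'' hu' e1).2 rfl
  obtain ⟨u₁, hu₁, t, ht, rfl⟩ := (hF.mem_borel_iff b).1 hb
  have hnorm := diagonalSubgroup_le_normalizer D hF.hall hF.hconj hh
  have hu₂ : h * u₁ * h⁻¹ ∈ D.posUnipotent F := (Subgroup.mem_normalizer_iff.1 hnorm u₁).1 hu₁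
  have e2 : (h * u₁ * h⁻¹)⁻¹ * u₁ = (h * t) * (t * (n * h' * n⁻¹))⁻¹ := by
    have : u₁ * (t * (n * h' * n⁻¹)) = (h * u₁ * h⁻¹) * (h * t) := by
      calc u₁ * (t * (n * h' * n⁻¹)) = u₁ * t * (n * h' * n⁻¹) := by group
        _ = h * (u₁ * t) := hbb
        _ = (h * u₁ * h⁻¹) * (h * t) := by group
    calc (h * u₁ * h⁻¹)⁻¹ * u₁
        = (h * u₁ * h⁻¹)⁻¹ * (u₁ * (t * (n * h' * n⁻¹))) * (t * (n * h' * n⁻¹))⁻¹ := by group
      _ = (h * t) * (t * (n * h' * n⁻¹))⁻¹ := by rw [this]; group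
  have h3a : (h * u₁ * h⁻¹)⁻¹ * u₁ ∈ D.posUnipotent F := mul_mem (inv_mem hu₂) hu₁
  have h3b : (h * u₁ * h⁻¹)⁻¹ * u₁ ∈ D.diagonalSubgroup F := by
    rw [e2]
    exact mul_mem (mul_mem hh ht) (inv_mem (mul_mem ht hnh))
  have h3 : (h * u₁ * h⁻¹)⁻¹ * u₁ ∈ D.posUnipotent F ⊓ D.diagonalSubgroup F := ⟨h3a, h3b⟩
  rw [posUnipotent_inf_diagonalSubgroup D hF.hall hF.posok, Subgroup.mem_bot] at h3
  have hfix : h * u₁ * h⁻¹ = u₁ := (inv_mul_eq_one.1 h3)
  have h3' : h * t = t * (n * h' * n⁻¹) := by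
    rw [h3] at e2
    exact (mul_inv_eq_one.1 e2.symm)
  have h4 : t * (n * h' * n⁻¹) = t * h := by rw [← h3', hF.diagonal_commute h t hh ht]
  have h5 : n * h' * n⁻¹ = h := mul_left_cancel h4
  refine ⟨u₁, hu₁, t, ht, w, hw, u', hF.negPartN_le_posUnipotent n hu', ?_, ?_, hfix, ?_⟩
  · rw [hn_def]; exact ey
  · rw [hn_def]; exact h5
  · calc h' * u' * h'⁻¹ = h' * (h'⁻¹ * u' * h') * h'⁻¹ := by rw [huu]
      _ = u' := by group

end TC

/-- PIECE TC: torus conjugation through the sharp Bruhat form, for `G₂(K)` -/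
theorem torus_conj {K : Type*} [Field K] (y h h' : GL chevG2.Idx K) (hy : y ∈ chevG2.group K)
    (hh : h ∈ chevG2.diagonalSubgroup K) (hh' : h' ∈ chevG2.diagonalSubgroup K) (e : y * h' = h * y) :
    ∃ u ∈ chevG2.posUnipotent K, ∃ t ∈ chevG2.diagonalSubgroup K, ∃ w : List ℕ, (∀ i ∈ w, i < 2) ∧
      ∃ u' ∈ chevG2.posUnipotent K,
        y = u * t * nWordGL chevG2 (g2F K).xadd w * u' ∧
        nWordGL chevG2 (g2F K).xadd w * h' * (nWordGL chevG2 (g2F K).xadd w)⁻¹ = h ∧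
        h * u * h⁻¹ = u ∧ h' * u' * h'⁻¹ = u' :=
  TC.torus_conj_gen (g2F K) g2S y h h' hy hh hh' e

end Cfsg.Agent.Helper11.G2T
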