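import Mathlib
import Cfsg.Agent.Lib.Helper11.G2TDefs
import Cfsg.Agent.Lib.Helper13.G2TCHIA
import Cfsg.Agent.Lib.Helper16.G2TCHIB

/-!
# S2371, piece FIX: the fixed points of the field automorphism on `G₂(K)` come from the fixed field

The field twist `σ = sig f` (`ρ = id`, `c r t = f t`, `π = id`) and the canonical form of a fixed point,
`y = u₁ n u` with all three factors fixed (`Twist.exists_fixed_canonical`).  A fixed element of `U(K)` is an ordered
product with fixed parameters; a fixed element of `N(K)` is `h n_w` with `h` fixed, and a fixed element of `T(K)` is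
determined by its two fixed values at the fundamental roots.
-/

set_option autoImplicit false
set_option linter.unusedSectionVars false
set_option linter.unusedSimpArgs false
set_option linter.unusedVariables false

namespace Cfsg.Agent.Helper11.G2T

open Cfsg Cfsg.Lie Cfsg.Agent.Lead.Chev Cfsg.Agent.Lead.Tw

namespace FIX

section gen

variable {F : Type*} [Field F] {K : Type*} [Field K] (ι : F →+* K)

/-- the root matrices commute with entrywise ring homomorphisms -/
theorem xMat_map_hom (D : ChevalleyDatum) (r : Fin D.nroots) (t : F) :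
    (D.xMat F r t).map ι = D.xMat K r (ι t) := by
  ext row col
  simp only [Matrix.map_apply]
  unfold ChevalleyDatum.xMat
  simp only [Matrix.of_apply]
  rcases col with i | s
  · rcases row with i' | u
    · simp only
      split_ifs <;> simp
    · simp only
      split_ifs <;> simp
  · simp only
    by_cases hs : s = r
    · simp only [hs, if_true]
      rcases row with i | u
      · simp
      · simp only
        split_ifs <;> simp
    · simp only [hs, if_false]
      by_cases hs2 : s.val = D.negIdx.getD r.val 0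
      · simp only [hs2, if_true]
        rcases row with i | u
        · simp
        · simp only
          split_ifs <;> simp
      · simp only [hs2, if_false]
        rcases row with i | u
        · simp
        · simp only [map_add, map_list_sum, List.map_map]
          congr 1
          · split_ifs <;> simp
          · congr 1
            apply List.map_congr_left
            intro km _
            simp

theorem x_map_hom (D : ChevalleyDatum) (r : ℕ) (t : F) : (D.x F r t).map ι = D.x K r (ι t) := by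
  by_cases hr : r < D.nroots
  · rw [x_of_lt D r hr, x_of_lt D r hr, xMat_map_hom]
  · rw [x_of_ge D r (not_lt.1 hr), x_of_ge D r (not_lt.1 hr)]
    exact Matrix.map_one ι (map_zero ι) (map_one ι)

theorem prodL_map_hom (D : ChevalleyDatum) (L : List ℕ) (t : ℕ → F) :
    (prodL D L t).map ι = prodL D L (fun v => ι (t v)) := by
  induction L with
  | nil =>
    rw [prodL_nil, prodL_nil]
    exact Matrix.map_one ι (map_zero ι) (map_one ι)
  | cons r L ih => rw [prodL_cons, prodL_cons, Matrix.map_mul, ih, x_map_hom]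

theorem mapGL_val (D : ChevalleyDatum) (g : GL D.Idx F) :
    ((Matrix.GeneralLinearGroup.map ι g : GL D.Idx K) : Matrix D.Idx D.Idx K) =
      (g : Matrix D.Idx D.Idx F).map ι := rfl

theorem xGL_map_hom (D : ChevalleyDatum) (hX : XAdd D F) (hX' : XAdd D K) (r : ℕ) (t : F) :
    Matrix.GeneralLinearGroup.map ι (xGL D hX r t) = xGL D hX' r (ι t) := by
  apply Units.ext
  rw [mapGL_val, xGL_val, xGL_val]
  exact x_map_hom ι D r t

theorem nGL_map_hom (D : ChevalleyDatum) (hX : XAdd D F) (hX' : XAdd D K) (r : ℕ) :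
    Matrix.GeneralLinearGroup.map ι (nGL D hX r) = nGL D hX' r := by
  have e1 : nGL D hX r = nGLt D hX r 1 := rfl
  have e2 : nGL D hX' r = nGLt D hX' r 1 := rfl
  rw [e1, e2, nGLt_eq, nGLt_eq, map_mul, map_mul, xGL_map_hom ι D hX hX', xGL_map_hom ι D hX hX',
    map_neg, map_inv₀, map_one]

theorem nWordGL_map_hom (D : ChevalleyDatum) (hX : XAdd D F) (hX' : XAdd D K) (w : List ℕ) :
    Matrix.GeneralLinearGroup.map ι (nWordGL D hX w) = nWordGL D hX' w := by
  induction w with
  | nil => rw [nWordGL_nil, nWordGL_nil, map_one]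
  | cons i w ih => rw [nWordGL_cons, nWordGL_cons, map_mul, ih, nGL_map_hom ι D hX hX']

theorem nGLt_map_hom (D : ChevalleyDatum) (hX : XAdd D F) (hX' : XAdd D K) (r : ℕ) (t : F) :
    Matrix.GeneralLinearGroup.map ι (nGLt D hX r t) = nGLt D hX' r (ι t) := by
  rw [nGLt_eq, nGLt_eq, map_mul, map_mul, xGL_map_hom ι D hX hX', xGL_map_hom ι D hX hX',
    map_neg, map_inv₀]

theorem hGLt_map_hom (D : ChevalleyDatum) (hX : XAdd D F) (hX' : XAdd D K) (r : ℕ) (t : F) :
    Matrix.GeneralLinearGroup.map ι (hGLt D hX r t) = hGLt D hX' r (ι t) := by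
  rw [hGLt_eq, hGLt_eq, map_mul, nGLt_map_hom ι D hX hX', nGLt_map_hom ι D hX hX', map_neg, map_one]

/-- the entrywise map sends `T(F)` into `T(K)` -/
theorem map_mem_diagonal (D : ChevalleyDatum) (hX : XAdd D F) (hX' : XAdd D K) (g : GL D.Idx F)
    (hg : g ∈ D.diagonalSubgroup F) : Matrix.GeneralLinearGroup.map ι g ∈ D.diagonalSubgroup K := by
  unfold ChevalleyDatum.diagonalSubgroup at hg
  induction hg using Subgroup.closure_induction with
  | mem x hx =>
    obtain ⟨r, t, hr, ht, hx⟩ := hx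
    have hxe : x = hGLt D hX r t := Units.ext (by rw [hx, hGLt_val])
    rw [hxe, hGLt_map_hom ι D hX hX']
    exact hGLt_mem_diagonal D hX' r hr (ι t) ((map_ne_zero ι).2 ht)
  | one =>
    rw [map_one]
    exact one_mem _
  | mul x y _ _ hx hy =>
    rw [map_mul]
    exact mul_mem hx hy
  | inv x _ hx =>
    rw [map_inv]
    exact inv_mem hx

theorem ev_map_hom (g : GL chevG2.Idx F) (v : ℕ) :
    ev (Matrix.GeneralLinearGroup.map ι g : GL chevG2.Idx K) v = ι (ev g v) := by
  unfold ev
  by_cases hv : v < chevG2.nroots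
  · rw [dif_pos hv, dif_pos hv]
    rfl
  · rw [dif_neg hv, dif_neg hv, map_one]

theorem sig_map_hom (f : K ≃+* K) (hf : ∀ t, f (ι t) = ι t) (g : GL chevG2.Idx F) :
    sig f (Matrix.GeneralLinearGroup.map ι g : GL chevG2.Idx K) = Matrix.GeneralLinearGroup.map ι g := by
  apply Units.ext
  ext i j
  exact hf _

end gen

section twist

variable {K : Type*} [Field K]

theorem sig_val (f : K ≃+* K) (g : GL chevG2.Idx K) :
    ((sig f g : GL chevG2.Idx K) : Matrix chevG2.Idx chevG2.Idx K) =
      (g : Matrix chevG2.Idx chevG2.Idx K).map (f : K →+* K) := rfl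

theorem sig_xGL (f : K ≃+* K) (r : ℕ) (t : K) :
    sig f (xGL chevG2 (g2F K).xadd r t) = xGL chevG2 (g2F K).xadd r (f t) := by
  apply Units.ext
  rw [sig_val, xGL_val, xGL_val]
  exact x_map_hom (f : K →+* K) chevG2 r t

/-- the field twist -/
noncomputable def fieldTwist (f : K ≃+* K) : Twist chevG2 K (g2F K).xadd where
  σ := sig f
  ρ := id
  c := fun _ t => f t
  π := id
  map_mul := fun g h _ _ => map_mul (sig f) g h
  ρ_lt := fun r hr => hr
  ρ_pos := fun r hr => hr
  ρ_neg := fun r hr => rfl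
  c_ne := fun r hr t ht => (map_ne_zero f).2 ht
  c_neg := fun r hr t ht => by simp only [map_neg, map_inv₀]
  c_surj := fun r hr => f.surjective
  map_x := fun r hr t => sig_xGL f r t
  π_lt := fun i hi => hi
  ρ_simple := fun i hi => rfl
  ρ_refl := fun i hi r hr => rfl

end twist

section FK

variable {F : Type*} [Field F] {K : Type*} [Field K] (ι : F →+* K)

/-- a fixed element of `U(K)` comes from `U(F)` -/
theorem unip_fixed (f : K ≃+* K) (hf : ∀ t, f t = t ↔ t ∈ Set.range ι) (u : GL chevG2.Idx K)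
    (hu : u ∈ chevG2.posUnipotent K) (e : sig f u = u) :
    ∃ z ∈ chevG2.posUnipotent F, mapGL ι z = u := by
  have hK := g2F K
  have hFF := g2F F
  obtain ⟨t, ht⟩ := exists_prodL_of_mem chevG2 hK.xadd.add hK.xadd.zero hK.comm hK.poscomm u hu
  have e1 : (u : Matrix chevG2.Idx chevG2.Idx K).map (f : K →+* K) = (u : Matrix chevG2.Idx chevG2.Idx K) := by
    rw [← sig_val f u, e]
  rw [ht, prodL_map_hom] at e1
  have e3 := prodL_posRoots_inj chevG2 hK.ufacts hK.xadd.add hK.xadd.zero _ _ e1
  have e4 : ∀ r, chevG2.IsPosRoot r → ∃ s : F, ι s = t r := fun r hr => (hf (t r)).1 (e3 r hr)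
  classical
  let s : ℕ → F := fun r => if hr : chevG2.IsPosRoot r then Classical.choose (e4 r hr) else 0
  have hs : ∀ r, chevG2.IsPosRoot r → ι (s r) = t r := by
    intro r hr
    simp only [s, dif_pos hr]
    exact Classical.choose_spec (e4 r hr)
  obtain ⟨z, hz, hzm⟩ := exists_mem_of_posWord chevG2 hFF.xadd.add hFF.xadd.zero
    (chevG2.posRoots.map fun r => (r, s r)) (by
      intro q hq
      obtain ⟨r, hr, rfl⟩ := List.mem_map.1 hq
      rw [← posFrom_zero, mem_posFrom] at hr
      exact hr.2)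
  refine ⟨z, hz, ?_⟩
  apply Units.ext
  rw [mapGL_val, hzm, ht]
  have e5 : chevG2.wordMat F (chevG2.posRoots.map fun r => (r, s r)) = prodL chevG2 chevG2.posRoots s := rfl
  rw [e5, prodL_map_hom]
  apply prodL_congr
  intro r hr
  rw [← posFrom_zero, mem_posFrom] at hr
  exact hs r hr.2

/-- a fixed element of `T(K)` comes from `T(F)` -/
theorem torus_fixed (f : K ≃+* K) (hf : ∀ t, f t = t ↔ t ∈ Set.range ι) (h : GL chevG2.Idx K)
    (hh : h ∈ chevG2.diagonalSubgroup K) (e : sig f h = h) :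
    ∃ z ∈ chevG2.diagonalSubgroup F, mapGL ι z = h := by
  have e7 : f (ev h 7) = ev h 7 := by rw [← ev_sig, e]
  have e6 : f (ev h 6) = ev h 6 := by rw [← ev_sig, e]
  obtain ⟨ξ, hξ⟩ := (hf _).1 e7
  obtain ⟨η, hη⟩ := (hf _).1 e6
  have hξ0 : ξ ≠ 0 := by
    rintro rfl
    rw [map_zero] at hξ
    exact ev_ne_zero h hh 7 hξ.symm
  have hη0 : η ≠ 0 := by
    rintro rfl
    rw [map_zero] at hη
    exact ev_ne_zero h hh 6 hη.symm
  obtain ⟨z, hz, hz7, hz6⟩ := exists_ev (K := F) ξ η hξ0 hη0
  refine ⟨z, hz, ?_⟩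
  have hmz : mapGL ι z ∈ chevG2.diagonalSubgroup K :=
    map_mem_diagonal ι chevG2 (g2F F).xadd (g2F K).xadd z hz
  have h1 : h * (mapGL ι z)⁻¹ = 1 := by
    apply eq_one_of_ev _ (mul_mem hh (inv_mem hmz))
    · rw [ev_mul _ _ hh (inv_mem hmz), ev_inv _ hmz, ev_map_hom, hz7, hξ, mul_inv_cancel₀ (ev_ne_zero h hh 7)]
    · rw [ev_mul _ _ hh (inv_mem hmz), ev_inv _ hmz, ev_map_hom, hz6, hη, mul_inv_cancel₀ (ev_ne_zero h hh 6)]
  exact (mul_inv_eq_one.1 h1).symm

/-- a fixed element of `N(K)` comes from `G₂(F)` -/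
theorem mono_fixed (f : K ≃+* K) (hf : ∀ t, f t = t ↔ t ∈ Set.range ι) (n : GL chevG2.Idx K)
    (hn : n ∈ chevG2.monomialSubgroup K) (e : sig f n = n) :
    ∃ z ∈ chevG2.group F, mapGL ι z = n := by
  have hK := g2F K
  have hFF := g2F F
  obtain ⟨h, hh, w, hw, rfl⟩ := exists_word_of_mem_monomial chevG2 hK.xadd (etaOf chevG2) hK.nsimple
    hK.simple_lt hK.orbit n hn
  have hf' : ∀ t, f (ι t) = ι t := fun t => (hf (ι t)).2 ⟨t, rfl⟩
  have ew : mapGL ι (nWordGL chevG2 hFF.xadd w) = nWordGL chevG2 hK.xadd w :=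
    nWordGL_map_hom ι chevG2 hFF.xadd hK.xadd w
  have e1 : sig f (nWordGL chevG2 hK.xadd w) = nWordGL chevG2 hK.xadd w := by
    rw [← ew]
    exact sig_map_hom ι f hf' _
  have e2 : sig f h = h := by
    rw [map_mul, e1] at e
    exact mul_right_cancel e
  obtain ⟨z, hz, ez⟩ := torus_fixed ι f hf h hh e2
  refine ⟨z * nWordGL chevG2 hFF.xadd w, mul_mem (hFF.diagonal_le_group hz)
    (hFF.monomial_le_group (nWordGL_mem_monomial chevG2 hFF.xadd hFF.simple_lt w hw)), ?_⟩
  rw [map_mul, ez, ew]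

end FK

end FIX

section FK

variable {F : Type*} [Field F] {K : Type*} [Field K] (ι : F →+* K)

/-- PIECE FIX: the fixed points of the field automorphism on `G₂(K)` come from `F` -/
theorem fix_group (f : K ≃+* K) (hf : ∀ t, f t = t ↔ t ∈ Set.range ι) (y : GL chevG2.Idx K)
    (hy : y ∈ chevG2.group K) (e : sig f y = y) : ∃ z ∈ chevG2.group F, mapGL ι z = y := by
  obtain ⟨u₁, hu₁, n, hn, u, hu, e1, e2, e3, rfl⟩ :=
    Twist.exists_fixed_canonical (g2F K) (FIX.fieldTwist f) g2S y hy e
  obtain ⟨z₁, hz₁, ez₁⟩ := FIX.unip_fixed ι f hf u₁ hu₁ e1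
  obtain ⟨zn, hzn, ezn⟩ := FIX.mono_fixed ι f hf n hn e2
  obtain ⟨z₂, hz₂, ez₂⟩ := FIX.unip_fixed ι f hf u ((g2F K).negPartN_le_posUnipotent n hu) e3
  exact ⟨z₁ * zn * z₂, mul_mem (mul_mem ((g2F F).posUnipotent_le_group hz₁) hzn)
    ((g2F F).posUnipotent_le_group hz₂), by rw [map_mul, map_mul, ez₁, ezn, ez₂]⟩

end FK

end Cfsg.Agent.Helper11.G2T
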