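import Mathlib
import Cfsg.Agent.Lib.Lead.G2TFIX

/-!
# The fixed points of a field automorphism on a Chevalley group come from the fixed field (generic version)

The generic form of `Cfsg.Agent.Helper11.G2T.fix_group` (S2371, piece FIX): for any Chevalley datum `D` with the
facts package over `F` and over `K`, a ring homomorphism `ι : F →+* K` and a field automorphism `f` of `K` whose
fixed field is the range of `ι`, every element of `D.group K` fixed by the entrywise action `S1080.Phi D f` of `f` is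
the entrywise image of an element of `D.group F` - PROVIDED the same holds for the diagonal subgroup `T(K)`
(hypothesis `htorus`; it holds when the root lattice equals the weight lattice: `G₂`, `F₄`, `E₈`).
-/

set_option autoImplicit false
set_option linter.unusedSectionVars false
set_option linter.unusedSimpArgs false
set_option linter.unusedVariables false

namespace Cfsg.Agent.Lead.FixGen

open Cfsg Cfsg.Lie Cfsg.Agent.Lead.Chev Cfsg.Agent.Lead.Tw Cfsg.Agent.Helper11.G2T.FIX

section twist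

variable {K : Type*} [Field K] {D : ChevalleyDatum}

theorem phi_val (f : K ≃+* K) (g : GL D.Idx K) :
    ((Cfsg.Agent.S1080.Phi D f g : GL D.Idx K) : Matrix D.Idx D.Idx K) =
      (g : Matrix D.Idx D.Idx K).map (f : K →+* K) := rfl

theorem phi_xGL (hX : XAdd D K) (f : K ≃+* K) (r : ℕ) (t : K) :
    Cfsg.Agent.S1080.Phi D f (xGL D hX r t) = xGL D hX r (f t) := by
  apply Units.ext
  rw [phi_val, xGL_val, xGL_val]
  exact x_map_hom (f : K →+* K) D r t

/-- the field twist, for any datum -/
noncomputable def fieldTwistGen (hK : ChevFacts D K) (f : K ≃+* K) : Twist D K hK.xadd where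
  σ := Cfsg.Agent.S1080.Phi D f
  ρ := id
  c := fun _ t => f t
  π := id
  map_mul := fun g h _ _ => map_mul (Cfsg.Agent.S1080.Phi D f) g h
  ρ_lt := fun r hr => hr
  ρ_pos := fun r hr => hr
  ρ_neg := fun r hr => rfl
  c_ne := fun r hr t ht => (map_ne_zero f).2 ht
  c_neg := fun r hr t ht => by simp only [map_neg, map_inv₀]
  c_surj := fun r hr => f.surjective
  map_x := fun r hr t => phi_xGL hK.xadd f r t
  π_lt := fun i hi => hi
  ρ_simple := fun i hi => rfl
  ρ_refl := fun i hi r hr => rfl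

theorem phi_map_hom {F : Type*} [Field F] (ι : F →+* K) (f : K ≃+* K) (hf : ∀ t, f (ι t) = ι t)
    (g : GL D.Idx F) :
    Cfsg.Agent.S1080.Phi D f (Matrix.GeneralLinearGroup.map ι g : GL D.Idx K) =
      Matrix.GeneralLinearGroup.map ι g := by
  apply Units.ext
  ext i j
  exact hf _

end twist

section FK

variable {F : Type*} [Field F] {K : Type*} [Field K] {D : ChevalleyDatum}
  (hFF : ChevFacts D F) (hK : ChevFacts D K) (ι : F →+* K)
include hFF hK

/-- a fixed element of `U(K)` comes from `U(F)` -/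
theorem unip_fixed_gen (f : K ≃+* K) (hf : ∀ t, f t = t ↔ t ∈ Set.range ι) (u : GL D.Idx K)
    (hu : u ∈ D.posUnipotent K) (e : Cfsg.Agent.S1080.Phi D f u = u) :
    ∃ z ∈ D.posUnipotent F, Matrix.GeneralLinearGroup.map ι z = u := by
  obtain ⟨t, ht⟩ := exists_prodL_of_mem D hK.xadd.add hK.xadd.zero hK.comm hK.poscomm u hu
  have e1 : (u : Matrix D.Idx D.Idx K).map (f : K →+* K) = (u : Matrix D.Idx D.Idx K) := by
    rw [← phi_val f u, e]
  rw [ht, prodL_map_hom] at e1
  have e3 := prodL_posRoots_inj D hK.ufacts hK.xadd.add hK.xadd.zero _ _ e1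
  have e4 : ∀ r, D.IsPosRoot r → ∃ s : F, ι s = t r := fun r hr => (hf (t r)).1 (e3 r hr)
  classical
  let s : ℕ → F := fun r => if hr : D.IsPosRoot r then Classical.choose (e4 r hr) else 0
  have hs : ∀ r, D.IsPosRoot r → ι (s r) = t r := by
    intro r hr
    simp only [s, dif_pos hr]
    exact Classical.choose_spec (e4 r hr)
  obtain ⟨z, hz, hzm⟩ := exists_mem_of_posWord D hFF.xadd.add hFF.xadd.zero
    (D.posRoots.map fun r => (r, s r)) (by
      intro q hq
      obtain ⟨r, hr, rfl⟩ := List.mem_map.1 hq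
      rw [← posFrom_zero, mem_posFrom] at hr
      exact hr.2)
  refine ⟨z, hz, ?_⟩
  apply Units.ext
  rw [mapGL_val, hzm, ht]
  have e5 : D.wordMat F (D.posRoots.map fun r => (r, s r)) = prodL D D.posRoots s := rfl
  rw [e5, prodL_map_hom]
  apply prodL_congr
  intro r hr
  rw [← posFrom_zero, mem_posFrom] at hr
  exact hs r hr.2

/-- a fixed element of `N(K)` comes from `D.group F`, if the fixed elements of `T(K)` come from `T(F)` -/
theorem mono_fixed_gen (f : K ≃+* K) (hf : ∀ t, f t = t ↔ t ∈ Set.range ι)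
    (htorus : ∀ h ∈ D.diagonalSubgroup K, Cfsg.Agent.S1080.Phi D f h = h →
      ∃ z ∈ D.diagonalSubgroup F, Matrix.GeneralLinearGroup.map ι z = h)
    (n : GL D.Idx K) (hn : n ∈ D.monomialSubgroup K) (e : Cfsg.Agent.S1080.Phi D f n = n) :
    ∃ z ∈ D.group F, Matrix.GeneralLinearGroup.map ι z = n := by
  obtain ⟨h, hh, w, hw, rfl⟩ := exists_word_of_mem_monomial D hK.xadd (etaOf D) hK.nsimple
    hK.simple_lt hK.orbit n hn
  have hf' : ∀ t, f (ι t) = ι t := fun t => (hf (ι t)).2 ⟨t, rfl⟩
  have ew : Matrix.GeneralLinearGroup.map ι (nWordGL D hFF.xadd w) = nWordGL D hK.xadd w :=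
    nWordGL_map_hom ι D hFF.xadd hK.xadd w
  have e1 : Cfsg.Agent.S1080.Phi D f (nWordGL D hK.xadd w) = nWordGL D hK.xadd w := by
    rw [← ew]
    exact phi_map_hom ι f hf' _
  have e2 : Cfsg.Agent.S1080.Phi D f h = h := by
    rw [map_mul, e1] at e
    exact mul_right_cancel e
  obtain ⟨z, hz, ez⟩ := htorus h hh e2
  refine ⟨z * nWordGL D hFF.xadd w, mul_mem (hFF.diagonal_le_group hz)
    (hFF.monomial_le_group (nWordGL_mem_monomial D hFF.xadd hFF.simple_lt w hw)), ?_⟩
  rw [map_mul, ez, ew]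

/-- **the fixed points of the field automorphism on `D.group K` come from `F`** (given the torus case) -/
theorem fix_group_gen (hS : CorSize D) (f : K ≃+* K) (hf : ∀ t, f t = t ↔ t ∈ Set.range ι)
    (htorus : ∀ h ∈ D.diagonalSubgroup K, Cfsg.Agent.S1080.Phi D f h = h →
      ∃ z ∈ D.diagonalSubgroup F, Matrix.GeneralLinearGroup.map ι z = h)
    (y : GL D.Idx K) (hy : y ∈ D.group K) (e : Cfsg.Agent.S1080.Phi D f y = y) :
    ∃ z ∈ D.group F, Matrix.GeneralLinearGroup.map ι z = y := by
  obtain ⟨u₁, hu₁, n, hn, u, hu, e1, e2, e3, rfl⟩ :=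
    Twist.exists_fixed_canonical hK (fieldTwistGen hK f) hS y hy e
  obtain ⟨z₁, hz₁, ez₁⟩ := unip_fixed_gen hFF hK ι f hf u₁ hu₁ e1
  obtain ⟨zn, hzn, ezn⟩ := mono_fixed_gen hFF hK ι f hf htorus n hn e2
  obtain ⟨z₂, hz₂, ez₂⟩ := unip_fixed_gen hFF hK ι f hf u (hK.negPartN_le_posUnipotent n hu) e3
  exact ⟨z₁ * zn * z₂, mul_mem (mul_mem (hFF.posUnipotent_le_group hz₁) hzn)
    (hFF.posUnipotent_le_group hz₂), by rw [map_mul, map_mul, ez₁, ezn, ez₂]⟩

end FK

end Cfsg.Agent.Lead.FixGen
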