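import Mathlib
import Cfsg.Prelude.Def_OddOrder
import Cfsg.Prelude.Def_OddOrderLocal
import Cfsg.Agent.Lib.Helper14.BGTransA
import Cfsg.Agent.Lib.Helper1.Focal

/-!
# Bender–Glauberman 10.2(b): `M_σ` is a Hall `σ(M)`-subgroup of `M` and of `G`

Everything is proved from two hypotheses on the maximal subgroup `M`, which are the frozen
statements of BG 10.1 (fusion control for `σ(M)`-subgroups) and BG 10.2(a),(c),(d).
-/

set_option autoImplicit false

namespace Cfsg.Agent.Lead.BGSig

open Cfsg Subgroup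
open Cfsg.Agent.Helper10 (IsPiNum)
open scoped commutatorElement

variable {G : Type*} [Group G]

section
variable [Finite G]

/-- A Sylow `p`-subgroup of `M` whose normalizer in `G` lies in `M` is a Sylow `p`-subgroup of `G`. -/
theorem exists_sylow_eq_of_normalizer_le {p : ℕ} [Fact p.Prime] (M : Subgroup G) (P : Sylow p M)
    (hN : normalizer (((P : Subgroup M).map M.subtype : Subgroup G) : Set G) ≤ M) :
    ∃ Q : Sylow p G, (Q : Subgroup G) = (P : Subgroup M).map M.subtype := by
  obtain ⟨P', hP'⟩ : ∃ P' : Subgroup G, P' = (P : Subgroup M).map M.subtype := ⟨_, rfl⟩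
  rw [← hP'] at hN ⊢
  have hP'M : P' ≤ M := by rw [hP']; exact map_subtype_le _
  have hP'p : IsPGroup p P' := by rw [hP']; exact P.2.map M.subtype
  obtain ⟨Q, hPQ⟩ := hP'p.exists_le_sylow
  refine ⟨Q, le_antisymm ?_ hPQ⟩
  by_contra hne
  have hlt : P'.subgroupOf Q < ⊤ := by
    rw [lt_top_iff_ne_top]
    intro h
    apply hne
    rw [subgroupOf_eq_top] at h
    exact h
  have hQnil : Group.IsNilpotent Q := Q.2.isNilpotent
  have hnc := Group.normalizerCondition_of_isNilpotent (G := Q) _ hlt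
  obtain ⟨x, hxN, hxP⟩ := SetLike.exists_of_lt hnc
  have hxNG : (x : G) ∈ normalizer (P' : Set G) := by
    rw [mem_normalizer_iff]
    intro h
    constructor
    · intro hh
      have hhQ : h ∈ (Q : Subgroup G) := hPQ hh
      have h1 := (mem_normalizer_iff.mp hxN ⟨h, hhQ⟩).mp (by rw [mem_subgroupOf]; exact hh)
      rw [mem_subgroupOf] at h1
      simpa using h1
    · intro hh
      have hhQ : h ∈ (Q : Subgroup G) := by
        have h1 : (x : G) * h * (x : G)⁻¹ ∈ (Q : Subgroup G) := hPQ hh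
        have h2 : h = (x : G)⁻¹ * ((x : G) * h * (x : G)⁻¹) * (x : G) := by group
        rw [h2]
        exact mul_mem (mul_mem (inv_mem x.2) h1) x.2
      have h1 := (mem_normalizer_iff.mp hxN ⟨h, hhQ⟩).mpr (by rw [mem_subgroupOf]; simpa using hh)
      rw [mem_subgroupOf] at h1
      exact h1
  have hxM : (x : G) ∈ M := hN hxNG
  have hR : IsPGroup p (((Q : Subgroup G) ⊓ M).subgroupOf M) := by
    have h1 : IsPGroup p ((Q : Subgroup G) ⊓ M : Subgroup G) := Q.2.to_le inf_le_left
    exact h1.comap_subtype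
  have hPR : (P : Subgroup M) ≤ ((Q : Subgroup G) ⊓ M).subgroupOf M := by
    intro y hy
    rw [mem_subgroupOf]
    refine ⟨hPQ ?_, y.2⟩
    rw [hP']
    exact mem_map_of_mem _ hy
  have hmax := P.3 hR hPR
  apply hxP
  rw [mem_subgroupOf, hP']
  have hx2 : (⟨(x : G), hxM⟩ : M) ∈ ((Q : Subgroup G) ⊓ M).subgroupOf M := by
    rw [mem_subgroupOf]
    exact ⟨x.2, hxM⟩
  rw [hmax] at hx2
  exact ⟨⟨(x : G), hxM⟩, hx2, rfl⟩

/-- The fusion-control hypothesis (first half of BG 10.1 for `M` and `p`). -/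
def Ctl (M : Subgroup G) (p : ℕ) : Prop :=
  ∀ X : Subgroup G, IsPGroup p X → X ≠ ⊥ → X ≤ M →
    ∀ g : G, X.map (MulAut.conj g).toMonoidHom ≤ M →
      ∃ m ∈ M, ∃ c ∈ centralizer (X : Set G), g = m * c

end

theorem commutator_eq_top_of_minSimple (hG : IsMinSimpleOddOrder G) : _root_.commutator G = ⊤ := by
  obtain ⟨-, hs, hna, -⟩ := hG
  have := hs
  rcases (inferInstance : (_root_.commutator G).Normal).eq_bot_or_eq_top with h | h
  · exfalso
    apply hna
    refine ⟨⟨fun a b => ?_⟩⟩
    have h1 : ⁅a, b⁆ ∈ _root_.commutator G := commutator_mem_commutator (mem_top a) (mem_top b)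
    rw [h, mem_bot] at h1
    exact (commutatorElement_eq_one_iff_commute.mp h1).eq
  · exact h

variable [Finite G]

/-- BG 10.2, first step: a Sylow `p`-subgroup `P` of `M`, `p ∈ σ(M)` (witnessed by `P`), lies in `M'`. -/
theorem le_commutator_of_ctl (hG : IsMinSimpleOddOrder G) {p : ℕ} [Fact p.Prime] (M : Subgroup G)
    (P : Sylow p M)
    (hN : normalizer (((P : Subgroup M).map M.subtype : Subgroup G) : Set G) ≤ M)
    (hctl : Ctl M p) :
    (P : Subgroup M).map M.subtype ≤ ⁅M, M⁆ := by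
  obtain ⟨Q, hQ⟩ := exists_sylow_eq_of_normalizer_le M P hN
  have hQM : (Q : Subgroup G) ≤ M := by rw [hQ]; exact map_subtype_le _
  have hcomm := commutator_eq_top_of_minSimple hG
  have hfoc : (Q : Subgroup G).focalSubgroup = Q := by
    have h1 := commutator_inf_eq_focalSubgroup Q
    rw [hcomm, top_inf_eq] at h1
    exact h1.symm
  rw [← hQ, ← hfoc]
  apply Cfsg.Agent.Helper1.focalSubgroup_le_of_forall
  intro x hx u hux
  by_cases hx1 : x = 1
  · subst hx1
    simp
  · have hXp : IsPGroup p (zpowers x) := Q.2.to_le (zpowers_le.mpr hx)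
    have hX1 : zpowers x ≠ ⊥ := by
      intro h
      exact hx1 (zpowers_eq_bot.mp h)
    have hXM : zpowers x ≤ M := (zpowers_le.mpr hx).trans hQM
    have hmap : (zpowers x).map (MulAut.conj u).toMonoidHom ≤ M := by
      rw [MonoidHom.map_zpowers, zpowers_le]
      have := hQM hux
      simpa using this
    obtain ⟨m, hm, c, hc, rfl⟩ := hctl _ hXp hX1 hXM u hmap
    have hcx : x * c = c * x := hc x (mem_zpowers x)
    have e : m * c * x * (m * c)⁻¹ = m * x * m⁻¹ := by
      calc m * c * x * (m * c)⁻¹ = m * (c * x) * c⁻¹ * m⁻¹ := by group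
        _ = m * (x * c) * c⁻¹ * m⁻¹ := by rw [hcx]
        _ = m * x * m⁻¹ := by group
    have e2 : x * (m * c * x * (m * c)⁻¹)⁻¹ = ⁅x, m⁆ := by
      rw [e, commutatorElement_def]
      group
    rw [e2]
    exact commutator_mem_commutator (hQM hx) hm


/-- The part of BG 10.2 (frozen statement S1405) used for `M_σ`. -/
structure Alpha (M : Subgroup G) : Prop where
  hall : IsPiHallOf (alpha M) (alphaCore M) M
  le : alphaCore M ≤ sigmaCore M
  nil : Group.IsNilpotent
    ↥((_root_.commutator ↥M).map (QuotientGroup.mk' (piCore (alpha M) ↥M)))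

theorem isPiNum_card_sigmaCore (M : Subgroup G) : IsPiNum (sigma M) (Nat.card ↥(sigmaCore M)) :=
  Cfsg.Agent.Helper14.BGTrans.card_piCoreOf (sigma M) M

/-- BG 10.2(b), main step: for `p ∈ σ(M)` the Sylow `p`-subgroups of `M` lie in `M_σ`. -/
theorem sylow_le_sigmaCore (hG : IsMinSimpleOddOrder G) (M : Subgroup G) (hα : Alpha M)
    {p : ℕ} [Fact p.Prime] (P : Sylow p M)
    (hN : normalizer (((P : Subgroup M).map M.subtype : Subgroup G) : Set G) ≤ M)
    (hctl : Ctl M p) (hpσ : p ∈ sigma M) :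
    (P : Subgroup M).map M.subtype ≤ sigmaCore M := by
  have hPcomm : (P : Subgroup M) ≤ _root_.commutator ↥M := by
    intro x hx
    have h1 : (x : G) ∈ ⁅M, M⁆ := le_commutator_of_ctl hG M P hN hctl (mem_map_of_mem _ hx)
    rw [← map_subtype_commutator] at h1
    exact (mem_map_iff_mem M.subtype_injective).mp h1
  have hnil := hα.nil
  obtain ⟨f, hf⟩ : ∃ f : M →* M ⧸ piCore (alpha M) ↥M,
      f = QuotientGroup.mk' (piCore (alpha M) ↥M) := ⟨_, rfl⟩
  rw [← hf] at hnil
  have hfs : Function.Surjective f := by rw [hf]; exact QuotientGroup.mk'_surjective _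
  have hfk : f.ker = piCore (alpha M) ↥M := by rw [hf]; exact QuotientGroup.ker_mk' _
  obtain ⟨D, hD⟩ : ∃ D : Subgroup (M ⧸ piCore (alpha M) ↥M), D = (_root_.commutator ↥M).map f := ⟨_, rfl⟩
  rw [← hD] at hnil
  have hDn : D.Normal := by
    rw [hD]
    exact (inferInstance : (_root_.commutator ↥M).Normal).map f hfs
  have hPbar : IsPGroup p (((P : Subgroup M).map f).subgroupOf D) := (P.2.map f).comap_subtype
  obtain ⟨S, hS⟩ := hPbar.exists_le_sylow
  have h03 : Group.IsNilpotent D ↔
      ∀ (p : ℕ) (_hp : Fact p.Prime) (P : Sylow p D), (↑P : Subgroup D).Normal :=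
    (Group.isNilpotent_of_finite_tfae (G := D)).out 0 3
  have hSn : (S : Subgroup D).Normal := h03.mp hnil p inferInstance S
  have hSc : (S : Subgroup D).Characteristic := Sylow.characteristic_of_normal S hSn
  obtain ⟨T, hT⟩ : ∃ T : Subgroup (M ⧸ piCore (alpha M) ↥M), T = (S : Subgroup D).map D.subtype := ⟨_, rfl⟩
  have hTn : T.Normal := by
    rw [hT]
    exact ConjAct.normal_of_characteristic_of_normal
  have hTp : IsPGroup p T := by rw [hT]; exact S.2.map _
  have hRn : (T.comap f).Normal := hTn.comap f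
  have hRpi : IsPiNum (sigma M) (Nat.card ↥(T.comap f)) := by
    intro q hq hqd
    haveI := Fact.mk hq
    obtain ⟨x, hx⟩ := exists_prime_orderOf_dvd_card' q hqd
    by_cases h1 : f (x : M) = 1
    · have hxA : (x : M) ∈ piCore (alpha M) ↥M := hfk.le (MonoidHom.mem_ker.mpr h1)
      have h2 : q ∣ Nat.card ↥(piCore (alpha M) ↥M) := by
        have h3 : orderOf (⟨(x : M), hxA⟩ : ↥(piCore (alpha M) ↥M)) ∣
            Nat.card ↥(piCore (alpha M) ↥M) := orderOf_dvd_natCard _
        rw [← hx]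
        rwa [← Subgroup.orderOf_coe, Subgroup.orderOf_mk] at h3 ⊢
      have h3 : Nat.card ↥(piCore (alpha M) ↥M) = Nat.card ↥(alphaCore M) := by
        unfold alphaCore
        rw [Subgroup.card_map_of_injective M.subtype_injective]
      rw [h3] at h2
      exact isPiNum_card_sigmaCore M q hq (h2.trans (Subgroup.card_dvd_of_le hα.le))
    · have hxT : f (x : M) ∈ T := x.2
      obtain ⟨k, hk⟩ := (IsPGroup.iff_orderOf.mp hTp) ⟨f (x : M), hxT⟩
      have h2 : orderOf (f (x : M)) ∣ q := by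
        have : orderOf (f (x : M)) ∣ orderOf (x : M) := orderOf_map_dvd f _
        rwa [Subgroup.orderOf_coe, hx] at this
      have h3 : orderOf (f (x : M)) = q := by
        rcases (Nat.dvd_prime hq).mp h2 with h | h
        · exact absurd (orderOf_eq_one_iff.mp h) h1
        · exact h
      have hk' : orderOf (f (x : M)) = p ^ k := by rw [← hk, ← Subgroup.orderOf_coe]
      rw [h3] at hk'
      have hp : p.Prime := Fact.out
      have h4 : q ∣ p := hq.dvd_of_dvd_pow (Dvd.intro_left 1 (by rw [one_mul, hk']))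
      have h5 : q = p := (Nat.prime_dvd_prime_iff_eq hq hp).mp h4
      rw [h5]
      exact hpσ
  have hR : T.comap f ≤ piCore (sigma M) ↥M := Cfsg.Agent.Helper10.le_piCore (sigma M) hRn hRpi
  have hPR : (P : Subgroup M) ≤ T.comap f := by
    intro x hx
    rw [mem_comap, hT]
    have hxD : f x ∈ D := by rw [hD]; exact mem_map_of_mem f (hPcomm hx)
    refine ⟨⟨f x, hxD⟩, hS ?_, rfl⟩
    rw [mem_subgroupOf]
    exact mem_map_of_mem f hx
  unfold sigmaCore
  exact map_mono (hPR.trans hR)

/-- BG 10.2(b): `M_σ` is a Hall `σ(M)`-subgroup of `M` and of `G`, and the only normal Hall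
`σ(M)`-subgroup of `M`. -/
theorem sigmaCore_hall (hG : IsMinSimpleOddOrder G) (M : Subgroup G) (hα : Alpha M)
    (hctl : ∀ p : ℕ, p.Prime → p ∈ sigma M → Ctl M p) :
    IsPiHallOf (sigma M) (sigmaCore M) M ∧ IsPiHall (sigma M) (sigmaCore M) ∧
      ∀ N : Subgroup G, M ≤ normalizer (N : Set G) → IsPiHallOf (sigma M) N M →
        N = sigmaCore M := by
  have hpi := isPiNum_card_sigmaCore M
  have hle : sigmaCore M ≤ M := Cfsg.Agent.Helper14.BGTrans.piCoreOf_le (sigma M) M
  have key : ∀ p : ℕ, p.Prime → p ∈ sigma M →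
      ¬ p ∣ (sigmaCore M).relIndex M ∧ ¬ p ∣ (sigmaCore M).index := by
    intro p hp hpσ
    haveI := Fact.mk hp
    have hpσ' := hpσ
    obtain ⟨-, -, P, hN⟩ := hpσ'
    have h1 := sylow_le_sigmaCore hG M hα P hN (hctl p hp hpσ) hpσ
    obtain ⟨Q, hQ⟩ := exists_sylow_eq_of_normalizer_le M P hN
    constructor
    · intro hd
      have h2 : (sigmaCore M).relIndex M ∣ ((P : Subgroup M).map M.subtype).relIndex M :=
        relIndex_dvd_of_le_left M h1
      have h3 : ((P : Subgroup M).map M.subtype).relIndex M = (P : Subgroup M).index := by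
        unfold relIndex subgroupOf
        rw [comap_map_eq_self_of_injective M.subtype_injective]
      rw [h3] at h2
      exact P.not_dvd_index (hd.trans h2)
    · intro hd
      have h2 : (sigmaCore M).index ∣ ((P : Subgroup M).map M.subtype).index :=
        index_dvd_of_le h1
      rw [← hQ] at h2
      exact Q.not_dvd_index (hd.trans h2)
  refine ⟨⟨hle, hpi, fun p hp hpσ => (key p hp hpσ).1⟩, ⟨hpi, fun p hp hpσ => (key p hp hpσ).2⟩, ?_⟩
  intro N hNn ⟨hNM, hNpi, hNh⟩
  have hNS : N ≤ sigmaCore M := Cfsg.Agent.Helper14.BGTrans.le_piCoreOf (sigma M) hNM hNn hNpi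
  by_contra hne
  have h1 : N.relIndex (sigmaCore M) ≠ 1 := fun h => hne (le_antisymm hNS (relIndex_eq_one.mp h))
  obtain ⟨q, hq, hqd⟩ := Nat.exists_prime_and_dvd h1
  have h2 : q ∈ sigma M := hpi q hq (hqd.trans (relIndex_dvd_card N (sigmaCore M)))
  have h3 : N.relIndex (sigmaCore M) * (sigmaCore M).relIndex M = N.relIndex M :=
    relIndex_mul_relIndex N (sigmaCore M) M hNS hle
  exact hNh q hq h2 (h3 ▸ (hqd.trans (dvd_mul_right _ _)))

end Cfsg.Agent.Lead.BGSig
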