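import Mathlib

set_option autoImplicit false
open Pointwise

namespace Cfsg.Agent.Lead

variable {G : Type*} [Group G]

theorem mem_conj_smul' {g x : G} {H : Subgroup G} :
    x ∈ MulAut.conj g • H ↔ g⁻¹ * x * g ∈ H := by
  rw [Subgroup.mem_pointwise_smul_iff_inv_smul_mem, ← map_inv, MulAut.smul_def, MulAut.conj_apply,
    inv_inv]

/-- In a simple group, the conjugates of a nontrivial subgroup are not all contained in a proper
subgroup. -/
theorem exists_conj_not_le [IsSimpleGroup G] (Q M : Subgroup G) (hQ : Q ≠ ⊥) (hM : M ≠ ⊤) :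
    ∃ g : G, ¬ (MulAut.conj g • Q ≤ M) := by
  by_contra hcon
  push Not at hcon
  apply hQ
  have hcore : M.normalCore = ⊥ := by
    rcases (inferInstance : M.normalCore.Normal).eq_bot_or_eq_top with h | h
    · exact h
    · exfalso
      apply hM
      rw [eq_top_iff, ← h]
      exact Subgroup.normalCore_le M
  rw [eq_bot_iff, ← hcore]
  intro x hx
  rw [Subgroup.normalCore, Subgroup.mem_mk]
  intro b
  apply hcon b
  rw [mem_conj_smul']
  have : b⁻¹ * (b * x * b⁻¹) * b = x := by group
  rw [this]
  exact hx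

/-- Sylow arithmetic: if `|G| = p ^ k * m` with `p ∤ m`, then Sylow `p`-subgroups have order `p ^ k`,
and `n_p` divides `m` and is `1` mod `p`. -/
theorem sylow_facts [Finite G] {p k m : ℕ} [Fact p.Prime] (hcard : Nat.card G = p ^ k * m)
    (hm : ¬ p ∣ m) :
    (∀ P : Sylow p G, Nat.card (P : Subgroup G) = p ^ k) ∧ Nat.card (Sylow p G) ∣ m ∧
      Nat.card (Sylow p G) % p = 1 := by
  have hpp : p.Prime := Fact.out
  have hm0 : m ≠ 0 := by
    rintro rfl
    exact hm (dvd_zero p)
  have hf : (Nat.card G).factorization p = k := by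
    rw [hcard, Nat.factorization_mul (pow_ne_zero k hpp.ne_zero) hm0,
      Nat.Prime.factorization_pow hpp]
    simp [Nat.factorization_eq_zero_of_not_dvd hm]
  have h1 : ∀ P : Sylow p G, Nat.card (P : Subgroup G) = p ^ k := by
    intro P
    rw [P.card_eq_multiplicity, hf]
  refine ⟨h1, ?_, ?_⟩
  · obtain ⟨P⟩ : Nonempty (Sylow p G) := inferInstance
    have hidx : (P : Subgroup G).index = m := by
      have := Subgroup.card_mul_index (P : Subgroup G)
      rw [h1 P, hcard] at this
      exact Nat.eq_of_mul_eq_mul_left (pow_pos hpp.pos k) this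
    rw [← hidx]
    exact P.card_dvd_index
  · have := card_sylow_modEq_one p G
    rw [Nat.ModEq, Nat.mod_eq_of_lt hpp.one_lt] at this
    exact this

/-- A `p`-subgroup `Q` normalizing a subgroup `T` whose order is not `1` mod `p` centralizes a
nontrivial element of `T`. -/
theorem exists_ne_one_fixed_of_pgroup [Finite G] {p : ℕ} [Fact p.Prime] (Q T : Subgroup G)
    (hQ : IsPGroup p Q) (hQT : Q ≤ Subgroup.normalizer (T : Set G))
    (hT : Nat.card T % p ≠ 1 % p) :
    ∃ t ∈ T, t ≠ 1 ∧ ∀ q ∈ Q, q * t = t * q := by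
  classical
  set S : Subgroup (Subgroup.normalizer (T : Set G)) := Q.subgroupOf (Subgroup.normalizer (T : Set G))
    with hS
  have hSp : IsPGroup p S := by
    rw [hS]
    exact hQ.comap_subtype
  haveI : Fintype T := Fintype.ofFinite _
  haveI : Fintype (MulAction.fixedPoints S T) := Fintype.ofFinite _
  have hmod := hSp.card_modEq_card_fixedPoints T
  -- the fixed points contain 1
  have h1 : (1 : T) ∈ MulAction.fixedPoints S T := by
    intro s
    exact smul_one s
  by_contra hcon
  push Not at hcon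
  have hsub : ∀ t : T, t ∈ MulAction.fixedPoints S T → t = 1 := by
    intro t ht
    by_contra hne
    have hne' : (t : G) ≠ 1 := fun h => hne (Subtype.ext h)
    obtain ⟨q, hq, hqt⟩ := hcon t t.2 hne'
    apply hqt
    have hqN : q ∈ Subgroup.normalizer (T : Set G) := hQT hq
    have hs : (⟨q, hqN⟩ : Subgroup.normalizer (T : Set G)) ∈ S := by
      rw [hS, Subgroup.mem_subgroupOf]
      exact hq
    have := ht ⟨⟨q, hqN⟩, hs⟩
    have h2 : q * (t : G) * q⁻¹ = (t : G) := congrArg Subtype.val this
    calc q * (t : G) = q * (t : G) * q⁻¹ * q := by group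
      _ = (t : G) * q := by rw [h2]
  have hcard1 : Fintype.card (MulAction.fixedPoints S T) = 1 := by
    rw [Fintype.card_eq_one_iff]
    exact ⟨⟨1, h1⟩, fun ⟨t, ht⟩ => Subtype.ext (hsub t ht)⟩
  rw [Nat.card_eq_fintype_card (α := MulAction.fixedPoints S T), hcard1, Nat.ModEq] at hmod
  exact hT hmod

end Cfsg.Agent.Lead
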