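import Mathlib
import Cfsg.Prelude.Def_OddOrder
import Cfsg.Prelude.Def_OddOrderLocal
import Cfsg.Agent.Lib.Helper14.BGTransA

/-!
# Bender–Glauberman, Theorem C(1) and plumbing for the standard factorisation `M = K U M_σ`

Everything is stated with the needed earlier results as explicit hypotheses.
-/

set_option autoImplicit false

namespace Cfsg.Agent.Lead.BGThmC

open Cfsg Subgroup
open Cfsg.Agent.Helper10 (IsPiNum)

variable {G : Type*} [Group G]

/-- Commutativity can be pulled back along an injective homomorphism. -/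
theorem isMulCommutative_of_map {H : Type*} [Group H] (f : H →* G) (hf : Function.Injective f)
    (S : Subgroup H) (h : IsMulCommutative ↥(S.map f)) : IsMulCommutative ↥S := by
  rw [isMulCommutative_iff]
  intro a b
  apply Subtype.ext
  apply hf
  simp only [Subgroup.coe_mul, map_mul]
  exact setLike_mul_comm (mem_map_of_mem f a.2) (mem_map_of_mem f b.2)

variable [Finite G]

/-- Schur–Zassenhaus: a normal Hall subgroup `M_σ` of `M` has a complement in `M`. -/
theorem exists_compl_sigmaCore (M : Subgroup G)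
    (hhall : IsPiHallOf (sigma M) (sigmaCore M) M) :
    ∃ E : Subgroup G, IsComplIn E (sigmaCore M) M := by
  obtain ⟨-, hpi, hidx⟩ := hhall
  have hsub : (sigmaCore M).subgroupOf M = piCore (sigma M) ↥M :=
    Cfsg.Agent.Helper14.BGTrans.piCoreOf_subgroupOf (sigma M) M
  have hcard : Nat.card ↥(piCore (sigma M) ↥M) = Nat.card ↥(sigmaCore M) := by
    unfold sigmaCore
    rw [Subgroup.card_map_of_injective M.subtype_injective]
  have hindex : (piCore (sigma M) ↥M).index = (sigmaCore M).relIndex M := by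
    unfold relIndex
    rw [hsub]
  have hcop : Nat.Coprime (Nat.card ↥(piCore (sigma M) ↥M)) (piCore (sigma M) ↥M).index := by
    rw [hcard, hindex]
    apply Nat.coprime_of_dvd
    intro k hk h1 h2
    exact hidx k hk (hpi k hk h1) h2
  obtain ⟨H, hH⟩ := exists_right_complement'_of_coprime hcop
  refine ⟨H.map M.subtype, map_subtype_le _, map_subtype_le _, ?_, ?_⟩
  · rw [eq_bot_iff]
    rintro x ⟨⟨y, hy, rfl⟩, hx2⟩
    have hy2 : y ∈ piCore (sigma M) ↥M := by
      unfold sigmaCore at hx2
      exact (mem_map_iff_mem M.subtype_injective).mp hx2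
    have := hH.disjoint.le_bot ⟨hy2, hy⟩
    rw [mem_bot] at this ⊢
    rw [this]
    rfl
  · intro m hm
    obtain ⟨⟨⟨a, ha⟩, ⟨b, hb⟩⟩, hab, -⟩ := (isComplement'_def.mp hH.symm).existsUnique ⟨m, hm⟩
    refine ⟨a, mem_map_of_mem _ ha, b, ?_, ?_⟩
    · unfold sigmaCore
      exact mem_map_of_mem _ hb
    · have := congrArg Subtype.val hab
      simpa using this.symm

/-- An element of prime order `p ∈ σ(M)` of `M` lies in `M_σ` when `M_σ` is a Hall subgroup. -/
theorem mem_sigmaCore_of_orderOf (M : Subgroup G)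
    (hhall : IsPiHallOf (sigma M) (sigmaCore M) M) {p : ℕ} (hp : p.Prime) (hpσ : p ∈ sigma M)
    {u : G} (huM : u ∈ M) (hu : orderOf u = p) : u ∈ sigmaCore M := by
  obtain ⟨-, -, hidx⟩ := hhall
  have hsub : (sigmaCore M).subgroupOf M = piCore (sigma M) ↥M :=
    Cfsg.Agent.Helper14.BGTrans.piCoreOf_subgroupOf (sigma M) M
  have hindex : (piCore (sigma M) ↥M).index = (sigmaCore M).relIndex M := by
    unfold relIndex
    rw [hsub]
  have h1 : orderOf ((⟨u, huM⟩ : M) : ↥M ⧸ piCore (sigma M) ↥M) ∣ p := by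
    have : orderOf ((QuotientGroup.mk' (piCore (sigma M) ↥M)) ⟨u, huM⟩) ∣ orderOf (⟨u, huM⟩ : M) :=
      orderOf_map_dvd _ _
    rw [← Subgroup.orderOf_coe] at this
    simpa [hu] using this
  have h2 : orderOf ((⟨u, huM⟩ : M) : ↥M ⧸ piCore (sigma M) ↥M) ∣ (piCore (sigma M) ↥M).index := by
    rw [index_eq_card]
    exact orderOf_dvd_natCard _
  have h3 : orderOf ((⟨u, huM⟩ : M) : ↥M ⧸ piCore (sigma M) ↥M) = 1 := by
    rcases (Nat.dvd_prime hp).mp h1 with h | h
    · exact h
    · exfalso
      rw [h, hindex] at h2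
      exact hidx p hp hpσ h2
  have h4 : (⟨u, huM⟩ : M) ∈ piCore (sigma M) ↥M :=
    (QuotientGroup.eq_one_iff _).mp (orderOf_eq_one_iff.mp h3)
  unfold sigmaCore
  exact ⟨⟨u, huM⟩, h4, rfl⟩

/-- In a standard factorisation the primes dividing `#U` are not in `σ(M)`. -/
theorem not_mem_sigma_of_dvd_card (M K U : Subgroup G) (hKU : IsSigmaDecomposition M K U)
    (hhall : IsPiHallOf (sigma M) (sigmaCore M) M) {p : ℕ} (hp : p.Prime)
    (hpU : p ∣ Nat.card U) : p ∉ sigma M := by
  intro hpσ
  haveI := Fact.mk hp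
  obtain ⟨u, hu⟩ := exists_prime_orderOf_dvd_card' p hpU
  have huM : (u : G) ∈ M := hKU.compl.1 u.2
  have hu' : orderOf (u : G) = p := by rw [Subgroup.orderOf_coe, hu]
  have h1 := mem_sigmaCore_of_orderOf M hhall hp hpσ huM hu'
  have h2 : (u : G) ∈ U ⊓ (K ⊔ sigmaCore M) := ⟨u.2, le_sup_right (a := K) h1⟩
  rw [hKU.compl.2.2.1, mem_bot] at h2
  rw [h2, orderOf_one] at hu'
  exact hp.one_lt.ne hu'

/-- BG Theorem C(1): the Sylow subgroups of `U` are abelian of rank at most `2`. -/
theorem sylow_U (M K U : Subgroup G) (hKU : IsSigmaDecomposition M K U)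
    (hhall : IsPiHallOf (sigma M) (sigmaCore M) M)
    (hαle : alphaCore M ≤ sigmaCore M) (hrank : RankLE 2 (↥M ⧸ piCore (alpha M) ↥M))
    (habel : ∀ N : Subgroup G, N ≤ M → Group.IsNilpotent N →
      (∀ p : ℕ, p.Prime → p ∣ Nat.card N → p ∉ sigma M) → IsMulCommutative N) :
    ∀ (p : ℕ), p.Prime → ∀ P : Sylow p U,
      IsMulCommutative (P : Subgroup U) ∧ PRankLE p 2 (P : Subgroup U) := by
  intro p hp P
  haveI := Fact.mk hp
  have hUM : U ≤ M := hKU.compl.1
  constructor
  · apply isMulCommutative_of_map U.subtype U.subtype_injective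
    apply habel
    · exact (map_subtype_le _).trans hUM
    · haveI : Fact p.Prime := ⟨hp⟩
      exact (P.2.map U.subtype).isNilpotent
    · intro q hq hqd
      have h1 : q ∣ Nat.card U := by
        rw [Subgroup.card_map_of_injective U.subtype_injective] at hqd
        exact hqd.trans (Subgroup.card_subgroup_dvd_card _)
      exact not_mem_sigma_of_dvd_card M K U hKU hhall hq h1
  · intro A hA hAp
    obtain ⟨φ, hφ⟩ : ∃ φ : ↥(P : Subgroup U) →* ↥M ⧸ piCore (alpha M) ↥M,
        φ = (QuotientGroup.mk' (piCore (alpha M) ↥M)).comp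
          ((Subgroup.inclusion hUM).comp (P : Subgroup U).subtype) := ⟨_, rfl⟩
    have hinj : Function.Injective φ := by
      rw [injective_iff_map_eq_one]
      intro x hx
      rw [hφ] at hx
      simp only [MonoidHom.coe_comp, Function.comp_apply, QuotientGroup.mk'_apply,
        QuotientGroup.eq_one_iff] at hx
      have h1 : ((x : U) : G) ∈ alphaCore M := by
        unfold alphaCore
        exact ⟨_, hx, rfl⟩
      have h2 : ((x : U) : G) ∈ U ⊓ (K ⊔ sigmaCore M) :=
        ⟨(x : U).2, le_sup_right (a := K) (hαle h1)⟩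
      rw [hKU.compl.2.2.1, mem_bot] at h2
      apply Subtype.ext
      apply Subtype.ext
      simpa using h2
    have hcard : Nat.card ↥(A.map φ) = Nat.card A := Subgroup.card_map_of_injective hinj
    rw [← hcard]
    apply hrank p hp (A.map φ) inferInstance
    rintro _ ⟨a, ha, rfl⟩
    rw [← map_pow, hAp a ha, map_one]

end Cfsg.Agent.Lead.BGThmC
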