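import Mathlib
import Cfsg.Prelude.Def_OddOrder
import Cfsg.Prelude.Def_OddOrderLocal
import Cfsg.Agent.Lib.Helper14.BGTransA
import Cfsg.Agent.Lib.Helper7.TypeP
import Cfsg.Agent.Lib.Helper7.Signalizer
import Cfsg.Agent.Lib.Helper1.HallConj
import Cfsg.Agent.Lib.Lead.BGSigmaHall
import Cfsg.Agent.Lib.Lead.BGThmC

/-!
# Bender–Glauberman, Theorem C(2): if `K ≠ 1` then `U` is abelian and `N_G(U) ⊄ M`

A formal consequence of BG 14.2/14.3 (S1430), the existence of `M*` (S1366) and BG 14.x (S1435),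
all taken as explicit hypotheses, plus Hall's conjugacy theorem in the solvable group `M`.
-/

set_option autoImplicit false

namespace Cfsg.Agent.Lead.BGThmC2

open Cfsg Subgroup
open scoped Pointwise

variable {G : Type*} [Group G] [Finite G]

/-- Two factorisations of `n` into a `π'`-part and a `π`-part agree. -/
theorem eq_of_hall_numbers {π : Set ℕ} {a b c d : ℕ} (h : a * b = c * d)
    (ha : ∀ p : ℕ, p.Prime → p ∣ a → p ∉ π) (hc : ∀ p : ℕ, p.Prime → p ∣ c → p ∉ π)
    (hb : ∀ p : ℕ, p.Prime → p ∣ b → p ∈ π) (hd : ∀ p : ℕ, p.Prime → p ∣ d → p ∈ π) :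
    a = c := by
  have had : a.Coprime d := Nat.coprime_of_dvd (fun k hk hka hkd => ha k hk hka (hd k hk hkd))
  have hcb : c.Coprime b := Nat.coprime_of_dvd (fun k hk hkc hkb => hc k hk hkc (hb k hk hkb))
  have h1 : a ∣ c := had.dvd_of_dvd_mul_right (h ▸ Dvd.intro _ rfl)
  have h2 : c ∣ a := hcb.dvd_of_dvd_mul_right (h.symm ▸ Dvd.intro _ rfl)
  exact Nat.dvd_antisymm h1 h2

/-- Prime divisors of `#(K M_σ)` lie in `κ(M) ∪ σ(M)`. -/
theorem prime_dvd_card_sup (M K U : Subgroup G) (hKU : IsSigmaDecomposition M K U)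
    {p : ℕ} (hp : p.Prime) (hpd : p ∣ Nat.card ↥(K ⊔ sigmaCore M)) :
    p ∈ kappa M ∨ p ∈ sigma M := by
  have hn : K ≤ normalizer (sigmaCore M : Set G) :=
    hKU.hall.1.trans (Cfsg.Agent.Helper14.BGTrans.le_normalizer_piCoreOf (sigma M) M)
  have h1 : Nat.card ↥(K ⊔ sigmaCore M) ∣ Nat.card (sigmaCore M) * Nat.card K := by
    rw [sup_comm]
    exact Cfsg.Agent.Helper7.card_sup_dvd_mul_of_le_normalizer hn
  rcases (Nat.Prime.dvd_mul hp).mp (hpd.trans h1) with h | h
  · exact Or.inr (Cfsg.Agent.Lead.BGSig.isPiNum_card_sigmaCore M p hp h)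
  · exact Or.inl (hKU.hall.2.1 p hp h)

/-- `#K = #H · |K : H|` for `H ≤ K`. -/
theorem card_eq_mul_relIndex {H K : Subgroup G} (h : H ≤ K) :
    Nat.card K = Nat.card H * H.relIndex K := by
  rw [← Subgroup.card_mul_index (H.subgroupOf K)]
  congr 1
  exact Nat.card_congr (Subgroup.subgroupOfEquivOfLe h).toEquiv

/-- Prime divisors of `#U` do not lie in `κ(M)`. -/
theorem not_mem_kappa_of_dvd_card (M K U : Subgroup G) (hKU : IsSigmaDecomposition M K U)
    {p : ℕ} (hp : p.Prime) (hpU : p ∣ Nat.card U) : p ∉ kappa M := by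
  intro hpκ
  apply hKU.hall.2.2 p hp hpκ
  -- `#U ∣ |M : K|`
  have hcard := Cfsg.Agent.Helper7.IsComplIn.card_eq hKU.compl
  have h1 : Nat.card ↥(K ⊔ sigmaCore M) = Nat.card K * K.relIndex (K ⊔ sigmaCore M) :=
    card_eq_mul_relIndex le_sup_left
  have h2 : Nat.card M = Nat.card K * K.relIndex M := card_eq_mul_relIndex hKU.hall.1
  have h3 : K.relIndex M = Nat.card U * K.relIndex (K ⊔ sigmaCore M) := by
    have hKpos : 0 < Nat.card K := Nat.card_pos
    apply Nat.eq_of_mul_eq_mul_left hKpos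
    rw [← h2, hcard, h1]
    ring
  rw [h3]
  exact hpU.mul_right _

/-- `U` is conjugate in `M` to every Hall `(κ(M) ∪ σ(M))'`-subgroup of `M`; in particular it is
abelian if one of them is. -/
theorem U_abelian (hG : IsMinSimpleOddOrder G) (M K U : Subgroup G) (hM : IsCoatom M)
    (hKU : IsSigmaDecomposition M K U) (hhall : IsPiHallOf (sigma M) (sigmaCore M) M)
    (U₀ : Subgroup G) (hU₀c : IsMulCommutative U₀)
    (hU₀ : IsPiHallOf {q | q.Prime ∧ q ∉ kappa M ∧ q ∉ sigma M} U₀ M) :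
    IsMulCommutative U := by
  have hUM : U ≤ M := hKU.compl.1
  haveI : Group.IsSolvable ↥M := hG.2.2.2 M hM.1
  have hcard := Cfsg.Agent.Helper7.IsComplIn.card_eq hKU.compl
  have hcard₀ : Nat.card M = Nat.card U₀ * U₀.relIndex M := card_eq_mul_relIndex hU₀.1
  -- the orders agree
  have hU_pi' : ∀ p : ℕ, p.Prime → p ∣ Nat.card U → p ∉ kappa M ∪ sigma M := by
    intro p hp hpU hmem
    rcases hmem with h | h
    · exact not_mem_kappa_of_dvd_card M K U hKU hp hpU h
    · exact Cfsg.Agent.Lead.BGThmC.not_mem_sigma_of_dvd_card M K U hKU hhall hp hpU h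
  have hU₀_pi' : ∀ p : ℕ, p.Prime → p ∣ Nat.card U₀ → p ∉ kappa M ∪ sigma M := by
    intro p hp hpU hmem
    have := hU₀.2.1 p hp hpU
    rcases hmem with h | h
    · exact this.2.1 h
    · exact this.2.2 h
  have hKM_pi : ∀ p : ℕ, p.Prime → p ∣ Nat.card ↥(K ⊔ sigmaCore M) → p ∈ kappa M ∪ sigma M :=
    fun p hp hpd => prime_dvd_card_sup M K U hKU hp hpd
  have hidx_pi : ∀ p : ℕ, p.Prime → p ∣ U₀.relIndex M → p ∈ kappa M ∪ sigma M := by
    intro p hp hpd
    by_contra hnot
    apply hU₀.2.2 p hp ⟨hp, fun h => hnot (Or.inl h), fun h => hnot (Or.inr h)⟩ hpd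
  have heq : Nat.card U = Nat.card U₀ :=
    eq_of_hall_numbers (hcard.symm.trans hcard₀) hU_pi' hU₀_pi' hKM_pi hidx_pi
  have hcop : (Nat.card U).Coprime (Nat.card ↥(K ⊔ sigmaCore M)) :=
    Nat.coprime_of_dvd (fun k hk hka hkd => hU_pi' k hk hka (hKM_pi k hk hkd))
  -- Hall conjugacy in `M`
  obtain ⟨g, hg⟩ := Cfsg.Agent.Helper1.hall_conj (G := ↥M) (Nat.card U)
    (Nat.card ↥(K ⊔ sigmaCore M)) hcard hcop (U.subgroupOf M) (U₀.subgroupOf M)
    (Nat.card_congr (Subgroup.subgroupOfEquivOfLe hUM).toEquiv)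
    ((Nat.card_congr (Subgroup.subgroupOfEquivOfLe hU₀.1).toEquiv).trans heq.symm)
  rw [isMulCommutative_iff]
  intro a b
  apply Subtype.ext
  have hmem : ∀ x : U, (g : G) * (x : G) * (g : G)⁻¹ ∈ U₀ := by
    intro x
    have hx : (⟨(x : G), hUM x.2⟩ : M) ∈ U.subgroupOf M := by
      rw [Subgroup.mem_subgroupOf]; exact x.2
    have h1 : MulAut.conj g • (⟨(x : G), hUM x.2⟩ : M) ∈ MulAut.conj g • U.subgroupOf M :=
      Subgroup.smul_mem_pointwise_smul _ _ _ hx
    rw [hg, Subgroup.mem_subgroupOf] at h1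
    simpa [MulAut.smul_def, MulAut.conj_apply] using h1
  have hcomm := setLike_mul_comm (hmem a) (hmem b)
  have h2 : (g : G) * ((a : G) * (b : G)) * (g : G)⁻¹ = (g : G) * ((b : G) * (a : G)) * (g : G)⁻¹ := by
    have e1 : (g : G) * ((a : G) * (b : G)) * (g : G)⁻¹
        = ((g : G) * (a : G) * (g : G)⁻¹) * ((g : G) * (b : G) * (g : G)⁻¹) := by group
    have e2 : (g : G) * ((b : G) * (a : G)) * (g : G)⁻¹
        = ((g : G) * (b : G) * (g : G)⁻¹) * ((g : G) * (a : G) * (g : G)⁻¹) := by group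
    rw [e1, e2, hcomm]
  simpa using mul_left_cancel (mul_right_cancel h2)

/-- `N_G(U) ⊄ M` when `K ≠ 1`, from the existence of `M*` and BG 14.x. -/
theorem normalizer_U_not_le (hG : IsMinSimpleOddOrder G) (M K U : Subgroup G) (hM : IsCoatom M)
    (hKU : IsSigmaDecomposition M K U)
    (hex : ∃ Mstar : Subgroup G, IsCoatom Mstar ∧
      K = sigmaCore Mstar ⊓ centralizer ((sigmaCore M ⊓ centralizer (K : Set G)) : Set G) ∧
      IsPiHallOf (kappa Mstar) (sigmaCore M ⊓ centralizer (K : Set G)) Mstar)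
    (h1435 : U ≠ ⊥ → ∀ Mstar : Subgroup G, IsCoatom Mstar →
      K = sigmaCore Mstar ⊓ centralizer ((sigmaCore M ⊓ centralizer (K : Set G)) : Set G) →
      IsPiHallOf (kappa Mstar) (sigmaCore M ⊓ centralizer (K : Set G)) Mstar →
      ∀ (r : ℕ) [Fact r.Prime], r ∣ Nat.card U → ∀ (R : Sylow r U) (H : Subgroup G), IsCoatom H →
        normalizer (((R : Subgroup U).map U.subtype : Subgroup G) : Set G) ≤ H →
        ¬ H ⊓ normalizer (U : Set G) ≤ M) :
    ¬ normalizer (U : Set G) ≤ M := by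
  by_cases hU1 : U = ⊥
  · subst hU1
    intro h
    apply hM.1
    rw [eq_top_iff]
    refine le_trans ?_ h
    intro x _
    rw [Subgroup.mem_normalizer_iff]
    intro y
    simp [Subgroup.mem_bot]
  · obtain ⟨Mstar, hMs, hKst, hKstH⟩ := hex
    have hUM : U ≤ M := hKU.compl.1
    have hcard1 : Nat.card U ≠ 1 := by
      intro h
      exact hU1 (Subgroup.card_eq_one.mp h)
    obtain ⟨r, hr, hrU⟩ := Nat.exists_prime_and_dvd hcard1
    haveI := Fact.mk hr
    let R : Sylow r U := default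
    have hR1 : ((R : Subgroup U).map U.subtype : Subgroup G) ≠ ⊥ := by
      intro h
      have h2 : (R : Subgroup U) = ⊥ := by
        rw [Subgroup.map_eq_bot_iff_of_injective _ U.subtype_injective] at h
        exact h
      have h3 := R.card_eq_multiplicity
      have h4 : r ∣ Nat.card (R : Subgroup U) := by
        rw [h3]
        apply dvd_pow_self
        have : 0 < (Nat.card U).factorization r :=
          hr.factorization_pos_of_dvd Nat.card_pos.ne' hrU
        omega
      rw [h2, Subgroup.card_bot] at h4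
      exact hr.one_lt.ne' (Nat.dvd_one.mp h4)
    have hRM : ((R : Subgroup U).map U.subtype : Subgroup G) ≤ M :=
      (Subgroup.map_subtype_le _).trans hUM
    have hN : normalizer (((R : Subgroup U).map U.subtype : Subgroup G) : Set G) ≠ ⊤ := by
      intro h
      haveI : ((R : Subgroup U).map U.subtype : Subgroup G).Normal :=
        Subgroup.normalizer_eq_top_iff.mp h
      haveI := hG.2.1
      rcases Subgroup.Normal.eq_bot_or_eq_top
        (inferInstance : ((R : Subgroup U).map U.subtype : Subgroup G).Normal) with h' | h'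
      · exact hR1 h'
      · apply hM.1
        rw [eq_top_iff, ← h']
        exact hRM
    obtain ⟨H, hH, hNH⟩ := (eq_top_or_exists_le_coatom
      (normalizer (((R : Subgroup U).map U.subtype : Subgroup G) : Set G))).resolve_left hN
    intro hle
    exact h1435 hU1 Mstar hMs hKst hKstH r hrU R H hH hNH (inf_le_right.trans hle)

end Cfsg.Agent.Lead.BGThmC2
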