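import Mathlib
import Cfsg.Prelude.Def_OddOrder
import Cfsg.Prelude.Def_OddOrderLocal
import Cfsg.Agent.Lib.Helper14.BGTransA
import Cfsg.Agent.Lib.Helper23.BG10A
import Cfsg.Agent.Lib.Helper7.BG121b

/-!
# Bender–Glauberman: every nonabelian `p`-subgroup lies in a unique maximal subgroup

A formal consequence of the Uniqueness Theorem (S1403), `M_σ` is a Hall subgroup (S1350),
the abelian Sylow subgroups for `τ₂(M)` (S1417) and BG Lemma 13.1 (S1423, first part), all
taken as hypotheses: if `P` is a nonabelian `p`-subgroup and `P ≤ M` maximal, then `p ∈ σ(M)`,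
`P ≤ M_σ` and a subgroup `X` of order `p` of `P'` lies in `(M_σ)'`, so `𝓜(C_G(X)) = {M}`.
-/

set_option autoImplicit false

namespace Cfsg.Agent.Lead.BGNonab

open Cfsg Subgroup
open scoped commutatorElement
open Cfsg.Agent.Helper23.BG10 (UniqThm)

universe u

variable {G : Type u} [Group G] [Finite G]

/-- A `p`-subgroup of `M` lies in `M_σ` when `p ∈ σ(M)` and `M_σ` is a Hall subgroup. -/
theorem le_sigmaCore_of_isPGroup (M : Subgroup G)
    (hhall : IsPiHallOf (sigma M) (sigmaCore M) M) {p : ℕ} (hp : p.Prime) (hpσ : p ∈ sigma M)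
    {P : Subgroup G} (hP : IsPGroup p P) (hPM : P ≤ M) : P ≤ sigmaCore M := by
  intro u huP
  have huM : u ∈ M := hPM huP
  obtain ⟨-, -, hidx⟩ := hhall
  have hsub : (sigmaCore M).subgroupOf M = piCore (sigma M) ↥M :=
    Cfsg.Agent.Helper14.BGTrans.piCoreOf_subgroupOf (sigma M) M
  have hindex : (piCore (sigma M) ↥M).index = (sigmaCore M).relIndex M := by
    unfold relIndex
    rw [hsub]
  obtain ⟨k, hk⟩ := hP ⟨u, huP⟩
  have hk' : u ^ p ^ k = 1 := by
    have := congrArg Subtype.val hk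
    simpa using this
  have h1 : orderOf ((⟨u, huM⟩ : M) : ↥M ⧸ piCore (sigma M) ↥M) ∣ p ^ k := by
    apply orderOf_dvd_of_pow_eq_one
    rw [← QuotientGroup.mk_pow]
    have : (⟨u, huM⟩ : M) ^ p ^ k = 1 := Subtype.ext (by simpa using hk')
    rw [this]
    rfl
  have h2 : orderOf ((⟨u, huM⟩ : M) : ↥M ⧸ piCore (sigma M) ↥M) ∣ (piCore (sigma M) ↥M).index := by
    rw [index_eq_card]
    exact orderOf_dvd_natCard _
  have h3 : orderOf ((⟨u, huM⟩ : M) : ↥M ⧸ piCore (sigma M) ↥M) = 1 := by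
    by_contra hne
    obtain ⟨j, -, hj⟩ := (Nat.dvd_prime_pow hp).mp h1
    have hj0 : j ≠ 0 := by
      rintro rfl
      exact hne (by simpa using hj)
    have hpd : p ∣ orderOf ((⟨u, huM⟩ : M) : ↥M ⧸ piCore (sigma M) ↥M) := by
      rw [hj]; exact dvd_pow_self p hj0
    exact hidx p hp hpσ (hindex ▸ hpd.trans h2)
  have h4 : (⟨u, huM⟩ : M) ∈ piCore (sigma M) ↥M :=
    (QuotientGroup.eq_one_iff _).mp (orderOf_eq_one_iff.mp h3)
  unfold sigmaCore
  exact ⟨⟨u, huM⟩, h4, rfl⟩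

/-- If a maximal subgroup `M` contains a nonabelian `p`-subgroup, then `p ∈ σ(M)`. -/
theorem mem_sigma_of_nonabelian (hG : IsMinSimpleOddOrder G) (hU : UniqThm G)
    (h1417 : ∀ M : Subgroup G, IsCoatom M → ∀ (p : ℕ) [Fact p.Prime], p ∈ tau2 M →
      ∀ A : Subgroup G, (A ≤ M ∧ IsElementaryAbelian p A ∧ Nat.card A = p ^ 2) →
      ∀ P : Sylow p M, IsMulCommutative (P : Subgroup M))
    {M : Subgroup G} (hM : IsCoatom M) {p : ℕ} [Fact p.Prime] {P : Subgroup G}
    (hP : IsPGroup p P) (hPna : ¬ IsMulCommutative P) (hPM : P ≤ M) : p ∈ sigma M := by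
  have hp : p.Prime := Fact.out
  by_contra hpσ
  by_cases hr2 : PRankLE p 2 ↥M
  · by_cases hr1 : PRankLE p 1 ↥M
    · -- cyclic Sylow subgroups
      haveI : Nontrivial ↥P := by
        by_contra hnt
        rw [not_nontrivial_iff_subsingleton] at hnt
        apply hPna
        rw [isMulCommutative_iff]
        intro a b
        exact Subsingleton.elim _ _
      have hc : IsCyclic ↥P :=
        Cfsg.Agent.Helper7.BG12.isCyclic_of_pRankLE_one_of_injective hG.1 hr1 (Subgroup.inclusion hPM)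
          (Subgroup.inclusion_injective hPM) hP
      apply hPna
      rw [isMulCommutative_iff]
      intro a b
      haveI := hc
      exact (IsCyclic.commGroup (α := ↥P)).mul_comm a b
    · -- `p ∈ τ₂(M)`
      have hτ : p ∈ tau2 M := ⟨hp, hpσ, hr2, hr1⟩
      obtain ⟨A, hAM, hAe, hAc⟩ := Cfsg.Agent.Helper23.BG10.exists_elemAb_sq hr2 hr1
      have hPsub : IsPGroup p ↥(P.subgroupOf M) :=
        hP.of_equiv (Subgroup.subgroupOfEquivOfLe hPM).symm
      obtain ⟨Q, hQ⟩ := hPsub.exists_le_sylow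
      have hQc := h1417 M hM p hτ A ⟨hAM, hAe, hAc⟩ Q
      apply hPna
      rw [isMulCommutative_iff]
      intro a b
      have ha : (⟨(a : G), hPM a.2⟩ : M) ∈ (Q : Subgroup M) :=
        hQ (by rw [Subgroup.mem_subgroupOf]; exact a.2)
      have hb : (⟨(b : G), hPM b.2⟩ : M) ∈ (Q : Subgroup M) :=
        hQ (by rw [Subgroup.mem_subgroupOf]; exact b.2)
      have := setLike_mul_comm ha hb
      apply Subtype.ext
      have := congrArg Subtype.val this
      simpa using this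
  · exact hpσ (Cfsg.Agent.Helper23.BG10.alpha_subset_sigma hG hU hM ⟨hp, hr2⟩)

/-- BG: a nonabelian `p`-subgroup lies in a unique maximal subgroup. -/
theorem nonabelian_uniqueness (hG : IsMinSimpleOddOrder G) (hU : UniqThm G)
    (h1350 : ∀ M : Subgroup G, IsCoatom M → IsPiHallOf (sigma M) (sigmaCore M) M)
    (h1417 : ∀ M : Subgroup G, IsCoatom M → ∀ (p : ℕ) [Fact p.Prime], p ∈ tau2 M →
      ∀ A : Subgroup G, (A ≤ M ∧ IsElementaryAbelian p A ∧ Nat.card A = p ^ 2) →
      ∀ P : Sylow p M, IsMulCommutative (P : Subgroup M))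
    (h1423 : ∀ M : Subgroup G, IsCoatom M → ∀ (p : ℕ) [Fact p.Prime], p ∈ sigma M →
      ∀ X : Subgroup G, X ≤ M → Nat.card X = p → X ≤ ⁅sigmaCore M, sigmaCore M⁆ →
      (centralizer (X : Set G) ≤ M ∧
        ∀ L : Subgroup G, IsCoatom L → centralizer (X : Set G) ≤ L → L = M))
    (p : ℕ) [Fact p.Prime] (P : Subgroup G) (hP : IsPGroup p P) (hPna : ¬ IsMulCommutative P) :
    InUniqueMaximal P := by
  have hp : p.Prime := Fact.out
  -- a subgroup of order `p` in `P'`
  have hP' : ⁅P, P⁆ ≠ ⊥ := by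
    intro h
    apply hPna
    rw [isMulCommutative_iff]
    intro a b
    apply Subtype.ext
    have h1 : ⁅(a : G), (b : G)⁆ ∈ ⁅P, P⁆ := Subgroup.commutator_mem_commutator a.2 b.2
    rw [h, Subgroup.mem_bot] at h1
    have := commutatorElement_eq_one_iff_mul_comm.mp h1
    simpa using this
  have hP'le : ⁅P, P⁆ ≤ P := Subgroup.commutator_le.mpr (fun a ha b hb =>
    P.mul_mem (P.mul_mem (P.mul_mem ha hb) (P.inv_mem ha)) (P.inv_mem hb))
  have hP'p : IsPGroup p ↥⁅P, P⁆ := hP.to_le hP'le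
  have hdvd : p ∣ Nat.card ↥⁅P, P⁆ := by
    obtain ⟨n, hn⟩ := IsPGroup.iff_card.mp hP'p
    have hn0 : n ≠ 0 := by
      rintro rfl
      rw [pow_zero] at hn
      exact hP' (Subgroup.card_eq_one.mp hn)
    rw [hn]; exact dvd_pow_self p hn0
  obtain ⟨x, hx⟩ := exists_prime_orderOf_dvd_card' p hdvd
  obtain ⟨X, hX⟩ : ∃ X : Subgroup G, X = Subgroup.zpowers (x : G) := ⟨_, rfl⟩
  have hXc : Nat.card X = p := by
    rw [hX, Nat.card_zpowers, Subgroup.orderOf_coe, hx]
  have hXP' : X ≤ ⁅P, P⁆ := by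
    rw [hX, Subgroup.zpowers_le]; exact x.2
  -- the key claim for every maximal subgroup containing `P`
  have key : ∀ M : Subgroup G, IsCoatom M → P ≤ M →
      (centralizer (X : Set G) ≤ M ∧
        ∀ L : Subgroup G, IsCoatom L → centralizer (X : Set G) ≤ L → L = M) := by
    intro M hM hPM
    have hpσ : p ∈ sigma M := mem_sigma_of_nonabelian hG hU h1417 hM hP hPna hPM
    have hPσ : P ≤ sigmaCore M := le_sigmaCore_of_isPGroup M (h1350 M hM) hp hpσ hP hPM
    exact h1423 M hM p hpσ X ((hXP'.trans hP'le).trans hPM) hXc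
      (hXP'.trans (Subgroup.commutator_mono hPσ hPσ))
  have hPtop : P ≠ ⊤ := Cfsg.Agent.Helper14.BGTrans.ne_top_of_isPGroup hG hP
  obtain ⟨M, hM, hPM⟩ := (eq_top_or_exists_le_coatom P).resolve_left hPtop
  refine ⟨M, ⟨hM, hPM⟩, ?_⟩
  rintro L ⟨hL, hPL⟩
  exact (key M hM hPM).2 L hL (key L hL hPL).1

end Cfsg.Agent.Lead.BGNonab
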