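import Mathlib
import Cfsg.Agent.Lib.Helper5.ChevUnipotent

/-!
# The height grading of the adjoint module: elements of `U` are unitriangular for a coarse grading
-/

set_option autoImplicit false
set_option linter.unusedSectionVars false
set_option linter.unusedSimpArgs false
set_option linter.unusedVariables false
set_option linter.style.haveILetI false

namespace Cfsg.Agent.Lead.ChevHt

open Cfsg Cfsg.Lie Cfsg.Agent.Helper5

/-- table check for a level function `L` on the roots, the toral part sitting at level `c` -/
def LevelOk (D : ChevalleyDatum) (L : ℕ → ℕ) (c : ℕ) : Prop :=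
  ∀ r < D.nroots, D.IsPosRoot r →
    (c < L r ∧ L (D.negIdx.getD r 0) < c ∧
      ∀ e ∈ (D.chain.getD r #[]).toList, ∀ q ∈ e.2.toList, L e.1 < L q.1)

instance instDecidableLevelOk (D : ChevalleyDatum) (L : ℕ → ℕ) (c : ℕ) : Decidable (LevelOk D L c) := by
  unfold LevelOk; infer_instance

/-- the level function on the coordinates -/
def lev (D : ChevalleyDatum) (L : ℕ → ℕ) (c : ℕ) : D.Idx → ℕ
  | Sum.inl _ => c
  | Sum.inr s => L s.val

/-- For a positive root `r`, `x_r(t) - 1` strictly raises the level. -/
theorem xMat_sub_one_lowers {F : Type*} [Field F] (D : ChevalleyDatum) (L : ℕ → ℕ) (c : ℕ)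
    (hD : LevelOk D L c) (r : Fin D.nroots) (hr : D.IsPosRoot r.val) (t : F) :
    Lowers (lev D L c) 1 (D.xMat F r t - 1) := by
  obtain ⟨hrN, hnegN, hchain⟩ := hD r.val r.2 hr
  intro row col hlt
  rw [Matrix.sub_apply]
  rcases col with i | s
  · rcases row with i' | u
    · simp [ChevalleyDatum.xMat, Matrix.one_apply]
    · by_cases hur : u = r
      · exfalso
        subst hur
        simp only [lev] at hlt
        omega
      · simp [ChevalleyDatum.xMat, Matrix.one_apply, hur]
  · by_cases hsr : s = r
    · rcases row with i' | u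
      · simp [ChevalleyDatum.xMat, Matrix.one_apply, hsr]
      · simp [ChevalleyDatum.xMat, Matrix.one_apply, hsr]
    · by_cases hneg : s.val = D.negIdx.getD r.val 0
      · rcases row with i' | u
        · exfalso
          simp only [lev] at hlt
          rw [hneg] at hlt
          omega
        · by_cases hus : u = s
          · simp [ChevalleyDatum.xMat, Matrix.one_apply, hsr, hneg, hus]
          · by_cases hur : u = r
            · exfalso
              subst hur
              simp only [lev] at hlt
              rw [hneg] at hlt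
              omega
            · simp [ChevalleyDatum.xMat, Matrix.one_apply, hsr, hneg, hus, hur]
      · rcases row with i' | u
        · simp only [ChevalleyDatum.xMat, Matrix.of_apply, hsr, hneg, if_false, Matrix.one_apply]
          simp
        · have hnil : D.chainCoeff r.val s.val u.val = [] := by
            rw [List.eq_nil_iff_forall_not_mem]
            intro km hkm
            obtain ⟨e, he, hes, q, hq, hqu⟩ := chainCoeff_mem D _ _ _ km hkm
            have h1 := hchain e he q hq
            rw [hes, hqu] at h1
            simp only [lev] at hlt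
            omega
          simp only [ChevalleyDatum.xMat, Matrix.of_apply, hsr, hneg, if_false, hnil, List.map_nil,
            List.sum_nil, add_zero, Matrix.one_apply, Sum.inr.injEq]
          simp

/-- elements of `U` are unitriangular with respect to the level function -/
theorem posUnipotent_lowers {F : Type*} [Field F] (D : ChevalleyDatum) (L : ℕ → ℕ) (c n : ℕ)
    (hD : LevelOk D L c) (hb : ∀ i, lev D L c i < n) (u : GL D.Idx F) (hu : u ∈ D.posUnipotent F) :
    Lowers (lev D L c) 1 ((u : Matrix D.Idx D.Idx F) - 1) := by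
  have hle : D.posUnipotent F ≤ lowerSubgroup (R := F) (lev D L c) n hb 1 le_rfl := by
    unfold ChevalleyDatum.posUnipotent
    rw [Subgroup.closure_le]
    rintro g ⟨r, t, hr, hg⟩
    show Lowers (lev D L c) 1 ((g : Matrix D.Idx D.Idx F) - 1)
    rw [hg]
    unfold ChevalleyDatum.x
    rw [dif_pos hr.1]
    exact xMat_sub_one_lowers D L c hD ⟨r, hr.1⟩ hr t
  exact hle hu

/-- in characteristic `p`, elements of `U` have order dividing `p ^ k` once `n ≤ p ^ k` -/
theorem posUnipotent_pow_eq_one {F : Type*} [Field F] (p : ℕ) [hp : Fact p.Prime] [CharP F p]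
    (D : ChevalleyDatum) [Nonempty D.Idx] (L : ℕ → ℕ) (c n k : ℕ)
    (hD : LevelOk D L c) (hb : ∀ i, lev D L c i < n) (hnk : n ≤ p ^ k)
    (u : GL D.Idx F) (hu : u ∈ D.posUnipotent F) : u ^ (p ^ k) = 1 := by
  have hlow := posUnipotent_lowers D L c n hD hb u hu
  set A : Matrix D.Idx D.Idx F := (u : Matrix D.Idx D.Idx F) - 1 with hA
  have hAn : A ^ (p ^ k) = 0 := by
    apply Lowers.eq_zero hb
    refine (Lowers.pow hlow (p ^ k)).mono ?_
    rw [mul_one]
    exact hnk
  have hu1 : (u : Matrix D.Idx D.Idx F) = A + 1 := by rw [hA]; abel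
  apply Units.ext
  rw [Units.val_pow_eq_pow_val, Units.val_one, hu1,
    add_pow_char_pow_of_commute p k (Commute.one_right A), hAn, one_pow,
    zero_add]

/-- the levels `11 + height` of the roots of `F₄` -/
def htL_F4 : List ℕ := [0, 1, 2, 3, 4, 5, 6, 4, 5, 6, 7, 7, 8, 9, 10, 6, 7, 8, 8, 9, 10, 9, 10, 10, 12, 12, 13,
  12, 13, 14, 14, 15, 16, 12, 13, 14, 15, 15, 16, 17, 18, 16, 17, 18, 19, 20, 21, 22]

set_option maxRecDepth 1000000 in
theorem levelOk_F4 : LevelOk chevF4 (fun r => htL_F4.getD r 0) 11 := by decide +kernel

theorem lev_F4_lt : ∀ i : chevF4.Idx, lev chevF4 (fun r => htL_F4.getD r 0) 11 i < 23 := by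
  intro i
  rcases i with i | s
  · simp only [lev]; norm_num
  · simp only [lev]
    have : ∀ s : Fin chevF4.nroots, htL_F4.getD s.val 0 < 23 := by decide +kernel
    exact this s

instance : Nonempty chevF4.Idx := ⟨Sum.inl ⟨0, by decide⟩⟩

/-- **in characteristic 2, the elements of `U` in type `F₄` have order dividing 32** -/
theorem F4_pow_32 {F : Type*} [Field F] [CharP F 2] (u : GL chevF4.Idx F) (hu : u ∈ chevF4.posUnipotent F) :
    u ^ 32 = 1 := by
  haveI : Fact (Nat.Prime 2) := ⟨Nat.prime_two⟩
  have := posUnipotent_pow_eq_one (F := F) 2 chevF4 (fun r => htL_F4.getD r 0) 11 23 5 levelOk_F4 lev_F4_lt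
    (by norm_num) u hu
  simpa using this

end Cfsg.Agent.Lead.ChevHt
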