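import Mathlib
import Cfsg.Agent.Lib.Lead.TwOrth

/-!
# Decidable form of the table conditions `OrthData`
-/

set_option autoImplicit false
set_option linter.unusedSectionVars false
set_option linter.unusedSimpArgs false
set_option linter.unusedVariables false

namespace Cfsg.Agent.Lead.Tw

open Cfsg Cfsg.Lie Cfsg.Agent.Lead.Chev

variable {K : Type*} [Field K]

instance instDecInSpanLetters (D : ChevalleyDatum) (v : List ℕ) (r : ℕ) : Decidable (InSpan D (letters v) r) :=
  inferInstanceAs (Decidable (∀ j < D.rank, j ∉ letters v → cv D r j = 0))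

/-- boolean test of `RedChain` -/
def redChainB (D : ChevalleyDatum) : List (List ℕ) → Bool
  | [] => true
  | v :: l => (v.all fun k => decide (k < D.rank → D.IsPosRoot (reflWord D (wordOf l) (D.simple k)))) &&
      redChainB D l

theorem redChain_of_chk (D : ChevalleyDatum) (l : List (List ℕ)) (h : redChainB D l = true) : RedChain D l := by
  induction l with
  | nil => trivial
  | cons v l ih =>
    simp only [redChainB, Bool.and_eq_true, List.all_eq_true, decide_eq_true_eq] at h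
    exact ⟨fun k hk hkr => h.1 k hk hkr, ih h.2⟩

/-- the decidable table conditions -/
structure OrthChk (D : ChevalleyDatum) (ρ π π' : ℕ → ℕ) (S l₀ : List (List ℕ)) : Prop where
  nodup : ∀ v ∈ S, v.Nodup
  valid : ∀ v ∈ S, ∀ i ∈ v, i < D.rank
  orth : ∀ v ∈ S, ∀ i ∈ v, ∀ j ∈ v, i ≠ j →
    Orth D (D.simple i) (D.simple j) ∧ Orth D (D.simple i) (D.neg (D.simple j)) ∧
    Orth D (D.neg (D.simple i)) (D.simple j) ∧ Orth D (D.neg (D.simple i)) (D.neg (D.simple j))
  negs : ∀ v ∈ S, ∀ r < D.nroots, D.IsPosRoot r → D.IsNegRoot (reflWord D v r) → ∃ i ∈ v, r = D.simple i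
  pmem : ∀ v ∈ S, ∀ i ∈ v, π i ∈ v
  pmem' : ∀ v ∈ S, ∀ i ∈ v, π' i ∈ v
  pleft : ∀ v ∈ S, ∀ i ∈ v, π' (π i) = i
  pright : ∀ v ∈ S, ∀ i ∈ v, π (π' i) = i
  comm : ∀ v ∈ S, ∀ r < D.nroots, reflWord D v (ρ r) = ρ (reflWord D v r)
  sq : ∀ v ∈ S, ∀ r < D.nroots, reflWord D (v ++ v) r = r
  cover : ∀ i < D.rank, ∃ v ∈ S, i ∈ v ∧ ∀ j ∈ v, ∃ k < 4, π^[k] i = j
  long : ∀ v ∈ S, ∀ r < D.nroots, D.IsPosRoot r → InSpan D (letters v) r → D.IsNegRoot (reflWord D v r)
  ne_nil : ∀ v ∈ S, v ≠ []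
  s_inj : ∀ w ∈ S, ∀ w' ∈ S, (∀ r < D.nroots, reflWord D w r = reflWord D w' r) → w = w'
  sub : ∀ w ∈ S, ∀ v ∈ w.sublists, (∀ r < D.nroots, reflWord D v (ρ r) = ρ (reflWord D v r)) →
    (∀ r < D.nroots, reflWord D v r = r) ∨ (∀ r < D.nroots, reflWord D v r = reflWord D w r)
  chain_mem : ∀ v ∈ l₀, v ∈ S
  chain_red : redChainB D l₀ = true
  chain_long : ∀ r < D.nroots, D.IsPosRoot r → D.IsNegRoot (reflWord D (wordOf l₀) r)

theorem OrthChk.orthData {D : ChevalleyDatum} {hF : ChevFacts D K} {T : Twist D K hF.xadd} {π' : ℕ → ℕ}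
    {S l₀ : List (List ℕ)} (h : OrthChk D T.ρ T.π π' S l₀)
    (h1 : ∀ v ∈ S, ∀ i ∈ v, T.c (D.simple i) 1 = 1)
    (h2 : ∀ v ∈ S, ∀ i ∈ v, T.c (D.neg (D.simple i)) (-1) = -1) : OrthData hF T π' S l₀ where
  cls := fun v hv =>
    { nodup := h.nodup v hv
      valid := h.valid v hv
      orth := h.orth v hv
      negs := fun r hr hn => h.negs v hv r hr.1 hr hn }
  perm := fun v hv =>
    { mem := h.pmem v hv
      mem' := h.pmem' v hv
      left := h.pleft v hv
      right := h.pright v hv }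
  gen :=
    { valid := h.valid
      comm := h.comm
      sq := h.sq
      cover := by
        intro i hi
        obtain ⟨v, hv, hiv, hj⟩ := h.cover i hi
        refine ⟨v, hv, hiv, ?_⟩
        intro j hjv
        obtain ⟨k, _, hk⟩ := hj j hjv
        exact ⟨k, hk⟩
      long := fun v hv r hr hs => h.long v hv r hr.1 hr hs }
  ne_nil := h.ne_nil
  c_one := h1
  c_neg_one := h2
  s_inj := h.s_inj
  sub := fun w hw v hvw hc => h.sub w hw v (List.mem_sublists.2 hvw) hc
  chain_mem := h.chain_mem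
  chain_red := redChain_of_chk D l₀ h.chain_red
  chain_long := fun r hr => h.chain_long r hr.1 hr

end Cfsg.Agent.Lead.Tw
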