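import Mathlib

/-!
# The Frobenius `t ↦ t^q` of a finite field with `q^n` elements
-/

set_option autoImplicit false
set_option linter.style.haveILetI false
set_option linter.unusedVariables false

namespace Cfsg.Agent.Lead.Tw

/-- the automorphism `t ↦ t ^ q` -/
theorem exists_frob {K : Type*} [Field K] [Fintype K] {q n : ℕ} (hq : IsPrimePow q)
    (hK : Fintype.card K = q ^ n) : ∃ f : K ≃+* K, ∀ t, f t = t ^ q := by
  obtain ⟨p, k, hp, hk, rfl⟩ := hq
  have hp' : p.Prime := Nat.prime_iff.2 hp
  haveI : Fact p.Prime := ⟨hp'⟩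
  have hK' : Fintype.card K = p ^ (k * n) := by rw [hK, pow_mul]
  haveI : CharP K p := charP_of_card_eq_prime_pow hK'
  haveI : ExpChar K p := ExpChar.prime hp'
  haveI : PerfectRing K p := PerfectRing.ofFiniteOfIsReduced p K
  refine ⟨iterateFrobeniusEquiv K p k, ?_⟩
  intro t
  rw [iterateFrobeniusEquiv_apply, iterateFrobenius_def]

/-- the fixed field of `t ↦ t^q` has `q` elements -/
theorem card_fixed_pow {K : Type*} [Field K] [Fintype K] {q n : ℕ} (hq : 1 < q) (hn : 0 < n)
    (hK : Fintype.card K = q ^ n) : Nat.card {t : K // t ^ q = t} = q := by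
  classical
  -- the solutions are `0` and the `(q-1)`-th roots of unity
  have hcyc : IsCyclic Kˣ := inferInstance
  have hcardU : Nat.card Kˣ = q ^ n - 1 := by
    rw [Nat.card_eq_fintype_card, Fintype.card_units, hK]
  have hdvd : q - 1 ∣ Nat.card Kˣ := by
    rw [hcardU]
    exact Nat.sub_one_dvd_pow_sub_one q n |>.trans (dvd_refl _) |> fun h => by simpa using h
  have hker : Nat.card (powMonoidHom (q - 1) : Kˣ →* Kˣ).ker = q - 1 := by
    rw [IsCyclic.card_powMonoidHom_ker, Nat.gcd_eq_right hdvd]
  -- bijection `{t // t^q = t} ≃ Option ker`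
  have e : {t : K // t ^ q = t} ≃ Option (powMonoidHom (q - 1) : Kˣ →* Kˣ).ker := by
    refine
      { toFun := fun t => if h : t.1 = 0 then none else some ⟨Units.mk0 t.1 h, ?_⟩
        invFun := fun o => match o with
          | none => ⟨0, by rw [zero_pow (by omega)]⟩
          | some u => ⟨(u.1 : K), ?_⟩
        left_inv := ?_
        right_inv := ?_ }
    · rw [MonoidHom.mem_ker, powMonoidHom_apply]
      apply Units.ext
      rw [Units.val_pow_eq_pow_val, Units.val_mk0, Units.val_one]
      have h1 := t.2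
      have h2 : t.1 ^ q = t.1 ^ (q - 1) * t.1 := by rw [← pow_succ]; congr 1; omega
      rw [h2] at h1
      exact mul_right_cancel₀ h (by rw [h1, one_mul])
    · have h1 := u.2
      rw [MonoidHom.mem_ker, powMonoidHom_apply] at h1
      have h2 : ((u.1 : Kˣ) : K) ^ (q - 1) = 1 := by
        rw [← Units.val_pow_eq_pow_val, h1, Units.val_one]
      have h3 : ((u.1 : Kˣ) : K) ^ q = (u.1 : K) ^ (q - 1) * (u.1 : K) := by rw [← pow_succ]; congr 1; omega
      rw [h3, h2, one_mul]
    · intro t
      by_cases h : t.1 = 0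
      · simp only [h, dite_true]
        exact Subtype.ext h.symm
      · simp only [h, dite_false]
        rfl
    · intro o
      cases o with
      | none => simp
      | some u =>
        have hne : ((u.1 : Kˣ) : K) ≠ 0 := Units.ne_zero _
        simp only [hne, dite_false]
        congr 1
        apply Subtype.ext
        apply Units.ext
        rfl
  rw [Nat.card_congr e, Nat.card_eq_fintype_card, Fintype.card_option, ← Nat.card_eq_fintype_card, hker]
  omega


/-- the units fixed by `t ↦ t^q` -/
theorem card_units_fixed_pow {K : Type*} [Field K] [Fintype K] {q n : ℕ} (hq : 1 < q) (hn : 0 < n)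
    (hK : Fintype.card K = q ^ n) : Nat.card {u : Kˣ // u ^ q = u} = q - 1 := by
  classical
  have hcardU : Nat.card Kˣ = q ^ n - 1 := by
    rw [Nat.card_eq_fintype_card, Fintype.card_units, hK]
  have hdvd : q - 1 ∣ Nat.card Kˣ := by
    rw [hcardU]
    have := Nat.sub_one_dvd_pow_sub_one q n
    simpa using this
  have hker : Nat.card (powMonoidHom (q - 1) : Kˣ →* Kˣ).ker = q - 1 := by
    rw [IsCyclic.card_powMonoidHom_ker, Nat.gcd_eq_right hdvd]
  rw [← hker]
  apply Nat.card_congr
  apply Equiv.subtypeEquivRight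
  intro u
  rw [MonoidHom.mem_ker, powMonoidHom_apply]
  have h2 : u ^ q = u ^ (q - 1) * u := by rw [← pow_succ]; congr 1; omega
  constructor
  · intro h
    rw [h2] at h
    exact mul_right_cancel (by rw [h, one_mul])
  · intro h
    rw [h2, h, one_mul]

/-- the solutions of `ω^a = 1`, `ω^b = 1` in the units of a finite field -/
theorem card_units_pow_pow {K : Type*} [Field K] [Fintype K] (a b : ℕ) (hdvd : Nat.gcd a b ∣ Fintype.card K - 1) :
    Nat.card {u : Kˣ // u ^ a = 1 ∧ u ^ b = 1} = Nat.gcd a b := by
  classical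
  have hcardU : Nat.card Kˣ = Fintype.card K - 1 := by
    rw [Nat.card_eq_fintype_card, Fintype.card_units]
  have hker : Nat.card (powMonoidHom (Nat.gcd a b) : Kˣ →* Kˣ).ker = Nat.gcd a b := by
    rw [IsCyclic.card_powMonoidHom_ker, hcardU, Nat.gcd_eq_right hdvd]
  rw [← hker]
  apply Nat.card_congr
  apply Equiv.subtypeEquivRight
  intro u
  rw [MonoidHom.mem_ker, powMonoidHom_apply]
  exact pow_gcd_eq_one.symm

end Cfsg.Agent.Lead.Tw
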