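import Mathlib
import Cfsg.Agent.Lib.Lead.TwFix
import Cfsg.Agent.Lib.Helper6.ChevGraphAut
import Cfsg.Agent.S1080

/-!
# The twisting datum attached to a graph automorphism and a field automorphism
-/

set_option autoImplicit false
set_option linter.unusedSectionVars false
set_option linter.unusedSimpArgs false
set_option linter.unusedVariables false

namespace Cfsg.Agent.Lead.Tw

open Cfsg Cfsg.Lie Cfsg.Agent.Lead.Chev Cfsg.Agent.Helper6.ChevC

variable {K : Type*} [Field K]

/-- table conditions on a graph automorphism -/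
structure GraphTables (D : ChevalleyDatum) (d : GP) (πs : ℕ → ℕ) : Prop where
  lt : ∀ r < D.nroots, d.π r < D.nroots
  pos : ∀ r < D.nroots, D.IsPosRoot r → D.IsPosRoot (d.π r)
  neg : ∀ r < D.nroots, d.π (D.neg r) = D.neg (d.π r)
  epsneg : ∀ r < D.nroots, d.ε (D.neg r) = d.ε r
  πlt : ∀ i < D.rank, πs i < D.rank
  simple : ∀ i < D.rank, d.π (D.simple i) = D.simple (πs i)
  refl : ∀ i < D.rank, ∀ r < D.nroots, D.reflectRoot (πs i) (d.π r) = d.π (D.reflectRoot i r)

theorem phi_xGL {D : ChevalleyDatum} (hX : XAdd D K) (f : K ≃+* K) (r : ℕ) (hr : r < D.nroots) (t : K) :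
    Cfsg.Agent.S1080.Phi D f (xGL D hX r t) = xGL D hX r (f t) := by
  apply Units.ext
  rw [Cfsg.Agent.S1080.Phi_coe, xGL_val, xGL_val, x_of_lt D r hr, x_of_lt D r hr, Cfsg.Agent.S1080.xMat_map]

/-- the twisting datum -/
noncomputable def graphTwist {D : ChevalleyDatum} (hF : ChevFacts D K) (d e : GP) (h : GraphData D d e)
    (πs : ℕ → ℕ) (ht : GraphTables D d πs) (f : K ≃+* K) : Twist D K hF.xadd where
  σ g := spU D K d e h.inv1 h.inv2 * Cfsg.Agent.S1080.Phi D f g * (spU D K d e h.inv1 h.inv2)⁻¹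
  ρ := d.π
  c r t := ((d.ε r : ℤ) : K) * f t
  π := πs
  map_mul := by
    intro g g' _ _
    rw [map_mul]
    group
  ρ_lt := ht.lt
  ρ_pos := fun r hr => ht.pos r hr.1 hr
  ρ_neg := ht.neg
  c_ne := by
    intro r hr t htne
    apply mul_ne_zero
    · rcases h.hε r with e1 | e1 <;> rw [e1] <;> simp
    · exact (map_ne_zero f).2 htne
  c_neg := by
    intro r hr t htne
    show ((d.ε (D.neg r) : ℤ) : K) * f (-t⁻¹) = -(((d.ε r : ℤ) : K) * f t)⁻¹
    rw [ht.epsneg r hr, map_neg, map_inv₀]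
    rcases h.hε r with e1 | e1 <;> rw [e1] <;> simp
  c_surj := by
    intro r hr s
    refine ⟨f.symm (((d.ε r : ℤ) : K) * s), ?_⟩
    show ((d.ε r : ℤ) : K) * f (f.symm (((d.ε r : ℤ) : K) * s)) = s
    rw [RingEquiv.apply_symm_apply]
    rcases h.hε r with e1 | e1 <;> rw [e1] <;> simp
  map_x := by
    intro r hr t
    rw [phi_xGL hF.xadd f r hr t, mul_inv_eq_iff_eq_mul]
    apply Units.ext
    rw [Units.val_mul, Units.val_mul, xGL_val, xGL_val]
    have h1 := sp_conj D d e h r hr (f t)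
    have h2 : spMat D K e * spMat D K d = 1 := spMat_mul_spMat D e d h.inv2
    show spMat D K d * D.x K r (f t) = D.x K (d.π r) (((d.ε r : ℤ) : K) * f t) * spMat D K d
    rw [← h1, mul_assoc, h2, mul_one]
  π_lt := ht.πlt
  ρ_simple := ht.simple
  ρ_refl := ht.refl

end Cfsg.Agent.Lead.Tw
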