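import Mathlib
import Cfsg.Agent.Lib.Lead.TwChk
import Cfsg.Agent.Lib.Lead.TwGraph
import Cfsg.Agent.Lib.Lead.TwFrob
import Cfsg.Agent.Lib.Lead.ChevOrderAll
import Cfsg.Agent.Lib.Helper6.ChevGraph_E6
import Cfsg.Prelude.Def_LieTwisted

/-!
# The twisted group `²E₆(q)` as the group of an orthogonal twisting datum
-/

set_option autoImplicit false
set_option linter.unusedSectionVars false
set_option linter.unusedSimpArgs false
set_option linter.unusedVariables false

namespace Cfsg.Agent.Lead.Tw

open Cfsg Cfsg.Lie Cfsg.Agent.Lead.Chev Cfsg.Agent.Helper6.ChevC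

section words

variable {K : Type*} [Field K] {D : ChevalleyDatum} (hF : ChevFacts D K)

theorem xs_val (v : List ℕ) (f : ℕ → K) :
    ((xs hF v f : GL D.Idx K) : Matrix D.Idx D.Idx K) = D.wordMat K (v.map fun i => (D.simple i, f i)) := by
  unfold xs ChevalleyDatum.wordMat
  induction v with
  | nil => simp
  | cons i v ih =>
    simp only [List.map_cons, List.prod_cons, Units.val_mul, xGL_val]
    rw [ih]

theorem ys_val (v : List ℕ) (f : ℕ → K) :
    ((ys hF v f : GL D.Idx K) : Matrix D.Idx D.Idx K) =
      D.wordMat K (v.map fun i => (D.neg (D.simple i), f i)) := by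
  unfold ys ChevalleyDatum.wordMat
  induction v with
  | nil => simp
  | cons i v ih =>
    simp only [List.map_cons, List.prod_cons, Units.val_mul, xGL_val]
    rw [ih]

end words

namespace E6

/-- the permutation of the fundamental roots -/
def πs : ℕ → ℕ := fun i => GE6.rhoL.getD i 0

/-- the classes -/
def S : List (List ℕ) := [[1], [3], [0, 5], [2, 4]]

/-- a reduced chain for the longest element -/
def l₀ : List (List ℕ) :=
  [[2, 4], [0, 5], [3], [2, 4], [0, 5], [1], [3], [2, 4], [0, 5], [1], [3], [2, 4], [0, 5], [1], [3], [2, 4],
    [0, 5], [1], [3], [2, 4], [0, 5], [1], [3], [1]]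

theorem tables : GraphTables chevE6 GE6.gp πs where
  lt := by decide +kernel
  pos := by decide +kernel
  neg := by decide +kernel
  epsneg := by decide +kernel
  πlt := by decide +kernel
  simple := by decide +kernel
  refl := by decide +kernel

theorem chk : OrthChk chevE6 GE6.gp.π πs πs S l₀ where
  nodup := by decide +kernel
  valid := by decide +kernel
  orth := by decide +kernel
  negs := by decide +kernel
  pmem := by decide +kernel
  pmem' := by decide +kernel
  pleft := by decide +kernel
  pright := by decide +kernel
  comm := by decide +kernel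
  sq := by decide +kernel
  cover := by decide +kernel
  long := by decide +kernel
  ne_nil := by decide +kernel
  s_inj := by decide +kernel
  sub := by decide +kernel
  chain_mem := by decide +kernel
  chain_red := by decide +kernel
  chain_long := by decide +kernel

end E6

end Cfsg.Agent.Lead.Tw
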