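import Mathlib
import Cfsg.Agent.Lib.Lead.TwE6
import Cfsg.Agent.Lib.Helper6.ChevGraph_D4a

/-!
# The tables of the twisted group `³D₄(q)`
-/

set_option autoImplicit false
set_option linter.unusedSectionVars false
set_option linter.unusedSimpArgs false
set_option linter.unusedVariables false

namespace Cfsg.Agent.Lead.Tw

open Cfsg Cfsg.Lie Cfsg.Agent.Lead.Chev Cfsg.Agent.Helper6.ChevC

namespace D4

/-- the permutation of the fundamental roots -/
def πs : ℕ → ℕ := fun i => GD4a.rhoL.getD i 0

/-- its inverse -/
def πs' : ℕ → ℕ := fun i => GD4a.rhoInvL.getD i 0

/-- the classes -/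
def S : List (List ℕ) := [[1], [0, 2, 3]]

/-- a reduced chain for the longest element -/
def l₀ : List (List ℕ) := [[0, 2, 3], [1], [0, 2, 3], [1], [0, 2, 3], [1]]

theorem tables : GraphTables chevD4 GD4a.gp πs where
  lt := by decide +kernel
  pos := by decide +kernel
  neg := by decide +kernel
  epsneg := by decide +kernel
  πlt := by decide +kernel
  simple := by decide +kernel
  refl := by decide +kernel

theorem chk : OrthChk chevD4 GD4a.gp.π πs πs' S l₀ where
  nodup := by decide +kernel
  valid := by decide +kernel
  orth := by decide +kernel
  negs := by decide +kernel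
  pmem := by decide +kernel
  pmem' := by decide +kernel
  pleft := by decide +kernel
  pright := by decide +kernel
  comm := by decide +kernel
  sq := by decide +kernel
  cover := by decide +kernel
  long := by decide +kernel
  ne_nil := by decide +kernel
  s_inj := by decide +kernel
  sub := by decide +kernel
  chain_mem := by decide +kernel
  chain_red := by decide +kernel
  chain_long := by decide +kernel

end D4

end Cfsg.Agent.Lead.Tw
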