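import Mathlib
import Cfsg.Agent.Lib.Lead.TwD4

/-!
# `³D₄(q)` is the group of the orthogonal twisting datum
-/

set_option autoImplicit false
set_option linter.unusedSectionVars false
set_option linter.unusedSimpArgs false
set_option linter.unusedVariables false

namespace Cfsg.Agent.Lead.Tw.D4

open Cfsg Cfsg.Lie Cfsg.Agent.Lead.Chev Cfsg.Agent.Helper6.ChevC

variable {K : Type*} [Field K]

theorem hmem : chevD4 ∈ [chevG2, chevB2, chevD4, chevF4, chevE6, chevE7, chevE8] := by simp

/-- the facts for `D₄` -/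
theorem hF : ChevFacts chevD4 K := chevFacts_of_mem chevD4 hmem

/-- the twisting datum of `³D₄` -/
noncomputable def tw (f : K ≃+* K) : Twist chevD4 K (hF (K := K)).xadd :=
  graphTwist hF GD4a.gp GD4a.gpInv GD4a.data πs tables f

theorem c_simple (f : K ≃+* K) (i : ℕ) (hi : i < 4) (t : K) : (tw f).c (chevD4.simple i) t = f t := by
  show ((GD4a.gp.ε (chevD4.simple i) : ℤ) : K) * f t = f t
  rw [GD4a.eps_simple i hi]
  simp

theorem c_neg_simple (f : K ≃+* K) (i : ℕ) (hi : i < 4) (t : K) :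
    (tw f).c (chevD4.neg (chevD4.simple i)) t = f t := by
  show ((GD4a.gp.ε (chevD4.neg (chevD4.simple i)) : ℤ) : K) * f t = f t
  rw [GD4a.eps_neg_simple i hi]
  simp

theorem orthData (f : K ≃+* K) : OrthData hF (tw f) πs' S l₀ := by
  apply OrthChk.orthData (T := tw f) chk
  · intro v hv i hi
    rw [c_simple f i (chk.valid v hv i hi), map_one]
  · intro v hv i hi
    rw [c_neg_simple f i (chk.valid v hv i hi), map_neg, map_one]

theorem simple_vals : chevD4.simple 0 = d4p1 ∧ chevD4.simple 1 = d4p2 ∧ chevD4.simple 2 = d4p3 ∧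
    chevD4.simple 3 = d4p4 := by decide +kernel

theorem neg_simple_vals : chevD4.neg (chevD4.simple 0) = d4m1 ∧ chevD4.neg (chevD4.simple 1) = d4m2 ∧
    chevD4.neg (chevD4.simple 2) = d4m3 ∧ chevD4.neg (chevD4.simple 3) = d4m4 := by decide +kernel

section

variable [Fintype K] {q : ℕ} (hK : Fintype.card K = q ^ 3) (f : K ≃+* K) (hf : ∀ t, f t = t ^ q)
include hK hf

theorem frob_sq (t : K) : (t ^ q) ^ q = t ^ (q ^ 2) := by
  rw [← pow_mul, ← pow_two]

theorem frob_cube (t : K) : (t ^ (q ^ 2)) ^ q = t := by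
  rw [← pow_mul, ← pow_succ, ← hK, FiniteField.pow_card]

theorem fixPos_single (i : ℕ) (hi : i < 4) (h1 : πs i = i) (t : K) (ht : t ^ q = t) :
    FixPos hF (tw f) [i] (fun _ => t) := by
  intro k hk
  rw [List.mem_singleton] at hk
  subst hk
  rw [c_simple f k hi, hf, ht]

theorem fixNeg_single (i : ℕ) (hi : i < 4) (h1 : πs i = i) (t : K) (ht : t ^ q = t) :
    FixNeg hF (tw f) [i] (fun _ => t) := by
  intro k hk
  rw [List.mem_singleton] at hk
  subst hk
  rw [c_neg_simple f k hi, hf, ht]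

/-- the parameters of the triple class -/
def tri (t : K) (q : ℕ) : ℕ → K := fun k => if k = 0 then t else if k = 2 then t ^ q else t ^ (q ^ 2)

theorem fixPos_tri (t : K) : FixPos hF (tw f) [0, 2, 3] (tri t q) := by
  intro k hk
  simp only [List.mem_cons, List.not_mem_nil, or_false] at hk
  rcases hk with rfl | rfl | rfl
  · rw [c_simple f 0 (by norm_num), hf]
    show tri t q 2 = (tri t q 0) ^ q
    simp [tri]
  · rw [c_simple f 2 (by norm_num), hf]
    show tri t q 3 = (tri t q 2) ^ q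
    simp [tri, frob_sq hK f hf]
  · rw [c_simple f 3 (by norm_num), hf]
    show tri t q 0 = (tri t q 3) ^ q
    simp [tri, frob_cube hK f hf]

theorem fixNeg_tri (t : K) : FixNeg hF (tw f) [0, 2, 3] (tri t q) := by
  intro k hk
  simp only [List.mem_cons, List.not_mem_nil, or_false] at hk
  rcases hk with rfl | rfl | rfl
  · rw [c_neg_simple f 0 (by norm_num), hf]
    show tri t q 2 = (tri t q 0) ^ q
    simp [tri]
  · rw [c_neg_simple f 2 (by norm_num), hf]
    show tri t q 3 = (tri t q 2) ^ q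
    simp [tri, frob_sq hK f hf]
  · rw [c_neg_simple f 3 (by norm_num), hf]
    show tri t q 0 = (tri t q 3) ^ q
    simp [tri, frob_cube hK f hf]

/-- the generators of `³D₄(q)` are fixed elements of the class subgroups -/
theorem word_cases (w : List (ℕ × K)) (hw : w ∈ d4Words K q) :
    (∃ v ∈ S, ∃ φ : ℕ → K, FixPos hF (tw f) v φ ∧ w = v.map fun i => (chevD4.simple i, φ i)) ∨
    (∃ v ∈ S, ∃ φ : ℕ → K, FixNeg hF (tw f) v φ ∧ w = v.map fun i => (chevD4.neg (chevD4.simple i), φ i)) := by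
  obtain ⟨s0, s1, s2, s3⟩ := simple_vals
  obtain ⟨m0, m1, m2, m3⟩ := neg_simple_vals
  rcases hw with ⟨t, ht, r, hr, rfl⟩ | ⟨t, rs, hrs, rfl⟩
  · simp only [List.mem_cons, List.not_mem_nil, or_false] at hr
    rcases hr with rfl | rfl
    · left
      exact ⟨[1], by decide, fun _ => t, fixPos_single hK f hf 1 (by norm_num) rfl t ht, by simp [s1]⟩
    · right
      exact ⟨[1], by decide, fun _ => t, fixNeg_single hK f hf 1 (by norm_num) rfl t ht, by simp [m1]⟩
  · simp only [List.mem_cons, List.not_mem_nil, or_false] at hrs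
    rcases hrs with rfl | rfl
    · left
      exact ⟨[0, 2, 3], by decide, _, fixPos_tri hK f hf t, by simp [s0, s2, s3, tri]⟩
    · right
      exact ⟨[0, 2, 3], by decide, _, fixNeg_tri hK f hf t, by simp [m0, m2, m3, tri]⟩

theorem pos_word_mem (v : List ℕ) (hv : v ∈ S) (φ : ℕ → K) (hφ : FixPos hF (tw f) v φ) :
    (v.map fun i => (chevD4.simple i, φ i)) ∈ d4Words K q := by
  obtain ⟨s0, s1, s2, s3⟩ := simple_vals
  simp only [S, List.mem_cons, List.not_mem_nil, or_false] at hv
  rcases hv with rfl | rfl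
  · left
    have h1 := hφ 1 (by simp)
    rw [c_simple f 1 (by norm_num), hf] at h1
    exact ⟨φ 1, h1.symm, d4p2, by simp, by simp [s1]⟩
  · right
    have h1 := hφ 0 (by simp)
    rw [c_simple f 0 (by norm_num), hf] at h1
    have h2 := hφ 2 (by simp)
    rw [c_simple f 2 (by norm_num), hf] at h2
    refine ⟨φ 0, (d4p1, d4p3, d4p4), by simp, ?_⟩
    have e2 : φ 2 = φ 0 ^ q := h1
    have e3 : φ 3 = φ 0 ^ (q ^ 2) := by
      have : φ 3 = φ 2 ^ q := h2
      rw [this, e2, frob_sq hK f hf]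
    simp [s0, s2, s3, e2, e3]

theorem neg_word_mem (v : List ℕ) (hv : v ∈ S) (φ : ℕ → K) (hφ : FixNeg hF (tw f) v φ) :
    (v.map fun i => (chevD4.neg (chevD4.simple i), φ i)) ∈ d4Words K q := by
  obtain ⟨m0, m1, m2, m3⟩ := neg_simple_vals
  simp only [S, List.mem_cons, List.not_mem_nil, or_false] at hv
  rcases hv with rfl | rfl
  · left
    have h1 := hφ 1 (by simp)
    rw [c_neg_simple f 1 (by norm_num), hf] at h1
    exact ⟨φ 1, h1.symm, d4m2, by simp, by simp [m1]⟩
  · right
    have h1 := hφ 0 (by simp)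
    rw [c_neg_simple f 0 (by norm_num), hf] at h1
    have h2 := hφ 2 (by simp)
    rw [c_neg_simple f 2 (by norm_num), hf] at h2
    refine ⟨φ 0, (d4m1, d4m3, d4m4), by simp, ?_⟩
    have e2 : φ 2 = φ 0 ^ q := h1
    have e3 : φ 3 = φ 0 ^ (q ^ 2) := by
      have : φ 3 = φ 2 ^ q := h2
      rw [this, e2, frob_sq hK f hf]
    simp [m0, m2, m3, e2, e3]

/-- **`³D₄(q)` is the group of the twisting datum.** -/
theorem twisted_eq : twistedD4 K q = orthGroup hF (tw f) S := by
  apply le_antisymm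
  · unfold twistedD4 ChevalleyDatum.genSubgroup
    rw [Subgroup.closure_le]
    rintro g ⟨w, hw, hg⟩
    rcases word_cases hK f hf w hw with ⟨v, hv, φ, hφ, rfl⟩ | ⟨v, hv, φ, hφ, rfl⟩
    · have : g = xs hF v φ := Units.ext (by rw [hg, xs_val])
      rw [this]
      exact (orthData f).xs_mem v hv φ hφ
    · have : g = ys hF v φ := Units.ext (by rw [hg, ys_val])
      rw [this]
      exact (orthData f).ys_mem v hv φ hφ
  · unfold orthGroup
    rw [Subgroup.closure_le]
    rintro g (⟨v, hv, φ, hφ, rfl⟩ | ⟨v, hv, φ, hφ, rfl⟩)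
    · exact Subgroup.subset_closure ⟨_, pos_word_mem hK f hf v hv φ hφ, xs_val hF v φ⟩
    · exact Subgroup.subset_closure ⟨_, neg_word_mem hK f hf v hv φ hφ, ys_val hF v φ⟩

end

end Cfsg.Agent.Lead.Tw.D4
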