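import Mathlib
import Cfsg.Agent.Lib.Lead.TwCount
import Cfsg.Agent.Lib.Lead.WeylCert
import Cfsg.Agent.Lib.Lead.PolyList

/-!
# Certificates for the Poincaré sum of a twisted Weyl group

A list of products of twisted reflections, closed under left multiplication by the twisted reflections, with
separated actions.
-/

set_option autoImplicit false
set_option linter.unusedSectionVars false
set_option linter.unusedSimpArgs false
set_option linter.unusedVariables false

namespace Cfsg.Agent.Lead.Tw

open Cfsg Cfsg.Lie Cfsg.Agent.Lead.Chev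

/-- an element of the twisted Weyl group with its verified data -/
structure RepT where
  cl : List ℕ
  img : List ℕ
  hints : List ℕ
  N : ℕ
deriving DecidableEq

def RepT.nil : RepT := ⟨[], [], [], 0⟩

/-- the word of an element -/
def RepT.x (S : List (List ℕ)) (e : RepT) : List ℕ := (e.cl.map fun c => S.getD c []).flatten

/-- the test of one element -/
def repChkT (D : ChevalleyDatum) (Ws : List ℕ) (S : List (List ℕ)) (Reps : List RepT) (e : RepT) : Bool :=
  e.cl.all (fun c => decide (c < S.length)) &&
  (e.img == (List.range D.rank).map fun k => reflWordP Ws (e.x S) (D.simple k)) &&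
  (e.N == ((List.range' (D.nroots / 2) (D.nroots / 2)).filter
    fun r => decide (reflWordP Ws (e.x S) r < D.nroots / 2)).length) &&
  (e.hints.length == S.length) &&
  (List.zip S e.hints).all fun p =>
    decide (p.2 < Reps.length) &&
      (((List.range D.rank).map fun k => reflWordP Ws p.1 (e.img.getD k 0)) == (Reps.getD p.2 RepT.nil).img)

/-- packing a list of numbers below 256 -/
def packL (l : List ℕ) : ℕ := l.foldl (fun acc r => acc * 256 + r) 0

/-- strictly increasing lists -/
def incChk : List ℕ → Bool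
  | [] => true
  | [_] => true
  | a :: b :: l => decide (a < b) && incChk (b :: l)

theorem pairwise_of_incChk : ∀ l : List ℕ, incChk l = true → l.Pairwise (· < ·) := by
  intro l
  induction l with
  | nil => intro _; exact List.Pairwise.nil
  | cons a l ih =>
    cases l with
    | nil => intro _; exact List.pairwise_singleton _ _
    | cons b l =>
      intro h
      simp only [incChk, Bool.and_eq_true, decide_eq_true_eq] at h
      have h2 := ih h.2
      refine List.pairwise_cons.2 ⟨?_, h2⟩
      intro x hx
      rcases List.mem_cons.1 hx with rfl | hx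
      · exact h.1
      · exact lt_trans h.1 ((List.pairwise_cons.1 h2).1 x hx)

theorem nodup_of_incChk (l : List ℕ) (h : incChk l = true) : l.Nodup :=
  (pairwise_of_incChk l h).imp fun hab => ne_of_lt hab

variable {K : Type*} [Field K]

theorem flatten_getD_valid {D : ChevalleyDatum} (S : List (List ℕ)) (hv : ∀ w ∈ S, ∀ i ∈ w, i < D.rank)
    (cl : List ℕ) (hcl : ∀ c ∈ cl, c < S.length) : ∀ v ∈ cl.map fun c => S.getD c [], v ∈ S := by
  intro v hv'
  obtain ⟨c, hc, rfl⟩ := List.mem_map.1 hv'
  rw [List.getD_eq_getElem _ _ (hcl c hc)]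
  exact List.getElem_mem _

/-- soundness of the certificate -/
theorem sum_weylSetσ_of_chk {D : ChevalleyDatum} (hF : ChevFacts D K) (hS : CorSize D) (hI : CorInj D)
    (Ws : List ℕ) (hWs : ∀ i < D.rank, ∀ v < D.nroots, unpack8 (Ws.getD i 0) v = D.reflectRoot i v)
    (ρ : ℕ → ℕ) (S : List (List ℕ)) (hv : ∀ w ∈ S, ∀ i ∈ w, i < D.rank) (hc : ∀ w ∈ S, RhoComm D ρ w)
    (hgen : ∀ w : List ℕ, (∀ i ∈ w, i < D.rank) → RhoComm D ρ w →
      ∃ l : List (List ℕ), (∀ v ∈ l, v ∈ S) ∧ ∀ r < D.nroots, reflWord D w r = reflWord D l.flatten r)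
    (Reps : List RepT) (hn : D.nroots = 2 * (D.nroots / 2)) (hhead' : (Reps.any fun e => e.cl == []) = true)
    (hsorted : incChk (Reps.map fun e => packL e.img) = true) (hreps : ∀ e ∈ Reps, repChkT D Ws S Reps e = true) (q : ℕ) :
    ∑ f ∈ weylSetσ D ρ, q ^ nNeg D f = (Reps.map fun e => q ^ e.N).sum := by
  classical
  have hhead : ∃ e ∈ Reps, e.cl = [] := by
    rw [List.any_eq_true] at hhead'
    obtain ⟨e, he, h⟩ := hhead'
    exact ⟨e, he, by simpa using h⟩
  have hnodup : (Reps.map RepT.img).Nodup := by
    have h1 := nodup_of_incChk _ hsorted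
    have h2 : (Reps.map fun e => packL e.img) = (Reps.map RepT.img).map packL := by rw [List.map_map]; rfl
    rw [h2] at h1
    exact List.Nodup.of_map _ h1
  have hflat : ∀ l : List (List ℕ), (∀ v ∈ l, v ∈ S) → (∀ i ∈ l.flatten, i < D.rank) ∧ RhoComm D ρ l.flatten := by
    intro l
    induction l with
    | nil => intro _; exact ⟨fun i hi => by simp at hi, rhoComm_nil D ρ⟩
    | cons v l ih =>
      intro hl
      obtain ⟨h1, h2⟩ := ih fun x hx => hl x (List.mem_cons_of_mem _ hx)
      have hvS := hl v List.mem_cons_self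
      rw [List.flatten_cons]
      refine ⟨?_, RhoComm.append (etaOf D) hF.facts h1 (hc v hvS) h2⟩
      intro i hi
      rcases List.mem_append.1 hi with h | h
      · exact hv v hvS i h
      · exact h1 i h
  -- unpack the test of each element
  have hrep : ∀ e ∈ Reps, (∀ i ∈ e.x S, i < D.rank) ∧ RhoComm D ρ (e.x S) ∧
      (e.img = (List.range D.rank).map fun k => reflWord D (e.x S) (D.simple k)) ∧
      e.N = (negSet D (e.x S)).card ∧
      ∀ v ∈ S, ∃ e' ∈ Reps, ∀ r < D.nroots, reflWord D (v ++ e.x S) r = reflWord D (e'.x S) r := by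
    intro e he
    have h := hreps e he
    unfold repChkT at h
    simp only [Bool.and_eq_true, decide_eq_true_eq, List.all_eq_true, beq_iff_eq] at h
    obtain ⟨⟨⟨⟨h1, h2⟩, h5⟩, h6⟩, h7⟩ := h
    obtain ⟨hxv, hxc⟩ := hflat _ (flatten_getD_valid (D := D) S hv e.cl h1)
    have hxv' : ∀ i ∈ e.x S, i < D.rank := hxv
    have himg : e.img = (List.range D.rank).map fun k => reflWord D (e.x S) (D.simple k) := by
      rw [h2]
      apply List.map_congr_left
      intro k hk
      exact reflWordP_eq D (etaOf D) hF.facts Ws hWs (e.x S) hxv' _ (hF.simple_lt k (List.mem_range.1 hk))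
    have himgk : ∀ k < D.rank, e.img.getD k 0 = reflWord D (e.x S) (D.simple k) := by
      intro k hk
      rw [himg, getD_map_range _ _ k hk]
    refine ⟨hxv', hxc, himg, ?_, ?_⟩
    · rw [h5]
      exact (hF.card_negSet_eq_length hn Ws hWs (e.x S) hxv').symm
    · intro v hvS
      obtain ⟨pos, hpos, rfl⟩ := List.getElem_of_mem hvS
      have hlen : pos < e.hints.length := by rw [h6]; exact hpos
      have hmem : (S[pos], e.hints[pos]) ∈ List.zip S e.hints := by
        rw [List.mem_iff_getElem]
        refine ⟨pos, by rw [List.length_zip]; omega, ?_⟩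
        rw [List.getElem_zip]
      obtain ⟨hcode, h8⟩ := h7 _ hmem
      simp only at hcode h8
      have hvv := hv _ hvS
      have he' : Reps.getD (e.hints[pos]) RepT.nil ∈ Reps := by
        rw [List.getD_eq_getElem _ _ hcode]
        exact List.getElem_mem _
      refine ⟨_, he', ?_⟩
      have h9 := hreps _ he'
      unfold repChkT at h9
      simp only [Bool.and_eq_true, decide_eq_true_eq, List.all_eq_true, beq_iff_eq] at h9
      obtain ⟨⟨⟨⟨g1, g2⟩, -⟩, -⟩, -⟩ := h9
      obtain ⟨hx'v, -⟩ := hflat _ (flatten_getD_valid (D := D) S hv _ g1)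
      have hx'v' : ∀ i ∈ (Reps.getD (e.hints[pos]) RepT.nil).x S, i < D.rank := hx'v
      have hvxv : ∀ a ∈ S[pos] ++ e.x S, a < D.rank := by
        intro a ha
        rcases List.mem_append.1 ha with ha | ha
        · exact hvv a ha
        · exact hxv' a ha
      apply hF.reflWord_eq_of_simple hI _ _ hvxv hx'v'
      intro k hk
      have e1 := congrArg (fun l => l.getD k 0) h8
      rw [g2, getD_map_range _ _ k hk, getD_map_range _ _ k hk, himgk k hk,
        reflWordP_eq D (etaOf D) hF.facts Ws hWs _ hvv _ (hF.rlt _ hxv' _ (hF.simple_lt k hk)),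
        reflWordP_eq D (etaOf D) hF.facts Ws hWs _ hx'v' _ (hF.simple_lt k hk)] at e1
      rw [reflWord_append]
      exact e1
  -- the empty word is an element
  have hnil : ∃ e ∈ Reps, e.x S = [] := by
    obtain ⟨e, he, this⟩ := hhead
    refine ⟨e, he, ?_⟩
    unfold RepT.x
    rw [this]
    rfl
  -- completeness
  have hcomplete : ∀ l : List (List ℕ), (∀ v ∈ l, v ∈ S) → ∃ e ∈ Reps,
      ∀ r < D.nroots, reflWord D l.flatten r = reflWord D (e.x S) r := by
    intro l
    induction l with
    | nil =>
      intro _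
      obtain ⟨e, he, hex⟩ := hnil
      exact ⟨e, he, fun r _ => by rw [hex]; rfl⟩
    | cons v l ih =>
      intro hl
      have hl' : ∀ x ∈ l, x ∈ S := fun x hx => hl x (List.mem_cons_of_mem _ hx)
      have hvS := hl v List.mem_cons_self
      obtain ⟨e, he, hwy⟩ := ih hl'
      obtain ⟨hx, -, -, -, hcl⟩ := hrep e he
      obtain ⟨e', he', h2⟩ := hcl v hvS
      refine ⟨e', he', fun r hr => ?_⟩
      rw [List.flatten_cons, reflWord_append, hwy r hr, ← reflWord_append]
      exact h2 r hr
  -- the set of actions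
  have hset : weylSetσ D ρ = (Reps.map fun e => actF D (e.x S)).toFinset := by
    ext f
    rw [mem_weylSetσ, List.mem_toFinset, List.mem_map]
    constructor
    · rintro ⟨w, hw, hwc, rfl⟩
      obtain ⟨l, hl, hwl⟩ := hgen w hw hwc
      obtain ⟨e, he, hle⟩ := hcomplete l hl
      obtain ⟨hx, -, -, -, -⟩ := hrep e he
      refine ⟨e, he, ?_⟩
      exact ((actF_eq_iff D (etaOf D) hF.facts _ _ hw hx).2 fun r hr => (hwl r hr).trans (hle r hr)).symm
    · rintro ⟨e, he, rfl⟩
      obtain ⟨hx, hxc, -, -, -⟩ := hrep e he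
      exact ⟨e.x S, hx, hxc, rfl⟩
  have hnd : (Reps.map fun e => actF D (e.x S)).Nodup := by
    let k : (Fin D.nroots → Fin D.nroots) → List ℕ := fun f =>
      (List.range D.rank).map fun j => if h : D.simple j < D.nroots then (f ⟨D.simple j, h⟩).val else 0
    apply List.Nodup.of_map k
    rw [List.map_map]
    have h2 : (Reps.map (k ∘ fun e : RepT => actF D (e.x S))) = Reps.map RepT.img := by
      apply List.map_congr_left
      intro e he
      obtain ⟨hx, -, himg, -, -⟩ := hrep e he
      rw [himg]
      simp only [Function.comp_apply, k]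
      apply List.map_congr_left
      intro j hj
      rw [dif_pos (hF.simple_lt j (List.mem_range.1 hj)), actF_val D (etaOf D) hF.facts _ hx]
    rw [h2]
    exact hnodup
  rw [hset, List.sum_toFinset _ hnd, List.map_map]
  congr 1
  apply List.map_congr_left
  intro e he
  obtain ⟨hx, -, -, hN, -⟩ := hrep e he
  simp only [Function.comp_apply]
  rw [nNeg_actF D (etaOf D) hF.facts _ hx, hN]

/-- collecting a sum of powers by exponents -/
theorem sum_pow_eq_coeffs (q : ℕ) (Ns : List ℕ) (d : ℕ) (hd : ∀ n ∈ Ns, n < d) :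
    (Ns.map fun n => q ^ n).sum = ∑ k ∈ Finset.range d, Ns.count k * q ^ k := by
  induction Ns with
  | nil => simp
  | cons n Ns ih =>
    rw [List.map_cons, List.sum_cons, ih fun m hm => hd m (List.mem_cons_of_mem _ hm)]
    have hn := hd n List.mem_cons_self
    have : ∀ k, (n :: Ns).count k = Ns.count k + if k = n then 1 else 0 := by
      intro k
      rw [List.count_cons]
      by_cases h : k = n
      · subst h; simp
      · have : ¬ n = k := fun e => h e.symm
        simp [h, this]
    simp_rw [this, add_mul, Finset.sum_add_distrib]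
    rw [add_comm]
    congr 1
    rw [Finset.sum_eq_single n]
    · simp
    · intro b _ hb
      simp [hb]
    · intro h
      exact absurd (Finset.mem_range.2 hn) h

/-- the polynomial `q^n + 1` -/
def pp1L (n : ℕ) : List ℤ := Cfsg.Agent.Lead.PolyL.addL [1] (Cfsg.Agent.Lead.PolyL.monoL n)

theorem evalL_pp1L (n : ℕ) (q : ℤ) : Cfsg.Agent.Lead.PolyL.evalL (pp1L n) q = q ^ n + 1 := by
  unfold pp1L
  rw [Cfsg.Agent.Lead.PolyL.evalL_addL, Cfsg.Agent.Lead.PolyL.evalL_monoL]
  simp [Cfsg.Agent.Lead.PolyL.evalL]
  ring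

end Cfsg.Agent.Lead.Tw
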