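import Mathlib
import Cfsg.Agent.Lib.Lead.TwCore
import Cfsg.Agent.Lib.Lead.ChevHCard

/-!
# The torus `H¹ = G¹ ∩ H` of a twisted group
-/

set_option autoImplicit false
set_option linter.unusedSectionVars false
set_option linter.unusedSimpArgs false
set_option linter.unusedVariables false

namespace Cfsg.Agent.Lead.Tw

open Cfsg Cfsg.Lie Cfsg.Agent.Lead.Chev

variable {K : Type*} [Field K]

section classes

variable {D : ChevalleyDatum} (hF : ChevFacts D K) {v : List ℕ} (hv : OrthClass D v)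
include hv

/-- `∏ n_{p_i}(φ_i) = x_v(φ) x_{-v}(-φ⁻¹) x_v(φ)` -/
theorem prod_nGLt_eq_xs (φ : ℕ → K) :
    (v.map fun i => nGLt D hF.xadd (D.simple i) (φ i)).prod =
      xs hF v φ * ys hF v (fun i => -(φ i)⁻¹) * xs hF v φ := by
  have e2 : (v.map fun i => nGLt D hF.xadd (D.simple i) (φ i)) =
      v.map fun i => (xGL D hF.xadd (D.simple i) (φ i) * xGL D hF.xadd (D.neg (D.simple i)) (-(φ i)⁻¹)) *
        xGL D hF.xadd (D.simple i) (φ i) := by
    apply List.map_congr_left
    intro i hi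
    rw [nGLt_eq]
  rw [e2, prod_map_mul_of_commute v _ _ hv.nodup, prod_map_mul_of_commute v _ _ hv.nodup]
  · rfl
  · intro i hi j hj hij
    exact xGL_commute hF _ _ (hF.neg_simple_lt i (hv.valid i hi)) (hF.simple_lt j (hv.valid j hj))
      (hv.orth i hi j hj hij).2.2.1 _ _
  · intro i hi j hj hij
    have h := hv.orth i hi j hj hij
    exact Commute.mul_right
      (xGL_commute hF _ _ (hF.simple_lt i (hv.valid i hi)) (hF.simple_lt j (hv.valid j hj)) h.1 _ _)
      (xGL_commute hF _ _ (hF.simple_lt i (hv.valid i hi)) (hF.neg_simple_lt j (hv.valid j hj)) h.2.1 _ _)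

/-- `∏ h_{p_i}(φ_i) = ∏ n_{p_i}(φ_i) ∏ n_{p_i}(-1)` -/
theorem prod_hGLt_eq (φ : ℕ → K) :
    (v.map fun i => hGLt D hF.xadd (D.simple i) (φ i)).prod =
      (v.map fun i => nGLt D hF.xadd (D.simple i) (φ i)).prod *
        (v.map fun i => nGLt D hF.xadd (D.simple i) (-1)).prod := by
  have e2 : (v.map fun i => hGLt D hF.xadd (D.simple i) (φ i)) =
      v.map fun i => nGLt D hF.xadd (D.simple i) (φ i) * nGLt D hF.xadd (D.simple i) (-1) := by
    apply List.map_congr_left
    intro i hi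
    rw [hGLt_eq]
  rw [e2, prod_map_mul_of_commute v _ _ hv.nodup]
  intro i hi j hj hij
  have h := hv.orth i hi j hj hij
  have hi' := hv.valid i hi
  have hj' := hv.valid j hj
  rw [nGLt_eq, nGLt_eq]
  have c1 := xGL_commute hF _ _ (hF.simple_lt i hi') (hF.simple_lt j hj') h.1
  have c2 := xGL_commute hF _ _ (hF.simple_lt i hi') (hF.neg_simple_lt j hj') h.2.1
  have c3 := xGL_commute hF _ _ (hF.neg_simple_lt i hi') (hF.simple_lt j hj') h.2.2.1
  have c4 := xGL_commute hF _ _ (hF.neg_simple_lt i hi') (hF.neg_simple_lt j hj') h.2.2.2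
  exact Commute.mul_left
    (Commute.mul_left (((c1 _ _).mul_right (c2 _ _)).mul_right (c1 _ _))
      (((c3 _ _).mul_right (c4 _ _)).mul_right (c3 _ _)))
    (((c1 _ _).mul_right (c2 _ _)).mul_right (c1 _ _))

end classes


section orth

variable {D : ChevalleyDatum} {hF : ChevFacts D K} {T : Twist D K hF.xadd}
  {π' : ℕ → ℕ} {S l₀ : List (List ℕ)} (h : OrthData hF T π' S l₀)
include h

/-- the elements `∏ h_{p_i}(φ_i)` of `G¹` -/
theorem OrthData.prod_hGLt_mem (hm1 : ∀ i < D.rank, T.c (D.simple i) (-1) = -1)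
    (hp1 : ∀ i < D.rank, T.c (D.neg (D.simple i)) 1 = 1)
    (v : List ℕ) (hv : v ∈ S) (φ : ℕ → K) (hφ : FixPos hF T v φ)
    (hne : ∀ i ∈ v, φ i ≠ 0) :
    (v.map fun i => hGLt D hF.xadd (D.simple i) (φ i)).prod ∈ orthGroup hF T S := by
  have hvv := h.gen.valid v hv
  rw [prod_hGLt_eq hF (h.cls v hv), prod_nGLt_eq_xs hF (h.cls v hv), prod_nGLt_eq_xs hF (h.cls v hv)]
  have h1 : xs hF v φ ∈ orthGroup hF T S := h.xs_mem v hv φ hφ
  have h2 : ys hF v (fun i => -(φ i)⁻¹) ∈ orthGroup hF T S := by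
    apply h.ys_mem v hv
    intro i hi
    show -(φ (T.π i))⁻¹ = T.c (D.neg (D.simple i)) (-(φ i)⁻¹)
    rw [hφ i hi, T.c_neg _ (hF.simple_lt i (hvv i hi)) _ (hne i hi)]
  have h3 : xs hF v (fun _ => (-1 : K)) ∈ orthGroup hF T S :=
    h.xs_mem v hv _ (fun i hi => (hm1 i (hvv i hi)).symm)
  have h4 : ys hF v (fun _ => -(-1 : K)⁻¹) ∈ orthGroup hF T S := by
    apply h.ys_mem v hv
    intro i hi
    show -(-1 : K)⁻¹ = T.c (D.neg (D.simple i)) (-(-1 : K)⁻¹)
    have : -(-1 : K)⁻¹ = 1 := by norm_num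
    rw [this, hp1 i (hvv i hi)]
  exact mul_mem (mul_mem (mul_mem h1 h2) h1) (mul_mem (mul_mem h3 h4) h3)

end orth


section params

variable {D : ChevalleyDatum} (f : K ≃+* K) (πe : Equiv.Perm (Fin D.rank))

/-- the action of `σ` on the torus parameters -/
def twP (c : Fin D.rank → Kˣ) : Fin D.rank → Kˣ :=
  fun j => Units.map (f : K →* K) (c (πe.symm j))

/-- the fixed parameters -/
def fixT : Subgroup (Fin D.rank → Kˣ) where
  carrier := {c | twP f πe c = c}
  one_mem' := by
    funext j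
    simp [twP]
  mul_mem' := by
    intro a b ha hb
    funext j
    have h1 := congrFun ha j
    have h2 := congrFun hb j
    simp only [twP, Pi.mul_apply, map_mul] at h1 h2 ⊢
    rw [h1, h2]
  inv_mem' := by
    intro a ha
    funext j
    have h1 := congrFun ha j
    simp only [twP, Pi.inv_apply, map_inv] at h1 ⊢
    rw [h1]

theorem twP_mul (a b : Fin D.rank → Kˣ) : twP f πe (a * b) = twP f πe a * twP f πe b := by
  funext j
  simp [twP]

theorem twP_inv (a : Fin D.rank → Kˣ) : twP f πe a⁻¹ = (twP f πe a)⁻¹ := by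
  funext j
  simp [twP]

theorem twP_div (a b : Fin D.rank → Kˣ) : twP f πe (a / b) = twP f πe a / twP f πe b := by
  funext j
  simp [twP]

theorem twP_pow (a : Fin D.rank → Kˣ) (n : ℕ) : twP f πe (a ^ n) = twP f πe a ^ n := by
  funext j
  simp [twP]

theorem mem_fixT (c : Fin D.rank → Kˣ) : c ∈ fixT f πe ↔ twP f πe c = c := Iff.rfl

theorem fixT_apply (c : Fin D.rank → Kˣ) (hc : c ∈ fixT f πe) (i : Fin D.rank) :
    c (πe i) = Units.map (f : K →* K) (c i) := by
  have := congrFun hc (πe i)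
  simp only [twP, Equiv.symm_apply_apply] at this
  exact this.symm

theorem chiU_twP (ρ : ℕ → ℕ)
    (hcart : ∀ k : Fin D.rank, ∀ r < D.nroots, D.cartan (πe k).val (ρ r) = D.cartan k.val r)
    (c : Fin D.rank → Kˣ) (r : ℕ) (hr : r < D.nroots) :
    chiU D (twP f πe c) (ρ r) = Units.map (f : K →* K) (chiU D c r) := by
  unfold chiU twP
  rw [map_prod, ← Equiv.prod_comp πe]
  apply Finset.prod_congr rfl
  intro k _
  rw [Equiv.symm_apply_apply, hcart k r hr, map_zpow]

end params

theorem wordMat_flatMap_perm (D : ChevalleyDatum) (hS : HSimple D K) (c : ℕ → K)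
    (hc : ∀ i < D.rank, c i ≠ 0) (L : List ℕ) (hL : L.Perm (List.range D.rank)) :
    D.wordMat K (L.flatMap fun i => D.hWord (D.simple i) (c i)) = Tmat D c := by
  rw [wordMat_flatMap_hWord]
  have hmem : ∀ i ∈ L, i < D.rank := fun i hi => List.mem_range.1 (hL.subset hi)
  have : L.map (fun i => D.hMat K (D.simple i) (c i)) =
      L.map (fun i => Matrix.diagonal
        (Sum.elim (fun _ => (1 : K)) (fun s : Fin D.nroots => c i ^ (D.cartan i s)))) := by
    apply List.map_congr_left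
    intro i hi
    exact hS i (hmem i hi) (c i) (hc i (hmem i hi))
  rw [this, list_prod_diagonal]
  unfold Tmat
  congr 1
  funext idx
  rcases idx with j | v
  · simp
  · simp only [Sum.elim_inr, chi]
    exact (hL.map _).prod_eq

theorem wordGL_flatMap_hWord (D : ChevalleyDatum) (hX : XAdd D K) (L : List ℕ) (c : ℕ → K) :
    wordGL D hX (L.flatMap fun i => D.hWord (D.simple i) (c i)) =
      (L.map fun i => hGLt D hX (D.simple i) (c i)).prod := by
  induction L with
  | nil => simp [wordGL_nil]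
  | cons a L ih =>
    rw [List.flatMap_cons, wordGL_append, ih, List.map_cons, List.prod_cons]
    rfl

section torus

variable {D : ChevalleyDatum} {hF : ChevFacts D K} {T : Twist D K hF.xadd}
  {π' : ℕ → ℕ} {S l₀ : List (List ℕ)} (h : OrthData hF T π' S l₀)
  (f : K ≃+* K) (πe : Equiv.Perm (Fin D.rank))
  (hπ : ∀ i : Fin D.rank, T.π i.val = (πe i).val)
  (hcs : ∀ i < D.rank, ∀ t, T.c (D.simple i) t = f t)
  (hcn : ∀ i < D.rank, ∀ t, T.c (D.neg (D.simple i)) t = f t)
include h hπ hcs hcn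

/-- the image of a fixed parameter lies in `G¹` -/
theorem OrthData.torusHom_mem (hperm : S.flatten.Perm (List.range D.rank)) (c : Fin D.rank → Kˣ)
    (hc : c ∈ fixT f πe) : torusHom D K c ∈ orthGroup hF T S := by
  have e : torusHom D K c =
      wordGL D hF.xadd (S.flatten.flatMap fun i => D.hWord (D.simple i) (extC D c i)) := by
    apply Units.ext
    rw [wordGL_val, torusHom_val, wordMat_flatMap_perm D hF.hsimple _ (fun i _ => extC_ne_zero D c i) _ hperm]
  rw [e, wordGL_flatMap_hWord, List.map_flatten, List.prod_flatten]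
  apply Subgroup.list_prod_mem
  intro x hx
  obtain ⟨l, hl, rfl⟩ := List.mem_map.1 hx
  obtain ⟨v, hv, rfl⟩ := List.mem_map.1 hl
  have hvv := h.gen.valid v hv
  apply h.prod_hGLt_mem (fun i hi => by rw [hcs i hi, map_neg, map_one])
    (fun i hi => by rw [hcn i hi, map_one]) v hv
  · intro i hi
    have hi' := hvv i hi
    have h1 := fixT_apply f πe c hc ⟨i, hi'⟩
    have h2 : T.π i < D.rank := T.π_lt i hi'
    rw [hcs i hi', extC_lt D c i hi', extC_lt D c (T.π i) h2]
    have h3 : (⟨T.π i, h2⟩ : Fin D.rank) = πe ⟨i, hi'⟩ := Fin.ext (hπ ⟨i, hi'⟩)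
    rw [h3, h1]
    rfl
  · intro i hi
    exact extC_ne_zero D c i


omit h hπ hcs hcn in
/-- `x_s(a) = x_s(b)` implies `a = b`, for a negative root `s` -/
theorem xGL_neg_inj (hF : ChevFacts D K) (s : ℕ) (hs : D.IsNegRoot s) (a b : K)
    (e : xGL D hF.xadd s a = xGL D hF.xadd s b) : a = b := by
  have hp := hF.sign.pos_of_neg s hs
  have hnn := hF.sign.neg_neg s hs.1
  have h1 : xGL D hF.xadd (D.neg (D.neg s)) (a - b) ∈ D.borelSubgroup K := by
    rw [hnn, sub_eq_add_neg, ← xGL_mul, ← xGL_inv, e, mul_inv_cancel]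
    exact one_mem _
  exact sub_eq_zero.1 (hF.eq_zero_of_xGL_neg_mem_borel _ hp _ h1)

omit h hπ hcs hcn in
/-- the character of a fixed diagonal element -/
theorem chi_fixed (hcm : ∀ r < D.nroots, ∀ a t, T.c r (a * t) = f a * T.c r t)
    (c : Fin D.rank → Kˣ) (hfix : T.σ (torusHom D K c) = torusHom D K c) (r : ℕ) (hr : r < D.nroots) :
    chi D (extC D c) (T.ρ r) = f (chi D (extC D c) r) := by
  have hcne : ∀ i < D.rank, extC D c i ≠ 0 := fun i _ => extC_ne_zero D c i
  have key : ∀ s, D.IsNegRoot s → chi D (extC D c) (T.ρ s) = f (chi D (extC D c) s) := by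
    intro s hs
    set g := torusHom D K c with hg
    have hgH : g ∈ D.diagonalSubgroup K := by
      rw [← torusHom_range D hF.xadd hF.hsimple hF.hall hF.simple_lt]
      exact ⟨c, rfl⟩
    have hgG := hF.diagonal_le_group hgH
    have hxG := xGL_mem_group D hF.xadd s (1 : K)
    have e1 := hF.Tmat_conj_xGL g (extC D c) hcne (torusHom_val D c) s hs.1 1
    have e2 := congrArg T.σ e1
    rw [T.map_mul _ _ (mul_mem hgG hxG) (inv_mem hgG), T.map_mul _ _ hgG hxG, T.map_inv hF _ hgG, hfix,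
      T.map_x s hs.1, T.map_x s hs.1,
      hF.Tmat_conj_xGL g (extC D c) hcne (torusHom_val D c) (T.ρ s) (T.ρ_lt s hs.1), hcm s hs.1] at e2
    have e3 := xGL_neg_inj hF _ (T.ρ_negRoot hF s hs) _ _ e2
    exact mul_right_cancel₀ (T.c_ne s hs.1 1 one_ne_zero) e3
  rcases hF.sign.pos_or_neg r hr with hp | hn
  · have h1 := key _ (hF.sign.neg_of_pos r hp)
    rw [T.ρ_neg r hr, chi_neg D hF.cartan_neg _ _ (T.ρ_lt r hr), chi_neg D hF.cartan_neg _ _ hr, map_inv₀,
      inv_inj] at h1
    exact h1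
  · exact key r hn

/-- a fixed diagonal element has a parameter whose twist gives the same element -/
theorem OrthData.torusHom_twP (hcm : ∀ r < D.nroots, ∀ a t, T.c r (a * t) = f a * T.c r t)
    (hcart : ∀ k : Fin D.rank, ∀ r < D.nroots, D.cartan (πe k).val (T.ρ r) = D.cartan k.val r)
    (hρs : ∀ s < D.nroots, ∃ r < D.nroots, T.ρ r = s)
    (c : Fin D.rank → Kˣ) (hfix : T.σ (torusHom D K c) = torusHom D K c) :
    torusHom D K (twP f πe c) = torusHom D K c := by
  apply Units.ext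
  rw [torusHom_val, torusHom_val]
  unfold Tmat
  congr 1
  funext idx
  rcases idx with j | v
  · rfl
  · simp only [Sum.elim_inr]
    obtain ⟨r, hr, hrv⟩ := hρs v.val v.2
    rw [← hrv, ← chiU_val, chiU_twP f πe T.ρ hcart c r hr, Units.coe_map, chiU_val,
      chi_fixed (hF := hF) f hcm c hfix r hr]
    rfl

/-- **`H¹ = G¹ ∩ H` is the image of the fixed parameters** -/
theorem OrthData.diagonal_inf_eq (hperm : S.flatten.Perm (List.range D.rank))
    (hcm : ∀ r < D.nroots, ∀ a t, T.c r (a * t) = f a * T.c r t)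
    (hcart : ∀ k : Fin D.rank, ∀ r < D.nroots, D.cartan (πe k).val (T.ρ r) = D.cartan k.val r)
    (hρs : ∀ s < D.nroots, ∃ r < D.nroots, T.ρ r = s)
    (hker : ∀ c : Fin D.rank → Kˣ, torusHom D K (twP f πe c) = torusHom D K c →
      ∃ c' ∈ fixT f πe, torusHom D K c' = torusHom D K c) :
    D.diagonalSubgroup K ⊓ orthGroup hF T S = (fixT f πe).map (torusHom D K) := by
  apply le_antisymm
  · rintro g ⟨hgH, hgG⟩
    rw [SetLike.mem_coe, ← torusHom_range D hF.xadd hF.hsimple hF.hall hF.simple_lt] at hgH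
    obtain ⟨c, rfl⟩ := hgH
    have hfix := h.fixed _ hgG
    obtain ⟨c', hc', e⟩ := hker c (h.torusHom_twP f πe hπ hcs hcn hcm hcart hρs c hfix)
    exact ⟨c', hc', e⟩
  · rintro g ⟨c, hc, rfl⟩
    refine ⟨?_, h.torusHom_mem f πe hπ hcs hcn hperm c hc⟩
    rw [SetLike.mem_coe, ← torusHom_range D hF.xadd hF.hsimple hF.hall hF.simple_lt]
    exact ⟨c, rfl⟩

/-- the order of `H¹` -/
theorem OrthData.card_diagonal_inf [Fintype K] (hperm : S.flatten.Perm (List.range D.rank))
    (hcm : ∀ r < D.nroots, ∀ a t, T.c r (a * t) = f a * T.c r t)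
    (hcart : ∀ k : Fin D.rank, ∀ r < D.nroots, D.cartan (πe k).val (T.ρ r) = D.cartan k.val r)
    (hρs : ∀ s < D.nroots, ∃ r < D.nroots, T.ρ r = s)
    (hker : ∀ c : Fin D.rank → Kˣ, torusHom D K (twP f πe c) = torusHom D K c →
      ∃ c' ∈ fixT f πe, torusHom D K c' = torusHom D K c) :
    Nat.card ↥(D.diagonalSubgroup K ⊓ orthGroup hF T S) *
      Nat.card {c : Fin D.rank → Kˣ // c ∈ fixT f πe ∧ torusHom D K c = 1} = Nat.card ↥(fixT f πe) := by
  rw [h.diagonal_inf_eq f πe hπ hcs hcn hperm hcm hcart hρs hker]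
  set ψ : ↥(fixT f πe) →* GL D.Idx K := (torusHom D K).comp (fixT f πe).subtype with hψ
  have h1 : ψ.range = (fixT f πe).map (torusHom D K) := by
    rw [hψ, MonoidHom.range_comp, Subgroup.range_subtype]
  rw [← h1, Subgroup.card_eq_card_quotient_mul_card_subgroup ψ.ker,
    Nat.card_congr (QuotientGroup.quotientKerEquivRange ψ).toEquiv]
  congr 1
  apply Nat.card_congr
  exact
    { toFun := fun c => ⟨⟨c.1, c.2.1⟩, by
        rw [MonoidHom.mem_ker]
        exact c.2.2⟩
      invFun := fun c => ⟨c.1.1, c.1.2, by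
        have := c.2
        rw [MonoidHom.mem_ker] at this
        exact this⟩
      left_inv := fun c => rfl
      right_inv := fun c => rfl }

end torus

end Cfsg.Agent.Lead.Tw
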