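import Mathlib
import Cfsg.Agent.Lib.Lead.TwD4Grp
import Cfsg.Agent.Lib.Lead.TwTorus
import Cfsg.Agent.Lib.Lead.ChevHCardData

/-!
# The order of `H¹ = G¹ ∩ H` in `³D₄(q)`
-/

set_option autoImplicit false
set_option linter.unusedSectionVars false
set_option linter.unusedSimpArgs false
set_option linter.unusedVariables false
set_option linter.style.haveILetI false

namespace Cfsg.Agent.Lead.Tw.D4

open Cfsg Cfsg.Lie Cfsg.Agent.Lead.Chev Cfsg.Agent.Helper6.ChevC Cfsg.Agent.Lead.ZPM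

/-! ### The kernel of the torus map -/

def kerM : List (List ℤ) := [[2, 2, 1, 1], [1, 2, 1, 1], [1, 2, 2, 1], [-1, -1, -1, 0]]

def kerN : List (List ℤ) := [[2, 0, 0, 0], [0, 1, 0, 0], [0, 0, 2, 0], [-1, 0, -1, 1]]

/-- the Cartan matrix with literal size -/
def cartD4 : Matrix (Fin 4) (Fin 4) ℤ := cartanMat chevD4

theorem kerMN : matOfL 4 kerM * cartD4 = matOfL 4 kerN := by decide +kernel

theorem ker_form {A : Type*} [CommGroup A] (z : Fin 4 → A) (hz : zpv cartD4 z = 1) :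
    z 0 ^ 2 = 1 ∧ z 1 = 1 ∧ z 2 ^ 2 = 1 ∧ z 3 = z 0 * z 2 := by
  have h1 : zpv (matOfL 4 kerN) z = 1 := by
    rw [← kerMN, zpv_mul, hz, zpv_const_one]
  have e0 := congrFun h1 0
  have e1 := congrFun h1 1
  have e2 := congrFun h1 2
  have e3 := congrFun h1 3
  simp only [zpv, matOfL, Matrix.of_apply, kerN, Fin.prod_univ_four] at e0 e1 e2 e3
  simp at e0 e1 e2 e3
  refine ⟨e0, e1, e2, ?_⟩
  have : (z 0)⁻¹ * (z 2)⁻¹ * z 3 = (z 0 * z 2)⁻¹ * z 3 := by
    rw [mul_inv]
  rw [this] at e3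
  exact (inv_mul_eq_one.1 e3).symm

theorem ker_form' {A : Type*} [CommGroup A] (z : Fin chevD4.rank → A) (hz : zpv cartD4 z = 1) :
    z ⟨0, by decide⟩ ^ 2 = 1 ∧ z ⟨1, by decide⟩ = 1 ∧ z ⟨2, by decide⟩ ^ 2 = 1 ∧
      z ⟨3, by decide⟩ = z ⟨0, by decide⟩ * z ⟨2, by decide⟩ :=
  ker_form z hz

/-! ### The hypotheses of the general theorem -/

variable {K : Type*} [Field K]

theorem πs_left : ∀ i < 4, πs' (πs i) = i := by decide

theorem πs_right : ∀ i < 4, πs (πs' i) = i := by decide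

theorem πs'_lt : ∀ i < 4, πs' i < 4 := by decide

theorem πs_cube : ∀ i < 4, πs' (πs' (πs' i)) = i := by decide

/-- the permutation of the nodes -/
def πe : Equiv.Perm (Fin chevD4.rank) where
  toFun i := ⟨πs i.val, tables.πlt i.val i.2⟩
  invFun i := ⟨πs' i.val, πs'_lt i.val i.2⟩
  left_inv i := Fin.ext (πs_left i.val i.2)
  right_inv i := Fin.ext (πs_right i.val i.2)

theorem hcm (f : K ≃+* K) : ∀ r < chevD4.nroots, ∀ a t : K, (tw f).c r (a * t) = f a * (tw f).c r t := by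
  intro r _ a t
  show ((GD4a.gp.ε r : ℤ) : K) * f (a * t) = f a * (((GD4a.gp.ε r : ℤ) : K) * f t)
  rw [map_mul]
  ring

theorem hcart_nat : ∀ k < 4, ∀ r < 24, chevD4.cartan (πs k) (GD4a.gp.π r) = chevD4.cartan k r := by
  decide +kernel

theorem hcart : ∀ k : Fin chevD4.rank, ∀ r < chevD4.nroots,
    chevD4.cartan (πe k).val (GD4a.gp.π r) = chevD4.cartan k.val r :=
  fun k r hr => hcart_nat k.val k.2 r hr

theorem hρs : ∀ s < chevD4.nroots, ∃ r < chevD4.nroots, GD4a.gp.π r = s := by decide +kernel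

theorem hperm : S.flatten.Perm (List.range chevD4.rank) := by decide

theorem mem_ker_iff (c : Fin chevD4.rank → Kˣ) :
    c ∈ (torusHom chevD4 K).ker ↔ zpv cartD4 (c : Fin 4 → Kˣ) = 1 :=
  mem_ker_torusHom_iff chevD4 _ rootCoef_D4 (hF (K := K)).simple_lt c

theorem twP_cube (f : K ≃+* K) (hfff : ∀ t, f (f (f t)) = t) (c : Fin chevD4.rank → Kˣ) :
    twP f πe (twP f πe (twP f πe c)) = c := by
  funext j
  simp only [twP]
  have h1 : πe.symm (πe.symm (πe.symm j)) = j := Fin.ext (πs_cube j.val j.2)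
  rw [h1]
  apply Units.ext
  simp [hfff]

/-- the kernel hypothesis -/
theorem hker (f : K ≃+* K) (hfff : ∀ t, f (f (f t)) = t) (c : Fin chevD4.rank → Kˣ)
    (hc : torusHom chevD4 K (twP f πe c) = torusHom chevD4 K c) :
    ∃ c' ∈ fixT f πe, torusHom chevD4 K c' = torusHom chevD4 K c := by
  set t1 := twP f πe c with ht1
  set t2 := twP f πe t1 with ht2
  have ht3 : twP f πe t2 = c := twP_cube f hfff c
  have hzk : t1 / c ∈ (torusHom chevD4 K).ker := by
    rw [MonoidHom.mem_ker, map_div, hc, div_self']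
  have hz2 : (t1 / c) ^ 2 = 1 := by
    obtain ⟨h0, h1, h2, h3⟩ := ker_form' (t1 / c) ((mem_ker_iff _).1 hzk)
    funext j
    obtain ⟨j, hj⟩ := j
    have hj' : j < 4 := hj
    interval_cases j
    · exact h0
    · show (t1 / c) ⟨1, by decide⟩ ^ 2 = 1
      rw [h1, one_pow]
    · exact h2
    · show (t1 / c) ⟨3, by decide⟩ ^ 2 = 1
      rw [h3, mul_pow, h0, h2, one_mul]
  -- the twist of the kernel element
  have hz2' : (t2 / t1) ^ 2 = 1 := by
    have : t2 / t1 = twP f πe (t1 / c) := by rw [twP_div]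
    rw [this, ← twP_pow, hz2]
    funext j
    simp [twP]
  have hzk' : t2 / t1 ∈ (torusHom chevD4 K).ker := by
    have e : t2 / t1 = twP f πe (t1 / c) := by rw [twP_div]
    rw [MonoidHom.mem_ker, e]
    have hfix : (tw f).σ (torusHom chevD4 K (t1 / c)) = torusHom chevD4 K (t1 / c) := by
      rw [(MonoidHom.mem_ker).1 hzk]
      exact (tw f).map_one hF
    rw [(orthData f).torusHom_twP f πe (fun i => rfl) (fun i hi t => c_simple f i hi t)
      (fun i hi t => c_neg_simple f i hi t) (hcm f) hcart hρs (t1 / c) hfix]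
    exact (MonoidHom.mem_ker).1 hzk
  have h3 : t2 ^ 2 = t1 ^ 2 := by
    rw [div_pow, div_eq_one] at hz2'
    exact hz2'
  refine ⟨c * t2 / t1, ?_, ?_⟩
  · rw [mem_fixT, twP_div, twP_mul, ht3, ← ht1, ← ht2, div_eq_div_iff_mul_eq_mul]
    calc t1 * c * t1 = c * t1 ^ 2 := by rw [pow_two]; simp only [mul_comm, mul_left_comm, mul_assoc]
      _ = c * t2 ^ 2 := by rw [h3]
      _ = c * t2 * t2 := by rw [pow_two, mul_assoc]
  · have e : c * t2 / t1 = c * (t2 / t1) := mul_div_assoc _ _ _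
    rw [e, map_mul, (MonoidHom.mem_ker).1 hzk', mul_one]


/-! ### Counting -/

section count

variable [Fintype K] {q : ℕ} (hq : 1 < q) (hK : Fintype.card K = q ^ 3) (f : K ≃+* K) (hf : ∀ t, f t = t ^ q)
include hq hK hf

theorem units_map_f (u : Kˣ) : Units.map (f : K →* K) u = u ^ q := by
  apply Units.ext
  simp [hf]

theorem hfff (t : K) : f (f (f t)) = t := by
  rw [hf, hf, hf, ← pow_mul, ← pow_mul]
  have : q * (q * q) = Fintype.card K := by rw [hK]; ring
  rw [this, FiniteField.pow_card]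

/-- a parameter vector from its four entries -/
def vec (a0 a1 a2 a3 : Kˣ) : Fin chevD4.rank → Kˣ := fun j => [a0, a1, a2, a3].getD j.val 1

omit hq hK hf in
theorem vec_eq (c : Fin chevD4.rank → Kˣ) :
    vec (c ⟨0, by decide⟩) (c ⟨1, by decide⟩) (c ⟨2, by decide⟩) (c ⟨3, by decide⟩) = c := by
  funext j
  obtain ⟨j, hj⟩ := j
  have hj' : j < 4 := hj
  interval_cases j <;> rfl

omit hq hK hf in
theorem twP_vec (a0 a1 a2 a3 : Kˣ) :
    twP f πe (vec a0 a1 a2 a3) =
      vec (Units.map (f : K →* K) a3) (Units.map (f : K →* K) a1) (Units.map (f : K →* K) a0)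
        (Units.map (f : K →* K) a2) := by
  funext j
  obtain ⟨j, hj⟩ := j
  have hj' : j < 4 := hj
  interval_cases j <;> rfl

omit hq hK hf in
theorem πe_vals : πe ⟨0, by decide⟩ = ⟨2, by decide⟩ ∧ πe ⟨1, by decide⟩ = ⟨1, by decide⟩ ∧
    πe ⟨2, by decide⟩ = ⟨3, by decide⟩ ∧ πe ⟨3, by decide⟩ = ⟨0, by decide⟩ :=
  ⟨rfl, rfl, rfl, rfl⟩

theorem card_fixT : Nat.card ↥(fixT f πe) = (q - 1) * (q ^ 3 - 1) := by
  classical
  have hU : Nat.card Kˣ = q ^ 3 - 1 := by
    rw [Nat.card_eq_fintype_card, Fintype.card_units, hK]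
  have hfix := card_units_fixed_pow hq (by norm_num : 0 < 3) hK
  have h5 : ∀ u : Kˣ, Units.map (f : K →* K) (Units.map (f : K →* K) (Units.map (f : K →* K) u)) = u := by
    intro u
    apply Units.ext
    simp [hfff hq hK f hf]
  have e : ↥(fixT f πe) ≃ {u : Kˣ // u ^ q = u} × Kˣ :=
    { toFun := fun c => (⟨c.1 ⟨1, by decide⟩, by
          have := fixT_apply f πe c.1 c.2 ⟨1, by decide⟩
          rw [units_map_f hq hK f hf] at this
          exact this.symm⟩, c.1 ⟨0, by decide⟩)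
      invFun := fun p => ⟨vec p.2 p.1.1 (Units.map (f : K →* K) p.2)
          (Units.map (f : K →* K) (Units.map (f : K →* K) p.2)), by
        rw [mem_fixT, twP_vec]
        have h1 : Units.map (f : K →* K) p.1.1 = p.1.1 := by
          rw [units_map_f hq hK f hf, p.1.2]
        rw [h1, h5]⟩
      left_inv := by
        intro c
        apply Subtype.ext
        have h2 := fixT_apply f πe c.1 c.2 ⟨0, by decide⟩
        have h3 := fixT_apply f πe c.1 c.2 ⟨2, by decide⟩
        show vec _ _ (Units.map (f : K →* K) (c.1 ⟨0, by decide⟩))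
          (Units.map (f : K →* K) (Units.map (f : K →* K) (c.1 ⟨0, by decide⟩))) = c.1
        rw [← h2]
        have : c.1 (πe ⟨0, by decide⟩) = c.1 ⟨2, by decide⟩ := rfl
        rw [this, ← h3]
        exact vec_eq c.1
      right_inv := by
        intro p
        rfl }
  rw [Nat.card_congr e, Nat.card_prod, hU, hfix]

theorem card_kerT :
    Nat.card {c : Fin chevD4.rank → Kˣ // c ∈ fixT f πe ∧ torusHom chevD4 K c = 1} = 1 := by
  have huniq : ∀ c : Fin chevD4.rank → Kˣ, c ∈ fixT f πe → torusHom chevD4 K c = 1 → c = 1 := by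
    intro c hc1 hc2
    obtain ⟨h0, h1, h2, h3⟩ := ker_form' c ((mem_ker_iff c).1 ((MonoidHom.mem_ker).2 hc2))
    have e2 := fixT_apply f πe c hc1 ⟨0, by decide⟩
    have e3 := fixT_apply f πe c hc1 ⟨2, by decide⟩
    have e2' : c ⟨2, by decide⟩ = Units.map (f : K →* K) (c ⟨0, by decide⟩) := e2
    have e3' : c ⟨3, by decide⟩ = Units.map (f : K →* K) (c ⟨2, by decide⟩) := e3
    -- `c 0 = ± 1` is fixed by `f`
    have hfix0 : Units.map (f : K →* K) (c ⟨0, by decide⟩) = c ⟨0, by decide⟩ := by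
      have hsq : ((c ⟨0, by decide⟩ : Kˣ) : K) ^ 2 = 1 := by
        rw [← Units.val_pow_eq_pow_val, h0, Units.val_one]
      apply Units.ext
      rw [Units.coe_map]
      rcases sq_eq_one_iff.1 hsq with h | h
      · show f _ = _
        rw [h, map_one]
      · show f _ = _
        rw [h, map_neg, map_one]
    have c2 : c ⟨2, by decide⟩ = c ⟨0, by decide⟩ := by rw [e2', hfix0]
    have c3 : c ⟨3, by decide⟩ = c ⟨0, by decide⟩ := by rw [e3', c2, hfix0]
    have c0 : c ⟨0, by decide⟩ = 1 := by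
      rw [c3, c2, ← pow_two, h0] at h3
      exact h3
    funext j
    obtain ⟨j, hj⟩ := j
    have hj' : j < 4 := hj
    interval_cases j
    · exact c0
    · exact h1
    · exact c2.trans c0
    · exact c3.trans c0
  haveI : Subsingleton {c : Fin chevD4.rank → Kˣ // c ∈ fixT f πe ∧ torusHom chevD4 K c = 1} :=
    ⟨fun a b => Subtype.ext ((huniq a.1 a.2.1 a.2.2).trans (huniq b.1 b.2.1 b.2.2).symm)⟩
  haveI : Nonempty {c : Fin chevD4.rank → Kˣ // c ∈ fixT f πe ∧ torusHom chevD4 K c = 1} :=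
    ⟨⟨1, one_mem _, map_one _⟩⟩
  exact Nat.card_unique

/-- **the order of `H¹`** -/
theorem card_H :
    Nat.card ↥(chevD4.diagonalSubgroup K ⊓ twistedD4 K q) = (q - 1) ^ 2 * (q ^ 2 + q + 1) := by
  have h := (orthData f).card_diagonal_inf f πe (fun i => rfl) (fun i hi t => c_simple f i hi t)
    (fun i hi t => c_neg_simple f i hi t) hperm (hcm f) hcart hρs (hker f (hfff hq hK f hf))
  rw [card_fixT hq hK f hf, card_kerT hq hK f hf, mul_one] at h
  rw [twisted_eq hK f hf, h]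
  have h1 : q ^ 3 - 1 = (q - 1) * (q ^ 2 + q + 1) := by
    obtain ⟨k, rfl⟩ : ∃ k, q = k + 1 := ⟨q - 1, by omega⟩
    have : (k + 1) ^ 3 - 1 = k * ((k + 1) ^ 2 + (k + 1) + 1) := by
      have : (k + 1) ^ 3 = k * ((k + 1) ^ 2 + (k + 1) + 1) + 1 := by ring
      omega
    simpa using this
  rw [h1]
  ring

end count

end Cfsg.Agent.Lead.Tw.D4
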