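import Mathlib

set_option autoImplicit false
open Pointwise

namespace Cfsg.Agent.Lead

variable {G : Type*} [Group G] [Finite G]

/-- In a simple group of order `> 2`, every element acts as an even permutation in any action. -/
theorem sign_toPerm_eq_one [IsSimpleGroup G] (hG : 2 < Nat.card G) {X : Type*} [MulAction G X]
    [Fintype X] [DecidableEq X] (x : G) :
    Equiv.Perm.sign (MulAction.toPermHom G X x) = 1 := by
  let ψ : G →* ℤˣ := Equiv.Perm.sign.comp (MulAction.toPermHom G X)
  rcases (ψ.normal_ker).eq_bot_or_eq_top with h | h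
  · exfalso
    have hinj : Function.Injective ψ := (MonoidHom.ker_eq_bot_iff _).1 h
    have := Nat.card_le_card_of_injective ψ hinj
    have h2 : Nat.card ℤˣ = 2 := by
      rw [Nat.card_eq_fintype_card]; rfl
    omega
  · have hx : x ∈ ψ.ker := by rw [h]; trivial
    exact MonoidHom.mem_ker.1 hx

/-- In a simple group of order `> 2`, an involution moves a multiple of 4 points in any action. -/
theorem involution_even_of_simple [IsSimpleGroup G] (hG : 2 < Nat.card G) {X : Type*}
    [MulAction G X] [Finite X] (x : G) (hx : x ^ 2 = 1) :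
    Even ((Nat.card X - Nat.card (MulAction.fixedBy X x)) / 2) := by
  classical
  haveI : Fintype X := Fintype.ofFinite X
  have h1 := sign_toPerm_eq_one hG (X := X) x
  have h2 : (MulAction.toPermHom G X x) ^ 2 = 1 := by
    rw [← map_pow, hx, map_one]
  rw [Equiv.Perm.sign_of_pow_two_eq_one h2] at h1
  have h3 : Fintype.card (Function.fixedPoints (MulAction.toPermHom G X x)) =
      Nat.card (MulAction.fixedBy X x) := by
    rw [← Nat.card_eq_fintype_card]
    rfl
  rw [h3, ← Nat.card_eq_fintype_card] at h1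
  by_contra hodd
  rw [Nat.not_even_iff_odd] at hodd
  rw [hodd.neg_one_pow] at h1
  exact absurd h1 (by decide)

/-- An element of the normalizer of a Sylow `p`-subgroup `P` that is a `p`-element lies in `P`. -/
theorem mem_sylow_of_mem_normalizer_of_pow {p : ℕ} [Fact p.Prime] (P : Sylow p G) {w : G}
    (hw : w ∈ Subgroup.normalizer ((P : Subgroup G) : Set G)) {k : ℕ} (hwp : w ^ p ^ k = 1) :
    w ∈ (P : Subgroup G) := by
  have hZ : IsPGroup p (Subgroup.zpowers w) := by
    rintro ⟨g, hg⟩
    obtain ⟨n, rfl⟩ := Subgroup.mem_zpowers_iff.1 hg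
    refine ⟨k, ?_⟩
    apply Subtype.ext
    simp only [Subgroup.coe_pow, Subgroup.coe_one]
    rw [← zpow_natCast, ← zpow_mul, mul_comm, zpow_mul, zpow_natCast, hwp, one_zpow]
  have h1 := hZ.inf_normalizer_sylow P
  have h2 : w ∈ Subgroup.zpowers w ⊓ (P : Subgroup G) := by
    rw [← h1]
    exact Subgroup.mem_inf.2 ⟨Subgroup.mem_zpowers w, hw⟩
  exact (Subgroup.mem_inf.1 h2).2

/-- If `P` has prime order and `x` commutes with a nontrivial element of `P`, then `x`
centralizes `P`. -/
theorem mem_centralizer_of_commute_of_prime_card {p : ℕ} [Fact p.Prime] (P : Subgroup G)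
    (hP : Nat.card P = p) {x v : G} (hv : v ∈ P) (hv1 : v ≠ 1) (hc : Commute x v) :
    x ∈ Subgroup.centralizer (P : Set G) := by
  rw [Subgroup.mem_centralizer_iff]
  intro u hu
  have hv1' : (⟨v, hv⟩ : P) ≠ 1 := fun h => hv1 (congrArg Subtype.val h)
  have htop := zpowers_eq_top_of_prime_card hP hv1'
  have hu' : (⟨u, hu⟩ : P) ∈ Subgroup.zpowers (⟨v, hv⟩ : P) := by
    rw [htop]; trivial
  obtain ⟨n, hn⟩ := Subgroup.mem_zpowers_iff.1 hu'
  have hu2 : v ^ n = u := by
    have := congrArg Subtype.val hn
    simpa using this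
  rw [← hu2]
  exact ((hc.zpow_right n).eq).symm

end Cfsg.Agent.Lead
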