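import Mathlib

/-!
# S3894, case `n = 2` (no nilpotent minimal cover between `PSL₂(q)` and `PGL₂(q)`, `q ≥ 4`): definitions

Plan: `plans/S3894_n2_plan.md`.  `pr : GL₂(F) → PGL₂(F)` is the projection, `T x` the image of the
centraliser of `x` (a "piece").  The nonscalar `x` give a partition of `PGL₂(F) ∖ 1` into the pieces `T x`.
-/

set_option autoImplicit false

namespace Cfsg.Agent.Lead.NC2

open Matrix

variable (F : Type*) [Field F]

/-- `PGL₂(F)` as in the frozen statement S3894. -/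
abbrev PGL2 := GL (Fin 2) F ⧸ Subgroup.center (GL (Fin 2) F)

variable {F}

/-- the projection `GL₂(F) → PGL₂(F)`. -/
def pr : GL (Fin 2) F →* PGL2 F := QuotientGroup.mk' (Subgroup.center (GL (Fin 2) F))

/-- the image of `SL₂(F)` in `PGL₂(F)` (the subgroup of the frozen statement). -/
def slImage : Subgroup (PGL2 F) :=
  ((Matrix.SpecialLinearGroup.toGL :
    Matrix.SpecialLinearGroup (Fin 2) F →* GL (Fin 2) F).range).map
      (QuotientGroup.mk' (Subgroup.center (GL (Fin 2) F)))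

/-- a scalar matrix. -/
def IsScalar (m : Matrix (Fin 2) (Fin 2) F) : Prop := ∃ c : F, m = c • (1 : Matrix (Fin 2) (Fin 2) F)

/-- the piece of `x`: image in `PGL₂` of the centraliser of `x` in `GL₂`. -/
def T (x : GL (Fin 2) F) : Subgroup (PGL2 F) := (Subgroup.centralizer {x}).map pr

/-- `x = c (1 + N)` with `N² = 0 ≠ N`. -/
def UniType (x : GL (Fin 2) F) : Prop :=
  ∃ (c : F) (N : Matrix (Fin 2) (Fin 2) F), N ≠ 0 ∧ N * N = 0 ∧
    (x : Matrix (Fin 2) (Fin 2) F) = c • (1 + N)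

/-- `x` is good: `x²` is not scalar, or `x` is of unipotent type.  For good `x` the centraliser of
`pr x` in `PGL₂` is `T x`. -/
def Good (x : GL (Fin 2) F) : Prop :=
  ¬ IsScalar ((x : Matrix (Fin 2) (Fin 2) F) * (x : Matrix (Fin 2) (Fin 2) F)) ∨ UniType x

/-- `x` has no eigenvector in `F²`. -/
def NoEig (x : GL (Fin 2) F) : Prop :=
  ∀ (v : Fin 2 → F) (c : F), v ≠ 0 → (x : Matrix (Fin 2) (Fin 2) F).mulVec v ≠ c • v

/-- the unipotent element `1 + N` (`N² = 0`). -/
def uni (N : Matrix (Fin 2) (Fin 2) F) (hN : N * N = 0) : GL (Fin 2) F where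
  val := 1 + N
  inv := 1 - N
  val_inv := by
    rw [add_mul, mul_sub, mul_sub, mul_one, one_mul, mul_one, hN]; abel
  inv_val := by
    rw [sub_mul, mul_add, mul_add, mul_one, one_mul, mul_one, hN]; abel

@[simp] theorem uni_val (N : Matrix (Fin 2) (Fin 2) F) (hN : N * N = 0) :
    ((uni N hN : GL (Fin 2) F) : Matrix (Fin 2) (Fin 2) F) = 1 + N := rfl

/-- the set of unipotent pieces. -/
def Iu : Set (Subgroup (PGL2 F)) :=
  {A | ∃ (N : Matrix (Fin 2) (Fin 2) F) (hN : N * N = 0), N ≠ 0 ∧ A = T (uni N hN)}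

/-- the set of non-split pieces. -/
def Ins : Set (Subgroup (PGL2 F)) := {A | ∃ x : GL (Fin 2) F, NoEig x ∧ A = T x}

/-- the index set `I = Iu ∪ Ins`. -/
def Iall : Set (Subgroup (PGL2 F)) := Iu ∪ Ins

/-- `w` is a witness of the piece `A`. -/
def IsWit [Fintype F] (A : Subgroup (PGL2 F)) (w : PGL2 F) : Prop :=
  ∃ y : GL (Fin 2) F, w = pr y ∧ Good y ∧ T y = A ∧ w ∈ (slImage : Subgroup (PGL2 F)) ∧
    (Fintype.card F = 5 → UniType y ∨ y ^ 3 = 1)

end Cfsg.Agent.Lead.NC2
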