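import Mathlib
import Cfsg.Agent.Lib.Lead.ChevCells
import Cfsg.Agent.Lib.Lead.ChevHConjN
import Cfsg.Agent.Lib.Lead.ChevFactsAll
import Cfsg.Agent.S2157

/-!
# The diagonal matrices `ĥ(χ)` of characters of the root lattice

An element of the Chevalley group normalising `B` lies in `B`; the matrix `ĥ(χ)` normalises `U` and centralises `H`;
so `G ∩ Ĥ = H`.
-/

set_option autoImplicit false
set_option linter.unusedSectionVars false
set_option linter.unusedSimpArgs false
set_option linter.unusedVariables false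

namespace Cfsg.Agent.Lead.Chev

open Cfsg Cfsg.Lie

variable {F : Type*} [Field F]

theorem charDiag_mul_inv (D : ChevalleyDatum) (χ : ℕ → Fˣ) :
    D.charDiag F χ * D.charDiag F (fun s => (χ s)⁻¹) = 1 := by
  unfold ChevalleyDatum.charDiag
  rw [Matrix.diagonal_mul_diagonal, ← Matrix.diagonal_one]
  congr 1
  funext i
  rcases i with i | i
  · simp
  · simp

theorem isRootCharacter_inv (D : ChevalleyDatum) (χ : ℕ → Fˣ) (hχ : D.IsRootCharacter χ) :
    D.IsRootCharacter (fun s => (χ s)⁻¹) := by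
  refine ⟨fun r hr => ?_, fun r s k hr hs hk => ?_⟩
  · show (χ (D.neg r))⁻¹ = ((χ r)⁻¹)⁻¹
    rw [hχ.1 r hr]
  · show (χ k)⁻¹ = (χ r)⁻¹ * (χ s)⁻¹
    rw [hχ.2 r s k hr hs hk, mul_inv]

namespace ChevFacts

variable {D : ChevalleyDatum} (hF : ChevFacts D F)
include hF

/-- an element of the group which, with its inverse, conjugates `B` into itself lies in `B` (`N_G(B) = B`) -/
theorem mem_borel_of_conj (n : GL D.Idx F) (hnG : n ∈ D.group F)
    (hc1 : ∀ b ∈ D.borelSubgroup F, n * b * n⁻¹ ∈ D.borelSubgroup F)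
    (hc2 : ∀ b ∈ D.borelSubgroup F, n⁻¹ * b * n ∈ D.borelSubgroup F) : n ∈ D.borelSubgroup F := by
  set P := hF.bnPair with hP
  have hnorm : (⟨n, hnG⟩ : ↥(D.group F)) ∈ Subgroup.normalizer (P.B : Set ↥(D.group F)) := by
    rw [Subgroup.mem_normalizer_iff]
    intro x
    constructor
    · intro hx
      exact hc1 _ hx
    · intro hx
      have hx' : n * (x : GL D.Idx F) * n⁻¹ ∈ D.borelSubgroup F := hx
      have := hc2 _ hx'
      have e3 : n⁻¹ * (n * (x : GL D.Idx F) * n⁻¹) * n = x := by group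
      rw [e3] at this
      exact this
  have hpar : P.parabolic ∅ = P.B := by
    unfold BNPair.parabolic
    rw [Subgroup.closure_empty, sup_bot_eq]
  have h312 := Cfsg.Agent.S0312.result P (J := ∅) (Set.empty_subset _)
  rw [hpar] at h312
  rw [h312] at hnorm
  exact hnorm

/-- a diagonal matrix in `U` is the identity -/
theorem eq_one_of_mem_posUnipotent_of_diagonal (u : GL D.Idx F) (hu : u ∈ D.posUnipotent F)
    (d : D.Idx → F) (e : (u : Matrix D.Idx D.Idx F) = Matrix.diagonal d) : u = 1 := by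
  apply Units.ext
  rw [Units.val_one, e, ← Matrix.diagonal_one]
  congr 1
  funext i
  have h1 := hF.posUnipotent_entry u hu i i le_rfl
  rw [if_pos rfl, e, Matrix.diagonal_apply_eq] at h1
  rw [h1]

end ChevFacts

/-- `G ∩ Ĥ ⊆ H` -/
theorem charDiag_mem_diagonal (D : ChevalleyDatum)
    (hD : D ∈ [chevG2, chevB2, chevD4, chevF4, chevE6, chevE7, chevE8]) (χ : ℕ → Fˣ)
    (hχ : D.IsRootCharacter χ) (g : GL D.Idx F) (hg : g ∈ D.group F)
    (hgχ : (g : Matrix D.Idx D.Idx F) = D.charDiag F χ) : g ∈ D.diagonalSubgroup F := by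
  have hF : ChevFacts D F := chevFacts_of_mem D hD
  have hχi := isRootCharacter_inv D χ hχ
  have hinv : ((g⁻¹ : GL D.Idx F) : Matrix D.Idx D.Idx F) = D.charDiag F (fun s => (χ s)⁻¹) := by
    have h1 : (g : Matrix D.Idx D.Idx F) * D.charDiag F (fun s => (χ s)⁻¹) = 1 := by
      rw [hgχ]; exact charDiag_mul_inv D χ
    calc ((g⁻¹ : GL D.Idx F) : Matrix D.Idx D.Idx F)
        = ((g⁻¹ : GL D.Idx F) : Matrix D.Idx D.Idx F) *
            ((g : Matrix D.Idx D.Idx F) * D.charDiag F (fun s => (χ s)⁻¹)) := by rw [h1, mul_one]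
      _ = ((g⁻¹ * g : GL D.Idx F) : Matrix D.Idx D.Idx F) * D.charDiag F (fun s => (χ s)⁻¹) := by
          rw [Units.val_mul, mul_assoc]
      _ = D.charDiag F (fun s => (χ s)⁻¹) := by rw [inv_mul_cancel, Units.val_one, one_mul]
  have hinvinv : (fun s => ((fun s => (χ s)⁻¹) s)⁻¹) = χ := by
    funext s; exact inv_inv _
  -- conjugation by `g` and `g⁻¹` preserves `U`
  have hU1 : ∀ u ∈ D.posUnipotent F, g * u * g⁻¹ ∈ D.posUnipotent F := by
    have hle : D.posUnipotent F ≤ (D.posUnipotent F).comap (MulAut.conj g).toMonoidHom := by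
      unfold ChevalleyDatum.posUnipotent
      rw [Subgroup.closure_le]
      rintro x ⟨r, t, hr, hx⟩
      rw [SetLike.mem_coe, Subgroup.mem_comap]
      show g * x * g⁻¹ ∈ _
      apply Subgroup.subset_closure
      refine ⟨r, (χ r : F) * t, hr, ?_⟩
      rw [Units.val_mul, Units.val_mul, hgχ, hinv, hx]
      exact Cfsg.Agent.S2157.result D hD χ hχ r hr.1 t
    intro u hu
    exact hle hu
  have hU2 : ∀ u ∈ D.posUnipotent F, g⁻¹ * u * g ∈ D.posUnipotent F := by
    have hle : D.posUnipotent F ≤ (D.posUnipotent F).comap (MulAut.conj g⁻¹).toMonoidHom := by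
      unfold ChevalleyDatum.posUnipotent
      rw [Subgroup.closure_le]
      rintro x ⟨r, t, hr, hx⟩
      rw [SetLike.mem_coe, Subgroup.mem_comap]
      show g⁻¹ * x * g⁻¹⁻¹ ∈ _
      rw [inv_inv]
      apply Subgroup.subset_closure
      refine ⟨r, (((χ r)⁻¹ : Fˣ) : F) * t, hr, ?_⟩
      rw [Units.val_mul, Units.val_mul, hgχ, hinv, hx]
      have := Cfsg.Agent.S2157.result D hD (fun s => (χ s)⁻¹) hχi r hr.1 t
      rw [hinvinv] at this
      exact this
    intro u hu
    have := hle hu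
    simpa using this
  -- `g` commutes with `H`
  have hH : ∀ h ∈ D.diagonalSubgroup F, g * h = h * g := by
    intro h hh
    obtain ⟨c, _, e1⟩ := exists_Tmat_of_mem D hF.hall h hh
    apply Units.ext
    rw [Units.val_mul, Units.val_mul, e1, hgχ]
    unfold Tmat ChevalleyDatum.charDiag
    rw [Matrix.diagonal_mul_diagonal, Matrix.diagonal_mul_diagonal]
    congr 1
    funext i
    exact mul_comm _ _
  have hc1 : ∀ b ∈ D.borelSubgroup F, g * b * g⁻¹ ∈ D.borelSubgroup F := by
    intro b hb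
    obtain ⟨u, hu, h, hh, rfl⟩ := (hF.mem_borel_iff b).1 hb
    have hcomm' : h * g⁻¹ = g⁻¹ * h := by
      calc h * g⁻¹ = g⁻¹ * (g * h) * g⁻¹ := by group
        _ = g⁻¹ * (h * g) * g⁻¹ := by rw [hH h hh]
        _ = g⁻¹ * h := by group
    have e : g * (u * h) * g⁻¹ = (g * u * g⁻¹) * h := by
      have : g * (u * h) * g⁻¹ = g * u * (h * g⁻¹) := by group
      rw [this, hcomm']
      group
    rw [e]
    exact mul_mem (posUnipotent_le_borel D (hU1 u hu)) (diagonal_le_borel D hh)
  have hc2 : ∀ b ∈ D.borelSubgroup F, g⁻¹ * b * g ∈ D.borelSubgroup F := by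
    intro b hb
    obtain ⟨u, hu, h, hh, rfl⟩ := (hF.mem_borel_iff b).1 hb
    have e : g⁻¹ * (u * h) * g = (g⁻¹ * u * g) * h := by
      rw [mul_assoc, mul_assoc u h g, ← hH h hh]
      group
    rw [e]
    exact mul_mem (posUnipotent_le_borel D (hU2 u hu)) (diagonal_le_borel D hh)
  have hgB := hF.mem_borel_of_conj g hg hc1 hc2
  obtain ⟨u, hu, h, hh, e⟩ := (hF.mem_borel_iff g).1 hgB
  obtain ⟨c, _, e1⟩ := exists_Tmat_of_mem D hF.hall h⁻¹ (inv_mem hh)
  have hu1 : u = 1 := by
    have e2 : u = g * h⁻¹ := by rw [e]; group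
    have e3 : (u : Matrix D.Idx D.Idx F) = Matrix.diagonal (fun i =>
        (Sum.elim (fun _ => (1 : F)) (fun r : Fin D.nroots => (χ r.val : F))) i *
          (Sum.elim (fun _ => (1 : F)) (fun v : Fin D.nroots => chi D c v.val)) i) := by
      rw [e2, Units.val_mul, hgχ, e1]
      unfold Tmat ChevalleyDatum.charDiag
      rw [Matrix.diagonal_mul_diagonal]
    exact hF.eq_one_of_mem_posUnipotent_of_diagonal u hu _ e3
  rw [e, hu1, one_mul]
  exact hh

end Cfsg.Agent.Lead.Chev
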