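import Mathlib
import Cfsg.Agent.Lib.Helper10.TMDefs

/-!
# S2930 piece ORB (lead): elementary facts on `orb`.
-/

set_option autoImplicit false

namespace Cfsg.Agent.Helper10.TM

open Equiv Equiv.Perm Cfsg.Agent.Helper11.AutAlt
open scoped Pointwise

variable {n : ℕ}

/-- ORB -/
theorem orb_eq_orbit (S : Subgroup (Alt n)) (x : Fin n) :
    orb S x = MulAction.orbit ↥S x := by
  ext y
  constructor
  · rintro ⟨s, hs, rfl⟩
    exact ⟨⟨s, hs⟩, rfl⟩
  · rintro ⟨⟨s, hs⟩, rfl⟩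
    exact ⟨s, hs, rfl⟩

theorem mem_orb_self (S : Subgroup (Alt n)) (x : Fin n) : x ∈ orb S x :=
  ⟨1, S.one_mem, rfl⟩

theorem orb_eq_of_mem {S : Subgroup (Alt n)} {x y : Fin n} (h : y ∈ orb S x) :
    orb S y = orb S x := by
  rw [orb_eq_orbit] at h
  rw [orb_eq_orbit, orb_eq_orbit]
  exact MulAction.orbit_eq_iff.2 h

theorem apply_mem_orb {S : Subgroup (Alt n)} {x y : Fin n} {s : Alt n} (hs : s ∈ S)
    (h : y ∈ orb S x) : (s : Perm (Fin n)) y ∈ orb S x := by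
  obtain ⟨t, ht, rfl⟩ := h
  exact ⟨s * t, S.mul_mem hs ht, rfl⟩

theorem apply_mem_orb_iff {S : Subgroup (Alt n)} {x y : Fin n} {s : Alt n} (hs : s ∈ S) :
    (s : Perm (Fin n)) y ∈ orb S x ↔ y ∈ orb S x := by
  constructor
  · intro h
    have h' := apply_mem_orb (S.inv_mem hs) h
    have e : ((s⁻¹ : Alt n) : Perm (Fin n)) ((s : Perm (Fin n)) y) = y := by
      rw [Subgroup.coe_inv]
      exact Equiv.symm_apply_apply _ _
    rwa [e] at h'
  · exact apply_mem_orb hs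

theorem ncard_orb_pow (S : Subgroup (Alt n)) (hS : IsPGroup 3 S) (x : Fin n) :
    ∃ k : ℕ, (orb S x).ncard = 3 ^ k := by
  obtain ⟨k, hk⟩ := hS.card_orbit x
  refine ⟨k, ?_⟩
  rw [orb_eq_orbit]
  exact hk

theorem le_SetStab_orb (S : Subgroup (Alt n)) (x : Fin n) : S ≤ SetStab (orb S x) := by
  intro s hs
  rw [mem_SetStab]
  ext y
  rw [Set.mem_smul_set_iff_inv_smul_mem]
  exact apply_mem_orb_iff (S.inv_mem hs)

end Cfsg.Agent.Helper10.TM
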