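import Mathlib
import Cfsg.Agent.Lib.Helper10.PCDefs

/-! # S2276 piece GALOIS (lead): two `p`-cycles on `p` points that do not generate the same
cyclic group generate a non-solvable group. -/

set_option autoImplicit false

namespace Cfsg.Agent.Helper10.PC

open Equiv Equiv.Perm

universe u

section general
variable {Ω : Type u} [Fintype Ω] [DecidableEq Ω]

/-- a permutation of prime order `p` on `p` points is transitive -/
theorem galois_trans (p : ℕ) (hp : p.Prime) (hcard : Fintype.card Ω = p) (σ : Perm Ω)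
    (hσ : orderOf σ = p) (x y : Ω) : ∃ k : ℕ, (σ ^ k) x = y := by
  have hcyc : σ.IsCycle := by
    apply Equiv.Perm.isCycle_of_prime_order' (hσ ▸ hp)
    rw [hσ, hcard]; have := hp.two_le; omega
  have hsupp : σ.support = Finset.univ := by
    apply Finset.eq_univ_of_card
    rw [← hcyc.orderOf, hσ, hcard]
  have hx : σ x ≠ x := by
    rw [← Equiv.Perm.mem_support, hsupp]; exact Finset.mem_univ _
  have hy : σ y ≠ y := by
    rw [← Equiv.Perm.mem_support, hsupp]; exact Finset.mem_univ _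
  exact hcyc.exists_pow_eq hx hy

/-- the centraliser of a `p`-cycle on `p` points is the cyclic group it generates -/
theorem galois_comm (p : ℕ) (hp : p.Prime) (hcard : Fintype.card Ω = p) (σ τ : Perm Ω)
    (hσ : orderOf σ = p) (hc : σ * τ = τ * σ) : τ ∈ Subgroup.zpowers σ := by
  have hpos : 0 < Fintype.card Ω := hcard ▸ hp.pos
  obtain ⟨x₀⟩ : Nonempty Ω := Fintype.card_pos_iff.mp hpos
  obtain ⟨k, hk⟩ := galois_trans p hp hcard σ hσ x₀ (τ x₀)
  refine ⟨(k : ℤ), ?_⟩
  ext y
  obtain ⟨j, hj⟩ := galois_trans p hp hcard σ hσ x₀ y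
  have hcj : τ * σ ^ j = σ ^ j * τ := ((Commute.pow_left (show Commute σ τ from hc) j).eq).symm
  simp only [zpow_natCast]
  rw [← hj]
  calc (σ ^ k) ((σ ^ j) x₀) = (σ ^ j) ((σ ^ k) x₀) := by
        rw [← Perm.mul_apply, ← Perm.mul_apply, ← pow_add, ← pow_add, add_comm]
    _ = (σ ^ j) (τ x₀) := by rw [hk]
    _ = (σ ^ j * τ) x₀ := rfl
    _ = (τ * σ ^ j) x₀ := by rw [hcj]
    _ = τ ((σ ^ j) x₀) := rfl

/-- a nontrivial normal subgroup of a group of permutations of `p` points containing a `p`-cycle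
contains every element of order `p` of the group -/
theorem galois_mem_normal (p : ℕ) (hp : p.Prime) (hcard : Fintype.card Ω = p)
    (G : Subgroup (Perm Ω)) (N : Subgroup ↥G) [hN : N.Normal] (hN1 : N ≠ ⊥)
    (σ : Perm Ω) (hσ : orderOf σ = p) (hσG : σ ∈ G)
    (ρ : Perm Ω) (hρ : orderOf ρ = p) (hρG : ρ ∈ G) : (⟨ρ, hρG⟩ : ↥G) ∈ N := by
  have hcardN : Nat.card Ω = p := by rw [Nat.card_eq_fintype_card, hcard]
  have htr : MulAction.IsPretransitive ↥G Ω := by
    constructor
    intro x y
    obtain ⟨k, hk⟩ := galois_trans p hp hcard σ hσ x y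
    refine ⟨⟨σ, hσG⟩ ^ k, ?_⟩
    rw [Subgroup.smul_def]
    simpa using hk
  have hprim : MulAction.IsPreprimitive ↥G Ω :=
    MulAction.IsPreprimitive.of_prime_card (by rw [hcardN]; exact hp)
  have hfix : MulAction.fixedPoints N Ω ≠ Set.univ := by
    intro h
    apply hN1
    rw [Subgroup.eq_bot_iff_forall]
    intro n hn
    apply Subtype.ext
    apply Equiv.Perm.ext
    intro x
    have hx : x ∈ MulAction.fixedPoints N Ω := by rw [h]; exact Set.mem_univ _
    have := hx ⟨n, hn⟩
    simpa [Subgroup.smul_def] using this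
  have htrN : MulAction.IsPretransitive N Ω :=
    MulAction.IsQuasiPreprimitive.isPretransitive_of_normal hfix
  have hpos : 0 < Fintype.card Ω := hcard ▸ hp.pos
  obtain ⟨x₀⟩ : Nonempty Ω := Fintype.card_pos_iff.mp hpos
  have hpN : p ∣ Nat.card N := by
    have h1 : (MulAction.stabilizer N x₀).index = Nat.card Ω :=
      MulAction.index_stabilizer_of_transitive N x₀
    rw [← hcardN, ← h1]; exact Subgroup.index_dvd_card _
  have hGcard : Nat.card ↥G ∣ p.factorial := by
    have := Subgroup.card_subgroup_dvd_card G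
    rwa [Nat.card_eq_fintype_card (α := Perm Ω), Fintype.card_perm, hcard] at this
  have hpi : ¬ p ∣ N.index := by
    intro hdvd
    have h2 : p * p ∣ p.factorial := by
      calc p * p ∣ Nat.card N * N.index := Nat.mul_dvd_mul hpN hdvd
        _ = Nat.card ↥G := N.card_mul_index
        _ ∣ p.factorial := hGcard
    have h3 : p.factorial = p * (p - 1).factorial := (Nat.mul_factorial_pred hp.ne_zero).symm
    rw [h3] at h2
    have h4 : p ∣ (p - 1).factorial := (Nat.mul_dvd_mul_iff_left hp.pos).mp h2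
    have h5 := (hp.dvd_factorial).mp h4
    have := hp.pos
    omega
  have hmem : (⟨ρ, hρG⟩ : ↥G) ^ N.index ∈ N := N.pow_index_mem _
  have hord : orderOf (⟨ρ, hρG⟩ : ↥G) = p := by
    rw [← hρ]; exact Subgroup.orderOf_mk ρ hρG
  have hcop : Nat.Coprime N.index (orderOf (⟨ρ, hρG⟩ : ↥G)) := by
    rw [hord]; exact (Nat.Coprime.symm ((Nat.Prime.coprime_iff_not_dvd hp).mpr hpi))
  obtain ⟨m, hm⟩ := exists_pow_eq_self_of_coprime hcop
  rw [← hm]; exact N.pow_mem hmem m

/-! ## piece GALOIS -/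

theorem not_solvable_of_two_pcycles (p : ℕ) (hp : p.Prime) (hcard : Fintype.card Ω = p)
    (σ τ : Perm Ω) (hσ : orderOf σ = p) (hτ : orderOf τ = p) (hne : τ ∉ Subgroup.zpowers σ) :
    ¬ Group.IsSolvable ↥(Subgroup.closure ({σ, τ} : Set (Perm Ω))) := by
  intro hsol
  obtain ⟨G, hG⟩ : ∃ G : Subgroup (Perm Ω), G = Subgroup.closure ({σ, τ} : Set (Perm Ω)) :=
    ⟨_, rfl⟩
  rw [← hG] at hsol
  have hσG : σ ∈ G := by rw [hG]; exact Subgroup.subset_closure (by simp)
  have hτG : τ ∈ G := by rw [hG]; exact Subgroup.subset_closure (by simp)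
  have hnt : Nontrivial ↥G := by
    refine ⟨⟨⟨σ, hσG⟩, 1, ?_⟩⟩
    intro h
    have h1 : σ = 1 := congrArg Subtype.val h
    rw [h1, orderOf_one] at hσ
    exact hp.ne_one hσ.symm
  have hlt : commutator ↥G < ⊤ := Group.IsSolvable.commutator_lt_top_of_nontrivial ↥G
  by_cases hbot : commutator ↥G = ⊥
  · apply hne
    apply galois_comm p hp hcard σ τ hσ
    have hc := Subgroup.commutator_mem_commutator (H₁ := (⊤ : Subgroup ↥G)) (H₂ := ⊤)
      (Subgroup.mem_top (⟨σ, hσG⟩ : ↥G)) (Subgroup.mem_top (⟨τ, hτG⟩ : ↥G))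
    rw [← commutator_def, hbot, Subgroup.mem_bot, commutatorElement_eq_one_iff_mul_comm] at hc
    exact congrArg Subtype.val hc
  · have h1 := galois_mem_normal p hp hcard G (commutator ↥G) hbot σ hσ hσG σ hσ hσG
    have h2 := galois_mem_normal p hp hcard G (commutator ↥G) hbot σ hσ hσG τ hτ hτG
    apply hlt.ne
    rw [eq_top_iff]
    intro g _
    have hle : G ≤ (commutator ↥G).map G.subtype := by
      refine hG.le.trans ((Subgroup.closure_le _).mpr ?_)
      intro x hx
      rcases hx with rfl | hx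
      · exact ⟨⟨x, hσG⟩, h1, rfl⟩
      · rw [Set.mem_singleton_iff] at hx
        subst hx
        exact ⟨⟨x, hτG⟩, h2, rfl⟩
    obtain ⟨c, hc, hcg⟩ := hle g.2
    have : c = g := Subtype.ext hcg
    rw [← this]; exact hc

end general

end Cfsg.Agent.Helper10.PC
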