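import Mathlib

set_option autoImplicit false

namespace Cfsg.Agent.Lead

variable {G : Type*} [Group G]

/-- The size of the conjugacy class of `z` is the index of its centralizer. -/
theorem index_centralizer_eq_card_conj (z : G) :
    (Subgroup.centralizer ({z} : Set G)).index = Nat.card {g : G // IsConj z g} := by
  set C := Subgroup.centralizer ({z} : Set G) with hC
  have hmem : ∀ g : G, g ∈ C ↔ g * z = z * g := by
    intro g
    rw [hC, Subgroup.mem_centralizer_iff]
    constructor
    · intro h; exact (h z rfl).symm
    · intro h y hy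
      rw [Set.mem_singleton_iff] at hy
      rw [hy]; exact h.symm
  let f : G → {g : G // IsConj z g} := fun g => ⟨g * z * g⁻¹, isConj_iff.2 ⟨g, rfl⟩⟩
  have hf : ∀ a b : G, (QuotientGroup.leftRel C) a b → f a = f b := by
    intro a b hab
    rw [QuotientGroup.leftRel_apply, hmem] at hab
    apply Subtype.ext
    show a * z * a⁻¹ = b * z * b⁻¹
    have h1 : z = (a⁻¹ * b) * z * (a⁻¹ * b)⁻¹ := by
      rw [hab]; group
    calc a * z * a⁻¹ = a * ((a⁻¹ * b) * z * (a⁻¹ * b)⁻¹) * a⁻¹ := by rw [← h1]
      _ = b * z * b⁻¹ := by group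
  let φ : G ⧸ C → {g : G // IsConj z g} := Quotient.lift f hf
  have hinj : Function.Injective φ := by
    intro q q' hqq
    induction q using QuotientGroup.induction_on with
    | H a =>
      induction q' using QuotientGroup.induction_on with
      | H b =>
        have h1 : a * z * a⁻¹ = b * z * b⁻¹ := congrArg Subtype.val hqq
        rw [QuotientGroup.eq, hmem]
        calc a⁻¹ * b * z = a⁻¹ * (b * z * b⁻¹) * b := by group
          _ = a⁻¹ * (a * z * a⁻¹) * b := by rw [h1]
          _ = z * (a⁻¹ * b) := by group
  have hsurj : Function.Surjective φ := by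
    rintro ⟨x, hx⟩
    obtain ⟨c, hc⟩ := isConj_iff.1 hx
    exact ⟨(c : G ⧸ C), Subtype.ext hc⟩
  exact Nat.card_congr (Equiv.ofBijective φ ⟨hinj, hsurj⟩)

/-- class equation for a single element -/
theorem card_conj_mul_card_centralizer [Finite G] (z : G) :
    Nat.card {g : G // IsConj z g} * Nat.card (Subgroup.centralizer ({z} : Set G)) =
      Nat.card G := by
  rw [← index_centralizer_eq_card_conj, mul_comm]
  exact Subgroup.card_mul_index _

end Cfsg.Agent.Lead
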