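import Mathlib
import Cfsg.Agent.Lib.Lead.DihedralRecog

set_option autoImplicit false
set_option linter.deprecated false

namespace Cfsg.Agent.Lead

/-- In a group where every element squares to one, multiplication is commutative. -/
theorem comm_of_sq_eq_one {T : Type*} [Group T] (h : ∀ x : T, x ^ 2 = 1) (x y : T) :
    x * y = y * x := by
  have hinv : ∀ z : T, z⁻¹ = z := by
    intro z
    have := h z
    rw [pow_two] at this
    exact inv_eq_of_mul_eq_one_right this
  calc x * y = (x * y)⁻¹ := (hinv _).symm
    _ = y⁻¹ * x⁻¹ := mul_inv_rev x y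
    _ = y * x := by rw [hinv, hinv]

/-- Elements of `zpowers a` for `a` of order 4. -/
theorem mem_zpowers_order4 {T : Type*} [Group T] {a x : T} (ha : orderOf a = 4)
    (hx : x ∈ Subgroup.zpowers a) : x = 1 ∨ x = a ∨ x = a ^ 2 ∨ x = a ^ 3 := by
  classical
  have hfin : IsOfFinOrder a := orderOf_pos_iff.1 (by rw [ha]; norm_num)
  rw [hfin.mem_zpowers_iff_mem_range_orderOf, ha] at hx
  simp only [Finset.mem_image, Finset.mem_range] at hx
  obtain ⟨k, hk, rfl⟩ := hx
  interval_cases k
  · left; simp
  · right; left; simp
  · right; right; left; rfl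
  · right; right; right; rfl

/-- Structure of nonabelian groups of order 8: such a group is dihedral, or has a nontrivial
element lying in every nontrivial cyclic subgroup (the quaternion case). -/
theorem order8_nonabelian {T : Type*} [Group T] (h8 : Nat.card T = 8)
    (hna : ∃ x y : T, x * y ≠ y * x) :
    Nonempty (T ≃* DihedralGroup 4) ∨
      ∃ z : T, z ≠ 1 ∧ ∀ x : T, x ≠ 1 → z ∈ Subgroup.zpowers x := by
  classical
  haveI : Finite T := Nat.finite_of_card_ne_zero (by rw [h8]; norm_num)
  obtain ⟨x0, y0, hxy0⟩ := hna
  -- an element of order 4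
  obtain ⟨a, ha⟩ : ∃ a : T, orderOf a = 4 := by
    by_contra hno
    push Not at hno
    apply hxy0
    apply comm_of_sq_eq_one
    intro x
    have hdvd : orderOf x ∣ 2 ^ 3 := by
      have := orderOf_dvd_natCard x
      rwa [h8] at this
    obtain ⟨k, hk, hk'⟩ := (Nat.dvd_prime_pow Nat.prime_two).1 hdvd
    interval_cases k
    · rw [pow_zero, orderOf_eq_one_iff] at hk'
      rw [hk', one_pow]
    · rw [pow_one] at hk'
      rw [← hk']; exact pow_orderOf_eq_one x
    · exact absurd hk' (hno x)
    · exfalso
      apply hno (x ^ 2)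
      rw [orderOf_pow' x (by norm_num), hk']
      norm_num
  set A := Subgroup.zpowers a with hA
  have hAcard : Nat.card A = 4 := by rw [hA, Nat.card_zpowers, ha]
  have hAidx : A.index = 2 := by
    have := Subgroup.card_mul_index A
    rw [hAcard, h8] at this
    omega
  haveI hAn : A.Normal := Subgroup.normal_of_index_eq_two hAidx
  have haA : a ∈ A := Subgroup.mem_zpowers a
  have ha4 : a ^ 4 = 1 := by rw [← ha]; exact pow_orderOf_eq_one a
  have ha2 : a ^ 2 ≠ 1 := by
    intro h
    have := orderOf_dvd_of_pow_eq_one h
    rw [ha] at this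
    omega
  have ha1 : a ≠ 1 := by
    intro h
    rw [h, orderOf_one] at ha
    omega
  -- every s ∉ A inverts a
  have hinvert : ∀ s : T, s ∉ A → s * a * s⁻¹ = a⁻¹ := by
    intro s hs
    have hconj : s * a * s⁻¹ ∈ A := hAn.conj_mem a haA s
    have hord : orderOf (s * a * s⁻¹) = 4 := by
      have hsc : SemiconjBy s a (s * a * s⁻¹) := by unfold SemiconjBy; group
      rw [← hsc.orderOf_eq s, ha]
    rcases mem_zpowers_order4 ha hconj with h | h | h | h
    · rw [h, orderOf_one] at hord; omega
    · -- s commutes with a: contradiction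
      exfalso
      set C := Subgroup.centralizer ({a} : Set T) with hC
      have hAC : A ≤ C := by
        rw [hA, Subgroup.zpowers_le, hC, Subgroup.mem_centralizer_iff]
        intro y hy
        rw [Set.mem_singleton_iff] at hy
        rw [hy]
      have hsC : s ∈ C := by
        rw [hC, Subgroup.mem_centralizer_iff]
        intro y hy
        rw [Set.mem_singleton_iff] at hy
        rw [hy]
        calc a * s = (s * a * s⁻¹) * s := by rw [h]
          _ = s * a := by group
      have hCcard : Nat.card C = 8 := by
        have h1 : Nat.card A ∣ Nat.card C := Subgroup.card_dvd_of_le hAC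
        have h2 : Nat.card C ∣ 8 := by
          have := Subgroup.card_subgroup_dvd_card C
          rwa [h8] at this
        have h3 : A ≠ C := by
          intro hAC'
          apply hs
          rw [hAC']
          exact hsC
        have h4 : Nat.card C ≠ 4 := by
          intro h4
          apply h3
          exact Subgroup.eq_of_le_of_card_ge hAC (by rw [hAcard, h4])
        rw [hAcard] at h1
        have h5 : Nat.card C ≤ 8 := Nat.le_of_dvd (by norm_num) h2
        have hpos : 0 < Nat.card C := Nat.card_pos
        have h6 : Nat.card C % 4 = 0 := Nat.mod_eq_zero_of_dvd h1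
        omega
      have hCtop : C = ⊤ := Subgroup.eq_top_of_card_eq C (by rw [hCcard, h8])
      have hAcen : A ≤ Subgroup.center T := by
        rw [hA, Subgroup.zpowers_le, Subgroup.mem_center_iff]
        intro g
        have hg : g ∈ C := by rw [hCtop]; trivial
        rw [hC, Subgroup.mem_centralizer_iff] at hg
        exact (hg a rfl).symm
      haveI : IsCyclic (T ⧸ A) := by
        apply isCyclic_of_prime_card (p := 2)
        rw [← Subgroup.index, hAidx]
      apply hxy0
      exact commutative_of_cyclic_center_quotient (QuotientGroup.mk' A)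
        (by rw [QuotientGroup.ker_mk']; exact hAcen) x0 y0
    · rw [h] at hord
      have : (a ^ 2) ^ 2 = 1 := by rw [← pow_mul]; exact ha4
      have := orderOf_dvd_of_pow_eq_one this
      rw [hord] at this
      omega
    · rw [h]
      have : a ^ 3 * a = 1 := by rw [← pow_succ]; exact ha4
      exact eq_inv_of_mul_eq_one_left this
  -- squares of elements outside A
  have hsq : ∀ s : T, s ∉ A → s ^ 2 = 1 ∨ s ^ 2 = a ^ 2 := by
    intro s hs
    have h1 : s ^ 2 ∈ A := Subgroup.sq_mem_of_index_two hAidx s
    have hinv := hinvert s hs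
    -- s commutes with s^2
    have hcomm : s * s ^ 2 * s⁻¹ = s ^ 2 := by group
    rcases mem_zpowers_order4 ha h1 with h | h | h | h
    · left; exact h
    · exfalso
      rw [h, hinv] at hcomm
      -- a⁻¹ = a → a^2 = 1
      apply ha2
      have : a * a = 1 := by
        calc a * a = a * a⁻¹ := by rw [hcomm]
          _ = 1 := mul_inv_cancel a
      rw [pow_two]; exact this
    · right; exact h
    · exfalso
      rw [h] at hcomm
      have h3 : s * a ^ 3 * s⁻¹ = (s * a * s⁻¹) ^ 3 := by rw [conj_pow]
      rw [h3, hinv] at hcomm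
      -- a⁻³ = a³ → a^6 = 1 → a^2 = 1
      apply ha2
      have h6 : a ^ 3 * a ^ 3 = 1 := by
        calc a ^ 3 * a ^ 3 = a ^ 3 * (a⁻¹) ^ 3 := by rw [hcomm]
          _ = 1 := by rw [inv_pow, mul_inv_cancel]
      calc a ^ 2 = a ^ 2 * 1 := (mul_one _).symm
        _ = a ^ 2 * a ^ 4 := by rw [ha4]
        _ = a ^ 3 * a ^ 3 := by rw [← pow_add, ← pow_add]
        _ = 1 := h6
  by_cases hex : ∃ s : T, s ∉ A ∧ s ^ 2 = 1
  · left
    obtain ⟨s, hsA, hs2⟩ := hex
    have hss : s * s = 1 := by rw [← pow_two]; exact hs2
    have hsinv : s⁻¹ = s := inv_eq_of_mul_eq_one_right hss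
    apply nonempty_mulEquiv_dihedral 4 a s ha hss
    · have := hinvert s hsA
      rwa [hsinv] at this
    · exact hsA
    · rw [h8]
  · right
    push Not at hex
    refine ⟨a ^ 2, ha2, ?_⟩
    intro x hx1
    by_cases hxA : x ∈ A
    · rcases mem_zpowers_order4 ha hxA with h | h | h | h
      · exact absurd h hx1
      · rw [h]; exact Subgroup.pow_mem _ (Subgroup.mem_zpowers a) 2
      · rw [h]; exact Subgroup.mem_zpowers _
      · rw [h]
        have : a ^ 2 = (a ^ 3) ^ 2 := by
          rw [← pow_mul]
          calc a ^ 2 = a ^ 2 * 1 := (mul_one _).symm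
            _ = a ^ 2 * a ^ 4 := by rw [ha4]
            _ = a ^ (3 * 2) := by rw [← pow_add]
        rw [this]
        exact Subgroup.pow_mem _ (Subgroup.mem_zpowers _) 2
    · rcases hsq x hxA with h | h
      · exact absurd h (hex x hxA)
      · rw [← h]
        exact Subgroup.pow_mem _ (Subgroup.mem_zpowers x) 2

end Cfsg.Agent.Lead
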