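import Mathlib

set_option autoImplicit false

namespace Cfsg.Agent.Lead

variable {G : Type*} [Group G] [Finite G]

/-- Counting with trivially intersecting Sylow subgroups: if any two distinct Sylow `p`-subgroups
(of order `m`) meet trivially, then there are at least `n_p * (m - 1)` nontrivial elements `g`
with `g ^ m = 1`. -/
theorem card_ge_of_TI {p : ℕ} [Fact p.Prime] (m : ℕ)
    (hm : ∀ P : Sylow p G, Nat.card (P : Subgroup G) = m)
    (hTI : ∀ P P' : Sylow p G, P ≠ P' → (P : Subgroup G) ⊓ (P' : Subgroup G) = ⊥) :
    Nat.card (Sylow p G) * (m - 1) ≤ Nat.card {g : G // g ≠ 1 ∧ g ^ m = 1} := by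
  classical
  haveI : Fintype (Sylow p G) := Fintype.ofFinite _
  let β : Sylow p G → Type _ := fun P => {x : (P : Subgroup G) // x ≠ 1}
  let f : (Σ P : Sylow p G, β P) → {g : G // g ≠ 1 ∧ g ^ m = 1} := fun a =>
    ⟨(a.2.1 : G), fun h => a.2.2 (Subtype.ext h), by
      have h0 := pow_card_eq_one' (G := ↥(a.1 : Subgroup G)) (x := a.2.1)
      rw [hm a.1] at h0
      have := congrArg Subtype.val h0
      simpa using this⟩
  have hinj : Function.Injective f := by
    rintro ⟨P, x, hx⟩ ⟨P', x', hx'⟩ hxx
    have hval : (x : G) = (x' : G) := congrArg Subtype.val hxx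
    have hPP : P = P' := by
      by_contra hne
      have hmem : (x : G) ∈ (P : Subgroup G) ⊓ (P' : Subgroup G) :=
        Subgroup.mem_inf.2 ⟨x.2, hval ▸ x'.2⟩
      rw [hTI P P' hne, Subgroup.mem_bot] at hmem
      exact hx (Subtype.ext hmem)
    subst hPP
    have : x = x' := Subtype.ext hval
    subst this
    rfl
  have hcard : Nat.card (Σ P : Sylow p G, β P) = Nat.card (Sylow p G) * (m - 1) := by
    rw [Nat.card_sigma]
    have : ∀ P : Sylow p G, Nat.card (β P) = m - 1 := by
      intro P
      haveI : Fintype (P : Subgroup G) := Fintype.ofFinite _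
      show Nat.card {x : (P : Subgroup G) // x ≠ 1} = m - 1
      rw [Nat.card_eq_fintype_card, Fintype.card_subtype_compl, Fintype.card_subtype_eq,
        ← Nat.card_eq_fintype_card, hm P]
    rw [Finset.sum_congr rfl (fun P _ => this P), Finset.sum_const, Finset.card_univ,
      smul_eq_mul, Nat.card_eq_fintype_card]
  rw [← hcard]
  exact Nat.card_le_card_of_injective f hinj

/-- Two disjoint families of nontrivial elements plus the identity fit inside `G`. -/
theorem card_add_card_add_one_le (a b : ℕ) (hab : Nat.Coprime a b) :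
    Nat.card {g : G // g ≠ 1 ∧ g ^ a = 1} + Nat.card {g : G // g ≠ 1 ∧ g ^ b = 1} + 1 ≤
      Nat.card G := by
  classical
  let f : Option ({g : G // g ≠ 1 ∧ g ^ a = 1} ⊕ {g : G // g ≠ 1 ∧ g ^ b = 1}) → G := fun o =>
    match o with
    | none => 1
    | some (Sum.inl x) => x.1
    | some (Sum.inr x) => x.1
  have hinj : Function.Injective f := by
    intro o o' h
    rcases o with _ | x | x <;> rcases o' with _ | y | y
    · rfl
    · exact absurd h.symm y.2.1
    · exact absurd h.symm y.2.1
    · exact absurd h x.2.1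
    · have : x = y := Subtype.ext h
      rw [this]
    · exfalso
      have hx : (x : G) ^ a = 1 := x.2.2
      have hy : (x : G) ^ b = 1 := by
        have h' : (x : G) = (y : G) := h
        rw [h']; exact y.2.2
      have h1 : orderOf (x : G) ∣ a := orderOf_dvd_of_pow_eq_one hx
      have h2 : orderOf (x : G) ∣ b := orderOf_dvd_of_pow_eq_one hy
      have h3 := Nat.eq_one_of_dvd_coprimes hab h1 h2
      exact x.2.1 (orderOf_eq_one_iff.1 h3)
    · exact absurd h x.2.1
    · exfalso
      have hx : (x : G) ^ b = 1 := x.2.2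
      have hy : (x : G) ^ a = 1 := by
        have h' : (x : G) = (y : G) := h
        rw [h']; exact y.2.2
      have h1 : orderOf (x : G) ∣ a := orderOf_dvd_of_pow_eq_one hy
      have h2 : orderOf (x : G) ∣ b := orderOf_dvd_of_pow_eq_one hx
      have h3 := Nat.eq_one_of_dvd_coprimes hab h1 h2
      exact x.2.1 (orderOf_eq_one_iff.1 h3)
    · have : x = y := Subtype.ext h
      rw [this]
  have := Nat.card_le_card_of_injective f hinj
  rw [Finite.card_option, Nat.card_sum] at this
  exact this

end Cfsg.Agent.Lead
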