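import Mathlib
import Cfsg.Agent.S1003
import Cfsg.Agent.Lib.Lead.PermTools
import Cfsg.Agent.Lib.Lead.TICount
import Cfsg.Agent.Lib.Lead.Order8

set_option autoImplicit false
set_option linter.style.haveILetI false
open Pointwise

namespace Cfsg.Agent.Lead.O168

variable {G : Type*} [Group G] [Finite G]

/-- If `P` is a Sylow subgroup of prime order `p` in a nonabelian simple group with
`|N(P)| = p * q`, `q` prime, then `C(P) = P`. -/
theorem centralizer_eq_sylow_of_card [IsSimpleGroup G] (hG : ∃ x y : G, x * y ≠ y * x)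
    {p q : ℕ} [Fact p.Prime] (hq : q.Prime) (P : Sylow p G) (hP : Nat.card (P : Subgroup G) = p)
    (hN : Nat.card (Subgroup.normalizer ((P : Subgroup G) : Set G)) = p * q) :
    Subgroup.centralizer ((P : Subgroup G) : Set G) = (P : Subgroup G) := by
  have hpp : p.Prime := Fact.out
  set C := Subgroup.centralizer ((P : Subgroup G) : Set G) with hC
  set N := Subgroup.normalizer ((P : Subgroup G) : Set G) with hNdef
  have hCN : C ≤ N := Subgroup.centralizer_le_normalizer _
  have hPC : (P : Subgroup G) ≤ C := by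
    haveI : IsCyclic (P : Subgroup G) := isCyclic_of_prime_card hP
    intro x hx
    rw [hC, Subgroup.mem_centralizer_iff]
    intro y hy
    obtain ⟨g, hg⟩ := IsCyclic.exists_generator (α := (P : Subgroup G))
    obtain ⟨m, hm⟩ := Subgroup.mem_zpowers_iff.1 (hg ⟨x, hx⟩)
    obtain ⟨n, hn⟩ := Subgroup.mem_zpowers_iff.1 (hg ⟨y, hy⟩)
    have hx' : x = (g : G) ^ m := by rw [← Subgroup.coe_zpow, hm]
    have hy' : y = (g : G) ^ n := by rw [← Subgroup.coe_zpow, hn]
    rw [hx', hy', ← zpow_add, ← zpow_add, add_comm]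
  have h1 : p ∣ Nat.card C := by
    have := Subgroup.card_dvd_of_le hPC
    rwa [hP] at this
  have h2 : Nat.card C ∣ p * q := by
    have := Subgroup.card_dvd_of_le hCN
    rwa [hN] at this
  obtain ⟨d, hd⟩ := h1
  have hdq : d ∣ q := by
    rw [hd] at h2
    exact Nat.dvd_of_mul_dvd_mul_left hpp.pos h2
  rcases (Nat.dvd_prime hq).1 hdq with h | h
  · symm
    apply Subgroup.eq_of_le_of_card_ge hPC
    rw [hd, h, mul_one, hP]
  · exfalso
    have hNC : N ≤ C := by
      have := Subgroup.eq_of_le_of_card_ge hCN (by rw [hN, hd, h])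
      rw [this]
    have hpd : p ∣ Nat.card G := by
      have := Subgroup.card_subgroup_dvd_card (P : Subgroup G)
      rwa [hP] at this
    exact Cfsg.Agent.S0073.not_normalizer_le_centralizer hG P hpd hNC

/-- If all Sylow `p`-subgroups have prime order `p` and are self-centralizing, then anything
commuting with an element of order `p` is a power of it. -/
theorem mem_zpowers_of_commute {p : ℕ} [Fact p.Prime]
    (hcard : ∀ P : Sylow p G, Nat.card (P : Subgroup G) = p)
    (hcen : ∀ P : Sylow p G, Subgroup.centralizer ((P : Subgroup G) : Set G) = (P : Subgroup G))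
    {x y : G} (hy : orderOf y = p) (hxy : Commute x y) : x ∈ Subgroup.zpowers y := by
  have hpp : p.Prime := Fact.out
  have hz : IsPGroup p (Subgroup.zpowers y) := by
    apply IsPGroup.of_card (n := 1)
    rw [Nat.card_zpowers, hy, pow_one]
  obtain ⟨P, hP⟩ := hz.exists_le_sylow
  have heq : Subgroup.zpowers y = (P : Subgroup G) := by
    apply Subgroup.eq_of_le_of_card_ge hP
    rw [hcard P, Nat.card_zpowers, hy]
  have hy1 : y ≠ 1 := by
    intro h
    rw [h, orderOf_one] at hy
    exact hpp.one_lt.ne hy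
  have := mem_centralizer_of_commute_of_prime_card (P : Subgroup G) (hcard P)
    (hP (Subgroup.mem_zpowers y)) hy1 hxy
  rw [hcen P] at this
  rw [heq]
  exact this

section

variable [IsSimpleGroup G] (h : Nat.card G = 168)
include h

theorem nonab : ∃ x y : G, x * y ≠ y * x :=
  nonabelian_of_not_prime (by rw [h]; norm_num)

theorem card_sylow2 (T : Sylow 2 G) : Nat.card (T : Subgroup G) = 8 := by
  have := (sylow_facts (G := G) (p := 2) (k := 3) (m := 21) (by rw [h]; norm_num) (by norm_num)).1 T
  rw [this]; norm_num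

theorem card_sylow3 (Q : Sylow 3 G) : Nat.card (Q : Subgroup G) = 3 := by
  haveI : Fact (Nat.Prime 3) := ⟨by norm_num⟩
  have := (sylow_facts (G := G) (p := 3) (k := 1) (m := 56) (by rw [h]; norm_num) (by norm_num)).1 Q
  rw [this]; norm_num

theorem card_sylow7 (P : Sylow 7 G) : Nat.card (P : Subgroup G) = 7 := by
  haveI : Fact (Nat.Prime 7) := ⟨by norm_num⟩
  have := (sylow_facts (G := G) (p := 7) (k := 1) (m := 24) (by rw [h]; norm_num) (by norm_num)).1 P
  rw [this]; norm_num

theorem card_normalizer2 (T : Sylow 2 G) :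
    Nat.card (Subgroup.normalizer ((T : Subgroup G) : Set G)) = 8 := by
  have hmul := card_sylow_mul_card_normalizer T
  rw [Cfsg.Agent.S1003.n2 h, h] at hmul
  omega

theorem card_normalizer3 [Fact (Nat.Prime 3)] (Q : Sylow 3 G) :
    Nat.card (Subgroup.normalizer ((Q : Subgroup G) : Set G)) = 6 := by
  have hmul := card_sylow_mul_card_normalizer Q
  rw [Cfsg.Agent.S1003.n3 h, h] at hmul
  omega

theorem card_normalizer7 [Fact (Nat.Prime 7)] (P : Sylow 7 G) :
    Nat.card (Subgroup.normalizer ((P : Subgroup G) : Set G)) = 21 := by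
  have hmul := card_sylow_mul_card_normalizer P
  rw [Cfsg.Agent.S1003.n7 h, h] at hmul
  omega

theorem normalizer2 (T : Sylow 2 G) :
    Subgroup.normalizer ((T : Subgroup G) : Set G) = (T : Subgroup G) := by
  symm
  apply Subgroup.eq_of_le_of_card_ge Subgroup.le_normalizer
  rw [card_normalizer2 h T, card_sylow2 h T]

theorem centralizer3 [Fact (Nat.Prime 3)] (Q : Sylow 3 G) :
    Subgroup.centralizer ((Q : Subgroup G) : Set G) = (Q : Subgroup G) :=
  centralizer_eq_sylow_of_card (nonab h) (q := 2) Nat.prime_two Q (card_sylow3 h Q)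
    (by rw [card_normalizer3 h Q])

theorem centralizer7 [Fact (Nat.Prime 7)] (P : Sylow 7 G) :
    Subgroup.centralizer ((P : Subgroup G) : Set G) = (P : Subgroup G) :=
  centralizer_eq_sylow_of_card (nonab h) (q := 3) Nat.prime_three P (card_sylow7 h P)
    (by rw [card_normalizer7 h P])

/-- anything commuting with an element of order 3 is a power of it -/
theorem mem_zpowers_of_commute3 {x y : G} (hy : orderOf y = 3) (hxy : Commute x y) :
    x ∈ Subgroup.zpowers y := by
  haveI : Fact (Nat.Prime 3) := ⟨by norm_num⟩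
  exact mem_zpowers_of_commute (card_sylow3 h) (centralizer3 h) hy hxy

/-- anything commuting with an element of order 7 is a power of it -/
theorem mem_zpowers_of_commute7 {x y : G} (hy : orderOf y = 7) (hxy : Commute x y) :
    x ∈ Subgroup.zpowers y := by
  haveI : Fact (Nat.Prime 7) := ⟨by norm_num⟩
  exact mem_zpowers_of_commute (card_sylow7 h) (centralizer7 h) hy hxy

/-- The centralizer of a nontrivial 2-element is a 2-group. -/
theorem card_centralizer_two_elt {z : G} (hz1 : z ≠ 1) (hz : z ^ 8 = 1) :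
    Nat.card (Subgroup.centralizer ({z} : Set G)) ∣ 8 := by
  set C := Subgroup.centralizer ({z} : Set G) with hC
  have hno : ∀ p : ℕ, p.Prime → (p = 3 ∨ p = 7) → ¬ p ∣ Nat.card C := by
    intro p hp hp37 hdvd
    haveI : Fact p.Prime := ⟨hp⟩
    obtain ⟨y, hy⟩ := exists_prime_orderOf_dvd_card' (G := C) p hdvd
    have hyG : orderOf (y : G) = p := by rw [Subgroup.orderOf_coe, hy]
    have hcomm : Commute z (y : G) := by
      have hyC : (y : G) ∈ Subgroup.centralizer ({z} : Set G) := y.2
      rw [Subgroup.mem_centralizer_iff] at hyC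
      exact hyC z rfl
    have hzy : z ∈ Subgroup.zpowers (y : G) := by
      rcases hp37 with rfl | rfl
      · exact mem_zpowers_of_commute3 h hyG hcomm
      · exact mem_zpowers_of_commute7 h hyG hcomm
    have hzp : z ^ p = 1 := by
      obtain ⟨k, hk⟩ := Subgroup.mem_zpowers_iff.1 hzy
      rw [← hk, ← zpow_natCast, ← zpow_mul, mul_comm, zpow_mul, zpow_natCast, ← hyG,
        pow_orderOf_eq_one, one_zpow]
    have h1 : orderOf z ∣ p := orderOf_dvd_of_pow_eq_one hzp
    have h2 : orderOf z ∣ 8 := orderOf_dvd_of_pow_eq_one hz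
    have h3 : Nat.Coprime p 8 := by
      rcases hp37 with rfl | rfl <;> decide
    have := Nat.eq_one_of_dvd_coprimes h3 h1 h2
    exact hz1 (orderOf_eq_one_iff.1 this)
  have hdvd : Nat.card C ∣ 168 := by
    have := Subgroup.card_subgroup_dvd_card C
    rwa [h] at this
  have h3 : Nat.Coprime (Nat.card C) 3 :=
    (Nat.coprime_comm.1 ((Nat.Prime.coprime_iff_not_dvd Nat.prime_three).2
      (hno 3 Nat.prime_three (Or.inl rfl))))
  have h7 : Nat.Coprime (Nat.card C) 7 :=
    (Nat.coprime_comm.1 ((Nat.Prime.coprime_iff_not_dvd (by norm_num)).2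
      (hno 7 (by norm_num) (Or.inr rfl))))
  have h21 : Nat.Coprime (Nat.card C) 21 := by
    have : (21 : ℕ) = 3 * 7 := by norm_num
    rw [this]
    exact Nat.Coprime.mul_right h3 h7
  have : (168 : ℕ) = 8 * 21 := by norm_num
  rw [this] at hdvd
  exact h21.dvd_of_dvd_mul_right hdvd

/-- A Sylow 2-subgroup is nonabelian. -/
theorem sylow2_nonabelian (T : Sylow 2 G) :
    ∃ x y : (T : Subgroup G), x * y ≠ y * x := by
  by_contra hcon
  push Not at hcon
  apply Cfsg.Agent.S0073.not_normalizer_le_centralizer (nonab h) T (by rw [h]; norm_num)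
  rw [normalizer2 h T]
  intro x hx
  rw [Subgroup.mem_centralizer_iff]
  intro y hy
  have := hcon ⟨y, hy⟩ ⟨x, hx⟩
  exact congrArg Subtype.val this

/-- The centralizer of a nontrivial central element of a Sylow 2-subgroup `T` is `T`. -/
theorem centralizer_central_elt (T : Sylow 2 G) {z : G} (hzT : z ∈ (T : Subgroup G)) (hz1 : z ≠ 1)
    (hzc : ∀ t ∈ (T : Subgroup G), t * z = z * t) :
    Subgroup.centralizer ({z} : Set G) = (T : Subgroup G) := by
  have hz8 : z ^ 8 = 1 := by
    have h0 := pow_card_eq_one' (G := ↥(T : Subgroup G)) (x := ⟨z, hzT⟩)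
    rw [card_sylow2 h T] at h0
    have := congrArg Subtype.val h0
    simpa using this
  have hdvd := card_centralizer_two_elt h hz1 hz8
  have hTC : (T : Subgroup G) ≤ Subgroup.centralizer ({z} : Set G) := by
    intro t ht
    rw [Subgroup.mem_centralizer_iff]
    intro y hy
    rw [Set.mem_singleton_iff] at hy
    rw [hy]
    exact (hzc t ht).symm
  symm
  apply Subgroup.eq_of_le_of_card_ge hTC
  rw [card_sylow2 h T]
  exact Nat.le_of_dvd (by norm_num) hdvd

end

end Cfsg.Agent.Lead.O168
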