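import Mathlib
import Cfsg.Agent.Lib.Lead.ChevGL
import Cfsg.Agent.Lib.Lead.ChevBorel

/-!
Perfectness of the Chevalley groups from a certificate: for each root `s` either a pair `(a, b)` with
`[x_b(u), x_a(t)] = x_s(± t u)`, or a fundamental `h_p(c)` acting on `x_s` with exponent `± 1` (needs `c ≠ 0, 1`), or
a pair `(a, b)` whose commutator has two terms, the first one already dealt with.
-/

set_option autoImplicit false
set_option linter.unusedSectionVars false
set_option linter.unusedSimpArgs false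
set_option linter.unusedVariables false

namespace Cfsg.Agent.Lead.Chev

open Cfsg Cfsg.Lie
open scoped commutatorElement

variable {F : Type*} [Field F]

def chkK1 (D : ChevalleyDatum) (s a b : ℕ) : Bool :=
  decide (a < D.nroots) && decide (b < D.nroots) && decide (b ≠ a) && decide (b ≠ D.neg a) &&
    (D.commTerms a b == [(s, 1, 1, 1)] || D.commTerms a b == [(s, -1, 1, 1)])

def chkK2 (D : ChevalleyDatum) (s i : ℕ) : Bool :=
  decide (i < D.rank) && (D.cartan i s == 1 || D.cartan i s == -1)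

def certKind (cert : List (ℕ × ℕ × ℕ)) (s : ℕ) : ℕ := (cert.getD s (9, 0, 0)).1

def chkK3 (D : ChevalleyDatum) (cert : List (ℕ × ℕ × ℕ)) (s a b : ℕ) : Bool :=
  decide (a < D.nroots) && decide (b < D.nroots) && decide (b ≠ a) && decide (b ≠ D.neg a) &&
    (match D.commTerms a b with
     | [c1, c2] => decide (c1.1 < D.nroots) && decide (certKind cert c1.1 ≤ 1) && decide (c2.1 = s) &&
        (c2.2.1 == 1 || c2.2.1 == -1) &&
        (decide (c2.2.2.1 = 1) || (decide (c2.2.2.1 = 2) && decide (c2.2.2.2 = 1)))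
     | _ => false)

def perfChk (D : ChevalleyDatum) (cert : List (ℕ × ℕ × ℕ)) (s : ℕ) : Bool :=
  if certKind cert s = 0 then chkK1 D s (cert.getD s (9, 0, 0)).2.1 (cert.getD s (9, 0, 0)).2.2
  else if certKind cert s = 1 then chkK2 D s (cert.getD s (9, 0, 0)).2.1
  else if certKind cert s = 2 then chkK3 D cert s (cert.getD s (9, 0, 0)).2.1 (cert.getD s (9, 0, 0)).2.2
  else false

theorem mem_of_K1 (D : ChevalleyDatum) (hX : XAdd D F) (s a b : ℕ) (hcomm : CommOK D F a b)
    (h : D.commTerms a b = [(s, 1, 1, 1)] ∨ D.commTerms a b = [(s, -1, 1, 1)]) (v : F) :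
    xGL D hX s v ∈ ⁅D.group F, D.group F⁆ := by
  rcases h with h | h
  · have h1 := commWord_mem_commutator D hX a b hcomm (-v) 1
    have e : D.commWord F a b (-v) 1 = [(s, v)] := by
      unfold ChevalleyDatum.commWord
      rw [h]
      simp
    rwa [e, wordGL_singleton] at h1
  · have h1 := commWord_mem_commutator D hX a b hcomm v 1
    have e : D.commWord F a b v 1 = [(s, v)] := by
      unfold ChevalleyDatum.commWord
      rw [h]
      simp
    rwa [e, wordGL_singleton] at h1

theorem mem_of_K2 (D : ChevalleyDatum) (hX : XAdd D F) (hS : HSimple D F) (hC : HConj D F) (s i : ℕ)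
    (hs : s < D.nroots) (hi : i < D.rank) (hA : D.cartan i s = 1 ∨ D.cartan i s = -1)
    (c : F) (hc0 : c ≠ 0) (hc1 : c ≠ 1) (v : F) :
    xGL D hX s v ∈ ⁅D.group F, D.group F⁆ := by
  have hval : ((wordGL D hX (D.hWord (D.simple i) c) : GL D.Idx F) : Matrix D.Idx D.Idx F) =
      Matrix.diagonal (Sum.elim (fun _ => (1 : F)) (fun s : Fin D.nroots => c ^ (D.cartan i s))) := by
    rw [wordGL_val]
    exact hS i hi c hc0
  have key : ∀ t : F, wordGL D hX (D.hWord (D.simple i) c) * xGL D hX s t =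
      xGL D hX s (c ^ (D.cartan i s) * t) * wordGL D hX (D.hWord (D.simple i) c) := by
    intro t
    apply Units.ext
    rw [Units.val_mul, Units.val_mul, hval, xGL_val, xGL_val]
    exact hC i hi s hs c hc0 t
  have hne : c ^ (D.cartan i s) - 1 ≠ 0 := by
    rcases hA with h | h
    · rw [h, zpow_one]
      exact sub_ne_zero.2 hc1
    · rw [h, zpow_neg_one]
      exact sub_ne_zero.2 (fun hh => hc1 (inv_eq_one.1 hh))
  have h2 : ∀ t : F, ⁅wordGL D hX (D.hWord (D.simple i) c), xGL D hX s t⁆ =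
      xGL D hX s ((c ^ (D.cartan i s) - 1) * t) := by
    intro t
    rw [commutatorElement_def, key t, mul_inv_cancel_right, xGL_inv, xGL_mul]
    congr 1
    ring
  have h3 := h2 (v / (c ^ (D.cartan i s) - 1))
  rw [mul_div_cancel₀ _ hne] at h3
  rw [← h3]
  exact Subgroup.commutator_mem_commutator (wordGL_mem_group D hX _) (xGL_mem_group D hX _ _)

theorem mem_of_K3 (D : ChevalleyDatum) (hX : XAdd D F) (s a b : ℕ) (hcomm : CommOK D F a b)
    (c1 : ℕ × ℤ × ℕ × ℕ) (ε : ℤ) (i j : ℕ) (hct : D.commTerms a b = [c1, (s, ε, i, j)])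
    (h1 : ∀ v : F, xGL D hX c1.1 v ∈ ⁅D.group F, D.group F⁆)
    (hε : ε = 1 ∨ ε = -1) (hij : i = 1 ∨ (i = 2 ∧ j = 1)) (v : F) :
    xGL D hX s v ∈ ⁅D.group F, D.group F⁆ := by
  have hval : ∀ t u : F, xGL D hX s ((ε : F) * (-t) ^ i * u ^ j) ∈ ⁅D.group F, D.group F⁆ := by
    intro t u
    have h2 := commWord_mem_commutator D hX a b hcomm t u
    have e : D.commWord F a b t u =
        [(c1.1, (c1.2.1 : F) * (-t) ^ c1.2.2.1 * u ^ c1.2.2.2), (s, (ε : F) * (-t) ^ i * u ^ j)] := by
      unfold ChevalleyDatum.commWord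
      rw [hct]
      rfl
    rw [e, wordGL_cons, wordGL_singleton] at h2
    exact (Subgroup.mul_mem_cancel_left _ (h1 _)).1 h2
  rcases hε with rfl | rfl
  · rcases hij with rfl | ⟨rfl, rfl⟩
    · have := hval (-v) 1
      simpa using this
    · have := hval 1 v
      simpa using this
  · rcases hij with rfl | ⟨rfl, rfl⟩
    · have := hval v 1
      simpa using this
    · have := hval 1 (-v)
      simpa using this

theorem mem_commutator_of_chk (D : ChevalleyDatum) (hX : XAdd D F)
    (hcomm : ∀ r < D.nroots, ∀ s < D.nroots, s ≠ r → s ≠ D.neg r → CommOK D F r s)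
    (hS : HSimple D F) (hC : HConj D F) (cert : List (ℕ × ℕ × ℕ))
    (hk : (∀ s < D.nroots, certKind cert s = 0) ∨ ∃ c : F, c ≠ 0 ∧ c ≠ 1)
    (hchk : ∀ s < D.nroots, perfChk D cert s = true) :
    ∀ s < D.nroots, ∀ v : F, xGL D hX s v ∈ ⁅D.group F, D.group F⁆ := by
  have stage1 : ∀ s < D.nroots, certKind cert s ≤ 1 → ∀ v : F,
      xGL D hX s v ∈ ⁅D.group F, D.group F⁆ := by
    intro s hs hk1 v
    have h := hchk s hs
    unfold perfChk at h
    by_cases h0 : certKind cert s = 0
    · rw [if_pos h0] at h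
      simp only [chkK1, Bool.and_eq_true, Bool.or_eq_true, decide_eq_true_eq, beq_iff_eq] at h
      obtain ⟨⟨⟨⟨ha, hb⟩, hba⟩, hbn⟩, hct⟩ := h
      exact mem_of_K1 D hX s _ _ (hcomm _ ha _ hb hba hbn) hct v
    · rw [if_neg h0] at h
      have h1 : certKind cert s = 1 := by omega
      rw [if_pos h1] at h
      simp only [chkK2, Bool.and_eq_true, Bool.or_eq_true, decide_eq_true_eq, beq_iff_eq] at h
      obtain ⟨hi, hA⟩ := h
      obtain ⟨c, hc0, hc1⟩ : ∃ c : F, c ≠ 0 ∧ c ≠ 1 := by
        rcases hk with hk | hk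
        · exact absurd (hk s hs) h0
        · exact hk
      exact mem_of_K2 D hX hS hC s _ hs hi hA c hc0 hc1 v
  intro s hs v
  by_cases hk1 : certKind cert s ≤ 1
  · exact stage1 s hs hk1 v
  · have h := hchk s hs
    unfold perfChk at h
    have h0 : ¬ certKind cert s = 0 := by omega
    have h1 : ¬ certKind cert s = 1 := by omega
    rw [if_neg h0, if_neg h1] at h
    by_cases h2 : certKind cert s = 2
    · rw [if_pos h2] at h
      unfold chkK3 at h
      rw [Bool.and_eq_true, Bool.and_eq_true, Bool.and_eq_true, Bool.and_eq_true] at h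
      obtain ⟨⟨⟨⟨ha, hb⟩, hba⟩, hbn⟩, hm⟩ := h
      rw [decide_eq_true_eq] at ha hb hba hbn
      rcases hct : D.commTerms (cert.getD s (9, 0, 0)).2.1 (cert.getD s (9, 0, 0)).2.2 with
        _ | ⟨c1, _ | ⟨c2, _ | ⟨c3, l⟩⟩⟩
      · rw [hct] at hm
        exact absurd hm (by simp)
      · rw [hct] at hm
        exact absurd hm (by simp)
      · rw [hct] at hm
        simp only [Bool.and_eq_true, Bool.or_eq_true, decide_eq_true_eq, beq_iff_eq] at hm
        obtain ⟨⟨⟨⟨hc1, hck⟩, hc2⟩, hε⟩, hij⟩ := hm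
        obtain ⟨s', ε, i, j⟩ := c2
        simp only at hc2 hε hij
        subst hc2
        exact mem_of_K3 D hX _ _ _ (hcomm _ ha _ hb hba hbn) c1 ε i j hct
          (fun v => stage1 c1.1 hc1 hck v) hε hij v
      · rw [hct] at hm
        exact absurd hm (by simp)
    · rw [if_neg h2] at h
      exact absurd h (by simp)

/-- the group is perfect once all root elements are commutators -/
theorem commutator_eq_top_of (D : ChevalleyDatum) (hX : XAdd D F)
    (h : ∀ s < D.nroots, ∀ v : F, xGL D hX s v ∈ ⁅D.group F, D.group F⁆) :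
    commutator ↥(D.group F) = ⊤ := by
  have hle : D.group F ≤ ⁅D.group F, D.group F⁆ := group_le_of D hX _ h
  rw [eq_top_iff]
  intro g _
  have hg : (g : GL D.Idx F) ∈ ⁅D.group F, D.group F⁆ := hle g.2
  rw [← Subgroup.map_subtype_commutator] at hg
  obtain ⟨g', hg', hgg'⟩ := hg
  have e : g' = g := Subtype.ext hgg'
  rw [← e]
  exact hg'

end Cfsg.Agent.Lead.Chev
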