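import Mathlib
import Cfsg.Agent.Lib.Lead.ChevBN4

/-!
Irreducibility of the `(B, N)`-pair of a Chevalley group: the Dynkin diagram is connected.
-/

set_option autoImplicit false
set_option linter.unusedSectionVars false
set_option linter.unusedSimpArgs false
set_option linter.unusedVariables false

namespace Cfsg.Agent.Lead.Chev

open Cfsg Cfsg.Lie

/-- all vectors of booleans of length `n` -/
def allVecs : ℕ → List (List Bool)
  | 0 => [[]]
  | n + 1 => (allVecs n).flatMap fun v => [false :: v, true :: v]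

theorem mem_allVecs (n : ℕ) (v : List Bool) (hv : v.length = n) : v ∈ allVecs n := by
  induction n generalizing v with
  | zero =>
    rw [List.length_eq_zero_iff] at hv
    subst hv
    exact List.mem_singleton.2 rfl
  | succ n ih =>
    rcases v with _ | ⟨b, v⟩
    · simp at hv
    · have hv' : v.length = n := by simpa using hv
      unfold allVecs
      rw [List.mem_flatMap]
      refine ⟨v, ih v hv', ?_⟩
      rcases b with _ | _ <;> simp

/-- the check of connectedness: the pairs of `E` are edges, and every proper non-empty subset is left by one of them -/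
def irrChk (D : ChevalleyDatum) (E : List (ℕ × ℕ)) : Bool :=
  (E.all fun e => decide (e.1 < D.rank) && decide (e.2 < D.rank) &&
    decide (reflWord D [e.1, e.2, e.1, e.2] (D.simple e.2) ≠ D.simple e.2)) &&
  (allVecs D.rank).all fun v => v.all id || v.all not ||
    E.any fun e => v.getD e.1 false && !v.getD e.2 false

theorem exists_edge_of_chk (D : ChevalleyDatum) (E : List (ℕ × ℕ)) (h : irrChk D E = true)
    (I : ℕ → Prop) (h1 : ∃ i < D.rank, I i) (h2 : ∃ j < D.rank, ¬ I j) :
    ∃ a < D.rank, ∃ b < D.rank, I a ∧ ¬ I b ∧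
      reflWord D [a, b, a, b] (D.simple b) ≠ D.simple b := by
  classical
  unfold irrChk at h
  rw [Bool.and_eq_true, List.all_eq_true, List.all_eq_true] at h
  obtain ⟨hE, hV⟩ := h
  set v : List Bool := (List.range D.rank).map fun i => decide (I i) with hv
  have hlen : v.length = D.rank := by simp [hv]
  have hget : ∀ i < D.rank, v.getD i false = decide (I i) := by
    intro i hi
    rw [List.getD_eq_getElem _ _ (by rw [hlen]; exact hi)]
    simp [hv]
  have h3 := hV v (mem_allVecs _ v hlen)
  rw [Bool.or_eq_true, Bool.or_eq_true] at h3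
  rcases h3 with (h3 | h3) | h3
  · exfalso
    obtain ⟨j, hj, hIj⟩ := h2
    rw [List.all_eq_true] at h3
    have : v.getD j false ∈ v := by
      rw [List.getD_eq_getElem _ _ (by rw [hlen]; exact hj)]
      exact List.getElem_mem _
    have h4 := h3 _ this
    rw [hget j hj] at h4
    simp only [id, decide_eq_true_eq] at h4
    exact hIj h4
  · exfalso
    obtain ⟨i, hi, hIi⟩ := h1
    rw [List.all_eq_true] at h3
    have : v.getD i false ∈ v := by
      rw [List.getD_eq_getElem _ _ (by rw [hlen]; exact hi)]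
      exact List.getElem_mem _
    have h4 := h3 _ this
    rw [hget i hi] at h4
    simp only [Bool.not_eq_true', decide_eq_false_iff_not] at h4
    exact h4 hIi
  · rw [List.any_eq_true] at h3
    obtain ⟨e, he, h4⟩ := h3
    have h5 := hE e he
    simp only [Bool.and_eq_true, decide_eq_true_eq] at h5
    obtain ⟨⟨ha, hb⟩, hne⟩ := h5
    rw [Bool.and_eq_true, hget _ ha, Bool.not_eq_true', hget _ hb] at h4
    simp only [decide_eq_true_eq, decide_eq_false_iff_not] at h4
    exact ⟨e.1, ha, e.2, hb, h4.1, h4.2, hne⟩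

namespace ChevFacts

variable {F : Type*} [Field F] {D : ChevalleyDatum} (hF : ChevFacts D F)
include hF

/-- the commutator of two fundamental representatives joined in the diagram is not in `B` -/
theorem comm_nGL_not_mem_borel (a b : ℕ) (ha : a < D.rank) (hb : b < D.rank)
    (hne : reflWord D [a, b, a, b] (D.simple b) ≠ D.simple b) :
    nGL D hF.xadd (D.simple a) * nGL D hF.xadd (D.simple b) * (nGL D hF.xadd (D.simple a))⁻¹ *
      (nGL D hF.xadd (D.simple b))⁻¹ ∉ D.borelSubgroup F := by
  intro hmem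
  have hw : ∀ i ∈ [a, b], i < D.rank := by
    intro i hi
    simp only [List.mem_cons, List.not_mem_nil, or_false] at hi
    rcases hi with rfl | rfl <;> assumption
  have hw2 : ∀ i ∈ [b, a], i < D.rank := by
    intro i hi
    simp only [List.mem_cons, List.not_mem_nil, or_false] at hi
    rcases hi with rfl | rfl <;> assumption
  obtain ⟨h, hh, e⟩ := nWordGL_inv D hF.xadd (etaOf D) hF.nsimple hF.simple_lt [b, a] hw2
  have e0 : nWordGL D hF.xadd [b, a] = nGL D hF.xadd (D.simple b) * nGL D hF.xadd (D.simple a) := by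
    rw [nWordGL_cons, nWordGL_cons, nWordGL_nil, mul_one]
  have e1 : nWordGL D hF.xadd [a, b] = nGL D hF.xadd (D.simple a) * nGL D hF.xadd (D.simple b) := by
    rw [nWordGL_cons, nWordGL_cons, nWordGL_nil, mul_one]
  have hrev : [b, a].reverse = [a, b] := rfl
  rw [hrev] at e
  obtain ⟨h', hh', e2⟩ := nWordGL_mul_diagonal D hF.xadd (etaOf D) hF.nsimple [a, b] hw h hh
  have e3 : nGL D hF.xadd (D.simple a) * nGL D hF.xadd (D.simple b) * (nGL D hF.xadd (D.simple a))⁻¹ *
      (nGL D hF.xadd (D.simple b))⁻¹ = h' * nWordGL D hF.xadd [a, b, a, b] := by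
    have : nGL D hF.xadd (D.simple a) * nGL D hF.xadd (D.simple b) * (nGL D hF.xadd (D.simple a))⁻¹ *
      (nGL D hF.xadd (D.simple b))⁻¹ = nWordGL D hF.xadd [a, b] * (nWordGL D hF.xadd [b, a])⁻¹ := by
      rw [e0, e1]
      group
    rw [this, e, ← mul_assoc, e2, mul_assoc, ← nWordGL_append]
    rfl
  have hw4 : ∀ i ∈ [a, b, a, b], i < D.rank := by
    intro i hi
    simp only [List.mem_cons, List.not_mem_nil, or_false] at hi
    rcases hi with rfl | rfl | rfl | rfl <;> assumption
  exact hne ((hF.mem_diagonal_of_borel_word _ hmem h' hh' _ hw4 e3).1 _ (hF.simple_lt b hb))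

/-- the `(B, N)`-pair is irreducible -/
theorem bnPair_irreducible (E : List (ℕ × ℕ)) (hE : irrChk D E = true) : hF.bnPair.Irreducible := by
  intro J hJS hJ hJc
  obtain ⟨s, hs⟩ := hJ
  obtain ⟨s', hs'S, hs'J⟩ := hJc
  set I : ℕ → Prop := fun i => ∃ n ∈ J, ((n : GL D.Idx F) : Matrix D.Idx D.Idx F) = D.nMat F (D.simple i) 1
    with hI
  have h1 : ∃ i < D.rank, I i := by
    obtain ⟨i, hi, e⟩ := hJS hs
    exact ⟨i, hi, s, hs, e⟩
  have h2 : ∃ j < D.rank, ¬ I j := by
    obtain ⟨j, hj, e⟩ := hs'S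
    refine ⟨j, hj, ?_⟩
    rintro ⟨n, hn, e'⟩
    apply hs'J
    have : n = s' := Subtype.ext (Units.ext (e'.trans e.symm))
    rwa [← this]
  obtain ⟨a, ha, b, hb, ⟨n, hn, en⟩, hIb, hne⟩ := exists_edge_of_chk D E hE I h1 h2
  have hmem : (⟨nGL D hF.xadd (D.simple b), nGL_mem_group D hF.xadd _⟩ : ↥(D.group F)) ∈ hF.bnPair.S :=
    ⟨b, hb, nGL_val D hF.xadd _⟩
  refine ⟨n, hn, ⟨nGL D hF.xadd (D.simple b), nGL_mem_group D hF.xadd _⟩, ⟨hmem, ?_⟩, ?_⟩
  · intro hJb
    exact hIb ⟨_, hJb, nGL_val D hF.xadd _⟩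
  · intro hB
    have hB' : ((n * ⟨nGL D hF.xadd (D.simple b), nGL_mem_group D hF.xadd _⟩ * n⁻¹ *
        (⟨nGL D hF.xadd (D.simple b), nGL_mem_group D hF.xadd _⟩ : ↥(D.group F))⁻¹ : ↥(D.group F)) :
          GL D.Idx F) ∈ D.borelSubgroup F := hB
    have e1 : (n : GL D.Idx F) = nGL D hF.xadd (D.simple a) := Units.ext (by rw [en, nGL_val])
    simp only [Subgroup.coe_mul, Subgroup.coe_inv] at hB'
    rw [e1] at hB'
    exact hF.comm_nGL_not_mem_borel a b ha hb hne hB'

end ChevFacts

end Cfsg.Agent.Lead.Chev
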