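import Mathlib
import Cfsg.Agent.Lib.Lead.ChevIrr

/-!
The Dynkin diagrams of the seven data are connected.
-/

set_option autoImplicit false

namespace Cfsg.Agent.Lead.Chev

open Cfsg Cfsg.Lie

/-- the edges of the Dynkin diagram -/
def edges_G2 : List (ℕ × ℕ) := [(0, 1), (1, 0)]
def edges_D4 : List (ℕ × ℕ) := [(0, 1), (1, 0), (1, 2), (1, 3), (2, 1), (3, 1)]
def edges_F4 : List (ℕ × ℕ) := [(0, 1), (1, 0), (1, 2), (2, 1), (2, 3), (3, 2)]
def edges_E6 : List (ℕ × ℕ) := [(0, 2), (1, 3), (2, 0), (2, 3), (3, 1), (3, 2), (3, 4), (4, 3), (4, 5), (5, 4)]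
def edges_E7 : List (ℕ × ℕ) :=
  [(0, 2), (1, 3), (2, 0), (2, 3), (3, 1), (3, 2), (3, 4), (4, 3), (4, 5), (5, 4), (5, 6), (6, 5)]
def edges_E8 : List (ℕ × ℕ) :=
  [(0, 2), (1, 3), (2, 0), (2, 3), (3, 1), (3, 2), (3, 4), (4, 3), (4, 5), (5, 4), (5, 6), (6, 5), (6, 7), (7, 6)]

theorem irrOK_G2 : irrChk chevG2 edges_G2 = true := by decide +kernel
theorem irrOK_B2 : irrChk chevB2 edges_G2 = true := by decide +kernel
theorem irrOK_D4 : irrChk chevD4 edges_D4 = true := by decide +kernel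
theorem irrOK_F4 : irrChk chevF4 edges_F4 = true := by decide +kernel
theorem irrOK_E6 : irrChk chevE6 edges_E6 = true := by decide +kernel
theorem irrOK_E7 : irrChk chevE7 edges_E7 = true := by decide +kernel
theorem irrOK_E8 : irrChk chevE8 edges_E8 = true := by decide +kernel

theorem exists_irrChk (D : ChevalleyDatum)
    (hD : D ∈ [chevG2, chevB2, chevD4, chevF4, chevE6, chevE7, chevE8]) :
    ∃ E, irrChk D E = true := by
  simp only [List.mem_cons, List.not_mem_nil, or_false] at hD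
  rcases hD with rfl | rfl | rfl | rfl | rfl | rfl | rfl
  · exact ⟨_, irrOK_G2⟩
  · exact ⟨_, irrOK_B2⟩
  · exact ⟨_, irrOK_D4⟩
  · exact ⟨_, irrOK_F4⟩
  · exact ⟨_, irrOK_E6⟩
  · exact ⟨_, irrOK_E7⟩
  · exact ⟨_, irrOK_E8⟩

end Cfsg.Agent.Lead.Chev
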