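import Mathlib
import Cfsg.Agent.Lib.Lead.ChevPerfect

/-!
Certificates for the perfectness of the Chevalley groups (found by search, verified by the kernel).
-/

set_option autoImplicit false

namespace Cfsg.Agent.Lead.Chev

open Cfsg Cfsg.Lie

def perfCert_G2 : List (ℕ × ℕ × ℕ) := [(0, (1, 5)), (0, (0, 6)), (1, (0, 0)), (1, (0, 0)), (1, (1, 0)), (0, (0, 10)), (0, (1, 11)), (1, (1, 0)), (1, (0, 0)), (1, (0, 0)), (0, (5, 11)), (0, (6, 10))]

def perfCert_B2 : List (ℕ × ℕ × ℕ) := [(2, (1, 4)), (1, (1, 0)), (1, (1, 0)), (2, (0, 5)), (2, (0, 6)), (1, (1, 0)), (1, (1, 0)), (2, (3, 6))]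

def perfCert_D4 : List (ℕ × ℕ × ℕ) := [(0, (1, 9)), (0, (0, 14)), (0, (0, 15)), (0, (0, 16)), (0, (0, 17)), (0, (1, 17)), (0, (0, 19)), (0, (0, 20)), (0, (0, 21)), (0, (0, 22)), (0, (1, 20)), (0, (1, 21)), (0, (2, 22)), (0, (3, 22)), (0, (1, 23)), (0, (2, 23)), (0, (3, 23)), (0, (4, 23)), (0, (6, 22)), (0, (6, 23)), (0, (7, 23)), (0, (8, 23)), (0, (9, 23)), (0, (14, 22))]

def perfCert_F4 : List (ℕ × ℕ × ℕ) := [(0, (1, 23)), (0, (0, 24)), (0, (0, 26)), (0, (7, 14)), (0, (0, 31)), (0, (0, 32)), (0, (1, 32)), (0, (3, 33)), (0, (3, 34)), (0, (3, 35)), (0, (3, 36)), (0, (3, 37)), (0, (3, 38)), (0, (3, 39)), (0, (3, 40)), (0, (0, 42)), (0, (0, 43)), (0, (1, 43)), (0, (7, 37)), (0, (7, 38)), (0, (7, 39)), (0, (0, 45)), (0, (1, 45)), (0, (0, 46)), (0, (1, 47)), (0, (2, 46)), (0, (2, 47)), (0, (8, 40)), (0, (9, 40)), (0, (10, 40)), (0, (4, 46)), (0, (4, 47)), (0, (5, 47)), (0, (7, 44)), (0, (8, 44)), (0, (9, 44)), (0, (10, 44)), (0,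 (11, 44)), (0, (12, 44)), (0, (13, 44)), (0, (14, 44)), (0, (15, 46)), (0, (15, 47)), (0, (16, 47)), (0, (33, 40)), (0, (21, 47)), (0, (23, 47)), (0, (24, 46))]

def perfCert_E6 : List (ℕ × ℕ × ℕ) := [(0, (1, 25)), (0, (0, 46)), (0, (0, 47)), (0, (0, 48)), (0, (0, 49)), (0, (0, 50)), (0, (0, 51)), (0, (0, 52)), (0, (0, 53)), (0, (0, 54)), (0, (0, 55)), (0, (1, 53)), (0, (1, 54)), (0, (1, 55)), (0, (2, 55)), (0, (5, 55)), (0, (0, 61)), (0, (0, 62)), (0, (0, 63)), (0, (0, 64)), (0, (0, 65)), (0, (0, 66)), (0, (0, 67)), (0, (0, 68)), (0, (0, 69)), (0, (0, 70)), (0, (1, 64)), (0, (1, 65)), (0, (1, 66)), (0, (2, 66)), (0, (1, 67)), (0, (1, 68)), (0, (1, 69)), (0, (2, 67)), (0, (2, 68)), (0, (3, 67)), (0, (4, 68)), (0, (3, 69)), (0, (4, 69)), (0, (2, 70)), (0, (3, 70)), (0, (4, 70)), (0, (5, 69)), (0, (5, 70)), (0, (6, 70)), (0, (7, 70)), (0, (1, 71)), (0, (2, 71)), (0, (3, 71)), (0, (4, 71)), (0, (5, 71)), (0, (6, 71)), (0, (7, 71)),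 (0, (8, 71)), (0, (9, 71)), (0, (10, 71)), (0, (16, 66)), (0, (16, 69)), (0, (16, 70)), (0, (17, 70)), (0, (18, 70)), (0, (16, 71)), (0, (17, 71)), (0, (18, 71)), (0, (19, 71)), (0, (20, 71)), (0, (21, 71)), (0, (22, 71)), (0, (23, 71)), (0, (24, 71)), (0, (25, 71)), (0, (46, 70))]

def perfCert_E7 : List (ℕ × ℕ × ℕ) := [(0, (1, 32)), (0, (0, 93)), (0, (0, 94)), (0, (0, 95)), (0, (0, 96)), (0, (0, 97)), (0, (0, 98)), (0, (0, 99)), (0, (0, 100)), (0, (0, 101)), (0, (0, 102)), (0, (0, 103)), (0, (0, 104)), (0, (0, 105)), (0, (0, 106)), (0, (0, 107)), (0, (0, 108)), (0, (0, 109)), (0, (0, 110)), (0, (0, 111)), (0, (0, 112)), (0, (0, 113)), (0, (0, 114)), (0, (0, 115)), (0, (0, 116)), (0, (0, 117)), (0, (0, 118)), (0, (0, 119)), (0, (0, 120)), (0, (0, 121)), (0, (0, 122)), (0, (0, 123)), (0, (0, 124)), (0, (1, 109)), (0, (1, 110)), (0, (1, 111)), (0, (1, 112)), (0, (1, 113)), (0, (1, 114)), (0, (1, 115)), (0, (1, 116)), (0, (1, 117)),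 (0, (1, 118)), (0, (2, 115)), (0, (2, 116)), (0, (2, 117)), (0, (2, 118)), (0, (3, 118)), (0, (1, 119)), (0, (1, 120)), (0, (1, 121)), (0, (1, 122)), (0, (1, 123)), (0, (2, 119)), (0, (2, 120)), (0, (2, 121)), (0, (2, 122)), (0, (3, 119)), (0, (3, 120)), (0, (3, 121)), (0, (4, 119)), (0, (4, 120)), (0, (5, 119)), (0, (6, 120)), (0, (5, 121)), (0, (6, 121)), (0, (4, 122)), (0, (5, 122)), (0, (6, 122)), (0, (3, 123)), (0, (4, 123)), (0, (5, 123)), (0, (6, 123)), (0, (2, 124)), (0, (3, 124)), (0, (4, 124)), (0, (5, 124)), (0, (6, 124)), (0, (7, 122)), (0, (7, 123)), (0, (8, 123)), (0, (9, 123)), (0, (10, 123)), (0, (7, 124)), (0, (8, 124)), (0, (9, 124)), (0, (10, 124)), (0, (11, 124)), (0, (12, 124)), (0, (13, 124)), (0, (14, 124)), (0, (15, 124)), (0, (16, 124)), (0, (1, 125)), (0, (2, 125)), (0, (3, 125)), (0, (4, 125)), (0, (5, 125)), (0, (6, 125)), (0, (7, 125)), (0, (8, 125)), (0, (9, 125)), (0, (10, 125)), (0, (11, 125)),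 (0, (12, 125)), (0, (13, 125)), (0, (14, 125)), (0, (15, 125)), (0, (16, 125)), (0, (17, 125)), (0, (18, 125)), (0, (19, 125)), (0, (20, 125)), (0, (21, 125)), (0, (22, 125)), (0, (23, 125)), (0, (24, 125)), (0, (25, 125)), (0, (26, 125)), (0, (27, 125)), (0, (28, 125)), (0, (29, 125)), (0, (30, 125)), (0, (31, 125)), (0, (32, 125)), (0, (93, 124))]

def perfCert_E8 : List (ℕ × ℕ × ℕ) := [(0, (1, 119)), (0, (0, 120)), (0, (0, 122)), (0, (0, 125)), (0, (0, 129)), (0, (0, 134)), (0, (0, 140)), (0, (0, 146)), (0, (0, 151)), (0, (0, 155)), (0, (0, 158)), (0, (0, 160)), (0, (0, 161)), (0, (1, 161)), (0, (0, 168)), (0, (0, 173)), (0, (0, 177)), (0, (0, 180)), (0, (0, 182)), (0, (0, 183)), (0, (1, 183)), (0, (0, 187)), (0, (0, 190)), (0, (0, 192)), (0, (0, 193)), (0, (1, 193)), (0, (0, 196)), (0, (0, 198)), (0, (0, 199)), (0, (1, 199)), (0, (0, 201)), (0, (0, 202)), (0, (1, 202)), (0, (0, 203)), (0, (1, 203)), (0, (2, 203)), (0, (0,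 206)), (0, (0, 208)), (0, (0, 209)), (0, (1, 209)), (0, (0, 211)), (0, (0, 212)), (0, (1, 212)), (0, (0, 213)), (0, (1, 213)), (0, (2, 213)), (0, (0, 215)), (0, (0, 216)), (0, (1, 216)), (0, (0, 217)), (0, (1, 217)), (0, (2, 217)), (0, (0, 218)), (0, (1, 218)), (0, (2, 218)), (0, (3, 218)), (0, (0, 220)), (0, (0, 221)), (0, (1, 221)), (0, (0, 222)), (0, (1, 222)), (0, (2, 222)), (0, (0, 223)), (0, (1, 223)), (0, (2, 223)), (0, (3, 223)), (0, (0, 224)), (0, (1, 224)), (0, (2, 224)), (0, (3, 224)), (0, (4, 224)), (0, (0, 225)), (0, (1, 225)), (0, (2, 225)), (0, (3, 225)), (0, (4, 225)), (0, (5, 225)), (0, (6, 225)), (0, (0, 227)), (0, (0, 228)), (0, (1, 228)), (0, (0, 229)), (0, (1, 229)), (0, (2, 229)), (0, (0, 230)), (0, (1, 230)), (0, (2, 230)), (0, (3, 230)), (0, (0, 231)), (0, (1, 231)), (0, (2, 231)), (0, (3, 231)), (0, (4, 231)), (0, (0, 232)), (0, (1, 232)), (0, (2, 232)), (0, (3, 232)), (0, (4, 232)), (0, (5, 232)), (0,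 (0, 233)), (0, (1, 233)), (0, (2, 233)), (0, (3, 233)), (0, (4, 233)), (0, (5, 233)), (0, (0, 234)), (0, (1, 234)), (0, (2, 234)), (0, (3, 234)), (0, (4, 234)), (0, (0, 235)), (0, (1, 235)), (0, (2, 235)), (0, (3, 235)), (0, (0, 236)), (0, (1, 236)), (0, (2, 236)), (0, (0, 237)), (0, (1, 237)), (0, (0, 238)), (0, (1, 239)), (0, (2, 238)), (0, (2, 239)), (0, (3, 237)), (0, (3, 238)), (0, (3, 239)), (0, (4, 236)), (0, (4, 237)), (0, (4, 238)), (0, (4, 239)), (0, (5, 235)), (0, (5, 236)), (0, (5, 237)), (0, (5, 238)), (0, (5, 239)), (0, (6, 234)), (0, (6, 235)), (0, (6, 236)), (0, (6, 237)), (0, (6, 238)), (0, (6, 239)), (0, (7, 234)), (0, (7, 235)), (0, (7, 236)), (0, (7, 237)), (0, (7, 238)), (0, (7, 239)), (0, (8, 235)), (0, (8, 236)), (0, (8, 237)), (0, (8, 238)), (0, (8, 239)), (0, (9, 236)), (0, (9, 237)), (0, (9, 238)), (0, (9, 239)), (0, (10, 237)), (0, (10, 238)), (0, (10, 239)), (0, (11, 238)), (0, (11, 239)), (0, (12,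 239)), (0, (14, 233)), (0, (14, 234)), (0, (14, 235)), (0, (14, 236)), (0, (14, 237)), (0, (14, 238)), (0, (14, 239)), (0, (15, 235)), (0, (15, 236)), (0, (15, 237)), (0, (15, 238)), (0, (15, 239)), (0, (16, 236)), (0, (16, 237)), (0, (16, 238)), (0, (16, 239)), (0, (17, 237)), (0, (17, 238)), (0, (17, 239)), (0, (18, 238)), (0, (18, 239)), (0, (19, 239)), (0, (21, 236)), (0, (21, 237)), (0, (21, 238)), (0, (21, 239)), (0, (22, 237)), (0, (22, 238)), (0, (22, 239)), (0, (23, 238)), (0, (23, 239)), (0, (24, 239)), (0, (26, 237)), (0, (26, 238)), (0, (26, 239)), (0, (27, 238)), (0, (27, 239)), (0, (28, 239)), (0, (30, 238)), (0, (30, 239)), (0, (31, 239)), (0, (33, 239)), (0, (36, 237)), (0, (36, 238)), (0, (36, 239)), (0, (37, 238)), (0, (37, 239)), (0, (38, 239)), (0, (40, 238)), (0, (40, 239)), (0, (41, 239)), (0, (43, 239)), (0, (46, 238)), (0, (46, 239)), (0, (47, 239)), (0, (49, 239)), (0, (52, 239)), (0, (56, 238)), (0, (56,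 239)), (0, (57, 239)), (0, (59, 239)), (0, (62, 239)), (0, (66, 239)), (0, (71, 239)), (0, (78, 238)), (0, (78, 239)), (0, (79, 239)), (0, (81, 239)), (0, (84, 239)), (0, (88, 239)), (0, (93, 239)), (0, (99, 239)), (0, (105, 239)), (0, (110, 239)), (0, (114, 239)), (0, (117, 239)), (0, (119, 239)), (0, (120, 238))]

theorem perfOK_G2_aux : (List.range 12).all (fun s => perfChk chevG2 perfCert_G2 s) = true := by decide +kernel

theorem perfOK_G2 : ∀ s < chevG2.nroots, perfChk chevG2 perfCert_G2 s = true :=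
  fun s hs => List.all_eq_true.1 perfOK_G2_aux s (List.mem_range.2 hs)

theorem perfOK_B2_aux : (List.range 8).all (fun s => perfChk chevB2 perfCert_B2 s) = true := by decide +kernel

theorem perfOK_B2 : ∀ s < chevB2.nroots, perfChk chevB2 perfCert_B2 s = true :=
  fun s hs => List.all_eq_true.1 perfOK_B2_aux s (List.mem_range.2 hs)

theorem perfOK_D4_aux : (List.range 24).all (fun s => perfChk chevD4 perfCert_D4 s) = true := by decide +kernel

theorem perfOK_D4 : ∀ s < chevD4.nroots, perfChk chevD4 perfCert_D4 s = true :=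
  fun s hs => List.all_eq_true.1 perfOK_D4_aux s (List.mem_range.2 hs)

theorem perfKind_D4_aux : (List.range 24).all (fun s => certKind perfCert_D4 s == 0) = true := by decide +kernel

theorem perfKind_D4 : ∀ s < chevD4.nroots, certKind perfCert_D4 s = 0 :=
  fun s hs => beq_iff_eq.1 (List.all_eq_true.1 perfKind_D4_aux s (List.mem_range.2 hs))

theorem perfOK_F4_aux : (List.range 48).all (fun s => perfChk chevF4 perfCert_F4 s) = true := by decide +kernel

theorem perfOK_F4 : ∀ s < chevF4.nroots, perfChk chevF4 perfCert_F4 s = true :=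
  fun s hs => List.all_eq_true.1 perfOK_F4_aux s (List.mem_range.2 hs)

theorem perfKind_F4_aux : (List.range 48).all (fun s => certKind perfCert_F4 s == 0) = true := by decide +kernel

theorem perfKind_F4 : ∀ s < chevF4.nroots, certKind perfCert_F4 s = 0 :=
  fun s hs => beq_iff_eq.1 (List.all_eq_true.1 perfKind_F4_aux s (List.mem_range.2 hs))

theorem perfOK_E6_aux : (List.range 72).all (fun s => perfChk chevE6 perfCert_E6 s) = true := by decide +kernel

theorem perfOK_E6 : ∀ s < chevE6.nroots, perfChk chevE6 perfCert_E6 s = true :=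
  fun s hs => List.all_eq_true.1 perfOK_E6_aux s (List.mem_range.2 hs)

theorem perfKind_E6_aux : (List.range 72).all (fun s => certKind perfCert_E6 s == 0) = true := by decide +kernel

theorem perfKind_E6 : ∀ s < chevE6.nroots, certKind perfCert_E6 s = 0 :=
  fun s hs => beq_iff_eq.1 (List.all_eq_true.1 perfKind_E6_aux s (List.mem_range.2 hs))

theorem perfOK_E7_aux : (List.range 126).all (fun s => perfChk chevE7 perfCert_E7 s) = true := by decide +kernel

theorem perfOK_E7 : ∀ s < chevE7.nroots, perfChk chevE7 perfCert_E7 s = true :=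
  fun s hs => List.all_eq_true.1 perfOK_E7_aux s (List.mem_range.2 hs)

theorem perfKind_E7_aux : (List.range 126).all (fun s => certKind perfCert_E7 s == 0) = true := by decide +kernel

theorem perfKind_E7 : ∀ s < chevE7.nroots, certKind perfCert_E7 s = 0 :=
  fun s hs => beq_iff_eq.1 (List.all_eq_true.1 perfKind_E7_aux s (List.mem_range.2 hs))

theorem perfOK_E8_aux : (List.range 240).all (fun s => perfChk chevE8 perfCert_E8 s) = true := by decide +kernel

theorem perfOK_E8 : ∀ s < chevE8.nroots, perfChk chevE8 perfCert_E8 s = true :=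
  fun s hs => List.all_eq_true.1 perfOK_E8_aux s (List.mem_range.2 hs)

theorem perfKind_E8_aux : (List.range 240).all (fun s => certKind perfCert_E8 s == 0) = true := by decide +kernel

theorem perfKind_E8 : ∀ s < chevE8.nroots, certKind perfCert_E8 s = 0 :=
  fun s hs => beq_iff_eq.1 (List.all_eq_true.1 perfKind_E8_aux s (List.mem_range.2 hs))

end Cfsg.Agent.Lead.Chev
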