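import Mathlib
import Cfsg.Agent.Lib.Lead.ChevIrrData
import Cfsg.Agent.Lib.Lead.ChevCore
import Cfsg.Agent.Lib.Lead.ChevFactsAll
import Cfsg.Agent.S0319
import Cfsg.Agent.S1050
import Cfsg.Agent.S1052

/-!
Simplicity of the Chevalley groups, from the `(B, N)`-pair.
-/

set_option autoImplicit false
set_option linter.unusedSectionVars false
set_option linter.unusedVariables false

namespace Cfsg.Agent.Lead.Chev

open Cfsg Cfsg.Lie

theorem chev_simple {F : Type*} [Field F] (D : ChevalleyDatum)
    (hD : D ∈ [chevG2, chevB2, chevD4, chevF4, chevE6, chevE7, chevE8])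
    (h2 : D = chevG2 ∨ D = chevB2 → ∃ a : F, a ≠ 0 ∧ a ≠ 1) :
    IsSimpleGroup ↥(D.group F) ∧ ¬ IsMulCommutative ↥(D.group F) := by
  have hF : ChevFacts D F := chevFacts_of_mem D hD
  have hperf : commutator ↥(D.group F) = ⊤ := Cfsg.Agent.S1052.result D hD h2
  obtain ⟨E, hE⟩ := exists_irrChk D hD
  -- the group is not trivial
  have hnt : Nontrivial ↥(D.group F) := by
    by_contra hnt
    rw [not_nontrivial_iff_subsingleton] at hnt
    have h0 : 0 < D.rank := by
      simp only [List.mem_cons, List.not_mem_nil, or_false] at hD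
      rcases hD with rfl | rfl | rfl | rfl | rfl | rfl | rfl <;> decide
    have hs : (⟨nGL D hF.xadd (D.simple 0), nGL_mem_group D hF.xadd _⟩ : ↥(D.group F)) ∈ hF.bnPair.S :=
      ⟨0, h0, nGL_val D hF.xadd _⟩
    apply hF.bnPair.conj_ne _ hs
    ext x
    constructor
    · rintro ⟨b, hb, rfl⟩
      show _ * b * _ ∈ _
      rw [Subsingleton.elim (_ * b * _) b]
      exact hb
    · intro hx
      exact ⟨x, hx, Subsingleton.elim _ _⟩
  have hsolv : Group.IsSolvable hF.bnPair.B := by
    have h1 : Group.IsSolvable ↥(D.borelSubgroup F) := Cfsg.Agent.S1050.result D hD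
    exact Group.isSolvable_of_isSolvable_injective (f := ((D.group F).subtype.comp
      ((D.borelSubgroup F).subgroupOf (D.group F)).subtype).codRestrict (D.borelSubgroup F)
        (fun x => x.2)) (by
          intro x y hxy
          apply Subtype.ext
          apply Subtype.ext
          have := congrArg Subtype.val hxy
          exact this)
  have hsimple : IsSimpleGroup ↥(D.group F) :=
    Cfsg.Agent.S0319.result hF.bnPair (hF.bnPair_irreducible E hE) hsolv hperf hF.normalCore_borel
  refine ⟨hsimple, ?_⟩
  intro hc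
  have : commutator ↥(D.group F) = ⊥ := by
    rw [commutator_def, Subgroup.commutator_eq_bot_iff_le_centralizer]
    intro x _
    rw [Subgroup.mem_centralizer_iff]
    intro y _
    exact hc.is_comm.comm y x
  rw [hperf] at this
  exact top_ne_bot this

end Cfsg.Agent.Lead.Chev
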