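import Mathlib
import Cfsg.Agent.Lib.Lead.TwAutField

/-!
# Automorphisms of twisted groups: parameters of the root subgroups, and the opposition `n₀`
-/

set_option autoImplicit false
set_option linter.unusedSectionVars false
set_option linter.unusedSimpArgs false
set_option linter.unusedVariables false

namespace Cfsg.Agent.Lead.Tw

open Cfsg Cfsg.Lie Cfsg.Agent.Lead.Chev

variable {K : Type*} [Field K]

section

variable {D : ChevalleyDatum} {hF : ChevFacts D K} {T : Twist D K hF.xadd}
  {π' : ℕ → ℕ} {S l₀ : List (List ℕ)} (h : OrthData hF T π' S l₀)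
include h

/-- the parameters of an element of `X_v¹` are fixed -/
theorem OrthData.fixPos_of_mem (v : List ℕ) (hv : v ∈ S) (φ : ℕ → K)
    (hg : xs hF v φ ∈ orthGroup hF T S) : FixPos hF T v φ := by
  have hcls := h.cls v hv
  have hperm := h.perm v hv
  have hfix := h.fixed _ hg
  have hu := xs_mem_negPart hF hcls φ (h.neg_simple v hv)
  obtain ⟨φ', hφ', e⟩ := T.fixed_negPart hF hcls hperm _ hu hfix
  have heq := xs_injective hF hcls _ _ e
  intro i hi
  rw [heq i hi, heq (T.π i) (hperm.mem i hi)]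
  exact hφ' i hi

/-- the parameters of an element of `X_{-v}¹` are fixed -/
theorem OrthData.fixNeg_of_mem (v : List ℕ) (hv : v ∈ S) (ψ : ℕ → K)
    (hg : ys hF v ψ ∈ orthGroup hF T S) : FixNeg hF T v ψ := by
  have hcls := h.cls v hv
  have hperm := h.perm v hv
  have hfix := h.fixed _ hg
  set g : ℕ → K := fun j => T.c (D.neg (D.simple (π' j))) (ψ (π' j)) with hgdef
  have h1 := T.map_ys hF hcls hperm ψ g (by
    intro i hi
    show T.c (D.neg (D.simple (π' (T.π i)))) (ψ (π' (T.π i))) = _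
    rw [hperm.left i hi])
  rw [hfix] at h1
  have heq := ys_injective hF hcls _ _ h1
  intro i hi
  rw [heq (T.π i) (hperm.mem i hi)]
  show T.c (D.neg (D.simple (π' (T.π i)))) (ψ (π' (T.π i))) = _
  rw [hperm.left i hi]

/-- conjugation by `n₀` maps `X_{-v}¹` onto `X_v¹`, when `-w₀` fixes the fundamental roots -/
theorem OrthData.map_n₀_Xn
    (hopp : ∀ i < D.rank, reflWord D (wordOf l₀) (D.neg (D.simple i)) = D.simple i)
    (v : List ℕ) (hv : v ∈ S) :
    (Xn hF T S v (h.cls v hv)).map (MulAut.conj h.n₀).toMonoidHom = Xp hF T S v (h.cls v hv) := by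
  have hcls := h.cls v hv
  have hvv := h.gen.valid v hv
  have hw := h.valid_l₀
  set n := nWordGL D hF.xadd (wordOf l₀) with hn
  set s : ℕ → K := fun i => ((signWord D (etaOf D) (wordOf l₀) (D.neg (D.simple i)) : ℤ) : K) with hs
  have hss : ∀ i, s i * s i = 1 := by
    intro i
    rcases signWord_sq D (etaOf D) (wordOf l₀) (fun j hj r => (hF.nsimple j (hw j hj)).sign r)
      (D.neg (D.simple i)) with h1 | h1 <;> simp only [hs, h1] <;> simp
  have key : ∀ ψ : ℕ → K, n * ys hF v ψ * n⁻¹ = xs hF v (fun i => s i * ψ i) := by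
    intro ψ
    have e : n * ys hF v ψ * n⁻¹ = (MulAut.conj n).toMonoidHom (ys hF v ψ) := rfl
    rw [e]
    unfold xs ys
    rw [map_list_prod, List.map_map]
    congr 1
    apply List.map_congr_left
    intro i hi
    show n * xGL D hF.xadd (D.neg (D.simple i)) (ψ i) * n⁻¹ = _
    rw [hn, nWordGL_conj D hF.xadd (etaOf D) hF.nsimple (wordOf l₀) hw _ (hF.neg_simple_lt i (hvv i hi)),
      hopp i (hvv i hi)]
  apply le_antisymm
  · rintro _ ⟨g, hg, rfl⟩
    obtain ⟨ψ, hψ⟩ := hg
    refine ⟨fun i => s i * ψ i, ?_⟩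
    rw [MulEquiv.coe_toMonoidHom, MulAut.conj_apply]
    simp only [Subgroup.coe_mul, Subgroup.coe_inv, OrthData.n₀_coe, hψ]
    exact key ψ
  · intro g hg
    obtain ⟨φ, hφ⟩ := hg
    refine ⟨h.n₀⁻¹ * g * h.n₀, ⟨fun i => s i * φ i, ?_⟩, ?_⟩
    · simp only [Subgroup.coe_mul, Subgroup.coe_inv, OrthData.n₀_coe, hφ]
      have h1 := key (fun i => s i * φ i)
      have e2 : (fun i => s i * (s i * φ i)) = φ := by
        funext i
        rw [← mul_assoc, hss, one_mul]
      rw [e2] at h1
      rw [← h1, ← hn]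
      group
    · rw [MulEquiv.coe_toMonoidHom, MulAut.conj_apply]
      group

end

end Cfsg.Agent.Lead.Tw
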