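import Mathlib
import Cfsg.Agent.Lib.Lead.TwAutOpp
import Cfsg.Agent.Lib.Lead.TwD4Grp
import Cfsg.Agent.Lib.Helper6.ChevLSL2

/-!
# Automorphisms of `³D₄(q)`: the two root subgroups and their rank-one structures
-/

set_option autoImplicit false
set_option linter.unusedSectionVars false
set_option linter.unusedSimpArgs false
set_option linter.unusedVariables false

namespace Cfsg.Agent.Lead.Tw.D4

open Cfsg Cfsg.Lie Cfsg.Agent.Lead.Chev Cfsg.Agent.Helper6.ChevC Cfsg.Agent.Helper6.SL2Hom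
  Cfsg.Agent.Helper6.ChevL Cfsg.Agent.Lead.Tw.AutRk1

variable {K : Type*} [Field K]

/-- the fixed field of `f` -/
abbrev Fq (f : K ≃+* K) : Subfield K := (f : K →+* K).eqLocusField (RingHom.id K)

theorem mem_Fq (f : K ≃+* K) (t : K) : t ∈ Fq f ↔ f t = t := Iff.rfl

theorem hS1 : [1] ∈ S := by decide

theorem hS3 : [0, 2, 3] ∈ S := by decide

/-! ### the elements in `GL` -/

/-- `x_a(t)` -/
noncomputable def xA (t : K) : GL chevD4.Idx K := xGL chevD4 (hF (K := K)).xadd (chevD4.simple 1) t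

/-- `x_{-a}(t)` -/
noncomputable def yA (t : K) : GL chevD4.Idx K :=
  xGL chevD4 (hF (K := K)).xadd (chevD4.neg (chevD4.simple 1)) t

/-- the parameters of the triple class -/
def trf (f : K ≃+* K) (t : K) : ℕ → K := fun k => if k = 0 then t else if k = 2 then f t else f (f t)

/-- `x_b(t)` -/
noncomputable def xB (f : K ≃+* K) (t : K) : GL chevD4.Idx K :=
  xGL chevD4 (hF (K := K)).xadd (chevD4.simple 0) t *
    (xGL chevD4 (hF (K := K)).xadd (chevD4.simple 2) (f t) *
      xGL chevD4 (hF (K := K)).xadd (chevD4.simple 3) (f (f t)))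

/-- `x_{-b}(t)` -/
noncomputable def yB (f : K ≃+* K) (t : K) : GL chevD4.Idx K :=
  xGL chevD4 (hF (K := K)).xadd (chevD4.neg (chevD4.simple 0)) t *
    (xGL chevD4 (hF (K := K)).xadd (chevD4.neg (chevD4.simple 2)) (f t) *
      xGL chevD4 (hF (K := K)).xadd (chevD4.neg (chevD4.simple 3)) (f (f t)))

theorem xs_single (φ : ℕ → K) : xs (hF (K := K)) [1] φ = xA (φ 1) := by
  unfold xs xA
  simp

theorem ys_single (φ : ℕ → K) : ys (hF (K := K)) [1] φ = yA (φ 1) := by
  unfold ys yA
  simp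

theorem xs_tri (f : K ≃+* K) (t : K) : xs (hF (K := K)) [0, 2, 3] (trf f t) = xB f t := by
  unfold xs xB
  simp [trf]

theorem ys_tri (f : K ≃+* K) (t : K) : ys (hF (K := K)) [0, 2, 3] (trf f t) = yB f t := by
  unfold ys yB
  simp [trf]

/-! ### the rank-one structures in `GL` -/

theorem rankOne_A_GL (f : K ≃+* K) :
    RankOne (fun s : ↥(Fq f) => xA (s : K)) (fun s : ↥(Fq f) => yA (s : K)) :=
  comp_ringHom (Fq f).subtype (rankOne_simple (hF (K := K)) diag2_D4 1 (by decide))

theorem rankOne_B_GL (f : K ≃+* K) : RankOne (xB f) (yB f) := by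
  have hcls := (orthData f).cls [0, 2, 3] hS3
  have R0 := rankOne_simple (hF (K := K)) diag2_D4 0 (by decide)
  have R2 := comp_ringHom (f : K →+* K) (rankOne_simple (hF (K := K)) diag2_D4 2 (by decide))
  have R3 := comp_ringHom ((f : K →+* K).comp (f : K →+* K))
    (rankOne_simple (hF (K := K)) diag2_D4 3 (by decide))
  have lt : ∀ i < 4, chevD4.simple i < chevD4.nroots := fun i hi => (hF (K := K)).simple_lt i hi
  have nlt : ∀ i < 4, chevD4.neg (chevD4.simple i) < chevD4.nroots :=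
    fun i hi => (hF (K := K)).neg_simple_lt i hi
  have o23 := hcls.orth 2 (by simp) 3 (by simp) (by norm_num)
  have o02 := hcls.orth 0 (by simp) 2 (by simp) (by norm_num)
  have o03 := hcls.orth 0 (by simp) 3 (by simp) (by norm_num)
  have R23 := mul R2 R3
    (fun t u => xGL_commute hF _ _ (lt 2 (by norm_num)) (lt 3 (by norm_num)) o23.1 _ _)
    (fun t u => xGL_commute hF _ _ (lt 2 (by norm_num)) (nlt 3 (by norm_num)) o23.2.1 _ _)
    (fun t u => xGL_commute hF _ _ (nlt 2 (by norm_num)) (lt 3 (by norm_num)) o23.2.2.1 _ _)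
    (fun t u => xGL_commute hF _ _ (nlt 2 (by norm_num)) (nlt 3 (by norm_num)) o23.2.2.2 _ _)
  have RB := mul R0 R23
    (fun t u => Commute.mul_right
      (xGL_commute hF _ _ (lt 0 (by norm_num)) (lt 2 (by norm_num)) o02.1 _ _)
      (xGL_commute hF _ _ (lt 0 (by norm_num)) (lt 3 (by norm_num)) o03.1 _ _))
    (fun t u => Commute.mul_right
      (xGL_commute hF _ _ (lt 0 (by norm_num)) (nlt 2 (by norm_num)) o02.2.1 _ _)
      (xGL_commute hF _ _ (lt 0 (by norm_num)) (nlt 3 (by norm_num)) o03.2.1 _ _))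
    (fun t u => Commute.mul_right
      (xGL_commute hF _ _ (nlt 0 (by norm_num)) (lt 2 (by norm_num)) o02.2.2.1 _ _)
      (xGL_commute hF _ _ (nlt 0 (by norm_num)) (lt 3 (by norm_num)) o03.2.2.1 _ _))
    (fun t u => Commute.mul_right
      (xGL_commute hF _ _ (nlt 0 (by norm_num)) (nlt 2 (by norm_num)) o02.2.2.2 _ _)
      (xGL_commute hF _ _ (nlt 0 (by norm_num)) (nlt 3 (by norm_num)) o03.2.2.2 _ _))
  exact RB

end Cfsg.Agent.Lead.Tw.D4
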