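import Mathlib
import Cfsg.Agent.Lib.Lead.TwD4AutA
import Cfsg.Agent.Lib.Lead.TwFrob

/-!
# Automorphisms of `³D₄(q)`: the root subgroups inside the group
-/

set_option autoImplicit false
set_option linter.unusedSectionVars false
set_option linter.unusedSimpArgs false
set_option linter.unusedVariables false

namespace Cfsg.Agent.Lead.Tw.D4

open Cfsg Cfsg.Lie Cfsg.Agent.Lead.Chev Cfsg.Agent.Helper6.ChevC Cfsg.Agent.Helper6.SL2Hom
  Cfsg.Agent.Helper6.ChevL Cfsg.Agent.Lead.Tw.AutRk1 Cfsg.Agent.Helper6.AutRank1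

variable {K : Type*} [Field K]

section

variable (f : K ≃+* K)

theorem fixPos_A (s : K) (hs : f s = s) : FixPos hF (tw f) [1] (fun _ => s) := by
  intro k hk
  rw [List.mem_singleton] at hk
  subst hk
  rw [c_simple f 1 (by norm_num)]
  exact hs.symm

theorem fixNeg_A (s : K) (hs : f s = s) : FixNeg hF (tw f) [1] (fun _ => s) := by
  intro k hk
  rw [List.mem_singleton] at hk
  subst hk
  rw [c_neg_simple f 1 (by norm_num)]
  exact hs.symm

theorem π_vals : (tw f).π 0 = 2 ∧ (tw f).π 1 = 1 ∧ (tw f).π 2 = 3 ∧ (tw f).π 3 = 0 := ⟨rfl, rfl, rfl, rfl⟩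

theorem fixPos_B (hfff : ∀ t, f (f (f t)) = t) (t : K) : FixPos hF (tw f) [0, 2, 3] (trf f t) := by
  obtain ⟨p0, -, p2, p3⟩ := π_vals f
  intro k hk
  simp only [List.mem_cons, List.not_mem_nil, or_false] at hk
  rcases hk with rfl | rfl | rfl
  · rw [c_simple f 0 (by norm_num), p0]
    simp [trf]
  · rw [c_simple f 2 (by norm_num), p2]
    simp [trf]
  · rw [c_simple f 3 (by norm_num), p3]
    simp [trf, hfff]

theorem fixNeg_B (hfff : ∀ t, f (f (f t)) = t) (t : K) : FixNeg hF (tw f) [0, 2, 3] (trf f t) := by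
  obtain ⟨p0, -, p2, p3⟩ := π_vals f
  intro k hk
  simp only [List.mem_cons, List.not_mem_nil, or_false] at hk
  rcases hk with rfl | rfl | rfl
  · rw [c_neg_simple f 0 (by norm_num), p0]
    simp [trf]
  · rw [c_neg_simple f 2 (by norm_num), p2]
    simp [trf]
  · rw [c_neg_simple f 3 (by norm_num), p3]
    simp [trf, hfff]

/-- fixed parameters of the single class -/
theorem fixed_of_fixPos_A (φ : ℕ → K) (hφ : FixPos hF (tw f) [1] φ) : f (φ 1) = φ 1 := by
  have h1 := hφ 1 (by simp)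
  rw [c_simple f 1 (by norm_num), (π_vals f).2.1] at h1
  exact h1.symm

theorem fixed_of_fixNeg_A (φ : ℕ → K) (hφ : FixNeg hF (tw f) [1] φ) : f (φ 1) = φ 1 := by
  have h1 := hφ 1 (by simp)
  rw [c_neg_simple f 1 (by norm_num), (π_vals f).2.1] at h1
  exact h1.symm

/-- fixed parameters of the triple class -/
theorem trf_of_fixPos_B (φ : ℕ → K) (hφ : FixPos hF (tw f) [0, 2, 3] φ) :
    ∀ i ∈ [0, 2, 3], φ i = trf f (φ 0) i := by
  obtain ⟨p0, -, p2, p3⟩ := π_vals f
  have h0 := hφ 0 (by simp)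
  have h2 := hφ 2 (by simp)
  rw [c_simple f 0 (by norm_num), p0] at h0
  rw [c_simple f 2 (by norm_num), p2] at h2
  intro i hi
  simp only [List.mem_cons, List.not_mem_nil, or_false] at hi
  rcases hi with rfl | rfl | rfl
  · simp [trf]
  · simp [trf, h0]
  · simp [trf, h2, h0]

theorem trf_of_fixNeg_B (φ : ℕ → K) (hφ : FixNeg hF (tw f) [0, 2, 3] φ) :
    ∀ i ∈ [0, 2, 3], φ i = trf f (φ 0) i := by
  obtain ⟨p0, -, p2, p3⟩ := π_vals f
  have h0 := hφ 0 (by simp)
  have h2 := hφ 2 (by simp)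
  rw [c_neg_simple f 0 (by norm_num), p0] at h0
  rw [c_neg_simple f 2 (by norm_num), p2] at h2
  intro i hi
  simp only [List.mem_cons, List.not_mem_nil, or_false] at hi
  rcases hi with rfl | rfl | rfl
  · simp [trf]
  · simp [trf, h0]
  · simp [trf, h2, h0]

/-- the dichotomy for the fixed parameters -/
theorem hdich : ∀ v ∈ S, ∀ φ : ℕ → K, FixPos hF (tw f) v φ → (∀ i ∈ v, φ i = 0) ∨ (∀ i ∈ v, φ i ≠ 0) := by
  intro v hv φ hφ
  simp only [S, List.mem_cons, List.not_mem_nil, or_false] at hv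
  rcases hv with rfl | rfl
  · by_cases h0 : φ 1 = 0
    · left
      intro i hi
      rw [List.mem_singleton] at hi
      rw [hi, h0]
    · right
      intro i hi
      rw [List.mem_singleton] at hi
      rw [hi]
      exact h0
  · have ht := trf_of_fixPos_B f φ hφ
    by_cases h0 : φ 0 = 0
    · left
      intro i hi
      rw [ht i hi, h0]
      simp only [List.mem_cons, List.not_mem_nil, or_false] at hi
      rcases hi with rfl | rfl | rfl <;> simp [trf]
    · right
      intro i hi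
      rw [ht i hi]
      simp only [List.mem_cons, List.not_mem_nil, or_false] at hi
      rcases hi with rfl | rfl | rfl <;> simp [trf, h0]

/-- `-w₀` fixes the fundamental roots -/
theorem hopp : ∀ i < chevD4.rank, reflWord chevD4 (wordOf l₀) (chevD4.neg (chevD4.simple i)) = chevD4.simple i := by
  decide +kernel

/-! ### the parametrisations -/

/-- `x_a(s)` in the group -/
noncomputable def XA (s : ↥(Fq f)) : ↥(orthGroup hF (tw f) S) :=
  ⟨xA (s : K), by
    rw [← xs_single (fun _ => (s : K))]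
    exact (orthData f).xs_mem [1] hS1 _ (fixPos_A f s s.2)⟩

/-- `x_{-a}(s)` in the group -/
noncomputable def YA (s : ↥(Fq f)) : ↥(orthGroup hF (tw f) S) :=
  ⟨yA (s : K), by
    rw [← ys_single (fun _ => (s : K))]
    exact (orthData f).ys_mem [1] hS1 _ (fixNeg_A f s s.2)⟩

variable (hfff : ∀ t, f (f (f t)) = t)

/-- `x_b(t)` in the group -/
noncomputable def XB (t : K) : ↥(orthGroup hF (tw f) S) :=
  ⟨xB f t, by
    rw [← xs_tri f t]
    exact (orthData f).xs_mem [0, 2, 3] hS3 _ (fixPos_B f hfff t)⟩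

/-- `x_{-b}(t)` in the group -/
noncomputable def YB (t : K) : ↥(orthGroup hF (tw f) S) :=
  ⟨yB f t, by
    rw [← ys_tri f t]
    exact (orthData f).ys_mem [0, 2, 3] hS3 _ (fixNeg_B f hfff t)⟩

theorem XA_coe (s : ↥(Fq f)) : ((XA f s : ↥(orthGroup hF (tw f) S)) : GL chevD4.Idx K) = xA (s : K) := rfl

theorem YA_coe (s : ↥(Fq f)) : ((YA f s : ↥(orthGroup hF (tw f) S)) : GL chevD4.Idx K) = yA (s : K) := rfl

theorem XB_coe (t : K) : ((XB f hfff t : ↥(orthGroup hF (tw f) S)) : GL chevD4.Idx K) = xB f t := rfl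

theorem YB_coe (t : K) : ((YB f hfff t : ↥(orthGroup hF (tw f) S)) : GL chevD4.Idx K) = yB f t := rfl

/-- the rank-one structure of the class `a` -/
theorem rankOne_A : RankOne (XA f) (YA f) :=
  rankOne_of_injective (orthGroup hF (tw f) S).subtype Subtype.val_injective (rankOne_A_GL f)

/-- the rank-one structure of the class `b` -/
theorem rankOne_B : RankOne (XB f hfff) (YB f hfff) :=
  rankOne_of_injective (orthGroup hF (tw f) S).subtype Subtype.val_injective (rankOne_B_GL f)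

omit f hfff in
theorem clsA : OrthClass chevD4 [1] := (orthData (RingEquiv.refl ℚ)).cls [1] hS1

omit f hfff in
theorem clsB : OrthClass chevD4 [0, 2, 3] := (orthData (RingEquiv.refl ℚ)).cls [0, 2, 3] hS3

theorem XA_injective : Function.Injective (XA f) := by
  intro s s' h
  have h1 := congrArg Subtype.val h
  rw [XA_coe, XA_coe, ← xs_single (fun _ => (s : K)), ← xs_single (fun _ => (s' : K))] at h1
  exact Subtype.ext (xs_injective hF clsA _ _ h1 1 (by simp))

theorem YA_injective : Function.Injective (YA f) := by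
  intro s s' h
  have h1 := congrArg Subtype.val h
  rw [YA_coe, YA_coe, ← ys_single (fun _ => (s : K)), ← ys_single (fun _ => (s' : K))] at h1
  exact Subtype.ext (ys_injective hF clsA _ _ h1 1 (by simp))

theorem XB_injective : Function.Injective (XB f hfff) := by
  intro t t' h
  have h1 := congrArg Subtype.val h
  rw [XB_coe, XB_coe, ← xs_tri, ← xs_tri] at h1
  have := xs_injective hF clsB _ _ h1 0 (by simp)
  simpa [trf] using this

theorem YB_injective : Function.Injective (YB f hfff) := by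
  intro t t' h
  have h1 := congrArg Subtype.val h
  rw [YB_coe, YB_coe, ← ys_tri, ← ys_tri] at h1
  have := ys_injective hF clsB _ _ h1 0 (by simp)
  simpa [trf] using this

theorem hND_A (s c : ↥(Fq f)) (h : XA f s = YA f c) : s = 0 := by
  have h1 := congrArg Subtype.val h
  rw [XA_coe, YA_coe] at h1
  have hU : xA (s : K) ∈ chevD4.posUnipotent K :=
    xGL_mem_posUnipotent chevD4 (hF (K := K)).xadd _ ((hF (K := K)).simple_pos 1 (by decide)) _
  have hV : yA (c : K) ∈ chevD4.negUnipotent K :=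
    Subgroup.subset_closure ⟨_, _, (hF (K := K)).sign.neg_of_pos _ ((hF (K := K)).simple_pos 1 (by decide)),
      xGL_val _ _ _ _⟩
  rw [← h1] at hV
  have h2 := ChevFacts'.eq_one_of_mem_pos_of_mem_neg hF _ hU hV
  rw [← xs_single (fun _ => (s : K))] at h2
  exact Subtype.ext (xs_eq_one hF clsA _ h2 1 (by simp))

theorem hND_B (s c : K) (h : XB f hfff s = YB f hfff c) : s = 0 := by
  have h1 := congrArg Subtype.val h
  rw [XB_coe, YB_coe] at h1
  have hU : xB f s ∈ chevD4.posUnipotent K := by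
    rw [← xs_tri]
    exact xs_mem_posUnipotent hF _ clsB.valid _
  have hV : yB f c ∈ chevD4.negUnipotent K := by
    rw [← ys_tri]
    exact ys_mem_negUnipotent hF _ clsB.valid _
  rw [← h1] at hV
  have h2 := ChevFacts'.eq_one_of_mem_pos_of_mem_neg hF _ hU hV
  rw [← xs_tri] at h2
  have := xs_eq_one hF clsB _ h2 0 (by simp)
  simpa [trf] using this

/-! ### the root subgroups are the images of the parametrisations -/

theorem XA_mem (s : ↥(Fq f)) : XA f s ∈ Xp hF (tw f) S [1] clsA :=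
  ⟨fun _ => (s : K), (xs_single (fun _ => (s : K))).symm⟩

theorem YA_mem (s : ↥(Fq f)) : YA f s ∈ Xn hF (tw f) S [1] clsA :=
  ⟨fun _ => (s : K), (ys_single (fun _ => (s : K))).symm⟩

theorem XB_mem (t : K) : XB f hfff t ∈ Xp hF (tw f) S [0, 2, 3] clsB :=
  ⟨trf f t, (xs_tri f t).symm⟩

theorem YB_mem (t : K) : YB f hfff t ∈ Xn hF (tw f) S [0, 2, 3] clsB :=
  ⟨trf f t, (ys_tri f t).symm⟩

theorem exists_XA (g : ↥(orthGroup hF (tw f) S)) (hg : g ∈ Xp hF (tw f) S [1] clsA) :
    ∃ s : ↥(Fq f), g = XA f s := by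
  obtain ⟨φ, hφ⟩ := hg
  have hfix := (orthData f).fixPos_of_mem [1] hS1 φ (hφ ▸ g.2)
  refine ⟨⟨φ 1, fixed_of_fixPos_A f φ hfix⟩, Subtype.ext ?_⟩
  rw [hφ, XA_coe, xs_single]

theorem exists_YA (g : ↥(orthGroup hF (tw f) S)) (hg : g ∈ Xn hF (tw f) S [1] clsA) :
    ∃ s : ↥(Fq f), g = YA f s := by
  obtain ⟨φ, hφ⟩ := hg
  have hfix := (orthData f).fixNeg_of_mem [1] hS1 φ (hφ ▸ g.2)
  refine ⟨⟨φ 1, fixed_of_fixNeg_A f φ hfix⟩, Subtype.ext ?_⟩
  rw [hφ, YA_coe, ys_single]

theorem exists_XB (g : ↥(orthGroup hF (tw f) S)) (hg : g ∈ Xp hF (tw f) S [0, 2, 3] clsB) :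
    ∃ t : K, g = XB f hfff t := by
  obtain ⟨φ, hφ⟩ := hg
  have hfix := (orthData f).fixPos_of_mem [0, 2, 3] hS3 φ (hφ ▸ g.2)
  refine ⟨φ 0, Subtype.ext ?_⟩
  rw [hφ, XB_coe, ← xs_tri]
  exact xs_congr hF _ _ _ (trf_of_fixPos_B f φ hfix)

theorem exists_YB (g : ↥(orthGroup hF (tw f) S)) (hg : g ∈ Xn hF (tw f) S [0, 2, 3] clsB) :
    ∃ t : K, g = YB f hfff t := by
  obtain ⟨φ, hφ⟩ := hg
  have hfix := (orthData f).fixNeg_of_mem [0, 2, 3] hS3 φ (hφ ▸ g.2)
  refine ⟨φ 0, Subtype.ext ?_⟩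
  rw [hφ, YB_coe, ← ys_tri]
  exact ys_congr hF _ _ _ (trf_of_fixNeg_B f φ hfix)

end

end Cfsg.Agent.Lead.Tw.D4
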