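import Mathlib
import Cfsg.Agent.Lib.Lead.TwChk

/-!
# Twisted groups with arbitrary classes

The hypotheses `TwGroup` from class data: representatives of the twisted reflections and the fixed points of `σ` on the
groups `U_w⁻`, `w` running over the classes.
-/

set_option autoImplicit false
set_option linter.unusedSectionVars false
set_option linter.unusedSimpArgs false
set_option linter.unusedVariables false

namespace Cfsg.Agent.Lead.Tw

open Cfsg Cfsg.Lie Cfsg.Agent.Lead.Chev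

variable {K : Type*} [Field K]

/-- the class data of a twisted group `G₁` -/
structure ClsData {D : ChevalleyDatum} (hF : ChevFacts D K) (T : Twist D K hF.xadd) (S l₀ : List (List ℕ))
    (G₁ : Subgroup (GL D.Idx K)) : Prop where
  gen : GenData D T.ρ T.π S
  le_group : G₁ ≤ D.group K
  fixed : ∀ g ∈ G₁, T.σ g = g
  s_mem : ∀ w ∈ S, nWordGL D hF.xadd w ∈ G₁
  fix_mem : ∀ w ∈ S, ∀ b ∈ negPart D hF.xadd w, T.σ b = b → b ∈ G₁
  nontriv : ∀ w ∈ S, ∃ u ∈ negPart D hF.xadd w, T.σ u = u ∧ u ≠ 1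
  s_inj : ∀ w ∈ S, ∀ w' ∈ S, (∀ r < D.nroots, reflWord D w r = reflWord D w' r) → w = w'
  sub : ∀ w ∈ S, ∀ v : List ℕ, v.Sublist w → RhoComm D T.ρ v →
    (∀ r < D.nroots, reflWord D v r = r) ∨ (∀ r < D.nroots, reflWord D v r = reflWord D w r)
  chain_mem : ∀ v ∈ l₀, v ∈ S
  chain_red : RedChain D l₀
  chain_long : ∀ r, D.IsPosRoot r → D.IsNegRoot (reflWord D (wordOf l₀) r)

/-- the decidable table conditions -/
structure ClsChk (D : ChevalleyDatum) (ρ π : ℕ → ℕ) (S l₀ : List (List ℕ)) : Prop where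
  valid : ∀ v ∈ S, ∀ i ∈ v, i < D.rank
  comm : ∀ v ∈ S, ∀ r < D.nroots, reflWord D v (ρ r) = ρ (reflWord D v r)
  sq : ∀ v ∈ S, ∀ r < D.nroots, reflWord D (v ++ v) r = r
  cover : ∀ i < D.rank, ∃ v ∈ S, i ∈ v ∧ ∀ j ∈ v, ∃ k < 4, π^[k] i = j
  long : ∀ v ∈ S, ∀ r < D.nroots, D.IsPosRoot r → InSpan D (letters v) r → D.IsNegRoot (reflWord D v r)
  s_inj : ∀ w ∈ S, ∀ w' ∈ S, (∀ r < D.nroots, reflWord D w r = reflWord D w' r) → w = w'
  sub : ∀ w ∈ S, ∀ v ∈ w.sublists, (∀ r < D.nroots, reflWord D v (ρ r) = ρ (reflWord D v r)) →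
    (∀ r < D.nroots, reflWord D v r = r) ∨ (∀ r < D.nroots, reflWord D v r = reflWord D w r)
  chain_mem : ∀ v ∈ l₀, v ∈ S
  chain_red : redChainB D l₀ = true
  chain_long : ∀ r < D.nroots, D.IsPosRoot r → D.IsNegRoot (reflWord D (wordOf l₀) r)

theorem ClsChk.genData {D : ChevalleyDatum} {ρ π : ℕ → ℕ} {S l₀ : List (List ℕ)} (h : ClsChk D ρ π S l₀) :
    GenData D ρ π S where
  valid := h.valid
  comm := h.comm
  sq := h.sq
  cover := by
    intro i hi
    obtain ⟨v, hv, hiv, hj⟩ := h.cover i hi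
    refine ⟨v, hv, hiv, ?_⟩
    intro j hjv
    obtain ⟨k, _, hk⟩ := hj j hjv
    exact ⟨k, hk⟩
  long := fun v hv r hr hs => h.long v hv r hr.1 hr hs

section

variable {D : ChevalleyDatum} {hF : ChevFacts D K} {T : Twist D K hF.xadd} {S l₀ : List (List ℕ)}
  {G₁ : Subgroup (GL D.Idx K)}

/-- class data from the table test -/
theorem ClsData.of_chk (h : ClsChk D T.ρ T.π S l₀) (le_group : G₁ ≤ D.group K)
    (fixed : ∀ g ∈ G₁, T.σ g = g) (s_mem : ∀ w ∈ S, nWordGL D hF.xadd w ∈ G₁)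
    (fix_mem : ∀ w ∈ S, ∀ b ∈ negPart D hF.xadd w, T.σ b = b → b ∈ G₁)
    (nontriv : ∀ w ∈ S, ∃ u ∈ negPart D hF.xadd w, T.σ u = u ∧ u ≠ 1) : ClsData hF T S l₀ G₁ where
  gen := h.genData
  le_group := le_group
  fixed := fixed
  s_mem := s_mem
  fix_mem := fix_mem
  nontriv := nontriv
  s_inj := h.s_inj
  sub := fun w hw v hvw hc => h.sub w hw v (List.mem_sublists.2 hvw) hc
  chain_mem := h.chain_mem
  chain_red := redChain_of_chk D l₀ h.chain_red
  chain_long := fun r hr => h.chain_long r hr.1 hr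

variable (h : ClsData hF T S l₀ G₁)
include h

theorem ClsData.ne (v : List ℕ) (hv : v ∈ S) :
    ∃ u ∈ D.posUnipotent K, T.σ u = u ∧
      nWordGL D hF.xadd v * u * nWordGL D hF.xadd v ∉ D.borelSubgroup K := by
  have hvv := h.gen.valid v hv
  obtain ⟨u, huN, hfix, hne⟩ := h.nontriv v hv
  refine ⟨u, hF.negPart_le_posUnipotent v huN, hfix, ?_⟩
  intro hb
  set n := nWordGL D hF.xadd v with hn
  have ha := ChevFacts'.conj_negPart_mem_negUnipotent hF v hvv u huN
  have hnn : n * n ∈ D.diagonalSubgroup K := by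
    have hvv2 : ∀ i ∈ v ++ v, i < D.rank := by
      intro i hi
      rcases List.mem_append.1 hi with h1 | h1 <;> exact hvv i h1
    have := hF.nWordGL_inv_mul_mem_diagonal [] (v ++ v) (by simp) hvv2 (by
      intro r hr
      rw [h.gen.sq v hv r hr]
      rfl)
    rwa [nWordGL_nil, inv_one, one_mul, nWordGL_append] at this
  have e : n * u * n = (n * u * n⁻¹) * (n * n) := by group
  rw [e] at hb
  have h1 := hF.eq_one_of_neg_mul_diag_mem_borel _ ha _ hnn hb
  apply hne
  have : u = n⁻¹ * (n * u * n⁻¹) * n := by group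
  rw [this, h1]
  group

/-- **The twisted group of a class datum satisfies `TwGroup`.** -/
theorem ClsData.twGroup [Fintype K] (hS : CorSize D) (hC : CorComb D) : TwGroup hF T G₁ S where
  le_group := h.le_group
  fixed := h.fixed
  U_le := by
    intro u hu hfix
    have hn : ∀ w ∈ S, nWordGL D hF.xadd w ∈ G₁ ∧ T.σ (nWordGL D hF.xadd w) = nWordGL D hF.xadd w :=
      fun w hw => ⟨h.s_mem w hw, h.fixed _ (h.s_mem w hw)⟩
    apply T.fixed_mem_of_chain hF hS hC S h.gen.valid h.gen.comm _ hn h.fix_mem l₀ h.chain_mem h.chain_red u _ hfix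
    rw [Twist.negPart_eq_posUnipotent hF _ h.chain_long]
    exact hu
  s_valid := h.gen.valid
  s_mem := h.s_mem
  s_sq := h.gen.sq
  s_inj := h.s_inj
  gen := by
    intro w hw hc
    obtain ⟨l, hl, _, hact⟩ := ChevFacts'.exists_redChain hF hS T.ρ T.π S h.gen T.ρ_lt (T.ρ_negRoot hF)
      T.ρ_simple T.π_lt w hw hc
    refine ⟨l.reverse, fun v hv => hl v (List.mem_reverse.1 hv), ?_⟩
    intro r hr
    rw [hact r hr, wordOf_eq_flatten]
  sub := h.sub
  ne := h.ne

end

/-! ### words -/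

namespace Twist

variable {D : ChevalleyDatum} (hF : ChevFacts D K) (T : Twist D K hF.xadd)
include hF

/-- the action of `σ` on a word -/
theorem map_wordGL (w : List (ℕ × K)) (hw : ∀ q ∈ w, q.1 < D.nroots) :
    T.σ (wordGL D hF.xadd w) = wordGL D hF.xadd (w.map fun q => (T.ρ q.1, T.c q.1 q.2)) := by
  induction w with
  | nil => rw [wordGL_nil, T.map_one hF]; rfl
  | cons q w ih =>
    rw [wordGL_cons, T.map_mul _ _ (xGL_mem_group D hF.xadd _ _) (wordGL_mem_group D hF.xadd _),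
      T.map_x q.1 (hw q List.mem_cons_self), ih (fun q' hq' => hw q' (List.mem_cons_of_mem _ hq')),
      List.map_cons, wordGL_cons]

end Twist

/-- elements of the closure of a set of fixed elements are fixed -/
theorem Twist.fixed_of_gens {D : ChevalleyDatum} (hF : ChevFacts D K) (T : Twist D K hF.xadd)
    (X : Set (GL D.Idx K)) (hX : ∀ g ∈ X, g ∈ D.group K ∧ T.σ g = g) :
    ∀ g ∈ Subgroup.closure X, g ∈ D.group K ∧ T.σ g = g := by
  intro g hg
  induction hg using Subgroup.closure_induction with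
  | mem x hx => exact hX x hx
  | one => exact ⟨one_mem _, T.map_one hF⟩
  | mul x y _ _ hx hy =>
    refine ⟨mul_mem hx.1 hy.1, ?_⟩
    rw [T.map_mul x y hx.1 hy.1, hx.2, hy.2]
  | inv x _ hx =>
    refine ⟨inv_mem hx.1, ?_⟩
    rw [T.map_inv hF x hx.1, hx.2]

/-- `n_w` as a word in root elements -/
theorem nWordGL_eq_wordGL (D : ChevalleyDatum) (hX : XAdd D K) (w : List ℕ) :
    nWordGL D hX w = wordGL D hX (w.flatMap fun i => D.nWord (D.simple i) (1 : K)) := by
  induction w with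
  | nil => rfl
  | cons i w ih =>
    rw [nWordGL_cons, List.flatMap_cons, wordGL_append, ih]
    rfl

/-- elements of `U_w⁻` as ordered products -/
theorem ChevFacts'.exists_prodL_of_mem_negPart {D : ChevalleyDatum} (hF : ChevFacts D K) (hS : CorSize D)
    (hC : CorComb D) (w : List ℕ) (hw : ∀ i ∈ w, i < D.rank) (g : GL D.Idx K)
    (hg : g ∈ negPart D hF.xadd w) :
    ∃ t : ℕ → K, g = wordGL D hF.xadd ((subFrom D (psiW D w) 0).map fun r => (r, t r)) := by
  rw [negPart_eq_subGrp] at hg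
  obtain ⟨t, ht⟩ := exists_prodL_of_mem_subGrp D (fun r _ => hF.xadd.add' r) (fun r _ => hF.xadd.zero' r)
    hF.comm hF.poscomm _
    (closedPsi_psiW D (etaOf D) hF.facts hF.refl hS hF.simple_lt hF.poscomm hC w hw) g hg
  refine ⟨t, ?_⟩
  apply Units.ext
  rw [ht, wordGL_val]
  rfl

/-- words in the roots of `U_w⁻` lie in `U_w⁻` -/
theorem ChevFacts'.wordGL_mem_negPart {D : ChevalleyDatum} (hF : ChevFacts D K) (w : List ℕ)
    (wd : List (ℕ × K)) (hwd : ∀ q ∈ wd, D.IsPosRoot q.1 ∧ D.IsNegRoot (reflWord D w q.1)) :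
    wordGL D hF.xadd wd ∈ negPart D hF.xadd w := by
  induction wd with
  | nil => rw [wordGL_nil]; exact one_mem _
  | cons q wd ih =>
    rw [wordGL_cons]
    refine mul_mem ?_ (ih fun q' hq' => hwd q' (List.mem_cons_of_mem _ hq'))
    have := hwd q List.mem_cons_self
    exact Subgroup.subset_closure ⟨q.1, q.2, this.1, this.2, rfl⟩

/-- uniqueness of the parameters of an ordered product over the roots of `U_w⁻` -/
theorem ChevFacts'.wordGL_subFrom_inj {D : ChevalleyDatum} (hF : ChevFacts D K) (Ψ : ℕ → Bool) (t t' : ℕ → K)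
    (h : wordGL D hF.xadd ((subFrom D Ψ 0).map fun r => (r, t r)) =
      wordGL D hF.xadd ((subFrom D Ψ 0).map fun r => (r, t' r))) :
    ∀ r ∈ subFrom D Ψ 0, t r = t' r := by
  apply prodL_subFrom_inj D hF.ufacts (fun r _ => hF.xadd.add' r) (fun r _ => hF.xadd.zero' r) Ψ t t'
  have := congrArg (fun g : GL D.Idx K => (g : Matrix D.Idx D.Idx K)) h
  simp only [wordGL_val] at this
  exact this

end Cfsg.Agent.Lead.Tw
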