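import Mathlib
import Cfsg.Agent.Lib.Lead.ChevGL

/-!
# The endomorphism of a Chevalley group defined by an intertwining matrix

If `P * x_r(t) = x_{ρ r}(t ^ λ_r) * P` for all roots, every `g` of the group has a partner `g'` with
`P * g = g' * P`; when the group is simple the partner is unique and `g ↦ g'` is an automorphism.
-/

set_option autoImplicit false
set_option linter.unusedSectionVars false
set_option linter.unusedSimpArgs false
set_option linter.unusedVariables false

namespace Cfsg.Agent.Lead.Tw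

open Cfsg Cfsg.Lie Cfsg.Agent.Lead.Chev

variable {K : Type*} [Field K]

/-- an intertwining matrix -/
structure IsoData (D : ChevalleyDatum) (K : Type*) [Field K] where
  P : Matrix D.Idx D.Idx K
  ρ : ℕ → ℕ
  lam : ℕ → ℕ
  ρ_lt : ∀ r < D.nroots, ρ r < D.nroots
  ρ_surj : ∀ s < D.nroots, ∃ r < D.nroots, ρ r = s
  lam_surj : ∀ r < D.nroots, ∀ s : K, ∃ t : K, t ^ lam r = s
  inter : ∀ r < D.nroots, ∀ t : K, P * D.x K r t = D.x K (ρ r) (t ^ lam r) * P

namespace IsoData

variable {D : ChevalleyDatum} (hX : XAdd D K) (I : IsoData D K)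
include hX

/-- the relation is closed under inverses -/
theorem rel_inv (g g' : GL D.Idx K) (h : I.P * g.val = g'.val * I.P) :
    I.P * (g⁻¹ : GL D.Idx K).val = (g'⁻¹ : GL D.Idx K).val * I.P := by
  have e1 : g.val * (g⁻¹ : GL D.Idx K).val = 1 := by rw [← Units.val_mul, mul_inv_cancel]; rfl
  have e2 : (g'⁻¹ : GL D.Idx K).val * g'.val = 1 := by rw [← Units.val_mul, inv_mul_cancel]; rfl
  calc I.P * (g⁻¹ : GL D.Idx K).val
      = ((g'⁻¹ : GL D.Idx K).val * g'.val) * I.P * (g⁻¹ : GL D.Idx K).val := by rw [e2, one_mul]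
    _ = (g'⁻¹ : GL D.Idx K).val * (g'.val * I.P) * (g⁻¹ : GL D.Idx K).val := by simp only [mul_assoc]
    _ = (g'⁻¹ : GL D.Idx K).val * (I.P * g.val) * (g⁻¹ : GL D.Idx K).val := by rw [h]
    _ = (g'⁻¹ : GL D.Idx K).val * I.P * (g.val * (g⁻¹ : GL D.Idx K).val) := by simp only [mul_assoc]
    _ = (g'⁻¹ : GL D.Idx K).val * I.P := by rw [e1, mul_one]

theorem rel_mul (g₁ g₁' g₂ g₂' : GL D.Idx K) (h₁ : I.P * g₁.val = g₁'.val * I.P)
    (h₂ : I.P * g₂.val = g₂'.val * I.P) : I.P * (g₁ * g₂).val = (g₁' * g₂').val * I.P := by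
  rw [Units.val_mul, Units.val_mul, ← mul_assoc, h₁, mul_assoc, h₂, mul_assoc]

/-- every element has a partner -/
theorem exists_rel (g : GL D.Idx K) (hg : g ∈ D.group K) :
    ∃ g' ∈ D.group K, I.P * g.val = g'.val * I.P := by
  unfold ChevalleyDatum.group at hg
  induction hg using Subgroup.closure_induction with
  | mem x hx =>
    obtain ⟨r, t, hx⟩ := hx
    refine ⟨xGL D hX (I.ρ r.val) (t ^ I.lam r.val), xGL_mem_group D hX _ _, ?_⟩
    rw [hx, xGL_val, ← x_of_lt D r.val r.2]
    exact I.inter r.val r.2 t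
  | one => exact ⟨1, one_mem _, by simp⟩
  | mul x y _ _ hx hy =>
    obtain ⟨x', hx', ex⟩ := hx
    obtain ⟨y', hy', ey⟩ := hy
    exact ⟨x' * y', mul_mem hx' hy', I.rel_mul hX x x' y y' ex ey⟩
  | inv x _ hx =>
    obtain ⟨x', hx', ex⟩ := hx
    exact ⟨x'⁻¹, inv_mem hx', I.rel_inv hX x x' ex⟩

/-- every element is a partner -/
theorem exists_rel' (g' : GL D.Idx K) (hg : g' ∈ D.group K) :
    ∃ g ∈ D.group K, I.P * g.val = g'.val * I.P := by
  unfold ChevalleyDatum.group at hg
  induction hg using Subgroup.closure_induction with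
  | mem x hx =>
    obtain ⟨s, u, hx⟩ := hx
    obtain ⟨r, hr, hrs⟩ := I.ρ_surj s.val s.2
    obtain ⟨t, ht⟩ := I.lam_surj r hr u
    refine ⟨xGL D hX r t, xGL_mem_group D hX _ _, ?_⟩
    rw [hx, xGL_val, ← x_of_lt D s.val s.2, ← hrs, ← ht]
    exact I.inter r hr t
  | one => exact ⟨1, one_mem _, by simp⟩
  | mul x y _ _ hx hy =>
    obtain ⟨x', hx', ex⟩ := hx
    obtain ⟨y', hy', ey⟩ := hy
    exact ⟨x' * y', mul_mem hx' hy', I.rel_mul hX x' x y' y ex ey⟩
  | inv x _ hx =>
    obtain ⟨x', hx', ex⟩ := hx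
    exact ⟨x'⁻¹, inv_mem hx', I.rel_inv hX x' x ex⟩

/-- the elements acting trivially on the image of `P` -/
def kerL0 : Subgroup ↥(D.group K) where
  carrier := {h | (h.val : GL D.Idx K).val * I.P = I.P}
  one_mem' := by simp
  mul_mem' := by
    intro a b ha hb
    simp only [Set.mem_ofPred_eq] at ha hb ⊢
    rw [Subgroup.coe_mul, Units.val_mul, mul_assoc, hb, ha]
  inv_mem' := by
    intro a ha
    simp only [Set.mem_ofPred_eq] at ha ⊢
    have e2 : ((a.val)⁻¹ : GL D.Idx K).val * a.val.val = 1 := by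
      rw [← Units.val_mul, inv_mul_cancel]; rfl
    have h1 : ((a.val)⁻¹ : GL D.Idx K).val * (a.val.val * I.P) = ((a.val)⁻¹ : GL D.Idx K).val * I.P := by
      rw [ha]
    rw [← mul_assoc, e2, one_mul] at h1
    rw [Subgroup.coe_inv, ← h1]

omit hX in
theorem mem_kerL (h : ↥(D.group K)) : h ∈ I.kerL0 ↔ (h.val : GL D.Idx K).val * I.P = I.P := Iff.rfl

theorem kerL_normal : (I.kerL0).Normal := by
  constructor
  intro h hh g
  rw [mem_kerL] at hh ⊢
  obtain ⟨g₀, hg₀, e⟩ := I.exists_rel' hX (g⁻¹ : ↥(D.group K)).val (g⁻¹).2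
  rw [Subgroup.coe_mul, Subgroup.coe_mul, Units.val_mul, Units.val_mul, mul_assoc, ← e, mul_assoc,
    ← mul_assoc h.val.val, hh, e, ← mul_assoc, ← Units.val_mul, ← Subgroup.coe_mul, mul_inv_cancel]
  simp

/-- the elements acting trivially on the coimage of `P` -/
def kerR0 : Subgroup ↥(D.group K) where
  carrier := {h | I.P * (h.val : GL D.Idx K).val = I.P}
  one_mem' := by simp
  mul_mem' := by
    intro a b ha hb
    simp only [Set.mem_ofPred_eq] at ha hb ⊢
    rw [Subgroup.coe_mul, Units.val_mul, ← mul_assoc, ha, hb]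
  inv_mem' := by
    intro a ha
    simp only [Set.mem_ofPred_eq] at ha ⊢
    have e2 : a.val.val * ((a.val)⁻¹ : GL D.Idx K).val = 1 := by
      rw [← Units.val_mul, mul_inv_cancel]; rfl
    have h1 : (I.P * a.val.val) * ((a.val)⁻¹ : GL D.Idx K).val = I.P * ((a.val)⁻¹ : GL D.Idx K).val := by
      rw [ha]
    rw [mul_assoc, e2, mul_one] at h1
    rw [Subgroup.coe_inv, ← h1]

omit hX in
theorem mem_kerR (h : ↥(D.group K)) : h ∈ I.kerR0 ↔ I.P * (h.val : GL D.Idx K).val = I.P := Iff.rfl

theorem kerR_normal : (I.kerR0).Normal := by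
  constructor
  intro h hh g
  rw [mem_kerR] at hh ⊢
  obtain ⟨g₀, hg₀, e⟩ := I.exists_rel hX g.val g.2
  rw [Subgroup.coe_mul, Subgroup.coe_mul, Units.val_mul, Units.val_mul, ← mul_assoc, ← mul_assoc, e,
    mul_assoc g₀.val, hh, ← e, mul_assoc, ← Units.val_mul, ← Subgroup.coe_mul, mul_inv_cancel]
  simp

end IsoData

/-- an intertwining matrix with trivial kernels -/
structure IsoData' (D : ChevalleyDatum) (K : Type*) [Field K] extends IsoData D K where
  kerL : ∀ h ∈ D.group K, h.val * P = P → h = 1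
  kerR : ∀ h ∈ D.group K, P * h.val = P → h = 1

namespace IsoData

variable {D : ChevalleyDatum} (hX : XAdd D K) (I : IsoData D K)
include hX

/-- for a simple group the kernels are trivial -/
def ofSimple (hs : IsSimpleGroup ↥(D.group K)) (r : ℕ) (hR : I.P * D.x K r 1 ≠ I.P) : IsoData' D K where
  toIsoData := I
  kerL := by
    intro h hh e
    have hn := I.kerL_normal hX
    rcases hn.eq_bot_or_eq_top with h1 | h1
    · have : (⟨h, hh⟩ : ↥(D.group K)) ∈ I.kerL0 := (I.mem_kerL _).2 e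
      rw [h1, Subgroup.mem_bot] at this
      exact congrArg Subtype.val this
    · exfalso
      obtain ⟨g', hg', e'⟩ := I.exists_rel hX (xGL D hX r 1) (xGL_mem_group D hX r 1)
      have : (⟨g', hg'⟩ : ↥(D.group K)) ∈ I.kerL0 := by
        rw [h1]; exact Subgroup.mem_top _
      rw [mem_kerL] at this
      apply hR
      rw [← xGL_val D hX, e']
      exact this
  kerR := by
    intro h hh e
    have hn := I.kerR_normal hX
    rcases hn.eq_bot_or_eq_top with h1 | h1
    · have : (⟨h, hh⟩ : ↥(D.group K)) ∈ I.kerR0 := (I.mem_kerR _).2 e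
      rw [h1, Subgroup.mem_bot] at this
      exact congrArg Subtype.val this
    · exfalso
      have : (⟨xGL D hX r 1, xGL_mem_group D hX r 1⟩ : ↥(D.group K)) ∈ I.kerR0 := by
        rw [h1]; exact Subgroup.mem_top _
      exact hR ((I.mem_kerR _).1 this)

end IsoData

namespace IsoData'

variable {D : ChevalleyDatum} (hX : XAdd D K) (I : IsoData' D K)
include hX

theorem rel_unique (g g' g'' : GL D.Idx K) (hg' : g' ∈ D.group K) (hg'' : g'' ∈ D.group K)
    (h' : I.P * g.val = g'.val * I.P) (h'' : I.P * g.val = g''.val * I.P) : g' = g'' := by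
  have h1 := I.toIsoData.rel_inv hX g g' h'
  have h2 := I.toIsoData.rel_mul hX g⁻¹ g'⁻¹ g g'' h1 h''
  rw [inv_mul_cancel] at h2
  have h3 : (g'⁻¹ * g'').val * I.P = I.P := by rw [← h2]; simp
  have h4 := I.kerL _ (mul_mem (inv_mem hg') hg'') h3
  exact (inv_mul_eq_one.1 h4)

/-- the endomorphism -/
noncomputable def map (g : GL D.Idx K) : GL D.Idx K := by
  classical
  exact if h : g ∈ D.group K then Classical.choose (I.toIsoData.exists_rel hX g h) else 1

theorem map_mem (g : GL D.Idx K) : I.map hX g ∈ D.group K := by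
  unfold map
  by_cases h : g ∈ D.group K
  · rw [dif_pos h]
    exact (Classical.choose_spec (I.toIsoData.exists_rel hX g h)).1
  · rw [dif_neg h]
    exact one_mem _

theorem map_spec (g : GL D.Idx K) (hg : g ∈ D.group K) : I.P * g.val = (I.map hX g).val * I.P := by
  unfold map
  rw [dif_pos hg]
  exact (Classical.choose_spec (I.toIsoData.exists_rel hX g hg)).2

theorem map_eq (g g' : GL D.Idx K) (hg : g ∈ D.group K) (hg' : g' ∈ D.group K)
    (h : I.P * g.val = g'.val * I.P) : I.map hX g = g' :=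
  I.rel_unique hX g _ _ (I.map_mem hX g) hg' (I.map_spec hX g hg) h

theorem map_mul (g h : GL D.Idx K) (hg : g ∈ D.group K) (hh : h ∈ D.group K) :
    I.map hX (g * h) = I.map hX g * I.map hX h :=
  I.map_eq hX _ _ (mul_mem hg hh) (mul_mem (I.map_mem hX g) (I.map_mem hX h))
    (I.toIsoData.rel_mul hX g _ h _ (I.map_spec hX g hg) (I.map_spec hX h hh))

theorem map_x (r : ℕ) (hr : r < D.nroots) (t : K) :
    I.map hX (xGL D hX r t) = xGL D hX (I.ρ r) (t ^ I.lam r) :=
  I.map_eq hX _ _ (xGL_mem_group D hX _ _) (xGL_mem_group D hX _ _) (by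
    rw [xGL_val, xGL_val]; exact I.inter r hr t)

theorem map_injOn (g : GL D.Idx K) (hg : g ∈ D.group K) (h : I.map hX g = 1) : g = 1 := by
  have h1 := I.map_spec hX g hg
  rw [h] at h1
  exact I.kerR g hg (by rw [h1]; simp)

/-- the endomorphism as a homomorphism of the group -/
noncomputable def hom : ↥(D.group K) →* ↥(D.group K) where
  toFun := fun g => ⟨I.map hX g.val, I.map_mem hX g.val⟩
  map_one' := by
    apply Subtype.ext
    exact I.map_eq hX _ _ (one_mem _) (one_mem _) (by simp)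
  map_mul' := by
    intro a b
    apply Subtype.ext
    exact I.map_mul hX a.val b.val a.2 b.2

theorem hom_val (g : ↥(D.group K)) : ((I.hom hX g : ↥(D.group K)) : GL D.Idx K) = I.map hX g.val := rfl

theorem hom_bijective : Function.Bijective (I.hom hX) := by
  constructor
  · rw [← MonoidHom.ker_eq_bot_iff, eq_bot_iff]
    intro g hg
    rw [MonoidHom.mem_ker] at hg
    rw [Subgroup.mem_bot]
    apply Subtype.ext
    exact I.map_injOn hX g.val g.2 (congrArg Subtype.val hg)
  · intro g'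
    obtain ⟨g, hg, e⟩ := I.toIsoData.exists_rel' hX g'.val g'.2
    refine ⟨⟨g, hg⟩, ?_⟩
    apply Subtype.ext
    exact I.map_eq hX g g'.val hg g'.2 e

/-- the automorphism of the group -/
noncomputable def equiv : ↥(D.group K) ≃* ↥(D.group K) :=
  MulEquiv.ofBijective (I.hom hX) (I.hom_bijective hX)

theorem equiv_val (g : ↥(D.group K)) : ((I.equiv hX g : ↥(D.group K)) : GL D.Idx K) = I.map hX g.val := rfl

end IsoData'

end Cfsg.Agent.Lead.Tw
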