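import Mathlib
import Cfsg.Prelude.Def_ChevStructure

/-!
A verified sparse symbolic calculator for the matrices `D.x F r t` of a `ChevalleyDatum` over a field of
characteristic `pp`, with polynomial scalars in six variables.

Scalars are polynomials `Σ coef * x₁^e1 ⋯ x₆^e6`, vectors are sparse lists of `(coordinate code, scalar)`.
`applyX` computes `x_r(param) * vector` from the tables, and `evalV_applyX` shows it is sound; `vecEq pp` is a
Boolean equality test modulo `pp` with soundness `evalV_eq_of_vecEq`.
-/

set_option autoImplicit false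
set_option linter.unusedSectionVars false
set_option linter.unusedSimpArgs false
set_option linter.unusedVariables false

namespace Cfsg.Agent.Lead.MCalc

open Cfsg Cfsg.Lie

/-! ## Polynomial scalars -/

/-- a monomial `coef * x₁^e1 ⋯ x₆^e6` -/
structure Term where
  coef : ℤ
  e1 : ℕ
  e2 : ℕ
  e3 : ℕ
  e4 : ℕ
  e5 : ℕ
  e6 : ℕ
deriving DecidableEq

/-- a (non-normalised) polynomial -/
abbrev LPoly := List Term

/-- a valuation of the six variables -/
structure Val (F : Type*) [Field F] where
  x1 : F
  x2 : F
  x3 : F
  x4 : F
  x5 : F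
  x6 : F

variable {F : Type*} [Field F]

def Term.eval (v : Val F) (m : Term) : F :=
  (m.coef : F) * v.x1 ^ m.e1 * v.x2 ^ m.e2 * v.x3 ^ m.e3 * v.x4 ^ m.e4 * v.x5 ^ m.e5 * v.x6 ^ m.e6

def evalP (v : Val F) (p : LPoly) : F := (p.map (Term.eval v)).sum

@[simp] theorem evalP_nil (v : Val F) : evalP v [] = 0 := rfl

@[simp] theorem evalP_cons (v : Val F) (a : Term) (p : LPoly) :
    evalP v (a :: p) = a.eval v + evalP v p := by
  simp [evalP]

@[simp] theorem evalP_append (v : Val F) (p q : LPoly) :
    evalP v (p ++ q) = evalP v p + evalP v q := by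
  simp [evalP]

def Term.mul (a b : Term) : Term :=
  ⟨a.coef * b.coef, a.e1 + b.e1, a.e2 + b.e2, a.e3 + b.e3, a.e4 + b.e4, a.e5 + b.e5, a.e6 + b.e6⟩

theorem Term.eval_mul (v : Val F) (a b : Term) : (a.mul b).eval v = a.eval v * b.eval v := by
  simp only [Term.eval, Term.mul]
  rw [pow_add, pow_add, pow_add, pow_add, pow_add, pow_add]
  push_cast
  ring

/-- product of polynomials -/
def pmul (p q : LPoly) : LPoly := p.flatMap fun a => q.map fun b => a.mul b

theorem evalP_map_mul (v : Val F) (a : Term) (q : LPoly) :
    evalP v (q.map fun b => a.mul b) = a.eval v * evalP v q := by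
  induction q with
  | nil => simp
  | cons b q ih => simp only [List.map_cons, evalP_cons, ih, Term.eval_mul]; ring

@[simp] theorem evalP_pmul (v : Val F) (p q : LPoly) :
    evalP v (pmul p q) = evalP v p * evalP v q := by
  induction p with
  | nil => simp [pmul]
  | cons a p ih =>
    have : pmul (a :: p) q = (q.map fun b => a.mul b) ++ pmul p q := by
      simp [pmul]
    rw [this, evalP_append, ih, evalP_map_mul, evalP_cons]
    ring

/-- multiplication by an integer -/
def psmul (n : ℤ) (p : LPoly) : LPoly := p.map fun a => ⟨n * a.coef, a.e1, a.e2, a.e3, a.e4, a.e5, a.e6⟩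

@[simp] theorem evalP_psmul (v : Val F) (n : ℤ) (p : LPoly) :
    evalP v (psmul n p) = (n : F) * evalP v p := by
  induction p with
  | nil => simp [psmul]
  | cons a p ih =>
    have : psmul n (a :: p) = ⟨n * a.coef, a.e1, a.e2, a.e3, a.e4, a.e5, a.e6⟩ :: psmul n p := by simp [psmul]
    rw [this, evalP_cons, ih, evalP_cons]
    simp only [Term.eval]
    push_cast
    ring

/-- the constant polynomial -/
def pconst (n : ℤ) : LPoly := [⟨n, 0, 0, 0, 0, 0, 0⟩]

@[simp] theorem evalP_pconst (v : Val F) (n : ℤ) : evalP v (pconst n) = (n : F) := by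
  simp [pconst, Term.eval]

/-- powers -/
def ppow (p : LPoly) : ℕ → LPoly
  | 0 => pconst 1
  | k + 1 => pmul p (ppow p k)

@[simp] theorem evalP_ppow (v : Val F) (p : LPoly) (k : ℕ) : evalP v (ppow p k) = evalP v p ^ k := by
  induction k with
  | zero => simp [ppow]
  | succ k ih => simp [ppow, ih, pow_succ, mul_comm]

/-- the variables -/
def pX1 : LPoly := [⟨1, 1, 0, 0, 0, 0, 0⟩]
def pX2 : LPoly := [⟨1, 0, 1, 0, 0, 0, 0⟩]
def pX3 : LPoly := [⟨1, 0, 0, 1, 0, 0, 0⟩]
def pX4 : LPoly := [⟨1, 0, 0, 0, 1, 0, 0⟩]
def pX5 : LPoly := [⟨1, 0, 0, 0, 0, 1, 0⟩]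
def pX6 : LPoly := [⟨1, 0, 0, 0, 0, 0, 1⟩]

@[simp] theorem evalP_pX1 (v : Val F) : evalP v pX1 = v.x1 := by simp [pX1, Term.eval]
@[simp] theorem evalP_pX2 (v : Val F) : evalP v pX2 = v.x2 := by simp [pX2, Term.eval]
@[simp] theorem evalP_pX3 (v : Val F) : evalP v pX3 = v.x3 := by simp [pX3, Term.eval]
@[simp] theorem evalP_pX4 (v : Val F) : evalP v pX4 = v.x4 := by simp [pX4, Term.eval]
@[simp] theorem evalP_pX5 (v : Val F) : evalP v pX5 = v.x5 := by simp [pX5, Term.eval]
@[simp] theorem evalP_pX6 (v : Val F) : evalP v pX6 = v.x6 := by simp [pX6, Term.eval]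

/-! ### normalisation and the zero test -/

def Term.sameExp (a b : Term) : Prop :=
  a.e1 = b.e1 ∧ a.e2 = b.e2 ∧ a.e3 = b.e3 ∧ a.e4 = b.e4 ∧ a.e5 = b.e5 ∧ a.e6 = b.e6

instance (a b : Term) : Decidable (a.sameExp b) := by unfold Term.sameExp; exact inferInstance

def insertT (a : Term) : LPoly → LPoly
  | [] => [a]
  | b :: l =>
    if a.sameExp b then ⟨a.coef + b.coef, b.e1, b.e2, b.e3, b.e4, b.e5, b.e6⟩ :: l
    else b :: insertT a l

theorem evalP_insertT (v : Val F) (a : Term) (l : LPoly) :
    evalP v (insertT a l) = a.eval v + evalP v l := by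
  induction l with
  | nil => simp [insertT]
  | cons b l ih =>
    unfold insertT
    split_ifs with h
    · obtain ⟨h1, h2, h3, h4, h5, h6⟩ := h
      simp only [evalP_cons, Term.eval, h1, h2, h3, h4, h5, h6]
      push_cast
      ring
    · simp only [evalP_cons, ih]
      ring

def pnorm (p : LPoly) : LPoly := p.foldr insertT []

theorem evalP_pnorm (v : Val F) (p : LPoly) : evalP v (pnorm p) = evalP v p := by
  induction p with
  | nil => rfl
  | cons a p ih =>
    show evalP v (insertT a (pnorm p)) = _
    rw [evalP_insertT, ih, evalP_cons]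

variable (pp : ℕ) [CharP F pp]

/-- the zero test modulo `pp` -/
def isZero (p : LPoly) : Bool := (pnorm p).all fun a => decide (a.coef % (pp : ℤ) = 0)

theorem evalP_eq_zero_of_all (v : Val F) (p : LPoly)
    (h : (p.all fun a => decide (a.coef % (pp : ℤ) = 0)) = true) : evalP v p = 0 := by
  induction p with
  | nil => rfl
  | cons a p ih =>
    simp only [List.all_cons, Bool.and_eq_true, decide_eq_true_eq] at h
    rw [evalP_cons, ih h.2]
    have h1 : ((a.coef : ℤ) : F) = 0 :=
      (CharP.intCast_eq_zero_iff F pp a.coef).2 (Int.dvd_of_emod_eq_zero h.1)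
    simp [Term.eval, h1]

theorem evalP_eq_zero_of_isZero (v : Val F) (p : LPoly) (h : isZero pp p = true) : evalP v p = 0 := by
  rw [← evalP_pnorm]
  exact evalP_eq_zero_of_all pp v _ h

/-- Boolean equality test of two polynomials -/
def peq (p q : LPoly) : Bool := isZero pp (p ++ psmul (-1) q)

theorem evalP_eq_of_peq (v : Val F) (p q : LPoly) (h : peq pp p q = true) : evalP v p = evalP v q := by
  have := evalP_eq_zero_of_isZero pp v _ h
  rw [evalP_append, evalP_psmul] at this
  push_cast at this
  linear_combination this

/-! ## Sparse vectors -/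

/-- coordinate codes: `inl i` for `h_{p_i}`, `inr s` for `e_s` -/
abbrev Code := ℕ ⊕ ℕ

abbrev SVec := List (Code × LPoly)

def codeOf (D : ChevalleyDatum) : D.Idx → Code := Sum.map Fin.val Fin.val

theorem codeOf_injective (D : ChevalleyDatum) : Function.Injective (codeOf D) := by
  intro a b h
  rcases a with a | a <;> rcases b with b | b <;> simp [codeOf] at h <;> simp [Fin.ext_iff, h]

/-- the vector denoted by a sparse vector -/
def evalV (D : ChevalleyDatum) (v : Val F) (w : SVec) : D.Idx → F := fun idx =>
  (w.map fun e => if e.1 = codeOf D idx then evalP v e.2 else 0).sum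

@[simp] theorem evalV_nil (D : ChevalleyDatum) (v : Val F) : evalV D v [] = 0 := rfl

theorem evalV_cons (D : ChevalleyDatum) (v : Val F) (e : Code × LPoly) (w : SVec) :
    evalV D v (e :: w) = evalV D v [e] + evalV D v w := by
  funext idx
  simp [evalV]

theorem evalV_append (D : ChevalleyDatum) (v : Val F) (w₁ w₂ : SVec) :
    evalV D v (w₁ ++ w₂) = evalV D v w₁ + evalV D v w₂ := by
  funext idx
  simp [evalV]

theorem evalV_single (D : ChevalleyDatum) (v : Val F) (idx : D.Idx) (p : LPoly) :
    evalV D v [(codeOf D idx, p)] = evalP v p • (Pi.single idx 1 : D.Idx → F) := by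
  funext j
  simp only [evalV, List.map_cons, List.map_nil, List.sum_cons, List.sum_nil, add_zero, Pi.smul_apply,
    smul_eq_mul, Pi.single_apply]
  by_cases h : j = idx
  · subst h; simp
  · have : codeOf D idx ≠ codeOf D j := fun e => h ((codeOf_injective D e).symm)
    simp [this, h]

theorem evalV_single_out (D : ChevalleyDatum) (v : Val F) (c : Code) (p : LPoly)
    (h : ∀ idx : D.Idx, c ≠ codeOf D idx) : evalV D v [(c, p)] = 0 := by
  funext j
  simp [evalV, h j]

/-! ### applying a root element -/

/-- the list of `(u, k, M)`: `x_r(t) e_s` has the term `M t^k e_u` -/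
def chainTerms (D : ChevalleyDatum) (r s : ℕ) : List (ℕ × ℕ × ℤ) :=
  ((D.chain.getD r #[]).toList.filter (fun e => e.1 = s)).flatMap fun e =>
    e.2.toList.zipIdx.map fun q => (q.1.1, q.2 + 1, q.1.2)

theorem chainCoeff_eq (D : ChevalleyDatum) (r s u : ℕ) :
    D.chainCoeff r s u = ((chainTerms D r s).filter (fun x => x.1 = u)).map fun x => x.2 := by
  unfold ChevalleyDatum.chainCoeff chainTerms
  rw [List.filter_flatMap, List.map_flatMap]
  congr 1
  funext e
  rw [List.filter_map, List.map_map]
  rfl

/-- the column of `x_r(param)` at the coordinate `e.1`, scaled by `e.2` -/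
def colX (D : ChevalleyDatum) (r : ℕ) (param : LPoly) (e : Code × LPoly) : SVec :=
  match e.1 with
  | .inl i =>
    if i < D.rank then
      [(.inl i, e.2), (.inr r, psmul (-((D.cartanSR.getD i #[]).getD r 0)) (pmul e.2 param))]
    else []
  | .inr s =>
    if s < D.nroots then
      if s = r then [(.inr r, e.2)]
      else if s = D.negIdx.getD r 0 then
        (.inr s, e.2) :: (.inr r, psmul (-1) (pmul e.2 (ppow param 2))) ::
          (List.range D.rank).map fun i =>
            (.inl i, psmul ((D.coroot.getD r #[]).getD i 0) (pmul e.2 param))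
      else
        (.inr s, e.2) :: (chainTerms D r s).map fun x =>
          (.inr x.1, psmul x.2.2 (pmul e.2 (ppow param x.2.1)))
    else []

/-- `x_r(param)` applied to a sparse vector -/
def applyX (D : ChevalleyDatum) (r : ℕ) (param : LPoly) (w : SVec) : SVec :=
  if r < D.nroots then w.flatMap (colX D r param) else w


theorem mulVec_smul_single (D : ChevalleyDatum) (M : Matrix D.Idx D.Idx F) (a : F) (idx : D.Idx) :
    M.mulVec (a • (Pi.single idx 1 : D.Idx → F)) = fun row => M row idx * a := by
  funext row
  simp [Matrix.mulVec, dotProduct, Pi.single_apply]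

theorem evalV_apply_cons (D : ChevalleyDatum) (v : Val F) (e : Code × LPoly) (w : SVec) (idx : D.Idx) :
    evalV D v (e :: w) idx = (if e.1 = codeOf D idx then evalP v e.2 else 0) + evalV D v w idx := by
  simp [evalV]

theorem evalV_range_inl (D : ChevalleyDatum) (v : Val F) (n : ℕ) (p : ℕ → LPoly) (i' : Fin D.rank) :
    evalV D v ((List.range n).map fun i => ((Sum.inl i : Code), p i)) (Sum.inl i') =
      if i'.val < n then evalP v (p i'.val) else 0 := by
  induction n with
  | zero => simp [evalV]
  | succ n ih =>
    rw [List.range_succ, List.map_append, evalV_append, Pi.add_apply, ih]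
    simp only [List.map_cons, List.map_nil, evalV, codeOf, Sum.map_inl, Sum.inl.injEq, List.sum_cons,
      List.sum_nil, add_zero]
    by_cases h1 : i'.val < n
    · have h2 : n ≠ i'.val := by omega
      have h3 : i'.val < n + 1 := by omega
      simp [h1, h2, h3]
    · by_cases h2 : n = i'.val
      · have h3 : i'.val < n + 1 := by omega
        simp [h1, h2, h3]
      · have h3 : ¬ i'.val < n + 1 := by omega
        simp [h1, h2, h3]

theorem evalV_range_inr (D : ChevalleyDatum) (v : Val F) (n : ℕ) (p : ℕ → LPoly) (u : Fin D.nroots) :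
    evalV D v ((List.range n).map fun i => ((Sum.inl i : Code), p i)) (Sum.inr u) = 0 := by
  simp only [evalV, List.map_map]
  apply List.sum_eq_zero
  intro x hx
  simp only [List.mem_map, Function.comp] at hx
  obtain ⟨i, -, rfl⟩ := hx
  simp [codeOf]

theorem evalV_map_inr_inl (D : ChevalleyDatum) (v : Val F) {α : Type} (L : List α) (f : α → ℕ)
    (q : α → LPoly) (i' : Fin D.rank) :
    evalV D v (L.map fun x => ((Sum.inr (f x) : Code), q x)) (Sum.inl i') = 0 := by
  simp only [evalV, List.map_map]
  apply List.sum_eq_zero
  intro x hx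
  simp only [List.mem_map, Function.comp] at hx
  obtain ⟨i, -, rfl⟩ := hx
  simp [codeOf]

theorem evalV_map_inr_inr (D : ChevalleyDatum) (v : Val F) {α : Type} (L : List α) (f : α → ℕ)
    (q : α → LPoly) (u : Fin D.nroots) :
    evalV D v (L.map fun x => ((Sum.inr (f x) : Code), q x)) (Sum.inr u) =
      ((L.filter fun x => f x = u.val).map fun x => evalP v (q x)).sum := by
  induction L with
  | nil => simp [evalV]
  | cons a L ih =>
    rw [List.map_cons, evalV_apply_cons, ih, List.filter_cons]
    by_cases h : f a = u.val
    · simp [h, codeOf]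
    · simp [h, codeOf]


theorem evalV_colX (D : ChevalleyDatum) (v : Val F) (r : ℕ) (hr : r < D.nroots) (param : LPoly)
    (e : Code × LPoly) :
    evalV D v (colX D r param e) = (D.xMat F ⟨r, hr⟩ (evalP v param)).mulVec (evalV D v [e]) := by
  obtain ⟨c, p⟩ := e
  rcases c with i | s
  · by_cases hi : i < D.rank
    · have hcol : colX D r param (Sum.inl i, p) = [(.inl i, p), (.inr r,
          psmul (-((D.cartanSR.getD i #[]).getD r 0)) (pmul p param))] := by
        simp [colX, hi]
      have hc : (Sum.inl i : Code) = codeOf D (Sum.inl ⟨i, hi⟩) := rfl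
      rw [hcol, hc, evalV_single, mulVec_smul_single]
      funext row
      rcases row with i' | u
      · simp only [evalV_apply_cons, evalV_nil, Pi.zero_apply, add_zero, codeOf, Sum.map_inl,
          Sum.inl.injEq, ChevalleyDatum.xMat, Matrix.of_apply]
        by_cases h : i = i'.val
        · subst h
          simp
        · have h' : i' ≠ ⟨i, hi⟩ := fun e => h (by rw [e])
          simp [h, h']
      · simp only [evalV_apply_cons, evalV_nil, Pi.zero_apply, add_zero, codeOf, Sum.map_inl,
          Sum.map_inr, Sum.inr.injEq, ChevalleyDatum.xMat, Matrix.of_apply]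
        by_cases h : r = u.val
        · subst h
          simp
          ring
        · have h' : u ≠ ⟨r, hr⟩ := fun e => h (by rw [e])
          simp [h, h']
    · have hcol : colX D r param (Sum.inl i, p) = [] := by simp [colX, hi]
      rw [hcol, evalV_single_out, Matrix.mulVec_zero]
      · rfl
      · intro idx
        rcases idx with j | j
        · intro e
          simp only [codeOf, Sum.map_inl, Sum.inl.injEq] at e
          exact hi (e ▸ j.2)
        · simp [codeOf]
  · by_cases hs : s < D.nroots
    · have hc : (Sum.inr s : Code) = codeOf D (Sum.inr ⟨s, hs⟩) := rfl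
      by_cases hsr : s = r
      · subst hsr
        have hcol : colX D s param (Sum.inr s, p) = [(.inr s, p)] := by simp [colX, hs]
        rw [hcol, hc, evalV_single, mulVec_smul_single]
        funext row
        rcases row with i' | u
        · simp [evalV_apply_cons, codeOf, ChevalleyDatum.xMat]
        · simp only [evalV_apply_cons, evalV_nil, Pi.zero_apply, add_zero, codeOf,
            Sum.map_inr, Sum.inr.injEq, ChevalleyDatum.xMat, Matrix.of_apply]
          by_cases h : s = u.val
          · subst h
            simp
          · have h' : u ≠ ⟨s, hs⟩ := fun e => h (by rw [e])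
            simp [h, h']
      · have hsr' : (⟨s, hs⟩ : Fin D.nroots) ≠ ⟨r, hr⟩ := fun e => hsr (by simpa using e)
        by_cases hneg : s = D.negIdx.getD r 0
        · have hcol : colX D r param (Sum.inr s, p) =
              (.inr s, p) :: (.inr r, psmul (-1) (pmul p (ppow param 2))) ::
                (List.range D.rank).map fun i =>
                  ((Sum.inl i : Code), psmul ((D.coroot.getD r #[]).getD i 0) (pmul p param)) := by
            simp only [colX, hs, if_true, hsr, if_false]
            rw [if_pos hneg]
          rw [hcol, hc, evalV_single, mulVec_smul_single]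
          funext row
          rcases row with i' | u
          · rw [evalV_apply_cons, evalV_apply_cons, evalV_range_inl]
            simp only [codeOf, Sum.map_inl, Sum.map_inr, reduceCtorEq, if_false, zero_add, i'.2, if_true,
              ChevalleyDatum.xMat, Matrix.of_apply, hsr', ← hneg, evalP_psmul, evalP_pmul]
            ring
          · rw [evalV_apply_cons, evalV_apply_cons, evalV_range_inr]
            simp only [codeOf, Sum.map_inr, Sum.inr.injEq, add_zero,
              ChevalleyDatum.xMat, Matrix.of_apply, hsr', ← hneg, if_true, if_false, evalP_psmul,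
              evalP_pmul, evalP_ppow]
            by_cases h1 : s = u.val
            · subst h1
              have : ¬ r = u.val := fun e => hsr e.symm
              simp [this]
            · have h1' : u ≠ ⟨s, hs⟩ := fun e => h1 (by rw [e])
              by_cases h2 : r = u.val
              · subst h2
                simp [h1, h1']
                ring
              · have h2' : u ≠ ⟨r, hr⟩ := fun e => h2 (by rw [e])
                simp [h1, h1', h2, h2']
        · have hcol : colX D r param (Sum.inr s, p) =
              (.inr s, p) :: (chainTerms D r s).map fun x =>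
                ((Sum.inr x.1 : Code), psmul x.2.2 (pmul p (ppow param x.2.1))) := by
            simp only [colX, hs, if_true, hsr, if_false]
            rw [if_neg hneg]
          rw [hcol, hc, evalV_single, mulVec_smul_single]
          funext row
          rcases row with i' | u
          · rw [evalV_apply_cons, evalV_map_inr_inl]
            simp only [codeOf, Sum.map_inl, Sum.map_inr, reduceCtorEq, if_false, zero_add,
              ChevalleyDatum.xMat, Matrix.of_apply, hsr', hneg, zero_mul]
          · rw [evalV_apply_cons, evalV_map_inr_inr]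
            simp only [codeOf, Sum.map_inr, Sum.inr.injEq,
              ChevalleyDatum.xMat, Matrix.of_apply, hsr', hneg, if_false, evalP_psmul,
              evalP_pmul, evalP_ppow, chainCoeff_eq, List.map_map, add_mul]
            congr 1
            · by_cases h1 : s = u.val
              · subst h1
                simp
              · have h1' : u ≠ ⟨s, hs⟩ := fun e => h1 (by rw [e])
                simp [h1, h1']
            · rw [← List.sum_map_mul_right]
              congr 1
              apply List.map_congr_left
              intro x _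
              simp only [Function.comp]
              ring
    · have hcol : colX D r param (Sum.inr s, p) = [] := by simp [colX, hs]
      rw [hcol, evalV_single_out, Matrix.mulVec_zero]
      · rfl
      · intro idx
        rcases idx with j | j
        · simp [codeOf]
        · intro e
          simp only [codeOf, Sum.map_inr, Sum.inr.injEq] at e
          exact hs (e ▸ j.2)


theorem evalV_flatMap_colX (D : ChevalleyDatum) (v : Val F) (r : ℕ) (hr : r < D.nroots) (param : LPoly)
    (w : SVec) :
    evalV D v (w.flatMap (colX D r param)) =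
      (D.xMat F ⟨r, hr⟩ (evalP v param)).mulVec (evalV D v w) := by
  induction w with
  | nil => simp
  | cons e w ih =>
    rw [List.flatMap_cons, evalV_append, ih, evalV_colX D v r hr, evalV_cons D v e w, Matrix.mulVec_add]

theorem evalV_applyX (D : ChevalleyDatum) (v : Val F) (r : ℕ) (param : LPoly) (w : SVec) :
    evalV D v (applyX D r param w) = (D.x F r (evalP v param)).mulVec (evalV D v w) := by
  unfold applyX ChevalleyDatum.x
  by_cases hr : r < D.nroots
  · rw [if_pos hr, dif_pos hr]
    exact evalV_flatMap_colX D v r hr param w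
  · rw [if_neg hr, dif_neg hr, Matrix.one_mulVec]

/-- a word `x_{r₁}(p₁) x_{r₂}(p₂) ⋯` applied to a sparse vector -/
def applyWord (D : ChevalleyDatum) (wd : List (ℕ × LPoly)) (w : SVec) : SVec :=
  wd.foldr (fun q acc => applyX D q.1 q.2 acc) w

/-- the word of field elements denoted by a symbolic word -/
def evalWord (v : Val F) (wd : List (ℕ × LPoly)) : List (ℕ × F) := wd.map fun q => (q.1, evalP v q.2)

theorem evalV_applyWord (D : ChevalleyDatum) (v : Val F) (wd : List (ℕ × LPoly)) (w : SVec) :
    evalV D v (applyWord D wd w) = (D.wordMat F (evalWord v wd)).mulVec (evalV D v w) := by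
  induction wd with
  | nil => simp [applyWord, evalWord, ChevalleyDatum.wordMat]
  | cons q wd ih =>
    have h1 : applyWord D (q :: wd) w = applyX D q.1 q.2 (applyWord D wd w) := rfl
    have h2 : D.wordMat F (evalWord v (q :: wd)) =
        D.x F q.1 (evalP v q.2) * D.wordMat F (evalWord v wd) := by
      simp [ChevalleyDatum.wordMat, evalWord]
    rw [h1, evalV_applyX, ih, h2, Matrix.mulVec_mulVec]

/-- the basis vector with the given code -/
def basisV (c : Code) : SVec := [(c, pconst 1)]

theorem evalV_basisV (D : ChevalleyDatum) (v : Val F) (idx : D.Idx) :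
    evalV D v (basisV (codeOf D idx)) = Pi.single idx 1 := by
  rw [basisV, evalV_single, evalP_pconst]
  simp

/-! ### equality test for sparse vectors -/

/-- the coefficient of a coordinate -/
def collect (c : Code) (w : SVec) : LPoly := (w.filter fun e => e.1 = c).flatMap fun e => e.2

theorem evalV_apply_eq (D : ChevalleyDatum) (v : Val F) (w : SVec) (idx : D.Idx) :
    evalV D v w idx = evalP v (collect (codeOf D idx) w) := by
  induction w with
  | nil => simp [collect]
  | cons e w ih =>
    rw [evalV_apply_cons, ih]
    unfold collect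
    rw [List.filter_cons]
    by_cases h : e.1 = codeOf D idx
    · simp [h]
    · simp [h]

/-- the two sparse vectors agree at every coordinate which occurs in one of them -/
def vecEq (w₁ w₂ : SVec) : Bool :=
  (w₁ ++ w₂).all fun e => peq pp (collect e.1 w₁) (collect e.1 w₂)

theorem collect_eq_nil (c : Code) (w : SVec) (h : ∀ e ∈ w, e.1 ≠ c) : collect c w = [] := by
  unfold collect
  rw [List.filter_eq_nil_iff.2]
  · rfl
  · intro e he
    simpa using h e he

theorem evalV_eq_of_vecEq (D : ChevalleyDatum) (v : Val F) (w₁ w₂ : SVec) (h : vecEq pp w₁ w₂ = true) :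
    evalV D v w₁ = evalV D v w₂ := by
  funext idx
  rw [evalV_apply_eq, evalV_apply_eq]
  by_cases hex : ∃ e ∈ w₁ ++ w₂, e.1 = codeOf D idx
  · obtain ⟨e, he, hc⟩ := hex
    have := List.all_eq_true.1 h e he
    rw [hc] at this
    exact evalP_eq_of_peq pp v _ _ this
  · push Not at hex
    rw [collect_eq_nil _ w₁ (fun e he => hex e (List.mem_append_left _ he)),
      collect_eq_nil _ w₂ (fun e he => hex e (List.mem_append_right _ he))]

/-- all coordinate codes of a datum -/
def allCodes (D : ChevalleyDatum) : List Code :=
  (List.range D.rank).map Sum.inl ++ (List.range D.nroots).map Sum.inr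

theorem codeOf_mem_allCodes (D : ChevalleyDatum) (idx : D.Idx) : codeOf D idx ∈ allCodes D := by
  rcases idx with i | s
  · simp [allCodes, codeOf]
  · simp [allCodes, codeOf]

theorem mat_eq_of_cols (D : ChevalleyDatum) (A B : Matrix D.Idx D.Idx F)
    (h : ∀ idx : D.Idx, A.mulVec (Pi.single idx 1) = B.mulVec (Pi.single idx 1)) : A = B := by
  ext i j
  have := congrFun (h j) i
  simpa [Matrix.mulVec, dotProduct, Pi.single_apply] using this

/-- Boolean test: two symbolic words give the same matrix (checked column by column) -/
def wordEq (D : ChevalleyDatum) (wd₁ wd₂ : List (ℕ × LPoly)) : Bool :=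
  (allCodes D).all fun c => vecEq pp (applyWord D wd₁ (basisV c)) (applyWord D wd₂ (basisV c))

theorem wordMat_eq_of_wordEq (D : ChevalleyDatum) (v : Val F) (wd₁ wd₂ : List (ℕ × LPoly))
    (h : wordEq pp D wd₁ wd₂ = true) :
    D.wordMat F (evalWord v wd₁) = D.wordMat F (evalWord v wd₂) := by
  apply mat_eq_of_cols
  intro idx
  have h1 := List.all_eq_true.1 h _ (codeOf_mem_allCodes D idx)
  have h2 := evalV_eq_of_vecEq pp D v _ _ h1
  rw [evalV_applyWord, evalV_applyWord, evalV_basisV] at h2
  exact h2


/-! ## Normalisation of sparse vectors -/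

def insertV (e : Code × LPoly) : SVec → SVec
  | [] => [e]
  | f :: l => if e.1 = f.1 then (f.1, e.2 ++ f.2) :: l else f :: insertV e l

theorem evalV_insertV (D : ChevalleyDatum) (v : Val F) (e : Code × LPoly) (l : SVec) :
    evalV D v (insertV e l) = evalV D v [e] + evalV D v l := by
  induction l with
  | nil => simp [insertV]
  | cons f l ih =>
    unfold insertV
    split_ifs with h
    · funext idx
      rw [evalV_cons D v f l]
      simp only [evalV_apply_cons, Pi.add_apply, evalV_nil, Pi.zero_apply, add_zero, h, evalP_append]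
      by_cases h' : f.1 = codeOf D idx
      · simp [h']; ring
      · simp [h']
    · rw [evalV_cons, ih, evalV_cons D v f l]
      abel

def mergeV (w : SVec) : SVec := w.foldr insertV []

theorem evalV_mergeV (D : ChevalleyDatum) (v : Val F) (w : SVec) :
    evalV D v (mergeV w) = evalV D v w := by
  induction w with
  | nil => rfl
  | cons e w ih =>
    show evalV D v (insertV e (mergeV w)) = _
    rw [evalV_insertV, ih, evalV_cons D v e w]

/-- normal form of a polynomial, zero terms dropped -/
def redT (a : Term) : Term := ⟨a.coef % (pp : ℤ), a.e1, a.e2, a.e3, a.e4, a.e5, a.e6⟩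

theorem Term.eval_redT (v : Val F) (a : Term) : (redT pp a).eval v = a.eval v := by
  have h1 : (((a.coef % (pp : ℤ) : ℤ)) : F) = ((a.coef : ℤ) : F) := by
    have h2 : ((a.coef : ℤ) : F) = ((a.coef % (pp : ℤ) + (pp : ℤ) * (a.coef / (pp : ℤ)) : ℤ) : F) := by
      rw [Int.emod_add_mul_ediv]
    rw [h2]
    push_cast
    rw [CharP.cast_eq_zero F pp]
    ring
  simp only [Term.eval, redT, h1]

theorem evalP_map_redT (v : Val F) (p : LPoly) : evalP v (p.map (redT pp)) = evalP v p := by
  induction p with
  | nil => rfl
  | cons a p ih => rw [List.map_cons, evalP_cons, evalP_cons, ih, Term.eval_redT]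

def cleanP (p : LPoly) : LPoly := ((pnorm p).map (redT pp)).filter fun a => !(decide (a.coef = 0))

theorem evalP_filter_ne (v : Val F) (p : LPoly) :
    evalP v (p.filter fun a => !(decide (a.coef = 0))) = evalP v p := by
  induction p with
  | nil => rfl
  | cons a p ih =>
    rw [List.filter_cons]
    by_cases h : a.coef = 0
    · simp [h, ih, Term.eval]
    · simp [h, ih]

theorem evalP_cleanP (v : Val F) (p : LPoly) : evalP v (cleanP pp p) = evalP v p := by
  rw [cleanP, evalP_filter_ne, evalP_map_redT, evalP_pnorm]

def normV (w : SVec) : SVec :=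
  ((mergeV w).map fun e => (e.1, cleanP pp e.2)).filter fun e => !(e.2.isEmpty)

theorem evalV_map_cleanP (D : ChevalleyDatum) (v : Val F) (w : SVec) :
    evalV D v (w.map fun e => (e.1, cleanP pp e.2)) = evalV D v w := by
  induction w with
  | nil => rfl
  | cons e w ih =>
    rw [List.map_cons, evalV_cons, ih, evalV_cons D v e w]
    congr 1
    funext idx
    simp [evalV, evalP_cleanP]

theorem evalV_filter_nonempty (D : ChevalleyDatum) (v : Val F) (w : SVec) :
    evalV D v (w.filter fun e => !(e.2.isEmpty)) = evalV D v w := by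
  induction w with
  | nil => rfl
  | cons e w ih =>
    rw [List.filter_cons]
    by_cases h : e.2.isEmpty = true
    · have h2 : e.2 = [] := List.isEmpty_iff.1 h
      rw [evalV_cons D v e w]
      have : evalV D v [e] = 0 := by
        funext idx
        simp [evalV, h2]
      simp [h, ih, this]
    · simp only [h, Bool.not_false, if_true]
      rw [evalV_cons, ih, evalV_cons D v e w]

theorem evalV_normV (D : ChevalleyDatum) (v : Val F) (w : SVec) :
    evalV D v (normV pp w) = evalV D v w := by
  rw [normV, evalV_filter_nonempty, evalV_map_cleanP, evalV_mergeV]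

/-! ## Forcing evaluation (continuation passing style)

The functions below are semantically the identity, `fX a k = k a`; their purpose is to make the kernel
evaluate a piece of data completely before it is used again. -/

section Force
variable {β : Sort*}

def fNat (n : ℕ) (k : ℕ → β) : β :=
  match n with
  | Nat.zero => k Nat.zero
  | Nat.succ m => k (Nat.succ m)

theorem fNat_eq (n : ℕ) (k : ℕ → β) : fNat n k = k n := by
  cases n <;> rfl

def fInt (z : ℤ) (k : ℤ → β) : β :=
  match z with
  | Int.ofNat n => fNat n fun n' => k (Int.ofNat n')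
  | Int.negSucc n => fNat n fun n' => k (Int.negSucc n')

theorem fInt_eq (z : ℤ) (k : ℤ → β) : fInt z k = k z := by
  cases z <;> simp [fInt, fNat_eq]

def fTerm (a : Term) (k : Term → β) : β :=
  fInt a.coef fun c => fNat a.e1 fun e1 => fNat a.e2 fun e2 => fNat a.e3 fun e3 => fNat a.e4 fun e4 =>
    fNat a.e5 fun e5 => fNat a.e6 fun e6 => k ⟨c, e1, e2, e3, e4, e5, e6⟩

theorem fTerm_eq (a : Term) (k : Term → β) : fTerm a k = k a := by
  simp [fTerm, fInt_eq, fNat_eq]

def fList {α : Type} (fe : α → (α → β) → β) : List α → (List α → β) → β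
  | [], k => k []
  | a :: t, k => fe a fun a' => fList fe t fun t' => k (a' :: t')

theorem fList_eq {α : Type} (fe : α → (α → β) → β) (hfe : ∀ a k, fe a k = k a) (l : List α)
    (k : List α → β) : fList fe l k = k l := by
  induction l generalizing k with
  | nil => rfl
  | cons a t ih => simp [fList, hfe, ih]

def fCode (c : Code) (k : Code → β) : β :=
  match c with
  | .inl i => fNat i fun i' => k (.inl i')
  | .inr s => fNat s fun s' => k (.inr s')

theorem fCode_eq (c : Code) (k : Code → β) : fCode c k = k c := by
  cases c <;> simp [fCode, fNat_eq]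

def fPoly (p : LPoly) (k : LPoly → β) : β := fList fTerm p k

theorem fPoly_eq (p : LPoly) (k : LPoly → β) : fPoly p k = k p :=
  fList_eq fTerm fTerm_eq p k

def fEntry (e : Code × LPoly) (k : Code × LPoly → β) : β :=
  fCode e.1 fun c => fPoly e.2 fun p => k (c, p)

theorem fEntry_eq (e : Code × LPoly) (k : Code × LPoly → β) : fEntry e k = k e := by
  simp [fEntry, fCode_eq, fPoly_eq]

def fSVec (w : SVec) (k : SVec → β) : β := fList fEntry w k

theorem fSVec_eq (w : SVec) (k : SVec → β) : fSVec w k = k w :=
  fList_eq fEntry fEntry_eq w k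

end Force

/-- one step: apply `x_r(param)`, normalise, force -/
def stepS (D : ChevalleyDatum) (q : ℕ × LPoly) (w : SVec) (k : SVec → Bool) : Bool :=
  fSVec (normV pp (applyX D q.1 q.2 w)) k

/-- run a word (rightmost letter first), strictly -/
def runWord (D : ChevalleyDatum) : List (ℕ × LPoly) → SVec → (SVec → Bool) → Bool
  | [], w, k => k w
  | q :: wd, w, k => runWord D wd w fun w' => stepS pp D q w' k

/-- the vector computed by `runWord` -/
def runWordV (D : ChevalleyDatum) : List (ℕ × LPoly) → SVec → SVec
  | [], w => w
  | q :: wd, w => normV pp (applyX D q.1 q.2 (runWordV D wd w))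

theorem runWord_eq (D : ChevalleyDatum) (wd : List (ℕ × LPoly)) (w : SVec) (k : SVec → Bool) :
    runWord pp D wd w k = k (runWordV pp D wd w) := by
  induction wd generalizing k with
  | nil => rfl
  | cons q wd ih =>
    simp only [runWord, runWordV, ih, stepS, fSVec_eq]

theorem evalV_runWordV (D : ChevalleyDatum) (v : Val F) (wd : List (ℕ × LPoly)) (w : SVec) :
    evalV D v (runWordV pp D wd w) = (D.wordMat F (evalWord v wd)).mulVec (evalV D v w) := by
  induction wd with
  | nil => simp [runWordV, evalWord, ChevalleyDatum.wordMat]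
  | cons q wd ih =>
    have h2 : D.wordMat F (evalWord v (q :: wd)) =
        D.x F q.1 (evalP v q.2) * D.wordMat F (evalWord v wd) := by
      simp [ChevalleyDatum.wordMat, evalWord]
    rw [runWordV, evalV_normV, evalV_applyX, ih, h2, Matrix.mulVec_mulVec]

/-- strict Boolean test: the column `c` of the matrix of the word equals the sparse vector `ex` -/
def colEq (D : ChevalleyDatum) (wd : List (ℕ × LPoly)) (c : Code) (ex : SVec) : Bool :=
  runWord pp D wd (basisV c) fun w => vecEq pp w ex

theorem mulVec_of_colEq (D : ChevalleyDatum) (v : Val F) (wd : List (ℕ × LPoly)) (idx : D.Idx)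
    (ex : SVec) (h : colEq pp D wd (codeOf D idx) ex = true) :
    (D.wordMat F (evalWord v wd)).mulVec (Pi.single idx 1) = evalV D v ex := by
  rw [colEq, runWord_eq] at h
  have := evalV_eq_of_vecEq pp D v _ _ h
  rw [evalV_runWordV, evalV_basisV] at this
  exact this

/-- strict Boolean test: two words have the same column `c` -/
def colEq₂ (D : ChevalleyDatum) (wd₁ wd₂ : List (ℕ × LPoly)) (c : Code) : Bool :=
  runWord pp D wd₁ (basisV c) fun w₁ => runWord pp D wd₂ (basisV c) fun w₂ => vecEq pp w₁ w₂

theorem mulVec_of_colEq₂ (D : ChevalleyDatum) (v : Val F) (wd₁ wd₂ : List (ℕ × LPoly)) (idx : D.Idx)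
    (h : colEq₂ pp D wd₁ wd₂ (codeOf D idx) = true) :
    (D.wordMat F (evalWord v wd₁)).mulVec (Pi.single idx 1) =
      (D.wordMat F (evalWord v wd₂)).mulVec (Pi.single idx 1) := by
  rw [colEq₂, runWord_eq, runWord_eq] at h
  have := evalV_eq_of_vecEq pp D v _ _ h
  rw [evalV_runWordV, evalV_runWordV, evalV_basisV] at this
  exact this


/-! ## Splitting a Boolean test into blocks -/

theorem forall_of_range'_all (P : ℕ → Bool) (lo len : ℕ) (h : (List.range' lo len).all P = true) :
    ∀ s, lo ≤ s → s < lo + len → P s = true := by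
  intro s h1 h2
  apply List.all_eq_true.1 h
  rw [List.mem_range'_1]
  exact ⟨h1, h2⟩

theorem forall_lt_of_blocks (P : ℕ → Bool) (n b K : ℕ) (hb : 0 < b) (hK : n ≤ b * K)
    (h : ∀ k < K, (List.range' (b * k) b).all P = true) : ∀ s < n, P s = true := by
  intro s hs
  have hk : s / b < K := by
    apply Nat.div_lt_of_lt_mul
    omega
  apply forall_of_range'_all P (b * (s / b)) b (h _ hk) s
  · exact Nat.mul_div_le s b
  · have := Nat.lt_mul_div_succ s hb
    rw [Nat.mul_succ] at this
    exact this

theorem forall_forall_lt_of_blocks (P : ℕ → ℕ → Bool) (A n b K : ℕ) (hb : 0 < b) (hK : n ≤ b * K)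
    (h : ∀ a < A, ∀ k < K, (List.range' (b * k) b).all (P a) = true) :
    ∀ a < A, ∀ s < n, P a s = true :=
  fun a ha => forall_lt_of_blocks (P a) n b K hb hK (h a ha)

end Cfsg.Agent.Lead.MCalc
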