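import Mathlib
import Cfsg.Agent.Lib.Lead.MCalc

/-!
# Sparse 0/1 matrices intertwining root elements (for the exceptional isogenies)

`pMat D F L` is the matrix with a one at each position `(row, col) ∈ L`; `isoChk` is a Boolean test for
`pMat * x_r(t) = x_{r'}(t^lam) * pMat` in characteristic `pp`.
-/

set_option autoImplicit false
set_option linter.unusedSectionVars false
set_option linter.unusedSimpArgs false
set_option linter.unusedVariables false

namespace Cfsg.Agent.Lead.MCalc

open Cfsg Cfsg.Lie

variable {F : Type*} [Field F]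

/-- the matrix with ones at the positions of `L` -/
def pMat (D : ChevalleyDatum) (F : Type*) [Field F] (L : List (Code × Code)) : Matrix D.Idx D.Idx F :=
  Matrix.of fun i j => (((L.filter fun q => decide (q.1 = codeOf D i) && decide (q.2 = codeOf D j)).length : ℕ) : F)

def validCode (D : ChevalleyDatum) : Code → Bool
  | .inl i => decide (i < D.rank)
  | .inr s => decide (s < D.nroots)

theorem exists_of_validCode (D : ChevalleyDatum) (c : Code) (h : validCode D c = true) :
    ∃ j : D.Idx, c = codeOf D j := by
  rcases c with i | s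
  · simp only [validCode, decide_eq_true_eq] at h
    exact ⟨Sum.inl ⟨i, h⟩, rfl⟩
  · simp only [validCode, decide_eq_true_eq] at h
    exact ⟨Sum.inr ⟨s, h⟩, rfl⟩

theorem validCode_codeOf (D : ChevalleyDatum) (j : D.Idx) : validCode D (codeOf D j) = true := by
  rcases j with i | s
  · simp [validCode, codeOf]
  · simp [validCode, codeOf]

/-- the image of one entry -/
def entryP (D : ChevalleyDatum) (L : List (Code × Code)) (e : Code × LPoly) : SVec :=
  if validCode D e.1 then (L.filter fun q => q.2 = e.1).map fun q => (q.1, e.2) else []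

/-- `pMat` applied to a sparse vector -/
def applyP (D : ChevalleyDatum) (L : List (Code × Code)) (w : SVec) : SVec := w.flatMap (entryP D L)

theorem evalV_entry_list (D : ChevalleyDatum) (v : Val F) (L : List (Code × Code)) (c : Code) (p : LPoly)
    (idx : D.Idx) :
    evalV D v ((L.filter fun q => q.2 = c).map fun q => (q.1, p)) idx =
      (((L.filter fun q => decide (q.1 = codeOf D idx) && decide (q.2 = c)).length : ℕ) : F) * evalP v p := by
  induction L with
  | nil => simp [evalV]
  | cons q L ih =>
    rw [List.filter_cons, List.filter_cons]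
    by_cases h : q.2 = c
    · simp only [h, decide_true, if_true, List.map_cons, Bool.and_true]
      rw [evalV_apply_cons, ih]
      by_cases h' : q.1 = codeOf D idx
      · simp only [h', decide_true, if_true, List.length_cons]
        push_cast
        ring
      · simp only [h', decide_false, Bool.false_eq_true, if_false, zero_add]
    · simp only [h, decide_false, Bool.false_eq_true, if_false, ih, Bool.and_false]

theorem evalV_entryP (D : ChevalleyDatum) (v : Val F) (L : List (Code × Code)) (e : Code × LPoly) :
    evalV D v (entryP D L e) = (pMat D F L).mulVec (evalV D v [e]) := by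
  obtain ⟨c, p⟩ := e
  unfold entryP
  by_cases hc : validCode D c = true
  · obtain ⟨j, rfl⟩ := exists_of_validCode D c hc
    simp only [hc, if_true]
    rw [evalV_single, mulVec_smul_single]
    funext idx
    rw [evalV_entry_list]
    simp [pMat]
  · simp only [hc, Bool.false_eq_true, if_false, evalV_nil]
    have : evalV D v [(c, p)] = 0 := by
      funext idx
      have hne : c ≠ codeOf D idx := by
        intro h
        rw [h, validCode_codeOf] at hc
        exact hc rfl
      simp [evalV, hne]
    rw [this, Matrix.mulVec_zero]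

theorem evalV_applyP (D : ChevalleyDatum) (v : Val F) (L : List (Code × Code)) (w : SVec) :
    evalV D v (applyP D L w) = (pMat D F L).mulVec (evalV D v w) := by
  induction w with
  | nil => simp [applyP]
  | cons e w ih =>
    have h1 : applyP D L (e :: w) = entryP D L e ++ applyP D L w := by simp [applyP]
    rw [h1, evalV_append, ih, evalV_entryP, evalV_cons D v e w, Matrix.mulVec_add]

variable (pp : ℕ) [CharP F pp]

/-- Boolean test: the columns `c` of `pMat * x_r(X₁)` and of `x_{r'}(X₁^lam) * pMat` agree -/
def isoChk (D : ChevalleyDatum) (L : List (Code × Code)) (r r' lam : ℕ) (c : Code) : Bool :=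
  fSVec (normV pp (applyP D L (applyX D r pX1 (basisV c)))) fun w₁ =>
    fSVec (normV pp (applyX D r' (ppow pX1 lam) (applyP D L (basisV c)))) fun w₂ => vecEq pp w₁ w₂

/-- the test for all columns -/
def isoChkAll (D : ChevalleyDatum) (L : List (Code × Code)) (r r' lam : ℕ) : Bool :=
  (allCodes D).all fun c => isoChk pp D L r r' lam c

theorem pMat_mul_x (D : ChevalleyDatum) (L : List (Code × Code)) (r r' lam : ℕ)
    (h : isoChkAll pp D L r r' lam = true) (t : F) :
    pMat D F L * D.x F r t = D.x F r' (t ^ lam) * pMat D F L := by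
  apply mat_eq_of_cols
  intro idx
  have h1 := List.all_eq_true.1 h _ (codeOf_mem_allCodes D idx)
  rw [isoChk, fSVec_eq, fSVec_eq] at h1
  have h2 := evalV_eq_of_vecEq pp D (⟨t, 0, 0, 0, 0, 0⟩ : Val F) _ _ h1
  rw [evalV_normV, evalV_normV, evalV_applyP, evalV_applyX, evalV_applyX, evalV_applyP, evalV_basisV,
    evalP_ppow, evalP_pX1, Matrix.mulVec_mulVec, Matrix.mulVec_mulVec] at h2
  exact h2

/-- a witness for `pMat * x_r(1) ≠ pMat`: the entries at `(c', c)` differ by the constant `k` -/
theorem pMat_mul_x_ne (D : ChevalleyDatum) (L : List (Code × Code)) (r : ℕ) (idx idx' : D.Idx) (k : ℤ)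
    (hchk : cleanP pp (collect (codeOf D idx') (applyP D L (applyX D r (pconst 1) (basisV (codeOf D idx)))) ++
      psmul (-1) (collect (codeOf D idx') (applyP D L (basisV (codeOf D idx))))) = [⟨k, 0, 0, 0, 0, 0, 0⟩])
    (hk : ¬ (pp : ℤ) ∣ k) : pMat D F L * D.x F r 1 ≠ pMat D F L := by
  intro h
  let v : Val F := ⟨0, 0, 0, 0, 0, 0⟩
  have h1 : evalV D v (applyP D L (applyX D r (pconst 1) (basisV (codeOf D idx)))) =
      evalV D v (applyP D L (basisV (codeOf D idx))) := by
    rw [evalV_applyP, evalV_applyX, evalV_applyP, evalV_basisV, evalP_pconst, Matrix.mulVec_mulVec]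
    push_cast
    rw [h]
  have h2 := congrFun h1 idx'
  rw [evalV_apply_eq, evalV_apply_eq] at h2
  have h3 : evalP v (cleanP pp (collect (codeOf D idx') (applyP D L (applyX D r (pconst 1) (basisV (codeOf D idx)))) ++
      psmul (-1) (collect (codeOf D idx') (applyP D L (basisV (codeOf D idx)))))) = 0 := by
    rw [evalP_cleanP, evalP_append, evalP_psmul, h2]
    push_cast
    ring
  rw [hchk] at h3
  simp only [evalP_cons, evalP_nil, Term.eval, pow_zero, mul_one, add_zero] at h3
  exact hk ((CharP.intCast_eq_zero_iff F pp k).1 h3)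

/-- Boolean test: two symbolic words give the same matrix modulo `pp` (column by column, normalising) -/
def wordEqN (D : ChevalleyDatum) (wd₁ wd₂ : List (ℕ × LPoly)) : Bool :=
  (allCodes D).all fun c => colEq₂ pp D wd₁ wd₂ c

theorem wordMat_eq_of_wordEqN (D : ChevalleyDatum) (v : Val F)
    (wd₁ wd₂ : List (ℕ × LPoly)) (h : wordEqN pp D wd₁ wd₂ = true) :
    D.wordMat F (evalWord v wd₁) = D.wordMat F (evalWord v wd₂) := by
  apply mat_eq_of_cols
  intro idx
  exact mulVec_of_colEq₂ pp D v wd₁ wd₂ idx (List.all_eq_true.1 h _ (codeOf_mem_allCodes D idx))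

end Cfsg.Agent.Lead.MCalc
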