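import Mathlib
import Cfsg.Agent.Lib.Lead.IsoCalc
import Cfsg.Prelude.Def_LieTypes
import Cfsg.Prelude.Def_ChevB2
import Cfsg.Prelude.Def_LieTwisted

/-!
The intertwining matrix of the exceptional isogeny of type B2 in characteristic 2 (generated data, verified
by the calculator).
-/

set_option autoImplicit false

namespace Cfsg.Agent.Lead.MCalc

open Cfsg Cfsg.Lie

def isoL_B2 : List (Code × Code) := [(.inl 0, .inl 1), (.inr 1, .inr 0), (.inr 2, .inr 3), (.inr 5, .inr 4), (.inr 6, .inr 7)]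

def isoRho_B2 : List ℕ := [1, 0, 3, 2, 5, 4, 7, 6]

def isoLam_B2 : List ℕ := [1, 2, 2, 1, 1, 2, 2, 1]

theorem isoOK_B2_0 : isoChkAll 2 chevB2 isoL_B2 0 1 1 = true := by decide +kernel
theorem isoOK_B2_1 : isoChkAll 2 chevB2 isoL_B2 1 0 2 = true := by decide +kernel
theorem isoOK_B2_2 : isoChkAll 2 chevB2 isoL_B2 2 3 2 = true := by decide +kernel
theorem isoOK_B2_3 : isoChkAll 2 chevB2 isoL_B2 3 2 1 = true := by decide +kernel
theorem isoOK_B2_4 : isoChkAll 2 chevB2 isoL_B2 4 5 1 = true := by decide +kernel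
theorem isoOK_B2_5 : isoChkAll 2 chevB2 isoL_B2 5 4 2 = true := by decide +kernel
theorem isoOK_B2_6 : isoChkAll 2 chevB2 isoL_B2 6 7 2 = true := by decide +kernel
theorem isoOK_B2_7 : isoChkAll 2 chevB2 isoL_B2 7 6 1 = true := by decide +kernel

theorem isoOK_B2 : ∀ r < 8, isoChkAll 2 chevB2 isoL_B2 r (isoRho_B2.getD r 0) (isoLam_B2.getD r 0) = true := by
  intro r hr
  interval_cases r
  · exact isoOK_B2_0
  · exact isoOK_B2_1
  · exact isoOK_B2_2
  · exact isoOK_B2_3
  · exact isoOK_B2_4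
  · exact isoOK_B2_5
  · exact isoOK_B2_6
  · exact isoOK_B2_7

end Cfsg.Agent.Lead.MCalc
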