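import Mathlib
import Cfsg.Agent.Lib.Lead.IsoCalc
import Cfsg.Prelude.Def_LieTypes
import Cfsg.Prelude.Def_ChevB2
import Cfsg.Prelude.Def_LieTwisted

/-!
The intertwining matrix of the exceptional isogeny of type F4 in characteristic 2 (generated data, verified
by the calculator).
-/

set_option autoImplicit false

namespace Cfsg.Agent.Lead.MCalc

open Cfsg Cfsg.Lie

def isoL_F4 : List (Code × Code) := [(.inl 0, .inl 3), (.inl 1, .inl 2), (.inr 3, .inr 0), (.inr 7, .inr 1), (.inr 8, .inr 2), (.inr 9, .inr 4), (.inr 10, .inr 15), (.inr 11, .inr 5), (.inr 12, .inr 16), (.inr 13, .inr 21), (.inr 14, .inr 23), (.inr 18, .inr 6), (.inr 19, .inr 17), (.inr 20, .inr 22), (.inr 27, .inr 25), (.inr 28, .inr 30), (.inr 29, .inr 41), (.inr 33, .inr 24), (.inr 34, .inr 26), (.inr 35, .inr 31), (.inr 36, .inr 42), (.inr 37, .inr 32), (.inr 38, .inr 43), (.inr 39, .inr 45), (.inr 40, .inr 46), (.inr 44, .inr 47)]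

def isoRho_F4 : List ℕ := [3, 7, 8, 0, 9, 11, 18, 1, 2, 4, 15, 5, 16, 21, 23, 10, 12, 19, 6, 17, 22, 13, 20, 14, 33, 27, 34, 25, 30, 41, 28, 35, 37, 24, 26, 31, 42, 32, 43, 45, 46, 29, 36, 38, 47, 39, 40, 44]

def isoLam_F4 : List ℕ := [1, 1, 1, 2, 1, 1, 1, 2, 2, 2, 2, 2, 2, 2, 2, 1, 1, 1, 2, 2, 2, 1, 1, 1, 1, 1, 1, 2, 2, 2, 1, 1, 1, 2, 2, 2, 2, 2, 2, 2, 2, 1, 1, 1, 2, 1, 1, 1]

theorem isoOK_F4_0 : isoChkAll 2 chevF4 isoL_F4 0 3 1 = true := by decide +kernel
theorem isoOK_F4_1 : isoChkAll 2 chevF4 isoL_F4 1 7 1 = true := by decide +kernel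
theorem isoOK_F4_2 : isoChkAll 2 chevF4 isoL_F4 2 8 1 = true := by decide +kernel
theorem isoOK_F4_3 : isoChkAll 2 chevF4 isoL_F4 3 0 2 = true := by decide +kernel
theorem isoOK_F4_4 : isoChkAll 2 chevF4 isoL_F4 4 9 1 = true := by decide +kernel
theorem isoOK_F4_5 : isoChkAll 2 chevF4 isoL_F4 5 11 1 = true := by decide +kernel
theorem isoOK_F4_6 : isoChkAll 2 chevF4 isoL_F4 6 18 1 = true := by decide +kernel
theorem isoOK_F4_7 : isoChkAll 2 chevF4 isoL_F4 7 1 2 = true := by decide +kernel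
theorem isoOK_F4_8 : isoChkAll 2 chevF4 isoL_F4 8 2 2 = true := by decide +kernel
theorem isoOK_F4_9 : isoChkAll 2 chevF4 isoL_F4 9 4 2 = true := by decide +kernel
theorem isoOK_F4_10 : isoChkAll 2 chevF4 isoL_F4 10 15 2 = true := by decide +kernel
theorem isoOK_F4_11 : isoChkAll 2 chevF4 isoL_F4 11 5 2 = true := by decide +kernel
theorem isoOK_F4_12 : isoChkAll 2 chevF4 isoL_F4 12 16 2 = true := by decide +kernel
theorem isoOK_F4_13 : isoChkAll 2 chevF4 isoL_F4 13 21 2 = true := by decide +kernel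
theorem isoOK_F4_14 : isoChkAll 2 chevF4 isoL_F4 14 23 2 = true := by decide +kernel
theorem isoOK_F4_15 : isoChkAll 2 chevF4 isoL_F4 15 10 1 = true := by decide +kernel
theorem isoOK_F4_16 : isoChkAll 2 chevF4 isoL_F4 16 12 1 = true := by decide +kernel
theorem isoOK_F4_17 : isoChkAll 2 chevF4 isoL_F4 17 19 1 = true := by decide +kernel
theorem isoOK_F4_18 : isoChkAll 2 chevF4 isoL_F4 18 6 2 = true := by decide +kernel
theorem isoOK_F4_19 : isoChkAll 2 chevF4 isoL_F4 19 17 2 = true := by decide +kernel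
theorem isoOK_F4_20 : isoChkAll 2 chevF4 isoL_F4 20 22 2 = true := by decide +kernel
theorem isoOK_F4_21 : isoChkAll 2 chevF4 isoL_F4 21 13 1 = true := by decide +kernel
theorem isoOK_F4_22 : isoChkAll 2 chevF4 isoL_F4 22 20 1 = true := by decide +kernel
theorem isoOK_F4_23 : isoChkAll 2 chevF4 isoL_F4 23 14 1 = true := by decide +kernel
theorem isoOK_F4_24 : isoChkAll 2 chevF4 isoL_F4 24 33 1 = true := by decide +kernel
theorem isoOK_F4_25 : isoChkAll 2 chevF4 isoL_F4 25 27 1 = true := by decide +kernel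
theorem isoOK_F4_26 : isoChkAll 2 chevF4 isoL_F4 26 34 1 = true := by decide +kernel
theorem isoOK_F4_27 : isoChkAll 2 chevF4 isoL_F4 27 25 2 = true := by decide +kernel
theorem isoOK_F4_28 : isoChkAll 2 chevF4 isoL_F4 28 30 2 = true := by decide +kernel
theorem isoOK_F4_29 : isoChkAll 2 chevF4 isoL_F4 29 41 2 = true := by decide +kernel
theorem isoOK_F4_30 : isoChkAll 2 chevF4 isoL_F4 30 28 1 = true := by decide +kernel
theorem isoOK_F4_31 : isoChkAll 2 chevF4 isoL_F4 31 35 1 = true := by decide +kernel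
theorem isoOK_F4_32 : isoChkAll 2 chevF4 isoL_F4 32 37 1 = true := by decide +kernel
theorem isoOK_F4_33 : isoChkAll 2 chevF4 isoL_F4 33 24 2 = true := by decide +kernel
theorem isoOK_F4_34 : isoChkAll 2 chevF4 isoL_F4 34 26 2 = true := by decide +kernel
theorem isoOK_F4_35 : isoChkAll 2 chevF4 isoL_F4 35 31 2 = true := by decide +kernel
theorem isoOK_F4_36 : isoChkAll 2 chevF4 isoL_F4 36 42 2 = true := by decide +kernel
theorem isoOK_F4_37 : isoChkAll 2 chevF4 isoL_F4 37 32 2 = true := by decide +kernel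
theorem isoOK_F4_38 : isoChkAll 2 chevF4 isoL_F4 38 43 2 = true := by decide +kernel
theorem isoOK_F4_39 : isoChkAll 2 chevF4 isoL_F4 39 45 2 = true := by decide +kernel
theorem isoOK_F4_40 : isoChkAll 2 chevF4 isoL_F4 40 46 2 = true := by decide +kernel
theorem isoOK_F4_41 : isoChkAll 2 chevF4 isoL_F4 41 29 1 = true := by decide +kernel
theorem isoOK_F4_42 : isoChkAll 2 chevF4 isoL_F4 42 36 1 = true := by decide +kernel
theorem isoOK_F4_43 : isoChkAll 2 chevF4 isoL_F4 43 38 1 = true := by decide +kernel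
theorem isoOK_F4_44 : isoChkAll 2 chevF4 isoL_F4 44 47 2 = true := by decide +kernel
theorem isoOK_F4_45 : isoChkAll 2 chevF4 isoL_F4 45 39 1 = true := by decide +kernel
theorem isoOK_F4_46 : isoChkAll 2 chevF4 isoL_F4 46 40 1 = true := by decide +kernel
theorem isoOK_F4_47 : isoChkAll 2 chevF4 isoL_F4 47 44 1 = true := by decide +kernel

theorem isoOK_F4 : ∀ r < 48, isoChkAll 2 chevF4 isoL_F4 r (isoRho_F4.getD r 0) (isoLam_F4.getD r 0) = true := by
  intro r hr
  interval_cases r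
  · exact isoOK_F4_0
  · exact isoOK_F4_1
  · exact isoOK_F4_2
  · exact isoOK_F4_3
  · exact isoOK_F4_4
  · exact isoOK_F4_5
  · exact isoOK_F4_6
  · exact isoOK_F4_7
  · exact isoOK_F4_8
  · exact isoOK_F4_9
  · exact isoOK_F4_10
  · exact isoOK_F4_11
  · exact isoOK_F4_12
  · exact isoOK_F4_13
  · exact isoOK_F4_14
  · exact isoOK_F4_15
  · exact isoOK_F4_16
  · exact isoOK_F4_17
  · exact isoOK_F4_18
  · exact isoOK_F4_19
  · exact isoOK_F4_20
  · exact isoOK_F4_21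
  · exact isoOK_F4_22
  · exact isoOK_F4_23
  · exact isoOK_F4_24
  · exact isoOK_F4_25
  · exact isoOK_F4_26
  · exact isoOK_F4_27
  · exact isoOK_F4_28
  · exact isoOK_F4_29
  · exact isoOK_F4_30
  · exact isoOK_F4_31
  · exact isoOK_F4_32
  · exact isoOK_F4_33
  · exact isoOK_F4_34
  · exact isoOK_F4_35
  · exact isoOK_F4_36
  · exact isoOK_F4_37
  · exact isoOK_F4_38
  · exact isoOK_F4_39
  · exact isoOK_F4_40
  · exact isoOK_F4_41
  · exact isoOK_F4_42
  · exact isoOK_F4_43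
  · exact isoOK_F4_44
  · exact isoOK_F4_45
  · exact isoOK_F4_46
  · exact isoOK_F4_47

end Cfsg.Agent.Lead.MCalc
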