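import Mathlib
import Cfsg.Agent.Lib.Lead.IsoCalc
import Cfsg.Prelude.Def_LieTypes
import Cfsg.Prelude.Def_ChevB2
import Cfsg.Prelude.Def_LieTwisted

/-!
The intertwining matrix of the exceptional isogeny of type G2 in characteristic 3 (generated data, verified
by the calculator).
-/

set_option autoImplicit false

namespace Cfsg.Agent.Lead.MCalc

open Cfsg Cfsg.Lie

def isoL_G2 : List (Code × Code) := [(.inl 0, .inl 1), (.inr 2, .inr 0), (.inr 3, .inr 1), (.inr 4, .inr 5), (.inr 7, .inr 6), (.inr 8, .inr 10), (.inr 9, .inr 11)]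

def isoRho_G2 : List ℕ := [2, 3, 0, 1, 5, 4, 7, 6, 10, 11, 8, 9]

def isoLam_G2 : List ℕ := [1, 1, 3, 3, 3, 1, 1, 3, 3, 3, 1, 1]

theorem isoOK_G2_0 : isoChkAll 3 chevG2 isoL_G2 0 2 1 = true := by decide +kernel
theorem isoOK_G2_1 : isoChkAll 3 chevG2 isoL_G2 1 3 1 = true := by decide +kernel
theorem isoOK_G2_2 : isoChkAll 3 chevG2 isoL_G2 2 0 3 = true := by decide +kernel
theorem isoOK_G2_3 : isoChkAll 3 chevG2 isoL_G2 3 1 3 = true := by decide +kernel
theorem isoOK_G2_4 : isoChkAll 3 chevG2 isoL_G2 4 5 3 = true := by decide +kernel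
theorem isoOK_G2_5 : isoChkAll 3 chevG2 isoL_G2 5 4 1 = true := by decide +kernel
theorem isoOK_G2_6 : isoChkAll 3 chevG2 isoL_G2 6 7 1 = true := by decide +kernel
theorem isoOK_G2_7 : isoChkAll 3 chevG2 isoL_G2 7 6 3 = true := by decide +kernel
theorem isoOK_G2_8 : isoChkAll 3 chevG2 isoL_G2 8 10 3 = true := by decide +kernel
theorem isoOK_G2_9 : isoChkAll 3 chevG2 isoL_G2 9 11 3 = true := by decide +kernel
theorem isoOK_G2_10 : isoChkAll 3 chevG2 isoL_G2 10 8 1 = true := by decide +kernel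
theorem isoOK_G2_11 : isoChkAll 3 chevG2 isoL_G2 11 9 1 = true := by decide +kernel

theorem isoOK_G2 : ∀ r < 12, isoChkAll 3 chevG2 isoL_G2 r (isoRho_G2.getD r 0) (isoLam_G2.getD r 0) = true := by
  intro r hr
  interval_cases r
  · exact isoOK_G2_0
  · exact isoOK_G2_1
  · exact isoOK_G2_2
  · exact isoOK_G2_3
  · exact isoOK_G2_4
  · exact isoOK_G2_5
  · exact isoOK_G2_6
  · exact isoOK_G2_7
  · exact isoOK_G2_8
  · exact isoOK_G2_9
  · exact isoOK_G2_10
  · exact isoOK_G2_11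

end Cfsg.Agent.Lead.MCalc
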