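import Mathlib
import Cfsg.Agent.Lib.Lead.IsoRel
import Cfsg.Agent.Lib.Lead.Iso_G2
import Cfsg.Agent.Lib.Lead.Iso_B2
import Cfsg.Agent.Lib.Lead.Iso_F4
import Cfsg.Agent.Lib.Lead.ChevSimple

/-!
# The exceptional isogenies of `G₂` (characteristic 3), `F₄` and `B₂` (characteristic 2)
-/

set_option autoImplicit false
set_option linter.unusedSectionVars false
set_option linter.unusedSimpArgs false
set_option linter.unusedVariables false

namespace Cfsg.Agent.Lead.Tw

open Cfsg Cfsg.Lie Cfsg.Agent.Lead.Chev Cfsg.Agent.Lead.MCalc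

variable {K : Type*} [Field K]

/-- the intertwining datum from the tables -/
def isoDataOf (D : ChevalleyDatum) (K : Type*) [Field K] (pp : ℕ) [CharP K pp] (L : List (MCalc.Code × MCalc.Code))
    (rho lam : List ℕ)
    (hok : ∀ r < D.nroots, isoChkAll pp D L r (rho.getD r 0) (lam.getD r 0) = true)
    (hlt : ∀ r < D.nroots, rho.getD r 0 < D.nroots)
    (hsurj : ∀ s < D.nroots, ∃ r < D.nroots, rho.getD r 0 = s)
    (hlam : ∀ r < D.nroots, lam.getD r 0 = 1 ∨ lam.getD r 0 = pp)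
    (hperf : ∀ x : K, ∃ y : K, y ^ pp = x) : IsoData D K where
  P := pMat D K L
  ρ := fun r => rho.getD r 0
  lam := fun r => lam.getD r 0
  ρ_lt := hlt
  ρ_surj := hsurj
  lam_surj := by
    intro r hr s
    rcases hlam r hr with h | h
    · exact ⟨s, by rw [h, pow_one]⟩
    · obtain ⟨y, hy⟩ := hperf s
      exact ⟨y, by rw [h, hy]⟩
  inter := fun r hr t => pMat_mul_x pp D L r _ _ (hok r hr) t

/-- `G₂` in characteristic 3 -/
def isoData_G2 (K : Type*) [Field K] [CharP K 3] (hperf : ∀ x : K, ∃ y : K, y ^ 3 = x) : IsoData chevG2 K :=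
  isoDataOf chevG2 K 3 isoL_G2 isoRho_G2 isoLam_G2 isoOK_G2 (by decide) (by decide) (by decide) hperf

/-- `F₄` in characteristic 2 -/
def isoData_F4 (K : Type*) [Field K] [CharP K 2] (hperf : ∀ x : K, ∃ y : K, y ^ 2 = x) : IsoData chevF4 K :=
  isoDataOf chevF4 K 2 isoL_F4 isoRho_F4 isoLam_F4 isoOK_F4 (by decide) (by decide) (by decide) hperf

/-- `B₂` in characteristic 2 -/
def isoData_B2 (K : Type*) [Field K] [CharP K 2] (hperf : ∀ x : K, ∃ y : K, y ^ 2 = x) : IsoData chevB2 K :=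
  isoDataOf chevB2 K 2 isoL_B2 isoRho_B2 isoLam_B2 isoOK_B2 (by decide) (by decide) (by decide) hperf

theorem isoWit_G2 [CharP K 3] : pMat chevG2 K isoL_G2 * chevG2.x K 0 1 ≠ pMat chevG2 K isoL_G2 :=
  pMat_mul_x_ne 3 chevG2 isoL_G2 0 (Sum.inl ⟨1, by decide⟩) (Sum.inr ⟨2, by decide⟩) 1 (by decide +kernel) (by decide)

theorem isoWit_F4 [CharP K 2] : pMat chevF4 K isoL_F4 * chevF4.x K 0 1 ≠ pMat chevF4 K isoL_F4 :=
  pMat_mul_x_ne 2 chevF4 isoL_F4 0 (Sum.inl ⟨3, by decide⟩) (Sum.inr ⟨3, by decide⟩) 1 (by decide +kernel) (by decide)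

theorem isoWit_B2 [CharP K 2] : pMat chevB2 K isoL_B2 * chevB2.x K 0 1 ≠ pMat chevB2 K isoL_B2 :=
  pMat_mul_x_ne 2 chevB2 isoL_B2 0 (Sum.inr ⟨7, by decide⟩) (Sum.inl ⟨0, by decide⟩) 1 (by decide +kernel) (by decide)

/-- the exceptional isogeny of `G₂` -/
noncomputable def iso_G2 (K : Type*) [Field K] [CharP K 3] (hperf : ∀ x : K, ∃ y : K, y ^ 3 = x) : IsoData' chevG2 K :=
  (isoData_G2 K hperf).ofSimple (chevFacts_of_mem chevG2 (by simp)).xadd
    (chev_simple chevG2 (by simp) (fun _ => ⟨-1, by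
      have h3 : ((3 : ℕ) : K) = 0 := CharP.cast_eq_zero K 3
      constructor
      · exact neg_ne_zero.2 one_ne_zero
      · intro h
        have h2 : (2 : K) = 0 := by linear_combination -h
        have h1 : (1 : K) = 0 := by
          have : ((3 : ℕ) : K) = 2 + 1 := by norm_num
          rw [this, h2, zero_add] at h3
          exact h3
        exact one_ne_zero h1⟩)).1 0 (isoWit_G2 (K := K))

/-- the exceptional isogeny of `F₄` -/
noncomputable def iso_F4 (K : Type*) [Field K] [CharP K 2] (hperf : ∀ x : K, ∃ y : K, y ^ 2 = x) : IsoData' chevF4 K :=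
  (isoData_F4 K hperf).ofSimple (chevFacts_of_mem chevF4 (by simp)).xadd
    (chev_simple chevF4 (by simp) (fun h => by
      exfalso
      rcases h with h | h
      · exact absurd (congrArg ChevalleyDatum.rank h) (by decide)
      · exact absurd (congrArg ChevalleyDatum.rank h) (by decide))).1 0 (isoWit_F4 (K := K))

/-- the exceptional isogeny of `B₂` over a field with more than two elements -/
noncomputable def iso_B2 (K : Type*) [Field K] [CharP K 2] (hperf : ∀ x : K, ∃ y : K, y ^ 2 = x)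
    (ha : ∃ a : K, a ≠ 0 ∧ a ≠ 1) : IsoData' chevB2 K :=
  (isoData_B2 K hperf).ofSimple (chevFacts_of_mem chevB2 (by simp)).xadd
    (chev_simple chevB2 (by simp) (fun _ => ha)).1 0 (isoWit_B2 (K := K))

end Cfsg.Agent.Lead.Tw
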