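import Mathlib
import Cfsg.Agent.Lib.Lead.TwGraph
import Cfsg.Agent.Lib.Lead.IsoInst

/-!
# The twisting datum attached to an exceptional isogeny and a field automorphism
-/

set_option autoImplicit false
set_option linter.unusedSectionVars false
set_option linter.unusedSimpArgs false
set_option linter.unusedVariables false

namespace Cfsg.Agent.Lead.Tw

open Cfsg Cfsg.Lie Cfsg.Agent.Lead.Chev

variable {K : Type*} [Field K]

/-- table conditions on the root map of an isogeny -/
structure IsoTables (D : ChevalleyDatum) (ρ lam : ℕ → ℕ) (πs : ℕ → ℕ) : Prop where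
  pos : ∀ r < D.nroots, D.IsPosRoot r → D.IsPosRoot (ρ r)
  neg : ∀ r < D.nroots, ρ (D.neg r) = D.neg (ρ r)
  lamneg : ∀ r < D.nroots, lam (D.neg r) = lam r
  πlt : ∀ i < D.rank, πs i < D.rank
  simple : ∀ i < D.rank, ρ (D.simple i) = D.simple (πs i)
  refl : ∀ i < D.rank, ∀ r < D.nroots, D.reflectRoot (πs i) (ρ r) = ρ (D.reflectRoot i r)

theorem phi_mem_group {D : ChevalleyDatum} (f : K ≃+* K) (g : GL D.Idx K) (hg : g ∈ D.group K) :
    Cfsg.Agent.S1080.Phi D f g ∈ D.group K := by
  rw [← Cfsg.Agent.S1080.Phi_map_group D f]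
  exact ⟨g, hg, rfl⟩

/-- the twisting datum -/
noncomputable def isoTwist {D : ChevalleyDatum} (hF : ChevFacts D K) (I : IsoData' D K)
    (πs : ℕ → ℕ) (ht : IsoTables D I.ρ I.lam πs) (hodd : ∀ r < D.nroots, (-1 : K) ^ I.lam r = -1)
    (f : K ≃+* K) : Twist D K hF.xadd where
  σ g := I.map hF.xadd (Cfsg.Agent.S1080.Phi D f g)
  ρ := I.ρ
  c r t := (f t) ^ I.lam r
  π := πs
  map_mul := by
    intro g g' hg hg'
    rw [map_mul]
    exact I.map_mul hF.xadd _ _ (phi_mem_group f g hg) (phi_mem_group f g' hg')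
  ρ_lt := I.ρ_lt
  ρ_pos := fun r hr => ht.pos r hr.1 hr
  ρ_neg := ht.neg
  c_ne := by
    intro r hr t htne
    exact pow_ne_zero _ ((map_ne_zero f).2 htne)
  c_neg := by
    intro r hr t htne
    show (f (-t⁻¹)) ^ I.lam (D.neg r) = -((f t) ^ I.lam r)⁻¹
    rw [ht.lamneg r hr, map_neg, map_inv₀, neg_eq_neg_one_mul, mul_pow, hodd r hr, inv_pow]
    ring
  c_surj := by
    intro r hr s
    obtain ⟨y, hy⟩ := I.lam_surj r hr s
    exact ⟨f.symm y, by show (f (f.symm y)) ^ I.lam r = s; rw [RingEquiv.apply_symm_apply, hy]⟩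
  map_x := by
    intro r hr t
    show I.map hF.xadd (Cfsg.Agent.S1080.Phi D f (xGL D hF.xadd r t)) = _
    rw [phi_xGL hF.xadd f r hr t, I.map_x hF.xadd r hr]
  π_lt := ht.πlt
  ρ_simple := ht.simple
  ρ_refl := ht.refl

/-! ### the tables -/

def isoPi_F4 : ℕ → ℕ := fun i => [3, 2, 1, 0].getD i 0

def isoPi_G2 : ℕ → ℕ := fun i => [1, 0].getD i 0

theorem isoTables_F4 : IsoTables chevF4 (fun r => MCalc.isoRho_F4.getD r 0) (fun r => MCalc.isoLam_F4.getD r 0)
    isoPi_F4 where
  pos := by decide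
  neg := by decide
  lamneg := by decide
  πlt := by decide
  simple := by decide
  refl := by decide

theorem isoTables_G2 : IsoTables chevG2 (fun r => MCalc.isoRho_G2.getD r 0) (fun r => MCalc.isoLam_G2.getD r 0)
    isoPi_G2 where
  pos := by decide
  neg := by decide
  lamneg := by decide
  πlt := by decide
  simple := by decide
  refl := by decide

/-- the twist of `F₄` -/
noncomputable def twist_F4 (K : Type*) [Field K] [CharP K 2] (hperf : ∀ x : K, ∃ y : K, y ^ 2 = x)
    (f : K ≃+* K) : Twist chevF4 K (chevFacts_of_mem chevF4 (by simp)).xadd :=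
  isoTwist (chevFacts_of_mem chevF4 (by simp)) (iso_F4 K hperf) isoPi_F4 isoTables_F4 (by
    intro r hr
    have h2 : (-1 : K) = 1 := by
      have : ((2 : ℕ) : K) = 0 := CharP.cast_eq_zero K 2
      have h' : (2 : K) = 0 := by exact_mod_cast this
      linear_combination -h'
    rw [h2, one_pow]) f

/-- the twist of `G₂` -/
noncomputable def twist_G2 (K : Type*) [Field K] [CharP K 3] (hperf : ∀ x : K, ∃ y : K, y ^ 3 = x)
    (f : K ≃+* K) : Twist chevG2 K (chevFacts_of_mem chevG2 (by simp)).xadd :=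
  isoTwist (chevFacts_of_mem chevG2 (by simp)) (iso_G2 K hperf) isoPi_G2 isoTables_G2 (by
    intro r hr
    have h : MCalc.isoLam_G2.getD r 0 = 1 ∨ MCalc.isoLam_G2.getD r 0 = 3 := by
      have : ∀ r < chevG2.nroots, MCalc.isoLam_G2.getD r 0 = 1 ∨ MCalc.isoLam_G2.getD r 0 = 3 := by decide
      exact this r hr
    show (-1 : K) ^ (MCalc.isoLam_G2.getD r 0) = -1
    rcases h with h | h
    · rw [h, pow_one]
    · rw [h]; ring) f

end Cfsg.Agent.Lead.Tw
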