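import Mathlib
import Cfsg.Agent.Lib.Lead.TwIso
import Cfsg.Agent.Lib.Lead.TwCls

/-!
# The tables of the twisted groups `²F₄(q)` and `²G₂(q)`
-/

set_option autoImplicit false
set_option linter.unusedSectionVars false
set_option linter.unusedSimpArgs false
set_option linter.unusedVariables false

namespace Cfsg.Agent.Lead.Tw

open Cfsg Cfsg.Lie Cfsg.Agent.Lead.Chev

namespace F4

/-- the root map -/
def ρ : ℕ → ℕ := fun r => MCalc.isoRho_F4.getD r 0

/-- the classes -/
def S : List (List ℕ) := [[0, 3], [1, 2, 1, 2]]

/-- a reduced chain for the longest element -/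
def l₀ : List (List ℕ) :=
  [[0, 3], [1, 2, 1, 2], [0, 3], [1, 2, 1, 2], [0, 3], [1, 2, 1, 2], [0, 3], [1, 2, 1, 2]]

theorem chk : ClsChk chevF4 ρ isoPi_F4 S l₀ where
  valid := by decide +kernel
  comm := by decide +kernel
  sq := by decide +kernel
  cover := by decide +kernel
  long := by decide +kernel
  s_inj := by decide +kernel
  sub := by decide +kernel
  chain_mem := by decide +kernel
  chain_red := by decide +kernel
  chain_long := by decide +kernel

end F4

namespace G2

/-- the root map -/
def ρ : ℕ → ℕ := fun r => MCalc.isoRho_G2.getD r 0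

/-- the classes -/
def S : List (List ℕ) := [[0, 1, 0, 1, 0, 1]]

/-- a reduced chain for the longest element -/
def l₀ : List (List ℕ) := [[0, 1, 0, 1, 0, 1]]

theorem chk : ClsChk chevG2 ρ isoPi_G2 S l₀ where
  valid := by decide +kernel
  comm := by decide +kernel
  sq := by decide +kernel
  cover := by decide +kernel
  long := by decide +kernel
  s_inj := by decide +kernel
  sub := by decide +kernel
  chain_mem := by decide +kernel
  chain_red := by decide +kernel
  chain_long := by decide +kernel

end G2

end Cfsg.Agent.Lead.Tw
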