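import Mathlib
import Cfsg.Agent.Lib.Lead.IsoCalc
import Cfsg.Prelude.Def_LieTwisted

/-!
Word identities in the unipotent groups (generated, verified by the calculator).
-/

set_option autoImplicit false

namespace Cfsg.Agent.Lead.MCalc

open Cfsg Cfsg.Lie

def f4I1p_A : List (ℕ × LPoly) := [(27, [⟨1, 1, 0, 0, 0, 0, 0⟩]), (25, [⟨1, 0, 1, 0, 0, 0, 0⟩]), (30, [⟨1, 0, 0, 1, 0, 0, 0⟩]), (28, [⟨1, 0, 0, 0, 1, 0, 0⟩])]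

def f4I1p_B : List (ℕ × LPoly) := [(25, [⟨1, 0, 1, 0, 0, 0, 0⟩]), (27, [⟨1, 1, 0, 0, 0, 0, 0⟩]), (28, [⟨1, 0, 0, 0, 1, 0, 0⟩, ⟨1, 1, 1, 0, 0, 0, 0⟩]), (30, [⟨1, 0, 0, 1, 0, 0, 0⟩, ⟨1, 2, 1, 0, 0, 0, 0⟩])]

theorem f4I1p_chk : wordEqN 2 chevF4 f4I1p_A f4I1p_B = true := by decide +kernel

theorem f4I1p {K : Type*} [Field K] [CharP K 2] (x1 x2 x3 x4 : K) :
    chevF4.wordMat K [(27, x1), (25, x2), (30, x3), (28, x4)] =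
      chevF4.wordMat K [(25, x2), (27, x1), (28, x4 + x1 * x2), (30, x3 + x1 ^ 2 * x2)] := by
  have h := wordMat_eq_of_wordEqN 2 chevF4 (⟨x1, x2, x3, x4, 0, 0⟩ : Val K) f4I1p_A f4I1p_B f4I1p_chk
  have e1 : evalWord (⟨x1, x2, x3, x4, 0, 0⟩ : Val K) f4I1p_A = [(27, x1), (25, x2), (30, x3), (28, x4)] := by
    simp [evalWord, evalP, Term.eval, f4I1p_A]
  have e2 : evalWord (⟨x1, x2, x3, x4, 0, 0⟩ : Val K) f4I1p_B = [(25, x2), (27, x1), (28, x4 + x1 * x2), (30, x3 + x1 ^ 2 * x2)] := by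
    simp [evalWord, evalP, Term.eval, f4I1p_B]
  rw [e1, e2] at h
  exact h

def f4I2p_A : List (ℕ × LPoly) := [(27, [⟨1, 1, 0, 0, 0, 0, 0⟩]), (25, [⟨1, 0, 1, 0, 0, 0, 0⟩]), (28, [⟨1, 0, 0, 1, 0, 0, 0⟩]), (30, [⟨1, 0, 0, 0, 1, 0, 0⟩])]

def f4I2p_B : List (ℕ × LPoly) := [(25, [⟨1, 0, 1, 0, 0, 0, 0⟩]), (27, [⟨1, 1, 0, 0, 0, 0, 0⟩]), (28, [⟨1, 0, 0, 1, 0, 0, 0⟩, ⟨1, 1, 1, 0, 0, 0, 0⟩]), (30, [⟨1, 0, 0, 0, 1, 0, 0⟩, ⟨1, 2, 1, 0, 0, 0, 0⟩])]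

theorem f4I2p_chk : wordEqN 2 chevF4 f4I2p_A f4I2p_B = true := by decide +kernel

theorem f4I2p {K : Type*} [Field K] [CharP K 2] (x1 x2 x3 x4 : K) :
    chevF4.wordMat K [(27, x1), (25, x2), (28, x3), (30, x4)] =
      chevF4.wordMat K [(25, x2), (27, x1), (28, x3 + x1 * x2), (30, x4 + x1 ^ 2 * x2)] := by
  have h := wordMat_eq_of_wordEqN 2 chevF4 (⟨x1, x2, x3, x4, 0, 0⟩ : Val K) f4I2p_A f4I2p_B f4I2p_chk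
  have e1 : evalWord (⟨x1, x2, x3, x4, 0, 0⟩ : Val K) f4I2p_A = [(27, x1), (25, x2), (28, x3), (30, x4)] := by
    simp [evalWord, evalP, Term.eval, f4I2p_A]
  have e2 : evalWord (⟨x1, x2, x3, x4, 0, 0⟩ : Val K) f4I2p_B = [(25, x2), (27, x1), (28, x3 + x1 * x2), (30, x4 + x1 ^ 2 * x2)] := by
    simp [evalWord, evalP, Term.eval, f4I2p_B]
  rw [e1, e2] at h
  exact h

def f4I3p_A : List (ℕ × LPoly) := [(25, [⟨1, 1, 0, 0, 0, 0, 0⟩]), (27, [⟨1, 0, 1, 0, 0, 0, 0⟩]), (30, [⟨1, 0, 0, 1, 0, 0, 0⟩]), (28, [⟨1, 0, 0, 0, 1, 0, 0⟩])]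

def f4I3p_B : List (ℕ × LPoly) := [(27, [⟨1, 0, 1, 0, 0, 0, 0⟩]), (25, [⟨1, 1, 0, 0, 0, 0, 0⟩]), (28, [⟨1, 0, 0, 0, 1, 0, 0⟩, ⟨1, 1, 1, 0, 0, 0, 0⟩]), (30, [⟨1, 0, 0, 1, 0, 0, 0⟩, ⟨1, 1, 2, 0, 0, 0, 0⟩])]

theorem f4I3p_chk : wordEqN 2 chevF4 f4I3p_A f4I3p_B = true := by decide +kernel

theorem f4I3p {K : Type*} [Field K] [CharP K 2] (x1 x2 x3 x4 : K) :
    chevF4.wordMat K [(25, x1), (27, x2), (30, x3), (28, x4)] =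
      chevF4.wordMat K [(27, x2), (25, x1), (28, x4 + x1 * x2), (30, x3 + x1 * x2 ^ 2)] := by
  have h := wordMat_eq_of_wordEqN 2 chevF4 (⟨x1, x2, x3, x4, 0, 0⟩ : Val K) f4I3p_A f4I3p_B f4I3p_chk
  have e1 : evalWord (⟨x1, x2, x3, x4, 0, 0⟩ : Val K) f4I3p_A = [(25, x1), (27, x2), (30, x3), (28, x4)] := by
    simp [evalWord, evalP, Term.eval, f4I3p_A]
  have e2 : evalWord (⟨x1, x2, x3, x4, 0, 0⟩ : Val K) f4I3p_B = [(27, x2), (25, x1), (28, x4 + x1 * x2), (30, x3 + x1 * x2 ^ 2)] := by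
    simp [evalWord, evalP, Term.eval, f4I3p_B]
  rw [e1, e2] at h
  exact h

def f4I3m_A : List (ℕ × LPoly) := [(22, [⟨1, 1, 0, 0, 0, 0, 0⟩]), (20, [⟨1, 0, 1, 0, 0, 0, 0⟩]), (17, [⟨1, 0, 0, 1, 0, 0, 0⟩]), (19, [⟨1, 0, 0, 0, 1, 0, 0⟩])]

def f4I3m_B : List (ℕ × LPoly) := [(20, [⟨1, 0, 1, 0, 0, 0, 0⟩]), (22, [⟨1, 1, 0, 0, 0, 0, 0⟩]), (19, [⟨1, 0, 0, 0, 1, 0, 0⟩, ⟨1, 1, 1, 0, 0, 0, 0⟩]), (17, [⟨1, 0, 0, 1, 0, 0, 0⟩, ⟨1, 1, 2, 0, 0, 0, 0⟩])]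

theorem f4I3m_chk : wordEqN 2 chevF4 f4I3m_A f4I3m_B = true := by decide +kernel

theorem f4I3m {K : Type*} [Field K] [CharP K 2] (x1 x2 x3 x4 : K) :
    chevF4.wordMat K [(22, x1), (20, x2), (17, x3), (19, x4)] =
      chevF4.wordMat K [(20, x2), (22, x1), (19, x4 + x1 * x2), (17, x3 + x1 * x2 ^ 2)] := by
  have h := wordMat_eq_of_wordEqN 2 chevF4 (⟨x1, x2, x3, x4, 0, 0⟩ : Val K) f4I3m_A f4I3m_B f4I3m_chk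
  have e1 : evalWord (⟨x1, x2, x3, x4, 0, 0⟩ : Val K) f4I3m_A = [(22, x1), (20, x2), (17, x3), (19, x4)] := by
    simp [evalWord, evalP, Term.eval, f4I3m_A]
  have e2 : evalWord (⟨x1, x2, x3, x4, 0, 0⟩ : Val K) f4I3m_B = [(20, x2), (22, x1), (19, x4 + x1 * x2), (17, x3 + x1 * x2 ^ 2)] := by
    simp [evalWord, evalP, Term.eval, f4I3m_B]
  rw [e1, e2] at h
  exact h

end Cfsg.Agent.Lead.MCalc
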