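import Mathlib
import Cfsg.Agent.Lib.Lead.IsoCalc
import Cfsg.Prelude.Def_LieTwisted

/-!
Word identities in the unipotent groups (generated, verified by the calculator).
-/

set_option autoImplicit false

namespace Cfsg.Agent.Lead.MCalc

open Cfsg Cfsg.Lie

def f4N_A : List (ℕ × LPoly) := [(27, [⟨1, 0, 0, 0, 0, 0, 0⟩]), (20, [⟨-1, 0, 0, 0, 0, 0, 0⟩]), (27, [⟨1, 0, 0, 0, 0, 0, 0⟩]), (25, [⟨1, 0, 0, 0, 0, 0, 0⟩]), (22, [⟨-1, 0, 0, 0, 0, 0, 0⟩]), (25, [⟨1, 0, 0, 0, 0, 0, 0⟩]), (27, [⟨1, 0, 0, 0, 0, 0, 0⟩]), (20, [⟨-1, 0, 0, 0, 0, 0, 0⟩]), (27, [⟨1, 0, 0, 0, 0, 0, 0⟩]), (25, [⟨1, 0, 0, 0, 0, 0, 0⟩]), (22, [⟨-1, 0, 0, 0, 0, 0, 0⟩]), (25, [⟨1, 0, 0, 0, 0, 0, 0⟩])]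

def f4N_B : List (ℕ × LPoly) := [(27, []), (25, []), (28, [⟨1, 0, 0, 0, 0, 0, 0⟩]), (30, [⟨1, 0, 0, 0, 0, 0, 0⟩]), (20, [⟨1, 0, 0, 0, 0, 0, 0⟩]), (22, [⟨1, 0, 0, 0, 0, 0, 0⟩]), (19, []), (17, [⟨1, 0, 0, 0, 0, 0, 0⟩]), (27, [⟨1, 0, 0, 0, 0, 0, 0⟩]), (25, [⟨1, 0, 0, 0, 0, 0, 0⟩]), (28, [⟨1, 0, 0, 0, 0, 0, 0⟩]), (30, [])]

theorem f4N_chk : wordEqN 2 chevF4 f4N_A f4N_B = true := by decide +kernel

theorem f4N {K : Type*} [Field K] [CharP K 2] :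
    chevF4.wordMat K ([1, 2, 1, 2].flatMap fun i => chevF4.nWord (chevF4.simple i) (1 : K)) =
      chevF4.wordMat K [(27, 0), (25, 0), (28, 1), (30, 1), (20, 1), (22, 1), (19, 0), (17, 1), (27, 1), (25, 1), (28, 1), (30, 0)] := by
  have h := wordMat_eq_of_wordEqN 2 chevF4 (⟨0, 0, 0, 0, 0, 0⟩ : Val K) f4N_A f4N_B f4N_chk
  have e1 : evalWord (⟨0, 0, 0, 0, 0, 0⟩ : Val K) f4N_A =
      ([1, 2, 1, 2].flatMap fun i => chevF4.nWord (chevF4.simple i) (1 : K)) := by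
    have hs : chevF4.simple 1 = 27 ∧ chevF4.simple 2 = 25 := by decide
    have hn : chevF4.neg 27 = 20 ∧ chevF4.neg 25 = 22 := by decide
    simp [evalWord, evalP, Term.eval, f4N_A, ChevalleyDatum.nWord, hs, hn]
  have e2 : evalWord (⟨0, 0, 0, 0, 0, 0⟩ : Val K) f4N_B = [(27, 0), (25, 0), (28, 1), (30, 1), (20, 1), (22, 1), (19, 0), (17, 1), (27, 1), (25, 1), (28, 1), (30, 0)] := by
    simp [evalWord, evalP, Term.eval, f4N_B]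
  rw [e1, e2] at h
  exact h

def f4N03_A : List (ℕ × LPoly) := [(33, [⟨1, 0, 0, 0, 0, 0, 0⟩]), (14, [⟨-1, 0, 0, 0, 0, 0, 0⟩]), (33, [⟨1, 0, 0, 0, 0, 0, 0⟩]), (24, [⟨1, 0, 0, 0, 0, 0, 0⟩]), (23, [⟨-1, 0, 0, 0, 0, 0, 0⟩]), (24, [⟨1, 0, 0, 0, 0, 0, 0⟩])]

def f4N03_B : List (ℕ × LPoly) := [(33, [⟨1, 0, 0, 0, 0, 0, 0⟩]), (24, [⟨1, 0, 0, 0, 0, 0, 0⟩]), (14, [⟨1, 0, 0, 0, 0, 0, 0⟩]), (23, [⟨1, 0, 0, 0, 0, 0, 0⟩]), (33, [⟨1, 0, 0, 0, 0, 0, 0⟩]), (24, [⟨1, 0, 0, 0, 0, 0, 0⟩])]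

theorem f4N03_chk : wordEqN 2 chevF4 f4N03_A f4N03_B = true := by decide +kernel

theorem f4N03 {K : Type*} [Field K] [CharP K 2] :
    chevF4.wordMat K ([0, 3].flatMap fun i => chevF4.nWord (chevF4.simple i) (1 : K)) =
      chevF4.wordMat K [(33, 1), (24, 1), (14, 1), (23, 1), (33, 1), (24, 1)] := by
  have h := wordMat_eq_of_wordEqN 2 chevF4 (⟨0, 0, 0, 0, 0, 0⟩ : Val K) f4N03_A f4N03_B f4N03_chk
  have e1 : evalWord (⟨0, 0, 0, 0, 0, 0⟩ : Val K) f4N03_A =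
      ([0, 3].flatMap fun i => chevF4.nWord (chevF4.simple i) (1 : K)) := by
    have hs : chevF4.simple 0 = 33 ∧ chevF4.simple 3 = 24 := by decide
    have hn : chevF4.neg 33 = 14 ∧ chevF4.neg 24 = 23 := by decide
    simp [evalWord, evalP, Term.eval, f4N03_A, ChevalleyDatum.nWord, hs, hn]
  have e2 : evalWord (⟨0, 0, 0, 0, 0, 0⟩ : Val K) f4N03_B = [(33, 1), (24, 1), (14, 1), (23, 1), (33, 1), (24, 1)] := by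
    simp [evalWord, evalP, Term.eval, f4N03_B]
  rw [e1, e2] at h
  exact h

end Cfsg.Agent.Lead.MCalc
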