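import Mathlib
import Cfsg.Agent.Lib.Lead.TwF4
import Cfsg.Agent.Lib.Lead.TwF4Id
import Cfsg.Agent.Lib.Lead.TwF4N
import Cfsg.Agent.Lib.Lead.ChevOrderAll

/-!
# `²F₄(q)`: the class data
-/

set_option autoImplicit false
set_option linter.unusedSectionVars false
set_option linter.unusedSimpArgs false
set_option linter.unusedVariables false
set_option linter.style.haveILetI false

namespace Cfsg.Agent.Lead.Tw.F4

open Cfsg Cfsg.Lie Cfsg.Agent.Lead.Chev

variable {K : Type*} [Field K]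

theorem hmem : chevF4 ∈ [chevG2, chevB2, chevD4, chevF4, chevE6, chevE7, chevE8] := by simp

/-- the facts for `F₄` -/
theorem hF : ChevFacts chevF4 K := chevFacts_of_mem chevF4 hmem

theorem hS : CorSize chevF4 := corSize_of_mem _ hmem

theorem hC : CorComb chevF4 := corComb_of_mem _ hmem

section

variable [CharP K 2] (hperf : ∀ x : K, ∃ y : K, y ^ 2 = x) (f : K ≃+* K)

/-- the twisting datum of `²F₄` -/
noncomputable def tw : Twist chevF4 K (hF (K := K)).xadd := twist_F4 K hperf f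

theorem tw_ρ (r : ℕ) : (tw hperf f).ρ r = MCalc.isoRho_F4.getD r 0 := rfl

theorem tw_c (r : ℕ) (t : K) : (tw hperf f).c r t = (f t) ^ (MCalc.isoLam_F4.getD r 0) := rfl

theorem two_eq_zero : (2 : K) = 0 := by
  have : ((2 : ℕ) : K) = 0 := CharP.cast_eq_zero K 2
  exact_mod_cast this

theorem add_self (x : K) : x + x = 0 := by
  have := two_eq_zero (K := K)
  linear_combination x * this

theorem neg_eq (x : K) : -x = x := by
  have := add_self x
  linear_combination -this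

theorem add_sq_char (a b : K) : (a + b) ^ 2 = a ^ 2 + b ^ 2 := by
  have := two_eq_zero (K := K)
  linear_combination (a * b) * this

/-- `σ` on the four-letter words of the class of type `B₂` -/
theorem sigma_pos (x1 x2 x3 x4 : K) :
    (tw hperf f).σ (wordGL chevF4 hF.xadd [(27, x1), (25, x2), (28, x3), (30, x4)]) =
      wordGL chevF4 hF.xadd [(25, (f x1) ^ 2), (27, f x2), (30, (f x3) ^ 2), (28, f x4)] := by
  rw [(tw hperf f).map_wordGL hF _ (by
    intro q hq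
    simp only [List.mem_cons, List.not_mem_nil, or_false] at hq
    rcases hq with rfl | rfl | rfl | rfl <;> dsimp only <;> decide)]
  simp only [List.map_cons, List.map_nil, tw_ρ, tw_c]
  have h1 : MCalc.isoRho_F4.getD 27 0 = 25 ∧ MCalc.isoRho_F4.getD 25 0 = 27 ∧
      MCalc.isoRho_F4.getD 28 0 = 30 ∧ MCalc.isoRho_F4.getD 30 0 = 28 := by decide
  have h2 : MCalc.isoLam_F4.getD 27 0 = 2 ∧ MCalc.isoLam_F4.getD 25 0 = 1 ∧
      MCalc.isoLam_F4.getD 28 0 = 2 ∧ MCalc.isoLam_F4.getD 30 0 = 1 := by decide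
  rw [h1.1, h1.2.1, h1.2.2.1, h1.2.2.2, h2.1, h2.2.1, h2.2.2.1, h2.2.2.2, pow_one, pow_one]

theorem sigma_neg (x1 x2 x3 x4 : K) :
    (tw hperf f).σ (wordGL chevF4 hF.xadd [(20, x1), (22, x2), (19, x3), (17, x4)]) =
      wordGL chevF4 hF.xadd [(22, (f x1) ^ 2), (20, f x2), (17, (f x3) ^ 2), (19, f x4)] := by
  rw [(tw hperf f).map_wordGL hF _ (by
    intro q hq
    simp only [List.mem_cons, List.not_mem_nil, or_false] at hq
    rcases hq with rfl | rfl | rfl | rfl <;> dsimp only <;> decide)]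
  simp only [List.map_cons, List.map_nil, tw_ρ, tw_c]
  have h1 : MCalc.isoRho_F4.getD 20 0 = 22 ∧ MCalc.isoRho_F4.getD 22 0 = 20 ∧
      MCalc.isoRho_F4.getD 19 0 = 17 ∧ MCalc.isoRho_F4.getD 17 0 = 19 := by decide
  have h2 : MCalc.isoLam_F4.getD 20 0 = 2 ∧ MCalc.isoLam_F4.getD 22 0 = 1 ∧
      MCalc.isoLam_F4.getD 19 0 = 2 ∧ MCalc.isoLam_F4.getD 17 0 = 1 := by decide
  rw [h1.1, h1.2.1, h1.2.2.1, h1.2.2.2, h2.1, h2.2.1, h2.2.2.1, h2.2.2.2, pow_one, pow_one]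

theorem sigma_pair_pos (x1 x2 : K) :
    (tw hperf f).σ (wordGL chevF4 hF.xadd [(33, x1), (24, x2)]) =
      wordGL chevF4 hF.xadd [(24, (f x1) ^ 2), (33, f x2)] := by
  rw [(tw hperf f).map_wordGL hF _ (by
    intro q hq
    simp only [List.mem_cons, List.not_mem_nil, or_false] at hq
    rcases hq with rfl | rfl <;> dsimp only <;> decide)]
  simp only [List.map_cons, List.map_nil, tw_ρ, tw_c]
  have h1 : MCalc.isoRho_F4.getD 33 0 = 24 ∧ MCalc.isoRho_F4.getD 24 0 = 33 := by decide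
  have h2 : MCalc.isoLam_F4.getD 33 0 = 2 ∧ MCalc.isoLam_F4.getD 24 0 = 1 := by decide
  rw [h1.1, h1.2, h2.1, h2.2, pow_one]

theorem sigma_pair_neg (x1 x2 : K) :
    (tw hperf f).σ (wordGL chevF4 hF.xadd [(14, x1), (23, x2)]) =
      wordGL chevF4 hF.xadd [(23, (f x1) ^ 2), (14, f x2)] := by
  rw [(tw hperf f).map_wordGL hF _ (by
    intro q hq
    simp only [List.mem_cons, List.not_mem_nil, or_false] at hq
    rcases hq with rfl | rfl <;> dsimp only <;> decide)]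
  simp only [List.map_cons, List.map_nil, tw_ρ, tw_c]
  have h1 : MCalc.isoRho_F4.getD 14 0 = 23 ∧ MCalc.isoRho_F4.getD 23 0 = 14 := by decide
  have h2 : MCalc.isoLam_F4.getD 14 0 = 2 ∧ MCalc.isoLam_F4.getD 23 0 = 1 := by decide
  rw [h1.1, h1.2, h2.1, h2.2, pow_one]


theorem sigma_idx (x1 x2 x3 x4 : K) :
    (tw hperf f).σ (wordGL chevF4 hF.xadd [(25, x1), (27, x2), (28, x3), (30, x4)]) =
      wordGL chevF4 hF.xadd [(27, f x1), (25, (f x2) ^ 2), (30, (f x3) ^ 2), (28, f x4)] := by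
  rw [(tw hperf f).map_wordGL hF _ (by
    intro q hq
    simp only [List.mem_cons, List.not_mem_nil, or_false] at hq
    rcases hq with rfl | rfl | rfl | rfl <;> dsimp only <;> decide)]
  simp only [List.map_cons, List.map_nil, tw_ρ, tw_c]
  have h1 : MCalc.isoRho_F4.getD 27 0 = 25 ∧ MCalc.isoRho_F4.getD 25 0 = 27 ∧
      MCalc.isoRho_F4.getD 28 0 = 30 ∧ MCalc.isoRho_F4.getD 30 0 = 28 := by decide
  have h2 : MCalc.isoLam_F4.getD 27 0 = 2 ∧ MCalc.isoLam_F4.getD 25 0 = 1 ∧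
      MCalc.isoLam_F4.getD 28 0 = 2 ∧ MCalc.isoLam_F4.getD 30 0 = 1 := by decide
  rw [h1.1, h1.2.1, h1.2.2.1, h1.2.2.2, h2.1, h2.2.1, h2.2.2.1, h2.2.2.2, pow_one, pow_one]

theorem sigma_pair_idx (x1 x2 : K) :
    (tw hperf f).σ (wordGL chevF4 hF.xadd [(24, x1), (33, x2)]) =
      wordGL chevF4 hF.xadd [(33, f x1), (24, (f x2) ^ 2)] := by
  rw [(tw hperf f).map_wordGL hF _ (by
    intro q hq
    simp only [List.mem_cons, List.not_mem_nil, or_false] at hq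
    rcases hq with rfl | rfl <;> dsimp only <;> decide)]
  simp only [List.map_cons, List.map_nil, tw_ρ, tw_c]
  have h1 : MCalc.isoRho_F4.getD 33 0 = 24 ∧ MCalc.isoRho_F4.getD 24 0 = 33 := by decide
  have h2 : MCalc.isoLam_F4.getD 33 0 = 2 ∧ MCalc.isoLam_F4.getD 24 0 = 1 := by decide
  rw [h1.1, h1.2, h2.1, h2.2, pow_one]

omit [CharP K 2] in
/-- uniqueness of the parameters in the class of type `B₂` -/
theorem inj_b2 (a1 a2 a3 a4 b1 b2 b3 b4 : K)
    (h : wordGL chevF4 hF.xadd [(25, a1), (27, a2), (28, a3), (30, a4)] =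
      wordGL chevF4 hF.xadd [(25, b1), (27, b2), (28, b3), (30, b4)]) :
    a1 = b1 ∧ a2 = b2 ∧ a3 = b3 ∧ a4 = b4 := by
  have hL : subFrom chevF4 (psiW chevF4 [1, 2, 1, 2]) 0 = [25, 27, 28, 30] := by decide +kernel
  let t : ℕ → K := fun r => if r = 25 then a1 else if r = 27 then a2 else if r = 28 then a3 else a4
  let t' : ℕ → K := fun r => if r = 25 then b1 else if r = 27 then b2 else if r = 28 then b3 else b4
  have key := ChevFacts'.wordGL_subFrom_inj hF (psiW chevF4 [1, 2, 1, 2]) t t' (by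
    rw [hL]
    simpa [t, t'] using h)
  rw [hL] at key
  have k1 := key 25 (by simp)
  have k2 := key 27 (by simp)
  have k3 := key 28 (by simp)
  have k4 := key 30 (by simp)
  simp only [t, t'] at k1 k2 k3 k4
  norm_num at k1 k2 k3 k4
  exact ⟨k1, k2, k3, k4⟩

omit [CharP K 2] in
/-- uniqueness of the parameters in the pair class -/
theorem inj_pair (a1 a2 b1 b2 : K)
    (h : wordGL chevF4 hF.xadd [(24, a1), (33, a2)] = wordGL chevF4 hF.xadd [(24, b1), (33, b2)]) :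
    a1 = b1 ∧ a2 = b2 := by
  have hL : subFrom chevF4 (psiW chevF4 [0, 3]) 0 = [24, 33] := by decide +kernel
  let t : ℕ → K := fun r => if r = 24 then a1 else a2
  let t' : ℕ → K := fun r => if r = 24 then b1 else b2
  have key := ChevFacts'.wordGL_subFrom_inj hF (psiW chevF4 [0, 3]) t t' (by
    rw [hL]
    simpa [t, t'] using h)
  rw [hL] at key
  have k1 := key 24 (by simp)
  have k2 := key 33 (by simp)
  simp only [t, t'] at k1 k2
  norm_num at k1 k2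
  exact ⟨k1, k2⟩

omit [CharP K 2] in
/-- the elements of `U_w⁻` for the class of type `B₂` -/
theorem exists_b2 (b : GL chevF4.Idx K) (hb : b ∈ negPart chevF4 hF.xadd [1, 2, 1, 2]) :
    ∃ a1 a2 a3 a4 : K, b = wordGL chevF4 hF.xadd [(25, a1), (27, a2), (28, a3), (30, a4)] := by
  have hL : subFrom chevF4 (psiW chevF4 [1, 2, 1, 2]) 0 = [25, 27, 28, 30] := by decide +kernel
  obtain ⟨τ, hτ⟩ := ChevFacts'.exists_prodL_of_mem_negPart hF hS hC [1, 2, 1, 2] (by decide) b hb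
  rw [hL] at hτ
  exact ⟨τ 25, τ 27, τ 28, τ 30, hτ⟩

omit [CharP K 2] in
theorem exists_pair (b : GL chevF4.Idx K) (hb : b ∈ negPart chevF4 hF.xadd [0, 3]) :
    ∃ a1 a2 : K, b = wordGL chevF4 hF.xadd [(24, a1), (33, a2)] := by
  have hL : subFrom chevF4 (psiW chevF4 [0, 3]) 0 = [24, 33] := by decide +kernel
  obtain ⟨τ, hτ⟩ := ChevFacts'.exists_prodL_of_mem_negPart hF hS hC [0, 3] (by decide) b hb
  rw [hL] at hτ
  exact ⟨τ 24, τ 33, hτ⟩

omit [CharP K 2] in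
theorem mem_negPart_b2 (a1 a2 a3 a4 : K) :
    wordGL chevF4 hF.xadd [(25, a1), (27, a2), (28, a3), (30, a4)] ∈ negPart chevF4 hF.xadd [1, 2, 1, 2] := by
  apply ChevFacts'.wordGL_mem_negPart hF
  intro q hq
  simp only [List.mem_cons, List.not_mem_nil, or_false] at hq
  rcases hq with rfl | rfl | rfl | rfl <;> dsimp only <;> decide +kernel

omit [CharP K 2] in
theorem mem_negPart_pair (a1 a2 : K) :
    wordGL chevF4 hF.xadd [(24, a1), (33, a2)] ∈ negPart chevF4 hF.xadd [0, 3] := by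
  apply ChevFacts'.wordGL_mem_negPart hF
  intro q hq
  simp only [List.mem_cons, List.not_mem_nil, or_false] at hq
  rcases hq with rfl | rfl <;> dsimp only <;> decide +kernel

omit [CharP K 2] in
/-- the pair roots commute -/
theorem pair_comm_pos (x1 x2 : K) :
    wordGL chevF4 hF.xadd [(24, x2), (33, x1)] = wordGL chevF4 hF.xadd [(33, x1), (24, x2)] := by
  rw [wordGL_cons, wordGL_singleton, wordGL_cons, wordGL_singleton]
  exact (xGL_commute hF 33 24 (by decide) (by decide) (by decide) x1 x2).eq.symm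

omit [CharP K 2] in
theorem pair_comm_neg (x1 x2 : K) :
    wordGL chevF4 hF.xadd [(23, x2), (14, x1)] = wordGL chevF4 hF.xadd [(14, x1), (23, x2)] := by
  rw [wordGL_cons, wordGL_singleton, wordGL_cons, wordGL_singleton]
  exact (xGL_commute hF 14 23 (by decide) (by decide) (by decide) x1 x2).eq.symm

omit [CharP K 2] in
theorem wordGL_congr_val (w₁ w₂ : List (ℕ × K)) (h : chevF4.wordMat K w₁ = chevF4.wordMat K w₂) :
    wordGL chevF4 hF.xadd w₁ = wordGL chevF4 hF.xadd w₂ :=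
  Units.ext (by rw [wordGL_val, wordGL_val, h])

end

/-! ### the finite field -/

section finite

variable [Fintype K] [CharP K 2] {m : ℕ} (hK : Fintype.card K = 2 ^ (2 * m + 1))
  (hperf : ∀ x : K, ∃ y : K, y ^ 2 = x) (f : K ≃+* K) (hf : ∀ t, f t = t ^ (2 ^ m))
include hK hf

theorem frob_key (t : K) : ((t ^ (2 ^ m)) ^ (2 ^ m)) ^ 2 = t := by
  rw [← pow_mul, ← pow_mul]
  have : 2 ^ m * (2 ^ m * 2) = 2 ^ (2 * m + 1) := by ring
  rw [this, ← hK, FiniteField.pow_card]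

theorem ff_sq (t : K) : (f (f t)) ^ 2 = t := by
  rw [hf, hf]
  exact frob_key hK f hf t

theorem ff_sq' (t : K) : f ((f t) ^ 2) = t := by
  rw [map_pow]
  exact ff_sq hK f hf t

/-- the words of the class of type `B₂` are fixed -/
theorem fixed_b2_pos (t u : K) :
    (tw hperf f).σ (wordGL chevF4 hF.xadd (b2ClassWord (2 ^ m) f4a f4b f4ab f4aab t u)) =
      wordGL chevF4 hF.xadd (b2ClassWord (2 ^ m) f4a f4b f4ab f4aab t u) := by
  show (tw hperf f).σ (wordGL chevF4 hF.xadd [(27, t ^ 2 ^ m), (25, t), (28, t ^ (2 ^ m + 1) + u),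
    (30, u ^ (2 * 2 ^ m))]) = wordGL chevF4 hF.xadd [(27, t ^ 2 ^ m), (25, t), (28, t ^ (2 ^ m + 1) + u),
    (30, u ^ (2 * 2 ^ m))]
  rw [sigma_pos]
  apply wordGL_congr_val
  rw [MCalc.f4I3p]
  have e1 : (f (t ^ 2 ^ m)) ^ 2 = t := by rw [← hf]; exact ff_sq hK f hf t
  have e2 : f t = t ^ 2 ^ m := hf t
  have e3 : f (u ^ (2 * 2 ^ m)) = u := by
    have : u ^ (2 * 2 ^ m) = (f u) ^ 2 := by rw [hf, ← pow_mul, mul_comm]
    rw [this]
    exact ff_sq' hK f hf u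
  have e4 : (f (t ^ (2 ^ m + 1) + u)) ^ 2 = t * (t ^ 2 ^ m) ^ 2 + u ^ (2 * 2 ^ m) := by
    have e5 : f (t ^ (2 ^ m + 1)) = f (t ^ 2 ^ m) * f t := by rw [pow_succ, map_mul]
    have e6 : (f u) ^ 2 = u ^ (2 * 2 ^ m) := by rw [hf u, ← pow_mul, mul_comm (2 ^ m) 2]
    rw [map_add, add_sq_char, e5, mul_pow, e1, e2, e6]
  rw [e1, e3, e4, e2]
  have e7 : t * (t ^ 2 ^ m) ^ 2 + u ^ (2 * 2 ^ m) + t * (t ^ 2 ^ m) ^ 2 = u ^ (2 * 2 ^ m) := by
    linear_combination add_self (t * (t ^ 2 ^ m) ^ 2)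
  have e8 : u + t * t ^ 2 ^ m = t ^ (2 ^ m + 1) + u := by rw [pow_succ]; ring
  rw [e7, e8]


theorem fixed_b2_neg (t u : K) :
    (tw hperf f).σ (wordGL chevF4 hF.xadd (b2ClassWord (2 ^ m) f4ma f4mb f4mab f4maab t u)) =
      wordGL chevF4 hF.xadd (b2ClassWord (2 ^ m) f4ma f4mb f4mab f4maab t u) := by
  show (tw hperf f).σ (wordGL chevF4 hF.xadd [(20, t ^ 2 ^ m), (22, t), (19, t ^ (2 ^ m + 1) + u),
    (17, u ^ (2 * 2 ^ m))]) = wordGL chevF4 hF.xadd [(20, t ^ 2 ^ m), (22, t), (19, t ^ (2 ^ m + 1) + u),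
    (17, u ^ (2 * 2 ^ m))]
  rw [sigma_neg]
  apply wordGL_congr_val
  rw [MCalc.f4I3m]
  have e1 : (f (t ^ 2 ^ m)) ^ 2 = t := by rw [← hf]; exact ff_sq hK f hf t
  have e2 : f t = t ^ 2 ^ m := hf t
  have e3 : f (u ^ (2 * 2 ^ m)) = u := by
    have : u ^ (2 * 2 ^ m) = (f u) ^ 2 := by rw [hf, ← pow_mul, mul_comm]
    rw [this]
    exact ff_sq' hK f hf u
  have e4 : (f (t ^ (2 ^ m + 1) + u)) ^ 2 = t * (t ^ 2 ^ m) ^ 2 + u ^ (2 * 2 ^ m) := by
    have e5 : f (t ^ (2 ^ m + 1)) = f (t ^ 2 ^ m) * f t := by rw [pow_succ, map_mul]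
    have e6 : (f u) ^ 2 = u ^ (2 * 2 ^ m) := by rw [hf u, ← pow_mul, mul_comm (2 ^ m) 2]
    rw [map_add, add_sq_char, e5, mul_pow, e1, e2, e6]
  rw [e1, e3, e4, e2]
  have e7 : t * (t ^ 2 ^ m) ^ 2 + u ^ (2 * 2 ^ m) + t * (t ^ 2 ^ m) ^ 2 = u ^ (2 * 2 ^ m) := by
    linear_combination add_self (t * (t ^ 2 ^ m) ^ 2)
  have e8 : u + t * t ^ 2 ^ m = t ^ (2 ^ m + 1) + u := by rw [pow_succ]; ring
  rw [e7, e8]

theorem fixed_pair_pos (t : K) :
    (tw hperf f).σ (wordGL chevF4 hF.xadd (f4PairWord (2 ^ m) f4p1 f4p4 t)) =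
      wordGL chevF4 hF.xadd (f4PairWord (2 ^ m) f4p1 f4p4 t) := by
  show (tw hperf f).σ (wordGL chevF4 hF.xadd [(33, t ^ 2 ^ m), (24, t)]) =
    wordGL chevF4 hF.xadd [(33, t ^ 2 ^ m), (24, t)]
  rw [sigma_pair_pos, pair_comm_pos]
  have e1 : (f (t ^ 2 ^ m)) ^ 2 = t := by rw [← hf]; exact ff_sq hK f hf t
  rw [e1, hf t]

theorem fixed_pair_neg (t : K) :
    (tw hperf f).σ (wordGL chevF4 hF.xadd (f4PairWord (2 ^ m) f4m1 f4m4 t)) =
      wordGL chevF4 hF.xadd (f4PairWord (2 ^ m) f4m1 f4m4 t) := by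
  show (tw hperf f).σ (wordGL chevF4 hF.xadd [(14, t ^ 2 ^ m), (23, t)]) =
    wordGL chevF4 hF.xadd [(14, t ^ 2 ^ m), (23, t)]
  rw [sigma_pair_neg, pair_comm_neg]
  have e1 : (f (t ^ 2 ^ m)) ^ 2 = t := by rw [← hf]; exact ff_sq hK f hf t
  rw [e1, hf t]

/-- the fixed points of `σ` on `U_w⁻` for the class of type `B₂` -/
theorem fix_b2 (b : GL chevF4.Idx K) (hb : b ∈ negPart chevF4 hF.xadd [1, 2, 1, 2])
    (hfix : (tw hperf f).σ b = b) :
    ∃ t u : K, b = wordGL chevF4 hF.xadd (b2ClassWord (2 ^ m) f4a f4b f4ab f4aab t u) := by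
  obtain ⟨a1, a2, a3, a4, rfl⟩ := exists_b2 b hb
  rw [sigma_idx] at hfix
  have h1 := wordGL_congr_val _ _ (MCalc.f4I1p (f a1) ((f a2) ^ 2) ((f a3) ^ 2) (f a4))
  rw [h1] at hfix
  obtain ⟨k1, k2, k3, k4⟩ := inj_b2 _ _ _ _ _ _ _ _ hfix
  refine ⟨a1, a3, ?_⟩
  show _ = wordGL chevF4 hF.xadd [(27, a1 ^ 2 ^ m), (25, a1), (28, a1 ^ (2 ^ m + 1) + a3),
    (30, a3 ^ (2 * 2 ^ m))]
  rw [wordGL_congr_val _ _ (MCalc.f4I2p (a1 ^ 2 ^ m) a1 (a1 ^ (2 ^ m + 1) + a3) (a3 ^ (2 * 2 ^ m)))]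
  have e2 : a2 = a1 ^ 2 ^ m := by rw [← k2, hf]
  have e3 : a1 ^ (2 ^ m + 1) + a3 + a1 ^ 2 ^ m * a1 = a3 := by
    rw [pow_succ]
    linear_combination add_self (a1 ^ 2 ^ m * a1)
  have e4 : a3 ^ (2 * 2 ^ m) + (a1 ^ 2 ^ m) ^ 2 * a1 = a4 := by
    rw [← k4, k1, hf a3, hf a1, ← pow_mul, mul_comm (2 ^ m) 2]
    ring
  rw [e3, e4, ← e2]

/-- the fixed points of `σ` on `U_w⁻` for the pair class -/
theorem fix_pair (b : GL chevF4.Idx K) (hb : b ∈ negPart chevF4 hF.xadd [0, 3])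
    (hfix : (tw hperf f).σ b = b) :
    ∃ t : K, b = wordGL chevF4 hF.xadd (f4PairWord (2 ^ m) f4p1 f4p4 t) := by
  obtain ⟨a1, a2, rfl⟩ := exists_pair b hb
  rw [sigma_pair_idx, ← pair_comm_pos] at hfix
  obtain ⟨k1, k2⟩ := inj_pair _ _ _ _ hfix
  refine ⟨a1, ?_⟩
  show _ = wordGL chevF4 hF.xadd [(33, a1 ^ 2 ^ m), (24, a1)]
  rw [← pair_comm_pos, ← hf a1, k2]

omit hK hf in
theorem zero_pow_e : (0 : K) ^ 2 ^ m = 0 := zero_pow (pow_ne_zero _ (by norm_num))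

omit hK hf in
/-- the representative of the pair class -/
theorem nWord_pair :
    nWordGL chevF4 (hF (K := K)).xadd [0, 3] =
      wordGL chevF4 hF.xadd (f4PairWord (2 ^ m) f4p1 f4p4 (1 : K)) *
        wordGL chevF4 hF.xadd (f4PairWord (2 ^ m) f4m1 f4m4 (1 : K)) *
        wordGL chevF4 hF.xadd (f4PairWord (2 ^ m) f4p1 f4p4 (1 : K)) := by
  rw [nWordGL_eq_wordGL, ← wordGL_append, ← wordGL_append]
  apply wordGL_congr_val
  rw [MCalc.f4N03]
  simp [f4PairWord, f4p1, f4p4, f4m1, f4m4]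

omit hK hf in
/-- the representative of the class of type `B₂` -/
theorem nWord_b2 :
    nWordGL chevF4 (hF (K := K)).xadd [1, 2, 1, 2] =
      wordGL chevF4 hF.xadd (b2ClassWord (2 ^ m) f4a f4b f4ab f4aab (0 : K) 1) *
        wordGL chevF4 hF.xadd (b2ClassWord (2 ^ m) f4ma f4mb f4mab f4maab (1 : K) 1) *
        wordGL chevF4 hF.xadd (b2ClassWord (2 ^ m) f4a f4b f4ab f4aab (1 : K) 0) := by
  rw [nWordGL_eq_wordGL, ← wordGL_append, ← wordGL_append]
  apply wordGL_congr_val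
  rw [MCalc.f4N]
  have h0 : (0 : K) ^ 2 ^ m = 0 := zero_pow (pow_ne_zero _ (by norm_num))
  have h1 : (0 : K) ^ (2 ^ m + 1) = 0 := zero_pow (Nat.succ_ne_zero _)
  have h2 : (0 : K) ^ (2 * 2 ^ m) = 0 := zero_pow (by positivity)
  have h3 : (1 : K) + 1 = 0 := add_self 1
  simp [b2ClassWord, f4a, f4b, f4ab, f4aab, f4ma, f4mb, f4mab, f4maab, h0, h1, h2, h3]


omit hK hf in
theorem gen_mem (w : List (ℕ × K)) (hw : w ∈ f4Words K (2 ^ m)) :
    wordGL chevF4 hF.xadd w ∈ twistedF4 K (2 ^ m) :=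
  Subgroup.subset_closure ⟨w, hw, wordGL_val chevF4 hF.xadd w⟩

omit hK hf in
theorem pair_pos_mem (t : K) : f4PairWord (2 ^ m) f4p1 f4p4 t ∈ f4Words K (2 ^ m) :=
  Or.inl ⟨t, Or.inl rfl⟩

omit hK hf in
theorem pair_neg_mem (t : K) : f4PairWord (2 ^ m) f4m1 f4m4 t ∈ f4Words K (2 ^ m) :=
  Or.inl ⟨t, Or.inr rfl⟩

omit hK hf in
theorem b2_pos_mem (t u : K) : b2ClassWord (2 ^ m) f4a f4b f4ab f4aab t u ∈ f4Words K (2 ^ m) :=
  Or.inr ⟨t, u, Or.inl rfl⟩

omit hK hf in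
theorem b2_neg_mem (t u : K) : b2ClassWord (2 ^ m) f4ma f4mb f4mab f4maab t u ∈ f4Words K (2 ^ m) :=
  Or.inr ⟨t, u, Or.inr rfl⟩

omit hK hf in
theorem wordGL_zeros4 (r1 r2 r3 r4 : ℕ) :
    wordGL chevF4 (hF (K := K)).xadd [(r1, 0), (r2, 0), (r3, 0), (r4, 0)] = 1 := by
  simp [wordGL_cons, wordGL_nil, xGL_zero]

omit hK hf in
theorem wordGL_zeros2 (r1 r2 : ℕ) :
    wordGL chevF4 (hF (K := K)).xadd [(r1, 0), (r2, 0)] = 1 := by
  simp [wordGL_cons, wordGL_nil, xGL_zero]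

/-- **the class data of `²F₄(q)`** -/
theorem clsData : ClsData hF (tw hperf f) S l₀ (twistedF4 K (2 ^ m)) := by
  have hfixed : ∀ g ∈ twistedF4 K (2 ^ m), g ∈ chevF4.group K ∧ (tw hperf f).σ g = g := by
    apply (tw hperf f).fixed_of_gens hF
    rintro g ⟨w, hw, hg⟩
    have hgw : g = wordGL chevF4 hF.xadd w := Units.ext (by rw [hg, wordGL_val])
    rw [hgw]
    refine ⟨wordGL_mem_group _ _ _, ?_⟩
    rcases hw with ⟨t, rfl | rfl⟩ | ⟨t, u, rfl | rfl⟩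
    · exact fixed_pair_pos hK hperf f hf t
    · exact fixed_pair_neg hK hperf f hf t
    · exact fixed_b2_pos hK hperf f hf t u
    · exact fixed_b2_neg hK hperf f hf t u
  apply ClsData.of_chk (show ClsChk chevF4 (tw hperf f).ρ (tw hperf f).π S l₀ from chk)
  · exact fun g hg => (hfixed g hg).1
  · exact fun g hg => (hfixed g hg).2
  · intro w hw
    simp only [S, List.mem_cons, List.not_mem_nil, or_false] at hw
    rcases hw with rfl | rfl
    · rw [nWord_pair (m := m)]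
      exact mul_mem (mul_mem (gen_mem _ (pair_pos_mem _)) (gen_mem _ (pair_neg_mem _)))
        (gen_mem _ (pair_pos_mem _))
    · rw [nWord_b2 (m := m)]
      exact mul_mem (mul_mem (gen_mem _ (b2_pos_mem _ _)) (gen_mem _ (b2_neg_mem _ _)))
        (gen_mem _ (b2_pos_mem _ _))
  · intro w hw b hb hfix
    simp only [S, List.mem_cons, List.not_mem_nil, or_false] at hw
    rcases hw with rfl | rfl
    · obtain ⟨t, rfl⟩ := fix_pair hK hperf f hf b hb hfix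
      exact gen_mem _ (pair_pos_mem _)
    · obtain ⟨t, u, rfl⟩ := fix_b2 hK hperf f hf b hb hfix
      exact gen_mem _ (b2_pos_mem _ _)
  · intro w hw
    simp only [S, List.mem_cons, List.not_mem_nil, or_false] at hw
    rcases hw with rfl | rfl
    · refine ⟨wordGL chevF4 hF.xadd [(24, 1), (33, 1)], mem_negPart_pair _ _, ?_, ?_⟩
      · have e : wordGL chevF4 hF.xadd [(24, (1 : K)), (33, 1)] =
            wordGL chevF4 hF.xadd (f4PairWord (2 ^ m) f4p1 f4p4 (1 : K)) := by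
          rw [pair_comm_pos]
          simp [f4PairWord, f4p1, f4p4]
        rw [e]
        exact fixed_pair_pos hK hperf f hf 1
      · intro h1
        rw [← wordGL_zeros2 24 33] at h1
        exact one_ne_zero (inj_pair _ _ _ _ h1).1
    · refine ⟨wordGL chevF4 hF.xadd [(25, 0), (27, 0), (28, 1), (30, 1)], mem_negPart_b2 _ _ _ _, ?_, ?_⟩
      · have e : wordGL chevF4 hF.xadd [(25, (0 : K)), (27, 0), (28, 1), (30, 1)] =
            wordGL chevF4 hF.xadd (b2ClassWord (2 ^ m) f4a f4b f4ab f4aab (0 : K) 1) := by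
          have h0 : (0 : K) ^ 2 ^ m = 0 := zero_pow (pow_ne_zero _ (by norm_num))
          have h1 : (0 : K) ^ (2 ^ m + 1) = 0 := zero_pow (Nat.succ_ne_zero _)
          show _ = wordGL chevF4 hF.xadd [(27, (0 : K) ^ 2 ^ m), (25, 0), (28, 0 ^ (2 ^ m + 1) + 1),
            (30, 1 ^ (2 * 2 ^ m))]
          rw [wordGL_congr_val _ _ (MCalc.f4I2p ((0 : K) ^ 2 ^ m) 0 (0 ^ (2 ^ m + 1) + 1) (1 ^ (2 * 2 ^ m)))]
          simp [h0, h1]
        rw [e]
        exact fixed_b2_pos hK hperf f hf 0 1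
      · intro h1
        rw [← wordGL_zeros4 25 27 28 30] at h1
        exact one_ne_zero (inj_b2 _ _ _ _ _ _ _ _ h1).2.2.1

end finite

end Cfsg.Agent.Lead.Tw.F4
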