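import Mathlib
import Cfsg.Agent.Lib.Lead.TwCls
import Cfsg.Agent.Lib.Lead.TwTorus
import Cfsg.Agent.Lib.Lead.ChevHCardData

/-!
# The torus `H¹` of a twisted group of Ree type: general lemmas
-/

set_option autoImplicit false
set_option linter.unusedSectionVars false
set_option linter.unusedSimpArgs false
set_option linter.unusedVariables false

namespace Cfsg.Agent.Lead.Tw

open Cfsg Cfsg.Lie Cfsg.Agent.Lead.Chev Cfsg.Agent.Lead.ZPM

variable {K : Type*} [Field K]

section pair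

variable {D : ChevalleyDatum} (hF : ChevFacts D K)

/-- the product of the elements `h_r(a) h_s(b)` of two strongly orthogonal roots as a product of
elements of `X_r X_s` and `X_{-r} X_{-s}` -/
theorem hGLt_pair_eq (r s : ℕ) (hr : r < D.nroots) (hs : s < D.nroots)
    (h1 : Orth D r s) (h2 : Orth D r (D.neg s)) (h3 : Orth D (D.neg r) s)
    (h4 : Orth D (D.neg r) (D.neg s)) (a b : K) :
    hGLt D hF.xadd r a * hGLt D hF.xadd s b =
      (xGL D hF.xadd r a * xGL D hF.xadd s b) *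
        (xGL D hF.xadd (D.neg r) (-a⁻¹) * xGL D hF.xadd (D.neg s) (-b⁻¹)) *
        (xGL D hF.xadd r a * xGL D hF.xadd s b) *
      ((xGL D hF.xadd r (-1) * xGL D hF.xadd s (-1)) *
        (xGL D hF.xadd (D.neg r) (-(-1 : K)⁻¹) * xGL D hF.xadd (D.neg s) (-(-1 : K)⁻¹)) *
        (xGL D hF.xadd r (-1) * xGL D hF.xadd s (-1))) := by
  have hnr := hF.sign.neg_lt r hr
  have hns := hF.sign.neg_lt s hs
  have c1 := xGL_commute hF r s hr hs h1
  have c2 := xGL_commute hF r (D.neg s) hr hns h2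
  have c3 := xGL_commute hF (D.neg r) s hnr hs h3
  have c4 := xGL_commute hF (D.neg r) (D.neg s) hnr hns h4
  have key : ∀ a a' b b' : K,
      (xGL D hF.xadd r a * xGL D hF.xadd s b) *
        (xGL D hF.xadd (D.neg r) a' * xGL D hF.xadd (D.neg s) b') *
        (xGL D hF.xadd r a * xGL D hF.xadd s b) =
      (xGL D hF.xadd r a * xGL D hF.xadd (D.neg r) a' * xGL D hF.xadd r a) *
        (xGL D hF.xadd s b * xGL D hF.xadd (D.neg s) b' * xGL D hF.xadd s b) := by
    intro a a' b b'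
    generalize hA1 : xGL D hF.xadd r a = A1
    generalize hA2 : xGL D hF.xadd (D.neg r) a' = A2
    generalize hB1 : xGL D hF.xadd s b = B1
    generalize hB2 : xGL D hF.xadd (D.neg s) b' = B2
    have k1 : Commute A1 B1 := by rw [← hA1, ← hB1]; exact c1 a b
    have k2 : Commute A1 B2 := by rw [← hA1, ← hB2]; exact c2 a b'
    have k3 : Commute A2 B1 := by rw [← hA2, ← hB1]; exact c3 a' b
    have e1 : A1 * B1 * (A2 * B2) = A1 * A2 * (B1 * B2) := Commute.mul_mul_mul_comm k3.symm _ _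
    have e2 : A1 * A2 * (B1 * B2) * (A1 * B1) = A1 * A2 * A1 * (B1 * B2 * B1) :=
      Commute.mul_mul_mul_comm (Commute.mul_left k1.symm k2.symm) _ _
    rw [e1, e2]
  have hcomm : ∀ a a' b b' : K, Commute
      (xGL D hF.xadd r a * xGL D hF.xadd (D.neg r) a' * xGL D hF.xadd r a)
      (xGL D hF.xadd s b * xGL D hF.xadd (D.neg s) b' * xGL D hF.xadd s b) := by
    intro a a' b b'
    exact Commute.mul_left (Commute.mul_left (((c1 _ _).mul_right (c2 _ _)).mul_right (c1 _ _))
      (((c3 _ _).mul_right (c4 _ _)).mul_right (c3 _ _))) (((c1 _ _).mul_right (c2 _ _)).mul_right (c1 _ _))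
  have k1 := key a (-a⁻¹) b (-b⁻¹)
  have k2 := key (-1) (-(-1 : K)⁻¹) (-1) (-(-1 : K)⁻¹)
  have k3 := hcomm (-1) (-(-1 : K)⁻¹) b (-b⁻¹)
  rw [hGLt_eq, hGLt_eq, nGLt_eq, nGLt_eq, nGLt_eq, nGLt_eq, k1, k2]
  generalize xGL D hF.xadd r a * xGL D hF.xadd (D.neg r) (-a⁻¹) * xGL D hF.xadd r a = N1 at *
  generalize xGL D hF.xadd s b * xGL D hF.xadd (D.neg s) (-b⁻¹) * xGL D hF.xadd s b = N2 at *
  generalize xGL D hF.xadd r (-1) * xGL D hF.xadd (D.neg r) (-(-1 : K)⁻¹) * xGL D hF.xadd r (-1) = N3 at *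
  generalize xGL D hF.xadd s (-1) * xGL D hF.xadd (D.neg s) (-(-1 : K)⁻¹) * xGL D hF.xadd s (-1) = N4 at *
  exact Commute.mul_mul_mul_comm k3 _ _

end pair

section twist

variable {D : ChevalleyDatum} {hF : ChevFacts D K} {T : Twist D K hF.xadd}

/-- a product of two commuting root elements interchanged by `σ` is fixed -/
theorem Twist.map_pair (hF : ChevFacts D K) (T : Twist D K hF.xadd) (r s : ℕ) (hr : r < D.nroots) (hs : s < D.nroots) (hρr : T.ρ r = s)
    (hρs : T.ρ s = r) (horth : Orth D r s) (a b : K) (h1 : T.c s b = a) (h2 : T.c r a = b) :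
    T.σ (xGL D hF.xadd r a * xGL D hF.xadd s b) = xGL D hF.xadd r a * xGL D hF.xadd s b := by
  rw [T.map_mul _ _ (xGL_mem_group D hF.xadd _ _) (xGL_mem_group D hF.xadd _ _), T.map_x r hr,
    T.map_x s hs, hρr, hρs, h1, h2]
  exact (xGL_commute hF r s hr hs horth a b).eq.symm

variable {S l₀ : List (List ℕ)} {G₁ : Subgroup (GL D.Idx K)} (h : ClsData hF T S l₀ G₁)
include h

/-- the fixed points of `σ` on `V` lie in `G¹` -/
theorem ClsData.V_le [Fintype K] (hS : CorSize D) (hC : CorComb D)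
    (hsurj : ∀ s, D.IsNegRoot s → ∃ r, D.IsPosRoot r ∧ reflWord D (wordOf l₀) r = s)
    (v : GL D.Idx K) (hv : v ∈ D.negUnipotent K) (hfix : T.σ v = v) : v ∈ G₁ := by
  have hG := h.twGroup hS hC
  have hw : ∀ i ∈ wordOf l₀, i < D.rank := wordOf_valid S l₀ h.gen.valid h.chain_mem
  have hn : nWordGL D hF.xadd (wordOf l₀) ∈ G₁ := by
    have : ∀ l : List (List ℕ), (∀ v ∈ l, v ∈ S) → nWordGL D hF.xadd (wordOf l) ∈ G₁ := by
      intro l
      induction l with
      | nil =>
        intro _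
        simp only [wordOf, nWordGL_nil]
        exact one_mem _
      | cons v l ih =>
        intro hl
        simp only [wordOf]
        rw [nWordGL_append]
        exact mul_mem (ih fun x hx => hl x (List.mem_cons_of_mem _ hx)) (h.s_mem v (hl v List.mem_cons_self))
    exact this l₀ h.chain_mem
  have hmap := map_conj_posUnipotent D hF.xadd (etaOf D) hF.nsimple (wordOf l₀) hw h.chain_long hsurj
  rw [← hmap] at hv
  obtain ⟨u, hu, rfl⟩ := hv
  have hnG := h.le_group hn
  have huG := hF.posUnipotent_le_group hu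
  have e : (MulAut.conj (nWordGL D hF.xadd (wordOf l₀))).toMonoidHom u =
      nWordGL D hF.xadd (wordOf l₀) * u * (nWordGL D hF.xadd (wordOf l₀))⁻¹ := rfl
  rw [e] at hfix ⊢
  rw [T.map_mul _ _ (mul_mem hnG huG) (inv_mem hnG), T.map_mul _ _ hnG huG, T.map_inv hF _ hnG,
    h.fixed _ hn] at hfix
  have hfu : T.σ u = u := by
    have := mul_right_cancel hfix
    exact mul_left_cancel this
  exact mul_mem (mul_mem hn (hG.U_le u hu hfu)) (inv_mem hn)

/-- the elements `h_r(a) h_s(b)` of `G¹` for a pair of strongly orthogonal positive roots interchanged by `ρ` -/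
theorem ClsData.hGLt_pair_mem [Fintype K] (hS : CorSize D) (hC : CorComb D)
    (hsurj : ∀ s, D.IsNegRoot s → ∃ r, D.IsPosRoot r ∧ reflWord D (wordOf l₀) r = s)
    (r s : ℕ) (hr : D.IsPosRoot r) (hs : D.IsPosRoot s) (hρr : T.ρ r = s) (hρs : T.ρ s = r)
    (h1 : Orth D r s) (h2 : Orth D r (D.neg s)) (h3 : Orth D (D.neg r) s)
    (h4 : Orth D (D.neg r) (D.neg s))
    (hm1 : T.c s (-1) = -1) (hm2 : T.c r (-1) = -1)
    (a b : K) (ha : a ≠ 0) (hb : b ≠ 0) (e1 : T.c s b = a) (e2 : T.c r a = b) :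
    hGLt D hF.xadd r a * hGLt D hF.xadd s b ∈ G₁ := by
  have hG := h.twGroup hS hC
  have hr' := hr.1
  have hs' := hs.1
  have hnr := hF.sign.neg_lt r hr'
  have hns := hF.sign.neg_lt s hs'
  have hρnr : T.ρ (D.neg r) = D.neg s := by rw [T.ρ_neg r hr', hρr]
  have hρns : T.ρ (D.neg s) = D.neg r := by rw [T.ρ_neg s hs', hρs]
  have posmem : ∀ a b : K, T.c s b = a → T.c r a = b →
      xGL D hF.xadd r a * xGL D hF.xadd s b ∈ G₁ := by
    intro a b e1 e2
    apply hG.U_le
    · exact mul_mem (Subgroup.subset_closure ⟨r, a, hr, by rw [xGL_val]⟩)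
        (Subgroup.subset_closure ⟨s, b, hs, by rw [xGL_val]⟩)
    · exact T.map_pair hF r s hr' hs' hρr hρs h1 a b e1 e2
  have negmem : ∀ a b : K, a ≠ 0 → b ≠ 0 → T.c s b = a → T.c r a = b →
      xGL D hF.xadd (D.neg r) (-a⁻¹) * xGL D hF.xadd (D.neg s) (-b⁻¹) ∈ G₁ := by
    intro a b ha hb e1 e2
    apply h.V_le hS hC hsurj
    · exact mul_mem (Subgroup.subset_closure ⟨D.neg r, -a⁻¹, hF.sign.neg_of_pos r hr, by rw [xGL_val]⟩)
        (Subgroup.subset_closure ⟨D.neg s, -b⁻¹, hF.sign.neg_of_pos s hs, by rw [xGL_val]⟩)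
    · apply T.map_pair hF (D.neg r) (D.neg s) hnr hns hρnr hρns h4
      · rw [T.c_neg s hs' b hb, e1]
      · rw [T.c_neg r hr' a ha, e2]
  rw [hGLt_pair_eq hF r s hr' hs' h1 h2 h3 h4]
  have hone : (-1 : K) ≠ 0 := neg_ne_zero.2 one_ne_zero
  exact mul_mem (mul_mem (mul_mem (posmem a b e1 e2) (negmem a b ha hb e1 e2)) (posmem a b e1 e2))
    (mul_mem (mul_mem (posmem _ _ hm1 hm2) (negmem _ _ hone hone hm1 hm2)) (posmem _ _ hm1 hm2))

end twist

section chars

variable {D : ChevalleyDatum} {hF : ChevFacts D K} (T : Twist D K hF.xadd) (f : K ≃+* K) (lam : ℕ → ℕ)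

/-- the character of a fixed diagonal element -/
theorem chi_fixed_lam (hcm : ∀ r < D.nroots, ∀ a t, T.c r (a * t) = (f a) ^ (lam r) * T.c r t)
    (hlneg : ∀ r < D.nroots, lam (D.neg r) = lam r)
    (c : Fin D.rank → Kˣ) (hfix : T.σ (torusHom D K c) = torusHom D K c) (r : ℕ) (hr : r < D.nroots) :
    chi D (extC D c) (T.ρ r) = (f (chi D (extC D c) r)) ^ (lam r) := by
  have hcne : ∀ i < D.rank, extC D c i ≠ 0 := fun i _ => extC_ne_zero D c i
  have key : ∀ s, D.IsNegRoot s → chi D (extC D c) (T.ρ s) = (f (chi D (extC D c) s)) ^ (lam s) := by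
    intro s hs
    set g := torusHom D K c with hg
    have hgH : g ∈ D.diagonalSubgroup K := by
      rw [← torusHom_range D hF.xadd hF.hsimple hF.hall hF.simple_lt]
      exact ⟨c, rfl⟩
    have hgG := hF.diagonal_le_group hgH
    have hxG := xGL_mem_group D hF.xadd s (1 : K)
    have e1 := hF.Tmat_conj_xGL g (extC D c) hcne (torusHom_val D c) s hs.1 1
    have e2 := congrArg T.σ e1
    rw [T.map_mul _ _ (mul_mem hgG hxG) (inv_mem hgG), T.map_mul _ _ hgG hxG, T.map_inv hF _ hgG, hfix,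
      T.map_x s hs.1, T.map_x s hs.1,
      hF.Tmat_conj_xGL g (extC D c) hcne (torusHom_val D c) (T.ρ s) (T.ρ_lt s hs.1), hcm s hs.1] at e2
    have e3 := xGL_neg_inj hF _ (T.ρ_negRoot hF s hs) _ _ e2
    exact mul_right_cancel₀ (T.c_ne s hs.1 1 one_ne_zero) e3
  rcases hF.sign.pos_or_neg r hr with hp | hn
  · have h1 := key _ (hF.sign.neg_of_pos r hp)
    rw [T.ρ_neg r hr, chi_neg D hF.cartan_neg _ _ (T.ρ_lt r hr), chi_neg D hF.cartan_neg _ _ hr, map_inv₀,
      inv_pow, inv_inj, hlneg r hr] at h1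
    exact h1
  · exact key r hn

variable (πe : Equiv.Perm (Fin D.rank)) (lamS : Fin D.rank → ℕ)

/-- the action of `σ` on the torus parameters -/
def twPl (c : Fin D.rank → Kˣ) : Fin D.rank → Kˣ :=
  fun j => (Units.map (f : K →* K) (c (πe.symm j))) ^ (lamS (πe.symm j))

theorem chiU_twPl (ρ : ℕ → ℕ)
    (hcart : ∀ k : Fin D.rank, ∀ r < D.nroots,
      (lamS k : ℤ) * D.cartan (πe k).val (ρ r) = D.cartan k.val r * (lam r : ℤ))
    (c : Fin D.rank → Kˣ) (r : ℕ) (hr : r < D.nroots) :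
    chiU D (twPl f πe lamS c) (ρ r) = (Units.map (f : K →* K) (chiU D c r)) ^ (lam r) := by
  unfold chiU twPl
  rw [map_prod, ← Finset.prod_pow, ← Equiv.prod_comp πe]
  apply Finset.prod_congr rfl
  intro k _
  rw [Equiv.symm_apply_apply, map_zpow, ← zpow_natCast, ← zpow_mul, hcart k r hr, zpow_mul, zpow_natCast]

/-- a fixed diagonal element has a parameter whose twist gives the same element -/
theorem torusHom_twPl (hcm : ∀ r < D.nroots, ∀ a t, T.c r (a * t) = (f a) ^ (lam r) * T.c r t)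
    (hlneg : ∀ r < D.nroots, lam (D.neg r) = lam r)
    (hcart : ∀ k : Fin D.rank, ∀ r < D.nroots,
      (lamS k : ℤ) * D.cartan (πe k).val (T.ρ r) = D.cartan k.val r * (lam r : ℤ))
    (hρs : ∀ s < D.nroots, ∃ r < D.nroots, T.ρ r = s)
    (c : Fin D.rank → Kˣ) (hfix : T.σ (torusHom D K c) = torusHom D K c) :
    torusHom D K (twPl f πe lamS c) = torusHom D K c := by
  apply Units.ext
  rw [torusHom_val, torusHom_val]
  unfold Tmat
  congr 1
  funext idx
  rcases idx with j | v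
  · rfl
  · simp only [Sum.elim_inr]
    obtain ⟨r, hr, hrv⟩ := hρs v.val v.2
    rw [← hrv, ← chiU_val, chiU_twPl f lam πe lamS T.ρ hcart c r hr, Units.val_pow_eq_pow_val,
      Units.coe_map, chiU_val, chi_fixed_lam (hF := hF) T f lam hcm hlneg c hfix r hr]
    rfl

end chars

section inj

variable {D : ChevalleyDatum}

/-- the torus map is injective when the Cartan matrix is unimodular -/
theorem torusHom_injective (m : ℕ → Fin D.rank → ℤ) (hm : RootCoef D m)
    (hsl : ∀ i < D.rank, D.simple i < D.nroots)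
    (U V : Matrix (Fin D.rank) (Fin D.rank) ℤ) (h1 : U * cartanMat D * V = 1)
    (hV : V * (U * cartanMat D) = 1) :
    Function.Injective (torusHom D K) := by
  rw [injective_iff_map_eq_one]
  intro c hc
  have h2 : c ∈ (torusHom D K).ker := hc
  rw [mem_ker_torusHom_iff D m hm hsl] at h2
  have h3 : zpv (V * U * cartanMat D) c = c := by
    rw [Matrix.mul_assoc, hV, zpv_one]
  rw [← h3, zpv_mul, h2, zpv_const_one]

/-- `h_r(t)` through the torus map -/
theorem hGLt_eq_torusHom (hF : ChevFacts D K) (r : ℕ) (hr : r < D.nroots) (t : Kˣ) :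
    hGLt D hF.xadd r (t : K) = torusHom D K (fun i => t ^ ((D.coroot.getD r #[]).getD i.val 0)) := by
  apply Units.ext
  rw [hGLt_val, torusHom_val, hMat_eq_Tmat D hF.hall r hr _ (Units.ne_zero t)]
  apply Tmat_congr
  intro i hi
  rw [extC_lt D _ i hi, Units.val_zpow_eq_zpow_val]

end inj

end Cfsg.Agent.Lead.Tw
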