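import Mathlib
import Cfsg.Agent.Lib.Lead.TwF4Cls
import Cfsg.Agent.Lib.Lead.TwReeTorus

/-!
# The torus `H¹` of `²F₄(q)`
-/

set_option autoImplicit false
set_option linter.unusedSectionVars false
set_option linter.unusedSimpArgs false
set_option linter.unusedVariables false

namespace Cfsg.Agent.Lead.Tw.F4

open Cfsg Cfsg.Lie Cfsg.Agent.Lead.Chev Cfsg.Agent.Lead.ZPM

/-- the exponents of the twist -/
def lam : ℕ → ℕ := fun r => MCalc.isoLam_F4.getD r 0

/-- the permutation of the fundamental roots -/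
def πe : Equiv.Perm (Fin chevF4.rank) := Fin.revPerm

/-- the exponents at the fundamental roots -/
def lamS : Fin chevF4.rank → ℕ := fun k => lam (chevF4.simple k.val)

theorem hlneg : ∀ r < chevF4.nroots, lam (chevF4.neg r) = lam r := by decide +kernel

theorem hcart : ∀ k : Fin chevF4.rank, ∀ r < chevF4.nroots,
    (lamS k : ℤ) * chevF4.cartan (πe k).val (ρ r) = chevF4.cartan k.val r * (lam r : ℤ) := by
  decide +kernel

theorem hρs : ∀ s < chevF4.nroots, ∃ r < chevF4.nroots, ρ r = s := by decide +kernel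

theorem hsurj : ∀ s, chevF4.IsNegRoot s → ∃ r, chevF4.IsPosRoot r ∧ reflWord chevF4 (wordOf l₀) r = s := by
  have h : ∀ s < chevF4.nroots, chevF4.IsNegRoot s →
      ∃ r < chevF4.nroots, chevF4.IsPosRoot r ∧ reflWord chevF4 (wordOf l₀) r = s := by decide +kernel
  intro s hs
  obtain ⟨r, -, hr⟩ := h s hs.1 hs
  exact ⟨r, hr⟩

theorem smithA : matOfL chevF4.rank smithU_F4 * cartanMat chevF4 * matOfL chevF4.rank smithV_F4 = 1 := by
  decide +kernel

theorem smithB : matOfL chevF4.rank smithV_F4 * (matOfL chevF4.rank smithU_F4 * cartanMat chevF4) = 1 := by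
  decide +kernel

theorem torus_inj {K : Type*} [Field K] : Function.Injective (torusHom chevF4 K) :=
  torusHom_injective _ rootCoef_F4 (by decide) _ _ smithA smithB

theorem orth_37_32 : Orth chevF4 37 32 ∧ Orth chevF4 37 (chevF4.neg 32) ∧ Orth chevF4 (chevF4.neg 37) 32 ∧
    Orth chevF4 (chevF4.neg 37) (chevF4.neg 32) := by decide +kernel

theorem orth_33_24 : Orth chevF4 33 24 ∧ Orth chevF4 33 (chevF4.neg 24) ∧ Orth chevF4 (chevF4.neg 33) 24 ∧
    Orth chevF4 (chevF4.neg 33) (chevF4.neg 24) := by decide +kernel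

theorem pos_roots : chevF4.IsPosRoot 37 ∧ chevF4.IsPosRoot 32 ∧ chevF4.IsPosRoot 33 ∧ chevF4.IsPosRoot 24 := by
  decide +kernel

theorem rho_vals : ρ 37 = 32 ∧ ρ 32 = 37 ∧ ρ 33 = 24 ∧ ρ 24 = 33 := by decide +kernel

theorem lam_vals : lam 37 = 2 ∧ lam 32 = 1 ∧ lam 33 = 2 ∧ lam 24 = 1 := by decide +kernel

theorem cor_vals : ∀ i < 4,
    (chevF4.coroot.getD 37 #[]).getD i 0 = ([1, 2, 2, 0] : List ℤ).getD i 0 ∧
    (chevF4.coroot.getD 32 #[]).getD i 0 = ([0, 1, 2, 1] : List ℤ).getD i 0 ∧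
    (chevF4.coroot.getD 33 #[]).getD i 0 = ([1, 0, 0, 0] : List ℤ).getD i 0 ∧
    (chevF4.coroot.getD 24 #[]).getD i 0 = ([0, 0, 0, 1] : List ℤ).getD i 0 := by decide +kernel

theorem pi_vals : πe.symm ⟨0, by decide⟩ = ⟨3, by decide⟩ ∧ πe.symm ⟨1, by decide⟩ = ⟨2, by decide⟩ := by
  decide

section finite

variable {K : Type*} [Field K] [Fintype K] [CharP K 2] {m : ℕ} (hK : Fintype.card K = 2 ^ (2 * m + 1))
  (hperf : ∀ x : K, ∃ y : K, y ^ 2 = x) (f : K ≃+* K) (hf : ∀ t, f t = t ^ (2 ^ m))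
include hK hperf hf

omit hK hf [Fintype K] in
theorem hcm : ∀ r < chevF4.nroots, ∀ a t : K,
    (tw hperf f).c r (a * t) = (f a) ^ (lam r) * (tw hperf f).c r t := by
  intro r _ a t
  rw [tw_c, tw_c, map_mul, mul_pow]
  rfl

omit hK hf [Fintype K] in
theorem c_neg_one (r : ℕ) : (tw hperf f).c r (-1) = -1 := by
  rw [tw_c, neg_eq, map_one, one_pow]

/-- the parameters of the elements of `H¹` are fixed by the twist -/
theorem twPl_eq (c : Fin chevF4.rank → Kˣ) (hc : torusHom chevF4 K c ∈ twistedF4 K (2 ^ m)) :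
    twPl f πe lamS c = c := by
  apply torus_inj
  exact torusHom_twPl (hF := hF) (tw hperf f) f lam πe lamS (hcm hperf f) hlneg hcart hρs c
    ((clsData hK hperf f hf).fixed _ hc)

/-- the upper bound -/
theorem card_H_le :
    Nat.card ↥(chevF4.diagonalSubgroup K ⊓ twistedF4 K (2 ^ m)) ≤ (2 ^ (2 * m + 1) - 1) ^ 2 := by
  classical
  have hex : ∀ g : ↥(chevF4.diagonalSubgroup K ⊓ twistedF4 K (2 ^ m)),
      ∃ c : Fin chevF4.rank → Kˣ, torusHom chevF4 K c = g.1 := by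
    intro g
    have h1 : g.1 ∈ chevF4.diagonalSubgroup K := g.2.1
    have h2 : g.1 ∈ (torusHom chevF4 K).range := by
      rw [torusHom_range chevF4 (hF (K := K)).xadd (hF (K := K)).hsimple (hF (K := K)).hall (hF (K := K)).simple_lt]
      exact h1
    exact h2
  choose cOf hcOf using hex
  have hfix : ∀ g, twPl f πe lamS (cOf g) = cOf g := by
    intro g
    apply twPl_eq hK hperf f hf
    rw [hcOf]
    exact g.2.2
  let Φ : ↥(chevF4.diagonalSubgroup K ⊓ twistedF4 K (2 ^ m)) → Kˣ × Kˣ :=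
    fun g => (cOf g ⟨2, by decide⟩, cOf g ⟨3, by decide⟩)
  have hinj : Function.Injective Φ := by
    intro g g' hgg
    have h2 : cOf g ⟨2, by decide⟩ = cOf g' ⟨2, by decide⟩ := congrArg Prod.fst hgg
    have h3 : cOf g ⟨3, by decide⟩ = cOf g' ⟨3, by decide⟩ := congrArg Prod.snd hgg
    have h0 : cOf g ⟨0, by decide⟩ = cOf g' ⟨0, by decide⟩ := by
      rw [← hfix g, ← hfix g']
      unfold twPl
      rw [pi_vals.1, h3]
    have h1 : cOf g ⟨1, by decide⟩ = cOf g' ⟨1, by decide⟩ := by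
      rw [← hfix g, ← hfix g']
      unfold twPl
      rw [pi_vals.2, h2]
    have hc : cOf g = cOf g' := by
      funext i
      have hi : i.val < 4 := i.2
      have : i = ⟨0, by decide⟩ ∨ i = ⟨1, by decide⟩ ∨ i = ⟨2, by decide⟩ ∨ i = ⟨3, by decide⟩ := by
        rcases i with ⟨i, hi'⟩
        have hi4 : i < 4 := hi'
        interval_cases i <;> simp
      rcases this with rfl | rfl | rfl | rfl
      · exact h0
      · exact h1
      · exact h2
      · exact h3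
    apply Subtype.ext
    rw [← hcOf g, ← hcOf g', hc]
  have h1 := Nat.card_le_card_of_injective Φ hinj
  have h2 : Nat.card (Kˣ × Kˣ) = (2 ^ (2 * m + 1) - 1) ^ 2 := by
    rw [Nat.card_prod, Nat.card_eq_fintype_card, Fintype.card_units, hK, sq]
  rw [h2] at h1
  exact h1

/-- `u ↦ u^(2e+2)` is injective on `Kˣ` -/
theorem units_pow_inj (u : Kˣ) (h1 : u ^ (2 * 2 ^ m) * u ^ 2 = 1) : u = 1 := by
  have hq : u ^ (2 * 2 ^ m * 2 ^ m) = u := by
    apply Units.ext
    rw [Units.val_pow_eq_pow_val]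
    have := FiniteField.pow_card (u : K)
    rw [hK] at this
    have e : 2 ^ (2 * m + 1) = 2 * 2 ^ m * 2 ^ m := by
      rw [pow_succ, two_mul, pow_add]
      ring
    rw [← e]
    exact this
  have h2 : (u ^ (2 * 2 ^ m) * u ^ 2) ^ 2 ^ m = 1 := by rw [h1, one_pow]
  rw [mul_pow, ← pow_mul, hq, ← pow_mul] at h2
  -- u * u^(2*2^m) = 1
  have h3 : u ^ (2 * 2 ^ m) * u ^ 2 = (u * u ^ (2 * 2 ^ m)) * u := by
    rw [sq, mul_comm u (u ^ (2 * 2 ^ m)), mul_assoc]
  rw [h3, h2, one_mul] at h1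
  exact h1

omit hK hf in
/-- the elements of `H¹` -/
noncomputable def hElt (s t : Kˣ) : GL chevF4.Idx K :=
  hGLt chevF4 hF.xadd 37 ((s : K) ^ 2 ^ m) * hGLt chevF4 hF.xadd 32 (s : K) *
    (hGLt chevF4 hF.xadd 33 ((t : K) ^ 2 ^ m) * hGLt chevF4 hF.xadd 24 (t : K))

omit hK hperf hf [Fintype K] [CharP K 2] in
theorem hElt_mem_diagonal (s t : Kˣ) : hElt (m := m) s t ∈ chevF4.diagonalSubgroup K := by
  unfold hElt
  exact mul_mem (mul_mem (hGLt_mem_diagonal _ _ _ (by decide) _ (pow_ne_zero _ (Units.ne_zero s)))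
    (hGLt_mem_diagonal _ _ _ (by decide) _ (Units.ne_zero s)))
    (mul_mem (hGLt_mem_diagonal _ _ _ (by decide) _ (pow_ne_zero _ (Units.ne_zero t)))
    (hGLt_mem_diagonal _ _ _ (by decide) _ (Units.ne_zero t)))

theorem hElt_mem (s t : Kˣ) : hElt (m := m) s t ∈ twistedF4 K (2 ^ m) := by
  have hcl := clsData hK hperf f hf
  unfold hElt
  have key : ∀ u : K, (f (u ^ 2 ^ m)) ^ 2 = u := by
    intro u
    rw [← hf]
    exact ff_sq hK f hf u
  refine mul_mem ?_ ?_
  · refine hcl.hGLt_pair_mem hS hC hsurj 37 32 pos_roots.1 pos_roots.2.1 rho_vals.1 rho_vals.2.1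
      orth_37_32.1 orth_37_32.2.1 orth_37_32.2.2.1 orth_37_32.2.2.2
      (c_neg_one hperf f 32) (c_neg_one hperf f 37) _ _
      (pow_ne_zero _ (Units.ne_zero s)) (Units.ne_zero s) ?_ ?_
    · rw [tw_c]
      show (f (s : K)) ^ (lam 32) = _
      rw [lam_vals.2.1, pow_one, hf]
    · rw [tw_c]
      show (f ((s : K) ^ 2 ^ m)) ^ (lam 37) = _
      rw [lam_vals.1, key]
  · refine hcl.hGLt_pair_mem hS hC hsurj 33 24 pos_roots.2.2.1 pos_roots.2.2.2 rho_vals.2.2.1 rho_vals.2.2.2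
      orth_33_24.1 orth_33_24.2.1 orth_33_24.2.2.1 orth_33_24.2.2.2
      (c_neg_one hperf f 24) (c_neg_one hperf f 33) _ _
      (pow_ne_zero _ (Units.ne_zero t)) (Units.ne_zero t) ?_ ?_
    · rw [tw_c]
      show (f (t : K)) ^ (lam 24) = _
      rw [lam_vals.2.2.2, pow_one, hf]
    · rw [tw_c]
      show (f ((t : K) ^ 2 ^ m)) ^ (lam 33) = _
      rw [lam_vals.2.2.1, key]

omit hK hperf hf [Fintype K] [CharP K 2] in
/-- the parameters of the elements -/
theorem hElt_eq (s t : Kˣ) : hElt (m := m) s t = torusHom chevF4 K (fun i =>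
    (s ^ 2 ^ m) ^ (([1, 2, 2, 0] : List ℤ).getD i.val 0) * s ^ (([0, 1, 2, 1] : List ℤ).getD i.val 0) *
      ((t ^ 2 ^ m) ^ (([1, 0, 0, 0] : List ℤ).getD i.val 0) * t ^ (([0, 0, 0, 1] : List ℤ).getD i.val 0))) := by
  unfold hElt
  have e1 := hGLt_eq_torusHom hF 37 (by decide) (s ^ 2 ^ m)
  have e2 := hGLt_eq_torusHom hF 32 (by decide) s
  have e3 := hGLt_eq_torusHom hF 33 (by decide) (t ^ 2 ^ m)
  have e4 := hGLt_eq_torusHom hF 24 (by decide) t
  rw [Units.val_pow_eq_pow_val] at e1 e3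
  rw [e1, e2, e3, e4, ← map_mul, ← map_mul, ← map_mul]
  congr 1
  funext i
  have hi : i.val < 4 := i.2
  simp only [Pi.mul_apply]
  rw [(cor_vals i.val hi).1, (cor_vals i.val hi).2.1, (cor_vals i.val hi).2.2.1, (cor_vals i.val hi).2.2.2]

/-- the lower bound -/
theorem card_H_ge :
    (2 ^ (2 * m + 1) - 1) ^ 2 ≤ Nat.card ↥(chevF4.diagonalSubgroup K ⊓ twistedF4 K (2 ^ m)) := by
  classical
  let Ψ : Kˣ × Kˣ → ↥(chevF4.diagonalSubgroup K ⊓ twistedF4 K (2 ^ m)) :=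
    fun p => ⟨hElt (m := m) p.1 p.2, hElt_mem_diagonal p.1 p.2, hElt_mem hK hperf f hf p.1 p.2⟩
  have hinj : Function.Injective Ψ := by
    rintro ⟨s, t⟩ ⟨s', t'⟩ hh
    have h1 : hElt (m := m) s t = hElt (m := m) s' t' := congrArg Subtype.val hh
    rw [hElt_eq, hElt_eq] at h1
    have h2 := torus_inj h1
    have c2 := congrFun h2 ⟨2, by decide⟩
    have c3 := congrFun h2 ⟨3, by decide⟩
    have c2' : (s ^ 2 ^ m) ^ (2 : ℤ) * s ^ (2 : ℤ) = (s' ^ 2 ^ m) ^ (2 : ℤ) * s' ^ (2 : ℤ) := by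
      simpa using c2
    have c3' : s * t = s' * t' := by simpa using c3
    have hu : s / s' = 1 := by
      apply units_pow_inj hK hperf f hf
      rw [div_pow, div_pow, div_mul_div_comm, div_eq_one]
      have : ∀ x : Kˣ, (x ^ 2 ^ m) ^ (2 : ℤ) * x ^ (2 : ℤ) = x ^ (2 * 2 ^ m) * x ^ 2 := by
        intro x
        rw [zpow_ofNat, zpow_ofNat, ← pow_mul, mul_comm (2 ^ m) 2]
      rw [← this, ← this]
      exact c2'
    have hs : s = s' := div_eq_one.1 hu
    subst hs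
    have ht : t = t' := mul_left_cancel c3'
    rw [ht]
  have h1 := Nat.card_le_card_of_injective Ψ hinj
  have h2 : Nat.card (Kˣ × Kˣ) = (2 ^ (2 * m + 1) - 1) ^ 2 := by
    rw [Nat.card_prod, Nat.card_eq_fintype_card, Fintype.card_units, hK, sq]
  rw [h2] at h1
  exact h1

/-- **the order of `H¹` in `²F₄`** -/
theorem card_H :
    Nat.card ↥(chevF4.diagonalSubgroup K ⊓ twistedF4 K (2 ^ m)) = (2 ^ (2 * m + 1) - 1) ^ 2 :=
  le_antisymm (card_H_le hK hperf f hf) (card_H_ge hK hperf f hf)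

end finite

end Cfsg.Agent.Lead.Tw.F4
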