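import Mathlib
import Cfsg.Agent.Lib.Lead.IsoCalc
import Cfsg.Prelude.Def_LieTwisted

/-!
Word identities in the unipotent groups (generated, verified by the calculator).
-/

set_option autoImplicit false

namespace Cfsg.Agent.Lead.MCalc

open Cfsg Cfsg.Lie

def g2I1p_A : List (ℕ × LPoly) := [(7, [⟨1, 1, 0, 0, 0, 0, 0⟩]), (6, [⟨1, 0, 1, 0, 0, 0, 0⟩]), (10, [⟨1, 0, 0, 1, 0, 0, 0⟩]), (11, [⟨1, 0, 0, 0, 1, 0, 0⟩]), (8, [⟨1, 0, 0, 0, 0, 1, 0⟩]), (9, [⟨1, 0, 0, 0, 0, 0, 1⟩])]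

def g2I1p_B : List (ℕ × LPoly) := [(6, [⟨1, 0, 1, 0, 0, 0, 0⟩]), (7, [⟨1, 1, 0, 0, 0, 0, 0⟩]), (8, [⟨1, 0, 0, 0, 0, 1, 0⟩, ⟨2, 1, 1, 0, 0, 0, 0⟩]), (9, [⟨1, 0, 0, 0, 0, 0, 1⟩, ⟨2, 2, 1, 0, 0, 0, 0⟩]), (10, [⟨1, 0, 0, 1, 0, 0, 0⟩, ⟨1, 3, 1, 0, 0, 0, 0⟩]), (11, [⟨1, 0, 0, 0, 1, 0, 0⟩, ⟨1, 3, 2, 0, 0, 0, 0⟩])]

theorem g2I1p_chk : wordEqN 3 chevG2 g2I1p_A g2I1p_B = true := by decide +kernel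

theorem g2I1p {K : Type*} [Field K] [CharP K 3] (x1 x2 x3 x4 x5 x6 : K) :
    chevG2.wordMat K [(7, x1), (6, x2), (10, x3), (11, x4), (8, x5), (9, x6)] =
      chevG2.wordMat K [(6, x2), (7, x1), (8, x5 + 2 * x1 * x2), (9, x6 + 2 * x1 ^ 2 * x2), (10, x3 + x1 ^ 3 * x2), (11, x4 + x1 ^ 3 * x2 ^ 2)] := by
  have h := wordMat_eq_of_wordEqN 3 chevG2 (⟨x1, x2, x3, x4, x5, x6⟩ : Val K) g2I1p_A g2I1p_B g2I1p_chk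
  have e1 : evalWord (⟨x1, x2, x3, x4, x5, x6⟩ : Val K) g2I1p_A = [(7, x1), (6, x2), (10, x3), (11, x4), (8, x5), (9, x6)] := by
    simp [evalWord, evalP, Term.eval, g2I1p_A]
  have e2 : evalWord (⟨x1, x2, x3, x4, x5, x6⟩ : Val K) g2I1p_B = [(6, x2), (7, x1), (8, x5 + 2 * x1 * x2), (9, x6 + 2 * x1 ^ 2 * x2), (10, x3 + x1 ^ 3 * x2), (11, x4 + x1 ^ 3 * x2 ^ 2)] := by
    simp [evalWord, evalP, Term.eval, g2I1p_B]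
  rw [e1, e2] at h
  exact h

def g2I2p_A : List (ℕ × LPoly) := [(7, [⟨1, 1, 0, 0, 0, 0, 0⟩]), (6, [⟨1, 0, 1, 0, 0, 0, 0⟩]), (8, [⟨1, 0, 0, 1, 0, 0, 0⟩]), (9, [⟨1, 0, 0, 0, 1, 0, 0⟩]), (10, [⟨1, 0, 0, 0, 0, 1, 0⟩]), (11, [⟨1, 0, 0, 0, 0, 0, 1⟩])]

def g2I2p_B : List (ℕ × LPoly) := [(6, [⟨1, 0, 1, 0, 0, 0, 0⟩]), (7, [⟨1, 1, 0, 0, 0, 0, 0⟩]), (8, [⟨1, 0, 0, 1, 0, 0, 0⟩, ⟨2, 1, 1, 0, 0, 0, 0⟩]), (9, [⟨1, 0, 0, 0, 1, 0, 0⟩, ⟨2, 2, 1, 0, 0, 0, 0⟩]), (10, [⟨1, 0, 0, 0, 0, 1, 0⟩, ⟨1, 3, 1, 0, 0, 0, 0⟩]), (11, [⟨1, 0, 0, 0, 0, 0, 1⟩, ⟨1, 3, 2, 0, 0, 0, 0⟩])]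

theorem g2I2p_chk : wordEqN 3 chevG2 g2I2p_A g2I2p_B = true := by decide +kernel

theorem g2I2p {K : Type*} [Field K] [CharP K 3] (x1 x2 x3 x4 x5 x6 : K) :
    chevG2.wordMat K [(7, x1), (6, x2), (8, x3), (9, x4), (10, x5), (11, x6)] =
      chevG2.wordMat K [(6, x2), (7, x1), (8, x3 + 2 * x1 * x2), (9, x4 + 2 * x1 ^ 2 * x2), (10, x5 + x1 ^ 3 * x2), (11, x6 + x1 ^ 3 * x2 ^ 2)] := by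
  have h := wordMat_eq_of_wordEqN 3 chevG2 (⟨x1, x2, x3, x4, x5, x6⟩ : Val K) g2I2p_A g2I2p_B g2I2p_chk
  have e1 : evalWord (⟨x1, x2, x3, x4, x5, x6⟩ : Val K) g2I2p_A = [(7, x1), (6, x2), (8, x3), (9, x4), (10, x5), (11, x6)] := by
    simp [evalWord, evalP, Term.eval, g2I2p_A]
  have e2 : evalWord (⟨x1, x2, x3, x4, x5, x6⟩ : Val K) g2I2p_B = [(6, x2), (7, x1), (8, x3 + 2 * x1 * x2), (9, x4 + 2 * x1 ^ 2 * x2), (10, x5 + x1 ^ 3 * x2), (11, x6 + x1 ^ 3 * x2 ^ 2)] := by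
    simp [evalWord, evalP, Term.eval, g2I2p_B]
  rw [e1, e2] at h
  exact h

def g2I3p_A : List (ℕ × LPoly) := [(6, [⟨1, 1, 0, 0, 0, 0, 0⟩]), (7, [⟨1, 0, 1, 0, 0, 0, 0⟩]), (10, [⟨1, 0, 0, 1, 0, 0, 0⟩]), (11, [⟨1, 0, 0, 0, 1, 0, 0⟩]), (8, [⟨1, 0, 0, 0, 0, 1, 0⟩]), (9, [⟨1, 0, 0, 0, 0, 0, 1⟩])]

def g2I3p_B : List (ℕ × LPoly) := [(7, [⟨1, 0, 1, 0, 0, 0, 0⟩]), (6, [⟨1, 1, 0, 0, 0, 0, 0⟩]), (8, [⟨1, 0, 0, 0, 0, 1, 0⟩, ⟨1, 1, 1, 0, 0, 0, 0⟩]), (9, [⟨1, 0, 0, 0, 0, 0, 1⟩, ⟨1, 1, 2, 0, 0, 0, 0⟩]), (10, [⟨1, 0, 0, 1, 0, 0, 0⟩, ⟨2, 1, 3, 0, 0, 0, 0⟩]), (11, [⟨1, 0, 0, 0, 1, 0, 0⟩, ⟨2, 2, 3, 0, 0, 0, 0⟩])]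

theorem g2I3p_chk : wordEqN 3 chevG2 g2I3p_A g2I3p_B = true := by decide +kernel

theorem g2I3p {K : Type*} [Field K] [CharP K 3] (x1 x2 x3 x4 x5 x6 : K) :
    chevG2.wordMat K [(6, x1), (7, x2), (10, x3), (11, x4), (8, x5), (9, x6)] =
      chevG2.wordMat K [(7, x2), (6, x1), (8, x5 + x1 * x2), (9, x6 + x1 * x2 ^ 2), (10, x3 + 2 * x1 * x2 ^ 3), (11, x4 + 2 * x1 ^ 2 * x2 ^ 3)] := by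
  have h := wordMat_eq_of_wordEqN 3 chevG2 (⟨x1, x2, x3, x4, x5, x6⟩ : Val K) g2I3p_A g2I3p_B g2I3p_chk
  have e1 : evalWord (⟨x1, x2, x3, x4, x5, x6⟩ : Val K) g2I3p_A = [(6, x1), (7, x2), (10, x3), (11, x4), (8, x5), (9, x6)] := by
    simp [evalWord, evalP, Term.eval, g2I3p_A]
  have e2 : evalWord (⟨x1, x2, x3, x4, x5, x6⟩ : Val K) g2I3p_B = [(7, x2), (6, x1), (8, x5 + x1 * x2), (9, x6 + x1 * x2 ^ 2), (10, x3 + 2 * x1 * x2 ^ 3), (11, x4 + 2 * x1 ^ 2 * x2 ^ 3)] := by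
    simp [evalWord, evalP, Term.eval, g2I3p_B]
  rw [e1, e2] at h
  exact h

def g2I3m_A : List (ℕ × LPoly) := [(5, [⟨1, 1, 0, 0, 0, 0, 0⟩]), (4, [⟨1, 0, 1, 0, 0, 0, 0⟩]), (1, [⟨1, 0, 0, 1, 0, 0, 0⟩]), (0, [⟨1, 0, 0, 0, 1, 0, 0⟩]), (3, [⟨1, 0, 0, 0, 0, 1, 0⟩]), (2, [⟨1, 0, 0, 0, 0, 0, 1⟩])]

def g2I3m_B : List (ℕ × LPoly) := [(4, [⟨1, 0, 1, 0, 0, 0, 0⟩]), (5, [⟨1, 1, 0, 0, 0, 0, 0⟩]), (3, [⟨1, 0, 0, 0, 0, 1, 0⟩, ⟨2, 1, 1, 0, 0, 0, 0⟩]), (2, [⟨1, 0, 0, 0, 0, 0, 1⟩, ⟨1, 1, 2, 0, 0, 0, 0⟩]), (1, [⟨1, 0, 0, 1, 0, 0, 0⟩, ⟨1, 1, 3, 0, 0, 0, 0⟩]), (0, [⟨1, 0, 0, 0, 1, 0, 0⟩, ⟨2, 2, 3, 0, 0, 0, 0⟩])]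

theorem g2I3m_chk : wordEqN 3 chevG2 g2I3m_A g2I3m_B = true := by decide +kernel

theorem g2I3m {K : Type*} [Field K] [CharP K 3] (x1 x2 x3 x4 x5 x6 : K) :
    chevG2.wordMat K [(5, x1), (4, x2), (1, x3), (0, x4), (3, x5), (2, x6)] =
      chevG2.wordMat K [(4, x2), (5, x1), (3, x5 + 2 * x1 * x2), (2, x6 + x1 * x2 ^ 2), (1, x3 + x1 * x2 ^ 3), (0, x4 + 2 * x1 ^ 2 * x2 ^ 3)] := by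
  have h := wordMat_eq_of_wordEqN 3 chevG2 (⟨x1, x2, x3, x4, x5, x6⟩ : Val K) g2I3m_A g2I3m_B g2I3m_chk
  have e1 : evalWord (⟨x1, x2, x3, x4, x5, x6⟩ : Val K) g2I3m_A = [(5, x1), (4, x2), (1, x3), (0, x4), (3, x5), (2, x6)] := by
    simp [evalWord, evalP, Term.eval, g2I3m_A]
  have e2 : evalWord (⟨x1, x2, x3, x4, x5, x6⟩ : Val K) g2I3m_B = [(4, x2), (5, x1), (3, x5 + 2 * x1 * x2), (2, x6 + x1 * x2 ^ 2), (1, x3 + x1 * x2 ^ 3), (0, x4 + 2 * x1 ^ 2 * x2 ^ 3)] := by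
    simp [evalWord, evalP, Term.eval, g2I3m_B]
  rw [e1, e2] at h
  exact h

end Cfsg.Agent.Lead.MCalc
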