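import Mathlib
import Cfsg.Agent.Lib.Lead.TwF4
import Cfsg.Agent.Lib.Lead.TwG2Id
import Cfsg.Agent.Lib.Lead.TwG2N
import Cfsg.Agent.Lib.Lead.ChevOrderAll

/-!
# `²G₂(q)`: the class data
-/

set_option autoImplicit false
set_option linter.unusedSectionVars false
set_option linter.unusedSimpArgs false
set_option linter.unusedVariables false
set_option linter.style.haveILetI false

namespace Cfsg.Agent.Lead.Tw.G2

open Cfsg Cfsg.Lie Cfsg.Agent.Lead.Chev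

variable {K : Type*} [Field K]

theorem hmem : chevG2 ∈ [chevG2, chevB2, chevD4, chevF4, chevE6, chevE7, chevE8] := by simp

/-- the facts for `G₂` -/
theorem hF : ChevFacts chevG2 K := chevFacts_of_mem chevG2 hmem

theorem hS : CorSize chevG2 := corSize_of_mem _ hmem

theorem hC : CorComb chevG2 := corComb_of_mem _ hmem

section

variable [CharP K 3] (hperf : ∀ x : K, ∃ y : K, y ^ 3 = x) (f : K ≃+* K)

/-- the twisting datum of `²G₂` -/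
noncomputable def tw : Twist chevG2 K (hF (K := K)).xadd := twist_G2 K hperf f

theorem tw_ρ (r : ℕ) : (tw hperf f).ρ r = MCalc.isoRho_G2.getD r 0 := rfl

theorem tw_c (r : ℕ) (t : K) : (tw hperf f).c r t = (f t) ^ (MCalc.isoLam_G2.getD r 0) := rfl

theorem three_eq_zero : (3 : K) = 0 := by
  have : ((3 : ℕ) : K) = 0 := CharP.cast_eq_zero K 3
  exact_mod_cast this

theorem add_cube_char (a b : K) : (a + b) ^ 3 = a ^ 3 + b ^ 3 := by
  have := three_eq_zero (K := K)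
  linear_combination (a ^ 2 * b + a * b ^ 2) * this

theorem neg_cube (a : K) : (-a) ^ 3 = -a ^ 3 := by ring

theorem rho_vals : MCalc.isoRho_G2.getD 7 0 = 6 ∧ MCalc.isoRho_G2.getD 6 0 = 7 ∧
    MCalc.isoRho_G2.getD 8 0 = 10 ∧ MCalc.isoRho_G2.getD 9 0 = 11 ∧
    MCalc.isoRho_G2.getD 10 0 = 8 ∧ MCalc.isoRho_G2.getD 11 0 = 9 ∧
    MCalc.isoRho_G2.getD 4 0 = 5 ∧ MCalc.isoRho_G2.getD 5 0 = 4 ∧
    MCalc.isoRho_G2.getD 3 0 = 1 ∧ MCalc.isoRho_G2.getD 2 0 = 0 ∧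
    MCalc.isoRho_G2.getD 1 0 = 3 ∧ MCalc.isoRho_G2.getD 0 0 = 2 := by decide

theorem lam_vals : MCalc.isoLam_G2.getD 7 0 = 3 ∧ MCalc.isoLam_G2.getD 6 0 = 1 ∧
    MCalc.isoLam_G2.getD 8 0 = 3 ∧ MCalc.isoLam_G2.getD 9 0 = 3 ∧
    MCalc.isoLam_G2.getD 10 0 = 1 ∧ MCalc.isoLam_G2.getD 11 0 = 1 ∧
    MCalc.isoLam_G2.getD 4 0 = 3 ∧ MCalc.isoLam_G2.getD 5 0 = 1 ∧
    MCalc.isoLam_G2.getD 3 0 = 3 ∧ MCalc.isoLam_G2.getD 2 0 = 3 ∧
    MCalc.isoLam_G2.getD 1 0 = 1 ∧ MCalc.isoLam_G2.getD 0 0 = 1 := by decide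

/-- `σ` on the six-letter words in the order of `reeWordU` -/
theorem sigma_pos (x1 x2 x3 x4 x5 x6 : K) :
    (tw hperf f).σ (wordGL chevG2 hF.xadd [(7, x1), (6, x2), (8, x3), (9, x4), (10, x5), (11, x6)]) =
      wordGL chevG2 hF.xadd [(6, (f x1) ^ 3), (7, f x2), (10, (f x3) ^ 3), (11, (f x4) ^ 3), (8, f x5),
        (9, f x6)] := by
  rw [(tw hperf f).map_wordGL hF _ (by
    intro q hq
    simp only [List.mem_cons, List.not_mem_nil, or_false] at hq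
    rcases hq with rfl | rfl | rfl | rfl | rfl | rfl <;> dsimp only <;> decide)]
  simp only [List.map_cons, List.map_nil, tw_ρ, tw_c]
  obtain ⟨r7, r6, r8, r9, r10, r11, -⟩ := rho_vals
  obtain ⟨l7, l6, l8, l9, l10, l11, -⟩ := lam_vals
  rw [r7, r6, r8, r9, r10, r11, l7, l6, l8, l9, l10, l11, pow_one, pow_one, pow_one]

theorem sigma_neg (x1 x2 x3 x4 x5 x6 : K) :
    (tw hperf f).σ (wordGL chevG2 hF.xadd [(4, x1), (5, x2), (3, x3), (2, x4), (1, x5), (0, x6)]) =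
      wordGL chevG2 hF.xadd [(5, (f x1) ^ 3), (4, f x2), (1, (f x3) ^ 3), (0, (f x4) ^ 3), (3, f x5),
        (2, f x6)] := by
  rw [(tw hperf f).map_wordGL hF _ (by
    intro q hq
    simp only [List.mem_cons, List.not_mem_nil, or_false] at hq
    rcases hq with rfl | rfl | rfl | rfl | rfl | rfl <;> dsimp only <;> decide)]
  simp only [List.map_cons, List.map_nil, tw_ρ, tw_c]
  obtain ⟨-, -, -, -, -, -, r4, r5, r3, r2, r1, r0⟩ := rho_vals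
  obtain ⟨-, -, -, -, -, -, l4, l5, l3, l2, l1, l0⟩ := lam_vals
  rw [r4, r5, r3, r2, r1, r0, l4, l5, l3, l2, l1, l0, pow_one, pow_one, pow_one]

/-- `σ` on the six-letter words in index order -/
theorem sigma_idx (x1 x2 x3 x4 x5 x6 : K) :
    (tw hperf f).σ (wordGL chevG2 hF.xadd [(6, x1), (7, x2), (8, x3), (9, x4), (10, x5), (11, x6)]) =
      wordGL chevG2 hF.xadd [(7, f x1), (6, (f x2) ^ 3), (10, (f x3) ^ 3), (11, (f x4) ^ 3), (8, f x5),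
        (9, f x6)] := by
  rw [(tw hperf f).map_wordGL hF _ (by
    intro q hq
    simp only [List.mem_cons, List.not_mem_nil, or_false] at hq
    rcases hq with rfl | rfl | rfl | rfl | rfl | rfl <;> dsimp only <;> decide)]
  simp only [List.map_cons, List.map_nil, tw_ρ, tw_c]
  obtain ⟨r7, r6, r8, r9, r10, r11, -⟩ := rho_vals
  obtain ⟨l7, l6, l8, l9, l10, l11, -⟩ := lam_vals
  rw [r7, r6, r8, r9, r10, r11, l7, l6, l8, l9, l10, l11, pow_one, pow_one, pow_one]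

omit [CharP K 3] in
theorem wordGL_congr_val (w₁ w₂ : List (ℕ × K)) (h : chevG2.wordMat K w₁ = chevG2.wordMat K w₂) :
    wordGL chevG2 hF.xadd w₁ = wordGL chevG2 hF.xadd w₂ :=
  Units.ext (by rw [wordGL_val, wordGL_val, h])

omit [CharP K 3] in
/-- uniqueness of the parameters -/
theorem inj_u (a1 a2 a3 a4 a5 a6 b1 b2 b3 b4 b5 b6 : K)
    (h : wordGL chevG2 hF.xadd [(6, a1), (7, a2), (8, a3), (9, a4), (10, a5), (11, a6)] =
      wordGL chevG2 hF.xadd [(6, b1), (7, b2), (8, b3), (9, b4), (10, b5), (11, b6)]) :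
    a1 = b1 ∧ a2 = b2 ∧ a3 = b3 ∧ a4 = b4 ∧ a5 = b5 ∧ a6 = b6 := by
  have hL : subFrom chevG2 (psiW chevG2 [0, 1, 0, 1, 0, 1]) 0 = [6, 7, 8, 9, 10, 11] := by decide +kernel
  let t : ℕ → K := fun r => if r = 6 then a1 else if r = 7 then a2 else if r = 8 then a3 else
    if r = 9 then a4 else if r = 10 then a5 else a6
  let t' : ℕ → K := fun r => if r = 6 then b1 else if r = 7 then b2 else if r = 8 then b3 else
    if r = 9 then b4 else if r = 10 then b5 else b6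
  have key := ChevFacts'.wordGL_subFrom_inj hF (psiW chevG2 [0, 1, 0, 1, 0, 1]) t t' (by
    rw [hL]
    simpa [t, t'] using h)
  rw [hL] at key
  have k1 := key 6 (by simp)
  have k2 := key 7 (by simp)
  have k3 := key 8 (by simp)
  have k4 := key 9 (by simp)
  have k5 := key 10 (by simp)
  have k6 := key 11 (by simp)
  simp only [t, t'] at k1 k2 k3 k4 k5 k6
  norm_num at k1 k2 k3 k4 k5 k6
  exact ⟨k1, k2, k3, k4, k5, k6⟩

omit [CharP K 3] in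
/-- the elements of `U` -/
theorem exists_u (b : GL chevG2.Idx K) (hb : b ∈ negPart chevG2 hF.xadd [0, 1, 0, 1, 0, 1]) :
    ∃ a1 a2 a3 a4 a5 a6 : K,
      b = wordGL chevG2 hF.xadd [(6, a1), (7, a2), (8, a3), (9, a4), (10, a5), (11, a6)] := by
  have hL : subFrom chevG2 (psiW chevG2 [0, 1, 0, 1, 0, 1]) 0 = [6, 7, 8, 9, 10, 11] := by decide +kernel
  obtain ⟨τ, hτ⟩ := ChevFacts'.exists_prodL_of_mem_negPart hF hS hC [0, 1, 0, 1, 0, 1] (by decide) b hb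
  rw [hL] at hτ
  exact ⟨τ 6, τ 7, τ 8, τ 9, τ 10, τ 11, hτ⟩

omit [CharP K 3] in
theorem mem_negPart_u (a1 a2 a3 a4 a5 a6 : K) :
    wordGL chevG2 hF.xadd [(6, a1), (7, a2), (8, a3), (9, a4), (10, a5), (11, a6)] ∈
      negPart chevG2 hF.xadd [0, 1, 0, 1, 0, 1] := by
  apply ChevFacts'.wordGL_mem_negPart hF
  intro q hq
  simp only [List.mem_cons, List.not_mem_nil, or_false] at hq
  rcases hq with rfl | rfl | rfl | rfl | rfl | rfl <;> dsimp only <;> decide +kernel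

end


/-! ### the finite field -/

section finite

variable [Fintype K] [CharP K 3] {m : ℕ} (hK : Fintype.card K = 3 ^ (2 * m + 1))
  (hperf : ∀ x : K, ∃ y : K, y ^ 3 = x) (f : K ≃+* K) (hf : ∀ t, f t = t ^ (3 ^ m))
include hK hf

theorem frob_key (t : K) : ((t ^ (3 ^ m)) ^ (3 ^ m)) ^ 3 = t := by
  rw [← pow_mul, ← pow_mul]
  have : 3 ^ m * (3 ^ m * 3) = 3 ^ (2 * m + 1) := by ring
  rw [this, ← hK, FiniteField.pow_card]

theorem ff_cube (t : K) : (f (f t)) ^ 3 = t := by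
  rw [hf, hf]
  exact frob_key hK f hf t

theorem ff_cube' (t : K) : f ((f t) ^ 3) = t := by
  rw [map_pow]
  exact ff_cube hK f hf t

omit hK hf in
theorem reeWordV_eq (e : ℕ) (t u v : K) : reeWordV e t u v =
    [(4, -(t ^ e)), (5, -t), (3, -(t ^ (e + 1) + u ^ e)), (2, -(t ^ (2 * e + 1) + v ^ e)), (1, -u), (0, -v)] := by
  have h : chevG2.negIdx.getD 7 0 = 4 ∧ chevG2.negIdx.getD 6 0 = 5 ∧ chevG2.negIdx.getD 8 0 = 3 ∧
      chevG2.negIdx.getD 9 0 = 2 ∧ chevG2.negIdx.getD 10 0 = 1 ∧ chevG2.negIdx.getD 11 0 = 0 := by decide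
  simp only [reeWordV, ChevalleyDatum.negWord, reeWordU, List.map_cons, List.map_nil, g2a, g2b, g2ab, g2aab,
    g2aaab, g2aaabb, h.1, h.2.1, h.2.2.1, h.2.2.2.1, h.2.2.2.2.1, h.2.2.2.2.2]

theorem aux3 (t u : K) : (f (t ^ (3 ^ m + 1) + u ^ 3 ^ m)) ^ 3 = t * (t ^ 3 ^ m) ^ 3 + u := by
  have e1 : (f (t ^ 3 ^ m)) ^ 3 = t := by rw [← hf]; exact ff_cube hK f hf t
  have e1u : (f (u ^ 3 ^ m)) ^ 3 = u := by rw [← hf]; exact ff_cube hK f hf u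
  have e5 : f (t ^ (3 ^ m + 1)) = f (t ^ 3 ^ m) * f t := by rw [pow_succ, map_mul]
  rw [map_add, add_cube_char, e5, mul_pow, e1, e1u, hf t]

theorem aux4 (t v : K) : (f (t ^ (2 * 3 ^ m + 1) + v ^ 3 ^ m)) ^ 3 = t ^ 2 * (t ^ 3 ^ m) ^ 3 + v := by
  have e1 : (f (t ^ 3 ^ m)) ^ 3 = t := by rw [← hf]; exact ff_cube hK f hf t
  have e1v : (f (v ^ 3 ^ m)) ^ 3 = v := by rw [← hf]; exact ff_cube hK f hf v
  have e5 : f (t ^ (2 * 3 ^ m + 1)) = (f (t ^ 3 ^ m)) ^ 2 * f t := by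
    rw [pow_succ, map_mul, mul_comm 2, pow_mul, map_pow]
  rw [map_add, add_cube_char, e5, mul_pow, ← pow_mul, mul_comm 2 3, pow_mul, e1, e1v, hf t]

/-- the words `reeWordU` are fixed -/
theorem fixed_pos (t u v : K) :
    (tw hperf f).σ (wordGL chevG2 hF.xadd (reeWordU (3 ^ m) t u v)) =
      wordGL chevG2 hF.xadd (reeWordU (3 ^ m) t u v) := by
  show (tw hperf f).σ (wordGL chevG2 hF.xadd [(7, t ^ 3 ^ m), (6, t), (8, t ^ (3 ^ m + 1) + u ^ 3 ^ m),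
    (9, t ^ (2 * 3 ^ m + 1) + v ^ 3 ^ m), (10, u), (11, v)]) =
    wordGL chevG2 hF.xadd [(7, t ^ 3 ^ m), (6, t), (8, t ^ (3 ^ m + 1) + u ^ 3 ^ m),
    (9, t ^ (2 * 3 ^ m + 1) + v ^ 3 ^ m), (10, u), (11, v)]
  rw [sigma_pos]
  apply wordGL_congr_val
  rw [MCalc.g2I3p]
  have e1 : (f (t ^ 3 ^ m)) ^ 3 = t := by rw [← hf]; exact ff_cube hK f hf t
  rw [e1, aux3 hK f hf, aux4 hK f hf, hf t, hf u, hf v]
  have h3 := three_eq_zero (K := K)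
  have c1 : u ^ 3 ^ m + t * t ^ 3 ^ m = t ^ (3 ^ m + 1) + u ^ 3 ^ m := by rw [pow_succ]; ring
  have hp2 : t ^ (2 * 3 ^ m + 1) = (t ^ 3 ^ m) ^ 2 * t := by
    rw [pow_succ t (2 * 3 ^ m), mul_comm 2 (3 ^ m), pow_mul]
  have c2 : v ^ 3 ^ m + t * (t ^ 3 ^ m) ^ 2 = t ^ (2 * 3 ^ m + 1) + v ^ 3 ^ m := by
    rw [hp2]; ring
  have c3 : t * (t ^ 3 ^ m) ^ 3 + u + 2 * t * (t ^ 3 ^ m) ^ 3 = u := by
    linear_combination (t * (t ^ 3 ^ m) ^ 3) * h3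
  have c4 : t ^ 2 * (t ^ 3 ^ m) ^ 3 + v + 2 * t ^ 2 * (t ^ 3 ^ m) ^ 3 = v := by
    linear_combination (t ^ 2 * (t ^ 3 ^ m) ^ 3) * h3
  rw [c1, c2, c3, c4]

/-- the words `reeWordV` are fixed -/
theorem fixed_neg (t u v : K) :
    (tw hperf f).σ (wordGL chevG2 hF.xadd (reeWordV (3 ^ m) t u v)) =
      wordGL chevG2 hF.xadd (reeWordV (3 ^ m) t u v) := by
  rw [reeWordV_eq, sigma_neg]
  apply wordGL_congr_val
  rw [MCalc.g2I3m]
  have e1 : (f (t ^ 3 ^ m)) ^ 3 = t := by rw [← hf]; exact ff_cube hK f hf t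
  have h3 := three_eq_zero (K := K)
  simp only [map_neg, neg_cube]
  rw [e1, aux3 hK f hf, aux4 hK f hf, hf t, hf u, hf v]
  have c1 : -u ^ 3 ^ m + 2 * -t * -t ^ 3 ^ m = -(t ^ (3 ^ m + 1) + u ^ 3 ^ m) := by
    rw [pow_succ]
    linear_combination (t * t ^ 3 ^ m) * h3
  have hp2 : t ^ (2 * 3 ^ m + 1) = (t ^ 3 ^ m) ^ 2 * t := by
    rw [pow_succ t (2 * 3 ^ m), mul_comm 2 (3 ^ m), pow_mul]
  have c2 : -v ^ 3 ^ m + -t * (-t ^ 3 ^ m) ^ 2 = -(t ^ (2 * 3 ^ m + 1) + v ^ 3 ^ m) := by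
    rw [hp2]; ring
  have c3 : -(t * (t ^ 3 ^ m) ^ 3 + u) + -t * -(t ^ 3 ^ m) ^ 3 = -u := by ring
  have c4 : -(t ^ 2 * (t ^ 3 ^ m) ^ 3 + v) + 2 * (-t) ^ 2 * -(t ^ 3 ^ m) ^ 3 = -v := by
    linear_combination (-(t ^ 2 * (t ^ 3 ^ m) ^ 3)) * h3
  rw [c1, c2, c3, c4]

/-- the fixed points of `σ` on `U` -/
theorem fix_u (b : GL chevG2.Idx K) (hb : b ∈ negPart chevG2 hF.xadd [0, 1, 0, 1, 0, 1])
    (hfix : (tw hperf f).σ b = b) :
    ∃ t u v : K, b = wordGL chevG2 hF.xadd (reeWordU (3 ^ m) t u v) := by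
  obtain ⟨a1, a2, a3, a4, a5, a6, rfl⟩ := exists_u b hb
  rw [sigma_idx] at hfix
  have h1 := wordGL_congr_val _ _
    (MCalc.g2I1p (f a1) ((f a2) ^ 3) ((f a3) ^ 3) ((f a4) ^ 3) (f a5) (f a6))
  rw [h1] at hfix
  obtain ⟨k1, k2, k3, k4, k5, k6⟩ := inj_u _ _ _ _ _ _ _ _ _ _ _ _ hfix
  have h3 := three_eq_zero (K := K)
  refine ⟨a1, (f a3) ^ 3, (f a4) ^ 3, ?_⟩
  show _ = wordGL chevG2 hF.xadd [(7, a1 ^ 3 ^ m), (6, a1), (8, a1 ^ (3 ^ m + 1) + ((f a3) ^ 3) ^ 3 ^ m),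
    (9, a1 ^ (2 * 3 ^ m + 1) + ((f a4) ^ 3) ^ 3 ^ m), (10, (f a3) ^ 3), (11, (f a4) ^ 3)]
  rw [wordGL_congr_val _ _ (MCalc.g2I2p (a1 ^ 3 ^ m) a1 (a1 ^ (3 ^ m + 1) + ((f a3) ^ 3) ^ 3 ^ m)
    (a1 ^ (2 * 3 ^ m + 1) + ((f a4) ^ 3) ^ 3 ^ m) ((f a3) ^ 3) ((f a4) ^ 3))]
  have e2 : a2 = a1 ^ 3 ^ m := by rw [← k2, hf]
  have e3 : ((f a3) ^ 3) ^ 3 ^ m = a3 := by rw [← hf]; exact ff_cube' hK f hf a3
  have e4 : ((f a4) ^ 3) ^ 3 ^ m = a4 := by rw [← hf]; exact ff_cube' hK f hf a4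
  have c3 : a1 ^ (3 ^ m + 1) + ((f a3) ^ 3) ^ 3 ^ m + 2 * a1 ^ 3 ^ m * a1 = a3 := by
    rw [e3, pow_succ]
    linear_combination (a1 ^ 3 ^ m * a1) * h3
  have c4 : a1 ^ (2 * 3 ^ m + 1) + ((f a4) ^ 3) ^ 3 ^ m + 2 * (a1 ^ 3 ^ m) ^ 2 * a1 = a4 := by
    rw [e4, pow_succ a1 (2 * 3 ^ m), mul_comm 2 (3 ^ m), pow_mul]
    linear_combination ((a1 ^ 3 ^ m) ^ 2 * a1) * h3
  have c5 : (f a3) ^ 3 + (a1 ^ 3 ^ m) ^ 3 * a1 = a5 := by
    rw [← k5, k1, hf a1]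
  have c6 : (f a4) ^ 3 + (a1 ^ 3 ^ m) ^ 3 * a1 ^ 2 = a6 := by
    rw [← k6, k1, hf a1]
  rw [c3, c4, c5, c6, ← e2]

omit hK hf in
theorem gen_mem (w : List (ℕ × K)) (hw : w ∈ g2Words K (3 ^ m)) :
    wordGL chevG2 hF.xadd w ∈ twistedG2 K (3 ^ m) :=
  Subgroup.subset_closure ⟨w, hw, wordGL_val chevG2 hF.xadd w⟩

omit hK hf in
theorem pos_mem (t u v : K) : reeWordU (3 ^ m) t u v ∈ g2Words K (3 ^ m) := ⟨t, u, v, Or.inl rfl⟩

omit hK hf in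
theorem neg_mem (t u v : K) : reeWordV (3 ^ m) t u v ∈ g2Words K (3 ^ m) := ⟨t, u, v, Or.inr rfl⟩

omit hK hf in
theorem neg_one_pow_e : (-1 : K) ^ 3 ^ m = -1 := Odd.neg_one_pow (Odd.pow (by decide))

omit hK hf in
/-- the representative of the class -/
theorem nWord_eq :
    nWordGL chevG2 (hF (K := K)).xadd [0, 1, 0, 1, 0, 1] =
      wordGL chevG2 hF.xadd (reeWordU (3 ^ m) (0 : K) 0 1) *
        wordGL chevG2 hF.xadd (reeWordV (3 ^ m) (-1 : K) (-1) (-1)) *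
        wordGL chevG2 hF.xadd (reeWordU (3 ^ m) (-1 : K) 0 1) := by
  rw [nWordGL_eq_wordGL, ← wordGL_append, ← wordGL_append, reeWordV_eq]
  apply wordGL_congr_val
  rw [MCalc.g2N]
  have h0 : (0 : K) ^ 3 ^ m = 0 := zero_pow (pow_ne_zero _ (by norm_num))
  have h1 : (0 : K) ^ (3 ^ m + 1) = 0 := zero_pow (Nat.succ_ne_zero _)
  have h2 : (0 : K) ^ (2 * 3 ^ m + 1) = 0 := zero_pow (Nat.succ_ne_zero _)
  have h3 := three_eq_zero (K := K)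
  have hm : (-1 : K) ^ 3 ^ m = -1 := neg_one_pow_e
  have hm1 : (-1 : K) ^ (3 ^ m + 1) = 1 := by rw [pow_succ, hm]; ring
  have hm2 : (-1 : K) ^ (2 * 3 ^ m + 1) = -1 := by
    rw [pow_succ (-1 : K) (2 * 3 ^ m), mul_comm 2 (3 ^ m), pow_mul, hm]; ring
  have hm3 : -((-1 : K) + -1) = -1 := by linear_combination h3
  simp only [reeWordU, g2a, g2b, g2ab, g2aab, g2aaab, g2aaabb, h0, h1, h2, hm, hm1, hm2, one_pow, add_zero,
    zero_add, neg_neg, List.cons_append, List.nil_append, add_neg_cancel, neg_zero, hm3, neg_add_cancel]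

omit hK hf in
theorem wordGL_zeros6 (r1 r2 r3 r4 r5 r6 : ℕ) :
    wordGL chevG2 (hF (K := K)).xadd [(r1, 0), (r2, 0), (r3, 0), (r4, 0), (r5, 0), (r6, 0)] = 1 := by
  simp [wordGL_cons, wordGL_nil, xGL_zero]

/-- **the class data of `²G₂(q)`** -/
theorem clsData : ClsData hF (tw hperf f) S l₀ (twistedG2 K (3 ^ m)) := by
  have hfixed : ∀ g ∈ twistedG2 K (3 ^ m), g ∈ chevG2.group K ∧ (tw hperf f).σ g = g := by
    apply (tw hperf f).fixed_of_gens hF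
    rintro g ⟨w, hw, hg⟩
    have hgw : g = wordGL chevG2 hF.xadd w := Units.ext (by rw [hg, wordGL_val])
    rw [hgw]
    refine ⟨wordGL_mem_group _ _ _, ?_⟩
    obtain ⟨t, u, v, rfl | rfl⟩ := hw
    · exact fixed_pos hK hperf f hf t u v
    · exact fixed_neg hK hperf f hf t u v
  apply ClsData.of_chk (show ClsChk chevG2 (tw hperf f).ρ (tw hperf f).π S l₀ from chk)
  · exact fun g hg => (hfixed g hg).1
  · exact fun g hg => (hfixed g hg).2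
  · intro w hw
    simp only [S, List.mem_cons, List.not_mem_nil, or_false] at hw
    subst hw
    rw [nWord_eq (m := m)]
    exact mul_mem (mul_mem (gen_mem _ (pos_mem _ _ _)) (gen_mem _ (neg_mem _ _ _)))
      (gen_mem _ (pos_mem _ _ _))
  · intro w hw b hb hfix
    simp only [S, List.mem_cons, List.not_mem_nil, or_false] at hw
    subst hw
    obtain ⟨t, u, v, rfl⟩ := fix_u hK hperf f hf b hb hfix
    exact gen_mem _ (pos_mem _ _ _)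
  · intro w hw
    simp only [S, List.mem_cons, List.not_mem_nil, or_false] at hw
    subst hw
    refine ⟨wordGL chevG2 hF.xadd [(6, 0), (7, 0), (8, 0), (9, 1), (10, 0), (11, 1)],
      mem_negPart_u _ _ _ _ _ _, ?_, ?_⟩
    · have e : wordGL chevG2 hF.xadd [(6, (0 : K)), (7, 0), (8, 0), (9, 1), (10, 0), (11, 1)] =
          wordGL chevG2 hF.xadd (reeWordU (3 ^ m) (0 : K) 0 1) := by
        have h0 : (0 : K) ^ 3 ^ m = 0 := zero_pow (pow_ne_zero _ (by norm_num))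
        have h1 : (0 : K) ^ (3 ^ m + 1) = 0 := zero_pow (Nat.succ_ne_zero _)
        have h2 : (0 : K) ^ (2 * 3 ^ m + 1) = 0 := zero_pow (Nat.succ_ne_zero _)
        show _ = wordGL chevG2 hF.xadd [(7, (0 : K) ^ 3 ^ m), (6, 0), (8, 0 ^ (3 ^ m + 1) + 0 ^ 3 ^ m),
          (9, 0 ^ (2 * 3 ^ m + 1) + 1 ^ 3 ^ m), (10, 0), (11, 1)]
        rw [wordGL_congr_val _ _ (MCalc.g2I2p ((0 : K) ^ 3 ^ m) 0 (0 ^ (3 ^ m + 1) + 0 ^ 3 ^ m)
          (0 ^ (2 * 3 ^ m + 1) + 1 ^ 3 ^ m) 0 1)]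
        simp [h0, h1, h2]
      rw [e]
      exact fixed_pos hK hperf f hf 0 0 1
    · intro h1
      rw [← wordGL_zeros6 6 7 8 9 10 11] at h1
      exact one_ne_zero (inj_u _ _ _ _ _ _ _ _ _ _ _ _ h1).2.2.2.1

end finite

end Cfsg.Agent.Lead.Tw.G2
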