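import Mathlib
import Cfsg.Agent.Lib.Lead.IsoCalc
import Cfsg.Prelude.Def_LieTwisted

/-!
Word identities in the unipotent groups (generated, verified by the calculator).
-/

set_option autoImplicit false

namespace Cfsg.Agent.Lead.MCalc

open Cfsg Cfsg.Lie

def g2Z_A : List (ℕ × LPoly) := [(7, []), (6, []), (8, []), (9, [⟨1, 0, 0, 0, 0, 0, 0⟩]), (10, []), (11, [⟨1, 0, 0, 0, 0, 0, 0⟩]), (4, []), (5, []), (3, []), (2, [⟨-1, 0, 0, 0, 0, 0, 0⟩]), (1, []), (0, [⟨-1, 0, 0, 0, 0, 0, 0⟩]), (7, [⟨1, 0, 0, 0, 0, 0, 0⟩]), (6, [⟨1, 0, 0, 0, 0, 0, 0⟩]), (8, [⟨-1, 0, 0, 0, 0, 0, 0⟩]), (9, [⟨-1, 0, 0, 0, 0, 0, 0⟩]), (10, [⟨1, 0, 0, 0, 0, 0, 0⟩]), (11, [⟨1, 0, 0, 0, 0, 0, 0⟩]), (4, [⟨1, 0, 0, 0, 0, 0, 0⟩]), (5, [⟨1, 0, 0, 0, 0, 0, 0⟩]), (3, [⟨1, 0, 0, 0, 0, 0, 0⟩]), (2, [⟨-1,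 0, 0, 0, 0, 0, 0⟩]), (1, [⟨-1, 0, 0, 0, 0, 0, 0⟩]), (0, [⟨1, 0, 0, 0, 0, 0, 0⟩])]

def g2Z_B : List (ℕ × LPoly) := [(7, [⟨-1, 0, 0, 0, 0, 0, 0⟩]), (4, [⟨1, 0, 0, 0, 0, 0, 0⟩]), (7, [⟨-1, 0, 0, 0, 0, 0, 0⟩]), (7, [⟨-1, 0, 0, 0, 0, 0, 0⟩]), (4, [⟨1, 0, 0, 0, 0, 0, 0⟩]), (7, [⟨-1, 0, 0, 0, 0, 0, 0⟩]), (6, [⟨-1, 0, 0, 0, 0, 0, 0⟩]), (5, [⟨1, 0, 0, 0, 0, 0, 0⟩]), (6, [⟨-1, 0, 0, 0, 0, 0, 0⟩]), (6, [⟨-1, 0, 0, 0, 0, 0, 0⟩]), (5, [⟨1, 0, 0, 0, 0, 0, 0⟩]), (6, [⟨-1, 0, 0, 0, 0, 0, 0⟩])]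

theorem g2Z_chk : wordEqN 3 chevG2 g2Z_A g2Z_B = true := by decide +kernel

/-- a diagonal involution of `²G₂` as a product of four generators -/
theorem g2Z {K : Type*} [Field K] [CharP K 3] :
    chevG2.wordMat K [(7, 0), (6, 0), (8, 0), (9, 1), (10, 0), (11, 1), (4, 0), (5, 0), (3, 0), (2, -1), (1, 0), (0, -1), (7, 1), (6, 1), (8, -1), (9, -1), (10, 1), (11, 1), (4, 1), (5, 1), (3, 1), (2, -1), (1, -1), (0, 1)] =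
      chevG2.wordMat K [(7, -1), (4, 1), (7, -1), (7, -1), (4, 1), (7, -1), (6, -1), (5, 1), (6, -1), (6, -1), (5, 1), (6, -1)] := by
  have h := wordMat_eq_of_wordEqN 3 chevG2 (⟨0, 0, 0, 0, 0, 0⟩ : Val K) g2Z_A g2Z_B g2Z_chk
  have e1 : evalWord (⟨0, 0, 0, 0, 0, 0⟩ : Val K) g2Z_A = [(7, 0), (6, 0), (8, 0), (9, 1), (10, 0), (11, 1), (4, 0), (5, 0), (3, 0), (2, -1), (1, 0), (0, -1), (7, 1), (6, 1), (8, -1), (9, -1), (10, 1), (11, 1), (4, 1), (5, 1), (3, 1), (2, -1), (1, -1), (0, 1)] := by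
    simp [evalWord, evalP, Term.eval, g2Z_A]
  have e2 : evalWord (⟨0, 0, 0, 0, 0, 0⟩ : Val K) g2Z_B = [(7, -1), (4, 1), (7, -1), (7, -1), (4, 1), (7, -1), (6, -1), (5, 1), (6, -1), (6, -1), (5, 1), (6, -1)] := by
    simp [evalWord, evalP, Term.eval, g2Z_B]
  rw [e1, e2] at h
  exact h

end Cfsg.Agent.Lead.MCalc
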