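import Mathlib
import Cfsg.Agent.Lib.Lead.TwG2Cls
import Cfsg.Agent.Lib.Lead.TwG2Z
import Cfsg.Agent.Lib.Lead.TwReeTorus

/-!
# The torus `H¹` of `²G₂(q)`
-/

set_option autoImplicit false
set_option linter.unusedSectionVars false
set_option linter.unusedSimpArgs false
set_option linter.unusedVariables false

namespace Cfsg.Agent.Lead.Tw.G2

open Cfsg Cfsg.Lie Cfsg.Agent.Lead.Chev Cfsg.Agent.Lead.ZPM

/-- the exponents of the twist -/
def lam : ℕ → ℕ := fun r => MCalc.isoLam_G2.getD r 0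

/-- the permutation of the fundamental roots -/
def πe : Equiv.Perm (Fin chevG2.rank) := Fin.revPerm

/-- the exponents at the fundamental roots -/
def lamS : Fin chevG2.rank → ℕ := fun k => lam (chevG2.simple k.val)

theorem hlneg : ∀ r < chevG2.nroots, lam (chevG2.neg r) = lam r := by decide +kernel

theorem hcart : ∀ k : Fin chevG2.rank, ∀ r < chevG2.nroots,
    (lamS k : ℤ) * chevG2.cartan (πe k).val (ρ r) = chevG2.cartan k.val r * (lam r : ℤ) := by
  decide +kernel

theorem hρs : ∀ s < chevG2.nroots, ∃ r < chevG2.nroots, ρ r = s := by decide +kernel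

theorem hsurj : ∀ s, chevG2.IsNegRoot s → ∃ r, chevG2.IsPosRoot r ∧ reflWord chevG2 (wordOf l₀) r = s := by
  have h : ∀ s < chevG2.nroots, chevG2.IsNegRoot s →
      ∃ r < chevG2.nroots, chevG2.IsPosRoot r ∧ reflWord chevG2 (wordOf l₀) r = s := by decide +kernel
  intro s hs
  obtain ⟨r, -, hr⟩ := h s hs.1 hs
  exact ⟨r, hr⟩

theorem smithA : matOfL chevG2.rank smithU_G2 * cartanMat chevG2 * matOfL chevG2.rank smithV_G2 = 1 := by
  decide +kernel

theorem smithB : matOfL chevG2.rank smithV_G2 * (matOfL chevG2.rank smithU_G2 * cartanMat chevG2) = 1 := by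
  decide +kernel

theorem torus_inj {K : Type*} [Field K] : Function.Injective (torusHom chevG2 K) :=
  torusHom_injective _ rootCoef_G2 (by decide) _ _ smithA smithB

theorem orth_8_10 : Orth chevG2 8 10 ∧ Orth chevG2 8 (chevG2.neg 10) ∧ Orth chevG2 (chevG2.neg 8) 10 ∧
    Orth chevG2 (chevG2.neg 8) (chevG2.neg 10) := by decide +kernel

theorem pos_roots : chevG2.IsPosRoot 8 ∧ chevG2.IsPosRoot 10 := by decide +kernel

theorem rho_vals' : ρ 8 = 10 ∧ ρ 10 = 8 := by decide +kernel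

theorem lam_vals' : lam 8 = 3 ∧ lam 10 = 1 := by decide +kernel

theorem cor_vals : ∀ i < 2,
    (chevG2.coroot.getD 8 #[]).getD i 0 = ([1, 3] : List ℤ).getD i 0 ∧
    (chevG2.coroot.getD 10 #[]).getD i 0 = ([1, 1] : List ℤ).getD i 0 ∧
    (chevG2.coroot.getD 7 #[]).getD i 0 = ([1, 0] : List ℤ).getD i 0 ∧
    (chevG2.coroot.getD 6 #[]).getD i 0 = ([0, 1] : List ℤ).getD i 0 := by decide +kernel

theorem pi_vals : πe.symm ⟨0, by decide⟩ = ⟨1, by decide⟩ := by decide

section finite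

variable {K : Type*} [Field K] [Fintype K] [CharP K 3] {m : ℕ} (hK : Fintype.card K = 3 ^ (2 * m + 1))
  (hperf : ∀ x : K, ∃ y : K, y ^ 3 = x) (f : K ≃+* K) (hf : ∀ t, f t = t ^ (3 ^ m))
include hK hperf hf

omit hK hf [Fintype K] in
theorem hcm : ∀ r < chevG2.nroots, ∀ a t : K,
    (tw hperf f).c r (a * t) = (f a) ^ (lam r) * (tw hperf f).c r t := by
  intro r _ a t
  rw [tw_c, tw_c, map_mul, mul_pow]
  rfl

/-- the parameters of the elements of `H¹` are fixed by the twist -/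
theorem twPl_eq (c : Fin chevG2.rank → Kˣ) (hc : torusHom chevG2 K c ∈ twistedG2 K (3 ^ m)) :
    twPl f πe lamS c = c := by
  apply torus_inj
  exact torusHom_twPl (hF := hF) (tw hperf f) f lam πe lamS (hcm hperf f) hlneg hcart hρs c
    ((clsData hK hperf f hf).fixed _ hc)

/-- the upper bound -/
theorem card_H_le :
    Nat.card ↥(chevG2.diagonalSubgroup K ⊓ twistedG2 K (3 ^ m)) ≤ 3 ^ (2 * m + 1) - 1 := by
  classical
  have hex : ∀ g : ↥(chevG2.diagonalSubgroup K ⊓ twistedG2 K (3 ^ m)),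
      ∃ c : Fin chevG2.rank → Kˣ, torusHom chevG2 K c = g.1 := by
    intro g
    have h1 : g.1 ∈ chevG2.diagonalSubgroup K := g.2.1
    have h2 : g.1 ∈ (torusHom chevG2 K).range := by
      rw [torusHom_range chevG2 (hF (K := K)).xadd (hF (K := K)).hsimple (hF (K := K)).hall
        (hF (K := K)).simple_lt]
      exact h1
    exact h2
  choose cOf hcOf using hex
  have hfix : ∀ g, twPl f πe lamS (cOf g) = cOf g := by
    intro g
    apply twPl_eq hK hperf f hf
    rw [hcOf]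
    exact g.2.2
  let Φ : ↥(chevG2.diagonalSubgroup K ⊓ twistedG2 K (3 ^ m)) → Kˣ := fun g => cOf g ⟨1, by decide⟩
  have hinj : Function.Injective Φ := by
    intro g g' hgg
    have h1 : cOf g ⟨1, by decide⟩ = cOf g' ⟨1, by decide⟩ := hgg
    have h0 : cOf g ⟨0, by decide⟩ = cOf g' ⟨0, by decide⟩ := by
      rw [← hfix g, ← hfix g']
      unfold twPl
      rw [pi_vals, h1]
    have hc : cOf g = cOf g' := by
      funext i
      have : i = ⟨0, by decide⟩ ∨ i = ⟨1, by decide⟩ := by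
        rcases i with ⟨i, hi'⟩
        have hi2 : i < 2 := hi'
        interval_cases i <;> simp
      rcases this with rfl | rfl
      · exact h0
      · exact h1
    apply Subtype.ext
    rw [← hcOf g, ← hcOf g', hc]
  have h1 := Nat.card_le_card_of_injective Φ hinj
  have h2 : Nat.card Kˣ = 3 ^ (2 * m + 1) - 1 := by
    rw [Nat.card_eq_fintype_card, Fintype.card_units, hK]
  rw [h2] at h1
  exact h1

omit hK hf in
/-- the elements of `H¹` -/
noncomputable def hElt (u : Kˣ) : GL chevG2.Idx K :=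
  hGLt chevG2 hF.xadd 8 ((u : K) ^ 3 ^ m) * hGLt chevG2 hF.xadd 10 (u : K)

omit hK hperf hf [Fintype K] [CharP K 3] in
theorem hElt_mem_diagonal (u : Kˣ) : hElt (m := m) u ∈ chevG2.diagonalSubgroup K := by
  unfold hElt
  exact mul_mem (hGLt_mem_diagonal _ _ _ (by decide) _ (pow_ne_zero _ (Units.ne_zero u)))
    (hGLt_mem_diagonal _ _ _ (by decide) _ (Units.ne_zero u))

omit hK hf [Fintype K] in
theorem c_neg_one (r : ℕ) (hr : lam r = 1 ∨ lam r = 3) : (tw hperf f).c r (-1) = -1 := by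
  rw [tw_c, map_neg, map_one]
  show (-1 : K) ^ (lam r) = -1
  rcases hr with h | h <;> rw [h]
  · rw [pow_one]
  · ring

theorem hElt_mem (u : Kˣ) : hElt (m := m) u ∈ twistedG2 K (3 ^ m) := by
  have hcl := clsData hK hperf f hf
  unfold hElt
  have key : ∀ u : K, (f (u ^ 3 ^ m)) ^ 3 = u := by
    intro u
    rw [← hf]
    exact ff_cube hK f hf u
  refine hcl.hGLt_pair_mem hS hC hsurj 8 10 pos_roots.1 pos_roots.2 rho_vals'.1 rho_vals'.2
    orth_8_10.1 orth_8_10.2.1 orth_8_10.2.2.1 orth_8_10.2.2.2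
    (c_neg_one hperf f 10 (Or.inl lam_vals'.2)) (c_neg_one hperf f 8 (Or.inr lam_vals'.1)) _ _
    (pow_ne_zero _ (Units.ne_zero u)) (Units.ne_zero u) ?_ ?_
  · rw [tw_c]
    show (f (u : K)) ^ (lam 10) = _
    rw [lam_vals'.2, pow_one, hf]
  · rw [tw_c]
    show (f ((u : K) ^ 3 ^ m)) ^ (lam 8) = _
    rw [lam_vals'.1, key]

omit hK hperf hf [Fintype K] [CharP K 3] in
/-- the parameters of the elements -/
theorem hElt_eq (u : Kˣ) : hElt (m := m) u = torusHom chevG2 K (fun i =>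
    (u ^ 3 ^ m) ^ (([1, 3] : List ℤ).getD i.val 0) * u ^ (([1, 1] : List ℤ).getD i.val 0)) := by
  unfold hElt
  have e1 := hGLt_eq_torusHom hF 8 (by decide) (u ^ 3 ^ m)
  have e2 := hGLt_eq_torusHom hF 10 (by decide) u
  rw [Units.val_pow_eq_pow_val] at e1
  rw [e1, e2, ← map_mul]
  congr 1
  funext i
  have hi : i.val < 2 := i.2
  simp only [Pi.mul_apply]
  rw [(cor_vals i.val hi).1, (cor_vals i.val hi).2.1]

omit hK hf in
/-- the involution -/
noncomputable def zElt : GL chevG2.Idx K :=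
  hGLt chevG2 hF.xadd 7 (-1 : K) * hGLt chevG2 hF.xadd 6 (-1 : K)

omit hK hperf hf [Fintype K] [CharP K 3] in
theorem zElt_mem_diagonal : (zElt : GL chevG2.Idx K) ∈ chevG2.diagonalSubgroup K := by
  unfold zElt
  exact mul_mem (hGLt_mem_diagonal _ _ _ (by decide) _ (neg_ne_zero.2 one_ne_zero))
    (hGLt_mem_diagonal _ _ _ (by decide) _ (neg_ne_zero.2 one_ne_zero))

omit hK hperf hf [Fintype K] [CharP K 3] in
theorem zElt_eq : (zElt : GL chevG2.Idx K) = torusHom chevG2 K (fun i =>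
    (-1 : Kˣ) ^ (([1, 0] : List ℤ).getD i.val 0) * (-1 : Kˣ) ^ (([0, 1] : List ℤ).getD i.val 0)) := by
  unfold zElt
  have e1 := hGLt_eq_torusHom hF 7 (by decide) (-1 : Kˣ)
  have e2 := hGLt_eq_torusHom hF 6 (by decide) (-1 : Kˣ)
  rw [Units.val_neg, Units.val_one] at e1 e2
  rw [e1, e2, ← map_mul]
  congr 1
  funext i
  have hi : i.val < 2 := i.2
  simp only [Pi.mul_apply]
  rw [(cor_vals i.val hi).2.2.1, (cor_vals i.val hi).2.2.2]

omit hK hperf hf in
theorem zElt_mem : (zElt : GL chevG2.Idx K) ∈ twistedG2 K (3 ^ m) := by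
  have h0 : (0 : K) ^ 3 ^ m = 0 := zero_pow (pow_ne_zero _ (by norm_num))
  have h1 : (0 : K) ^ (3 ^ m + 1) = 0 := zero_pow (Nat.succ_ne_zero _)
  have h2 : (0 : K) ^ (2 * 3 ^ m + 1) = 0 := zero_pow (Nat.succ_ne_zero _)
  have h3 := three_eq_zero (K := K)
  have hm : (-1 : K) ^ 3 ^ m = -1 := neg_one_pow_e
  have hm1 : (-1 : K) ^ (3 ^ m + 1) = 1 := by rw [pow_succ, hm]; ring
  have hm2 : (-1 : K) ^ (2 * 3 ^ m + 1) = -1 := by
    rw [pow_succ (-1 : K) (2 * 3 ^ m), mul_comm 2 (3 ^ m), pow_mul, hm]; ring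
  have h11 : (1 : K) + 1 = -1 := by linear_combination h3
  have hm3 : -((-1 : K) + -1) = -1 := by linear_combination h3
  have hm4 : -((1 : K) + 1) = 1 := by linear_combination -h3
  have e : (zElt : GL chevG2.Idx K) =
      wordGL chevG2 hF.xadd (reeWordU (3 ^ m) (0 : K) 0 1) *
        wordGL chevG2 hF.xadd (reeWordV (3 ^ m) (0 : K) 0 1) *
        wordGL chevG2 hF.xadd (reeWordU (3 ^ m) (1 : K) 1 1) *
        wordGL chevG2 hF.xadd (reeWordV (3 ^ m) (-1 : K) 1 (-1)) := by
    unfold zElt hGLt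
    rw [← wordGL_append, ← wordGL_append, ← wordGL_append, ← wordGL_append, reeWordV_eq, reeWordV_eq]
    apply wordGL_congr_val
    have hn : chevG2.neg 7 = 4 ∧ chevG2.neg 6 = 5 := by decide
    have hinv : -(-1 : K)⁻¹ = 1 := by norm_num
    have hl : chevG2.hWord 7 (-1 : K) ++ chevG2.hWord 6 (-1 : K) =
        [(7, -1), (4, 1), (7, -1), (7, -1), (4, 1), (7, -1), (6, -1), (5, 1), (6, -1), (6, -1), (5, 1),
          (6, -1)] := by
      simp only [ChevalleyDatum.hWord, ChevalleyDatum.nWord, hn.1, hn.2, hinv, List.cons_append,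
        List.nil_append]
    rw [hl, ← MCalc.g2Z]
    simp only [reeWordU, g2a, g2b, g2ab, g2aab, g2aaab, g2aaabb, h0, h1, h2, hm, hm1, hm2, one_pow, add_zero,
      zero_add, neg_neg, List.cons_append, List.nil_append, add_neg_cancel, neg_zero, hm3, neg_add_cancel,
      h11, hm4]
  rw [e]
  exact mul_mem (mul_mem (mul_mem (gen_mem _ (pos_mem _ _ _)) (gen_mem _ (neg_mem _ _ _)))
    (gen_mem _ (pos_mem _ _ _))) (gen_mem _ (neg_mem _ _ _))

omit hK hperf hf [Fintype K] [CharP K 3] in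
theorem hElt_mul (a b : Kˣ) : hElt (m := m) (a * b) = hElt (m := m) a * hElt (m := m) b := by
  rw [hElt_eq, hElt_eq, hElt_eq, ← map_mul]
  congr 1
  funext i
  simp only [Pi.mul_apply]
  rw [mul_pow, mul_zpow, mul_zpow]
  exact mul_mul_mul_comm _ _ _ _

omit hK hf in
/-- the elements as a homomorphism -/
noncomputable def hHom : Kˣ →* GL chevG2.Idx K :=
  MonoidHom.mk' (fun u => hElt (m := m) u) hElt_mul

omit hK hperf hf [Fintype K] [CharP K 3] in
theorem hElt_param (u : Kˣ) (c : Fin chevG2.rank → Kˣ) (h : hElt (m := m) u = torusHom chevG2 K c) :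
    u ^ 3 ^ m * u = c ⟨0, by decide⟩ ∧ (u ^ 3 ^ m) ^ 3 * u = c ⟨1, by decide⟩ := by
  rw [hElt_eq] at h
  have h2 := torus_inj h
  have c0 := congrFun h2 ⟨0, by decide⟩
  have c1 := congrFun h2 ⟨1, by decide⟩
  constructor
  · rw [← c0]
    simp
  · rw [← c1]
    simp only [List.getD_cons_succ, List.getD_cons_zero]
    rw [zpow_one]
    rfl

omit hperf hf in
theorem card_mod_four : Fintype.card K % 4 = 3 := by
  rw [hK, pow_succ, pow_mul, Nat.mul_mod, Nat.pow_mod]
  norm_num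

/-- the lower bound -/
theorem card_H_ge :
    3 ^ (2 * m + 1) - 1 ≤ Nat.card ↥(chevG2.diagonalSubgroup K ⊓ twistedG2 K (3 ^ m)) := by
  classical
  set H1 := chevG2.diagonalSubgroup K ⊓ twistedG2 K (3 ^ m) with hH1
  set φ : Kˣ →* GL chevG2.Idx K := hHom (m := m) with hφ
  have hφa : ∀ u, φ u = hElt (m := m) u := fun u => rfl
  have hR : φ.range ≤ H1 := by
    rintro g ⟨u, rfl⟩
    rw [hφa]
    exact ⟨hElt_mem_diagonal u, hElt_mem hK hperf f hf u⟩
  have hzH : (zElt : GL chevG2.Idx K) ∈ H1 := ⟨zElt_mem_diagonal, zElt_mem⟩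
  have hzR : (zElt : GL chevG2.Idx K) ∉ φ.range := by
    rintro ⟨u, hu⟩
    rw [hφa, zElt_eq] at hu
    have h0 := (hElt_param u _ hu).1
    have h0' : (u : K) ^ (3 ^ m + 1) = -1 := by
      have := congrArg (fun x : Kˣ => (x : K)) h0
      simp only [Units.val_mul, Units.val_pow_eq_pow_val] at this
      rw [pow_succ, this]
      simp
    have hodd : Odd (3 ^ m) := Odd.pow (by decide)
    obtain ⟨k, hk⟩ := hodd
    have hsq : IsSquare (-1 : K) := by
      refine ⟨(u : K) ^ (k + 1), ?_⟩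
      rw [← h0', ← pow_add]
      congr 1
      omega
    exact (FiniteField.isSquare_neg_one_iff.1 hsq) (card_mod_four hK)
  have hker : Nat.card φ.ker ≤ 2 := by
    have hsub : ∀ u : φ.ker, (u : Kˣ) ^ ((2 : ℕ) : ℤ) = 1 := by
      intro u
      have hu : φ u.1 = 1 := u.2
      rw [hφa] at hu
      have h1 : (1 : GL chevG2.Idx K) = torusHom chevG2 K 1 := (map_one _).symm
      rw [h1] at hu
      obtain ⟨a, b⟩ := hElt_param u.1 _ hu
      simp only [Pi.one_apply] at a b
      set v := (u : Kˣ) ^ 3 ^ m with hv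
      have e1 : v ^ 3 * (u : Kˣ) ^ 3 = 1 := by rw [← mul_pow, a, one_pow]
      have e2 : (u : Kˣ) ^ 3 = (u : Kˣ) := by
        have := e1.trans b.symm
        exact mul_left_cancel this
      rw [zpow_natCast]
      have e3 : (u : Kˣ) ^ 2 * (u : Kˣ) = 1 * (u : Kˣ) := by rw [← pow_succ, one_mul]; exact e2
      exact mul_right_cancel e3
    let ι : φ.ker → {a : Kˣ // a ^ ((2 : ℕ) : ℤ) = 1} := fun u => ⟨u.1, hsub u⟩
    have hι : Function.Injective ι := fun u v h => Subtype.ext (congrArg (fun x : {a : Kˣ // a ^ ((2 : ℕ) : ℤ) = 1} => (x : Kˣ)) h)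
    have h1 := Nat.card_le_card_of_injective ι hι
    rw [card_zpow_eq_one] at h1
    exact h1.trans (Nat.gcd_le_right _ (by norm_num))
  have hcard : Nat.card φ.range * Nat.card φ.ker = Nat.card Kˣ := by
    rw [← Nat.card_congr (QuotientGroup.quotientKerEquivRange φ).toEquiv]
    exact (Subgroup.card_eq_card_quotient_mul_card_subgroup _).symm
  have hidx : 2 * Nat.card φ.range ≤ Nat.card ↥H1 := by
    have e1 : Nat.card ↥(φ.range.subgroupOf H1) = Nat.card φ.range :=
      Nat.card_congr (Subgroup.subgroupOfEquivOfLe hR).toEquiv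
    have e2 := Subgroup.card_mul_index (φ.range.subgroupOf H1)
    have e3 : (φ.range.subgroupOf H1).index ≠ 1 := by
      intro h
      rw [Subgroup.index_eq_one, Subgroup.subgroupOf_eq_top] at h
      exact hzR (h hzH)
    have e4 : (φ.range.subgroupOf H1).index ≠ 0 := Subgroup.index_ne_zero_of_finite
    have e5 : 2 ≤ (φ.range.subgroupOf H1).index := by omega
    rw [← e2, e1, mul_comm]
    exact Nat.mul_le_mul_left _ e5
  have hq : Nat.card Kˣ = 3 ^ (2 * m + 1) - 1 := by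
    rw [Nat.card_eq_fintype_card, Fintype.card_units, hK]
  rw [← hq, ← hcard]
  calc Nat.card φ.range * Nat.card φ.ker ≤ Nat.card φ.range * 2 := Nat.mul_le_mul_left _ hker
    _ = 2 * Nat.card φ.range := mul_comm _ _
    _ ≤ _ := hidx

/-- **the order of `H¹` in `²G₂`** -/
theorem card_H :
    Nat.card ↥(chevG2.diagonalSubgroup K ⊓ twistedG2 K (3 ^ m)) = 3 ^ (2 * m + 1) - 1 :=
  le_antisymm (card_H_le hK hperf f hf) (card_H_ge hK hperf f hf)

end finite

end Cfsg.Agent.Lead.Tw.G2
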