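import Mathlib
import Cfsg.Agent.Lib.Lead.TwF4Cls
import Cfsg.Agent.Lib.Lead.TwG2Cls
import Cfsg.Agent.Lib.Lead.TwCard

/-!
# The orders of `U¹` for `²F₄` and `²G₂`
-/

set_option autoImplicit false
set_option linter.unusedSectionVars false
set_option linter.unusedSimpArgs false
set_option linter.unusedVariables false

namespace Cfsg.Agent.Lead.Tw

open Cfsg Cfsg.Lie Cfsg.Agent.Lead.Chev

section general

variable {K : Type*} [Field K] {D : ChevalleyDatum} {hF : ChevFacts D K} {T : Twist D K hF.xadd}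
  {S l₀ : List (List ℕ)} {G₁ : Subgroup (GL D.Idx K)} (h : ClsData hF T S l₀ G₁)
include h

/-- `U ∩ G¹` is the set of fixed points of `σ` on `U` -/
theorem ClsData.mem_posUnipotent_inf_iff [Fintype K] (hS : CorSize D) (hC : CorComb D) (u : GL D.Idx K) :
    u ∈ D.posUnipotent K ⊓ G₁ ↔ u ∈ D.posUnipotent K ∧ T.σ u = u := by
  have hG := h.twGroup hS hC
  constructor
  · rintro ⟨h1, h2⟩
    exact ⟨h1, h.fixed u h2⟩
  · rintro ⟨h1, h2⟩
    exact ⟨h1, hG.U_le u h1 h2⟩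

/-- the order of `U ∩ G¹` -/
theorem ClsData.card_posUnipotent_inf [Fintype K] (hS : CorSize D) (hC : CorComb D) :
    Nat.card ↥(D.posUnipotent K ⊓ G₁) =
      (l₀.map fun v => Nat.card (FixedIn T (negPart D hF.xadd v))).prod := by
  rw [← T.card_fixed_chain hF hS hC S h.gen.valid h.gen.comm
    (fun w hw => h.fixed _ (h.s_mem w hw)) l₀ h.chain_mem h.chain_red,
    Twist.negPart_eq_posUnipotent hF _ h.chain_long]
  apply Nat.card_congr
  apply Equiv.subtypeEquivRight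
  intro u
  exact h.mem_posUnipotent_inf_iff hS hC u

end general

namespace F4

variable {K : Type*} [Field K] [Fintype K] [CharP K 2] {m : ℕ} (hK : Fintype.card K = 2 ^ (2 * m + 1))
  (hperf : ∀ x : K, ∃ y : K, y ^ 2 = x) (f : K ≃+* K) (hf : ∀ t, f t = t ^ (2 ^ m))
include hK hperf hf

/-- the fixed points on the pair class -/
theorem card_fixed_pair :
    Nat.card (FixedIn (tw hperf f) (negPart chevF4 hF.xadd [0, 3])) = Fintype.card K := by
  rw [← Nat.card_eq_fintype_card]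
  symm
  apply Nat.card_congr
  refine Equiv.ofBijective (fun t : K => ⟨wordGL chevF4 hF.xadd (f4PairWord (2 ^ m) f4p1 f4p4 t), ?_,
    fixed_pair_pos hK hperf f hf t⟩) ⟨?_, ?_⟩
  · show wordGL chevF4 hF.xadd [(33, t ^ 2 ^ m), (24, t)] ∈ negPart chevF4 hF.xadd [0, 3]
    rw [← pair_comm_pos]
    exact mem_negPart_pair _ _
  · intro t t' h
    have h' : wordGL chevF4 hF.xadd [(33, t ^ 2 ^ m), (24, t)] =
        wordGL chevF4 hF.xadd [(33, t' ^ 2 ^ m), (24, t')] := congrArg Subtype.val h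
    rw [← pair_comm_pos, ← pair_comm_pos] at h'
    exact (inj_pair _ _ _ _ h').1
  · rintro ⟨b, hb, hfix⟩
    obtain ⟨t, rfl⟩ := fix_pair hK hperf f hf b hb hfix
    exact ⟨t, rfl⟩

/-- the fixed points on the class of type `B₂` -/
theorem card_fixed_b2 :
    Nat.card (FixedIn (tw hperf f) (negPart chevF4 hF.xadd [1, 2, 1, 2])) = Fintype.card K ^ 2 := by
  have : Fintype.card K ^ 2 = Nat.card (K × K) := by
    rw [Nat.card_prod, Nat.card_eq_fintype_card, sq]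
  rw [this]
  symm
  apply Nat.card_congr
  have key : ∀ t u : K, wordGL chevF4 hF.xadd (b2ClassWord (2 ^ m) f4a f4b f4ab f4aab t u) =
      wordGL chevF4 hF.xadd [(25, t), (27, t ^ 2 ^ m), (28, t ^ (2 ^ m + 1) + u + t ^ 2 ^ m * t),
        (30, u ^ (2 * 2 ^ m) + (t ^ 2 ^ m) ^ 2 * t)] := by
    intro t u
    exact wordGL_congr_val _ _ (MCalc.f4I2p (t ^ 2 ^ m) t (t ^ (2 ^ m + 1) + u) (u ^ (2 * 2 ^ m)))
  refine Equiv.ofBijective (fun p : K × K =>
    ⟨wordGL chevF4 hF.xadd (b2ClassWord (2 ^ m) f4a f4b f4ab f4aab p.1 p.2), ?_,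
    fixed_b2_pos hK hperf f hf p.1 p.2⟩) ⟨?_, ?_⟩
  · rw [key]
    exact mem_negPart_b2 _ _ _ _
  · rintro ⟨t, u⟩ ⟨t', u'⟩ h
    have h' : wordGL chevF4 hF.xadd (b2ClassWord (2 ^ m) f4a f4b f4ab f4aab t u) =
        wordGL chevF4 hF.xadd (b2ClassWord (2 ^ m) f4a f4b f4ab f4aab t' u') := congrArg Subtype.val h
    rw [key, key] at h'
    obtain ⟨k1, -, k3, -⟩ := inj_b2 _ _ _ _ _ _ _ _ h'
    subst k1
    have : u = u' := by
      have := add_right_cancel k3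
      exact add_left_cancel this
    rw [this]
  · rintro ⟨b, hb, hfix⟩
    obtain ⟨t, u, rfl⟩ := fix_b2 hK hperf f hf b hb hfix
    exact ⟨(t, u), rfl⟩

/-- **the order of `U¹` in `²F₄`** -/
theorem card_U :
    Nat.card ↥(chevF4.posUnipotent K ⊓ twistedF4 K (2 ^ m)) = (2 ^ (2 * m + 1)) ^ 12 := by
  rw [(clsData hK hperf f hf).card_posUnipotent_inf hS hC]
  simp only [l₀, List.map_cons, List.map_nil, List.prod_cons, List.prod_nil]
  rw [card_fixed_pair hK hperf f hf, card_fixed_b2 hK hperf f hf, hK]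
  ring

end F4

namespace G2

variable {K : Type*} [Field K] [Fintype K] [CharP K 3] {m : ℕ} (hK : Fintype.card K = 3 ^ (2 * m + 1))
  (hperf : ∀ x : K, ∃ y : K, y ^ 3 = x) (f : K ≃+* K) (hf : ∀ t, f t = t ^ (3 ^ m))
include hK hperf hf

/-- **the elements of `U¹` in `²G₂`** -/
theorem mem_U_iff (g : GL chevG2.Idx K) :
    g ∈ chevG2.posUnipotent K ⊓ twistedG2 K (3 ^ m) ↔
      ∃ t u v : K, (g : Matrix chevG2.Idx chevG2.Idx K) = chevG2.wordMat K (reeWordU (3 ^ m) t u v) := by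
  have hcl := clsData hK hperf f hf
  have hU : negPart chevG2 hF.xadd [0, 1, 0, 1, 0, 1] = chevG2.posUnipotent K :=
    Twist.negPart_eq_posUnipotent hF _ hcl.chain_long
  constructor
  · intro hg
    obtain ⟨h1, h2⟩ := (hcl.mem_posUnipotent_inf_iff hS hC g).1 hg
    rw [← hU] at h1
    obtain ⟨t, u, v, rfl⟩ := fix_u hK hperf f hf g h1 h2
    exact ⟨t, u, v, wordGL_val _ _ _⟩
  · rintro ⟨t, u, v, hg⟩
    have hg' : g = wordGL chevG2 hF.xadd (reeWordU (3 ^ m) t u v) :=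
      Units.ext (by rw [hg, wordGL_val])
    rw [hg']
    refine ⟨?_, gen_mem _ (pos_mem t u v)⟩
    rw [← hU]
    show wordGL chevG2 hF.xadd [(7, t ^ 3 ^ m), (6, t), (8, t ^ (3 ^ m + 1) + u ^ 3 ^ m),
      (9, t ^ (2 * 3 ^ m + 1) + v ^ 3 ^ m), (10, u), (11, v)] ∈ _
    rw [wordGL_congr_val _ _ (MCalc.g2I2p _ _ _ _ _ _)]
    exact mem_negPart_u _ _ _ _ _ _

/-- **the order of `U¹` in `²G₂`** -/
theorem card_U :
    Nat.card ↥(chevG2.posUnipotent K ⊓ twistedG2 K (3 ^ m)) = (3 ^ (2 * m + 1)) ^ 3 := by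
  have : (3 ^ (2 * m + 1)) ^ 3 = Nat.card (K × K × K) := by
    rw [Nat.card_prod, Nat.card_prod, Nat.card_eq_fintype_card, hK]
    ring
  rw [this]
  symm
  apply Nat.card_congr
  have key : ∀ t u v : K, wordGL chevG2 hF.xadd (reeWordU (3 ^ m) t u v) =
      wordGL chevG2 hF.xadd [(6, t), (7, t ^ 3 ^ m), (8, t ^ (3 ^ m + 1) + u ^ 3 ^ m + 2 * t ^ 3 ^ m * t),
        (9, t ^ (2 * 3 ^ m + 1) + v ^ 3 ^ m + 2 * (t ^ 3 ^ m) ^ 2 * t), (10, u + (t ^ 3 ^ m) ^ 3 * t),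
        (11, v + (t ^ 3 ^ m) ^ 3 * t ^ 2)] := by
    intro t u v
    exact wordGL_congr_val _ _ (MCalc.g2I2p (t ^ 3 ^ m) t (t ^ (3 ^ m + 1) + u ^ 3 ^ m)
      (t ^ (2 * 3 ^ m + 1) + v ^ 3 ^ m) u v)
  refine Equiv.ofBijective (fun p : K × K × K =>
    ⟨wordGL chevG2 hF.xadd (reeWordU (3 ^ m) p.1 p.2.1 p.2.2),
      (mem_U_iff hK hperf f hf _).2 ⟨p.1, p.2.1, p.2.2, wordGL_val _ _ _⟩⟩) ⟨?_, ?_⟩
  · rintro ⟨t, u, v⟩ ⟨t', u', v'⟩ h
    have h' : wordGL chevG2 hF.xadd (reeWordU (3 ^ m) t u v) =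
        wordGL chevG2 hF.xadd (reeWordU (3 ^ m) t' u' v') := congrArg Subtype.val h
    rw [key, key] at h'
    obtain ⟨k1, -, -, -, k5, k6⟩ := inj_u _ _ _ _ _ _ _ _ _ _ _ _ h'
    subst k1
    rw [add_right_cancel k5, add_right_cancel k6]
  · rintro ⟨g, hg⟩
    obtain ⟨t, u, v, hg'⟩ := (mem_U_iff hK hperf f hf g).1 hg
    refine ⟨(t, u, v), Subtype.ext ?_⟩
    exact Units.ext (by rw [hg', wordGL_val])

end G2

end Cfsg.Agent.Lead.Tw
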