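import Mathlib
import Cfsg.Agent.Lib.Lead.TwF4Cls
import Cfsg.Agent.Lib.Lead.TwG2Cls
import Cfsg.Agent.Lib.Lead.TwCore

/-!
# The normal core of `B¹` in `²F₄` and `²G₂` is trivial
-/

set_option autoImplicit false
set_option linter.unusedSectionVars false
set_option linter.unusedSimpArgs false
set_option linter.unusedVariables false

namespace Cfsg.Agent.Lead.Tw

open Cfsg Cfsg.Lie Cfsg.Agent.Lead.Chev

section general

variable {K : Type*} [Field K] {D : ChevalleyDatum}

/-- conjugation of a word by a diagonal element -/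
theorem ChevFacts'.conj_wordGL (hF : ChevFacts D K) (h : GL D.Idx K) (c : ℕ → K)
    (hc : ∀ i < D.rank, c i ≠ 0) (hh : (h : Matrix D.Idx D.Idx K) = Tmat D c)
    (w : List (ℕ × K)) (hw : ∀ q ∈ w, q.1 < D.nroots) :
    h * wordGL D hF.xadd w * h⁻¹ = wordGL D hF.xadd (w.map fun q => (q.1, chi D c q.1 * q.2)) := by
  induction w with
  | nil => simp [wordGL_nil]
  | cons q w ih =>
    rw [List.map_cons, wordGL_cons, wordGL_cons,
      ← ih fun q' hq' => hw q' (List.mem_cons_of_mem _ hq'),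
      ← hF.Tmat_conj_xGL h c hc hh q.1 (hw q List.mem_cons_self)]
    group

variable {hF : ChevFacts D K} {T : Twist D K hF.xadd}
  {S l₀ : List (List ℕ)} {G₁ : Subgroup (GL D.Idx K)} (h : ClsData hF T S l₀ G₁)
include h

theorem ClsData.nWordGL_wordOf_mem (l : List (List ℕ)) (hl : ∀ v ∈ l, v ∈ S) :
    nWordGL D hF.xadd (wordOf l) ∈ G₁ := by
  induction l with
  | nil =>
    simp only [wordOf, nWordGL_nil]
    exact one_mem _
  | cons v l ih =>
    simp only [wordOf]
    rw [nWordGL_append]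
    exact mul_mem (ih fun x hx => hl x (List.mem_cons_of_mem _ hx)) (h.s_mem v (hl v List.mem_cons_self))

/-- an element of `G¹` all of whose `G¹`-conjugates lie in `B` is trivial, if the elements of `U¹`
separate the characters -/
theorem ClsData.eq_one_of_conj_mem_borel
    (hsep : ∀ (k : GL D.Idx K) (c : ℕ → K), (∀ i < D.rank, c i ≠ 0) →
      (k : Matrix D.Idx D.Idx K) = Tmat D c →
      (∀ x ∈ G₁, x ∈ D.posUnipotent K → k * x * k⁻¹ = x) → ∀ i < D.rank, chi D c (D.simple i) = 1)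
    (k : GL D.Idx K) (hk : k ∈ G₁)
    (hkc : ∀ g ∈ G₁, g * k * g⁻¹ ∈ D.borelSubgroup K) : k = 1 := by
  -- step 1: such elements lie in `H`
  have step1 : ∀ k : GL D.Idx K, (∀ g ∈ G₁, g * k * g⁻¹ ∈ D.borelSubgroup K) →
      k ∈ D.diagonalSubgroup K := by
    intro k hkc
    have hkB : k ∈ D.borelSubgroup K := by
      have := hkc 1 (one_mem _)
      simpa using this
    obtain ⟨u, hu, d, hd, rfl⟩ := (hF.mem_borel_iff k).1 hkB
    set n := nWordGL D hF.xadd (wordOf l₀) with hn
    have hw : ∀ i ∈ wordOf l₀, i < D.rank := wordOf_valid S l₀ h.gen.valid h.chain_mem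
    have huN : u ∈ negPart D hF.xadd (wordOf l₀) := by
      rw [Twist.negPart_eq_posUnipotent hF _ h.chain_long]
      exact hu
    have hv := ChevFacts'.conj_negPart_mem_negUnipotent hF (wordOf l₀) hw u huN
    have hd' := nWordGL_conj_mem_diagonal D hF.xadd (etaOf D) hF.nsimple (wordOf l₀) hw d hd
    have h1 := hkc n (h.nWordGL_wordOf_mem l₀ h.chain_mem)
    have e1 : n * (u * d) * n⁻¹ = (n * u * n⁻¹) * (n * d * n⁻¹) := by group
    rw [e1] at h1
    have h2 := hF.eq_one_of_neg_mul_diag_mem_borel _ hv _ hd' h1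
    have hu1 : u = 1 := by
      have : u = n⁻¹ * (n * u * n⁻¹) * n := by group
      rw [this, h2]
      group
    rw [hu1, one_mul]
    exact hd
  have hkH := step1 k hkc
  -- the conjugates have the same property
  have hconj : ∀ x ∈ G₁, x * k * x⁻¹ ∈ D.diagonalSubgroup K := by
    intro x hx
    apply step1
    intro g hg
    have : g * (x * k * x⁻¹) * g⁻¹ = (g * x) * k * (g * x)⁻¹ := by group
    rw [this]
    exact hkc _ (mul_mem hg hx)
  obtain ⟨c, hc, hgc⟩ := exists_Tmat_of_mem D hF.hall k hkH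
  -- step 2: `k` centralises `U¹`
  have hcent : ∀ x ∈ G₁, x ∈ D.posUnipotent K → k * x * k⁻¹ = x := by
    intro x hxG hxU
    have h1 := hconj x hxG
    have h2 : x * k * x⁻¹ * k⁻¹ ∈ D.diagonalSubgroup K := mul_mem h1 (inv_mem hkH)
    have e2 : x * k * x⁻¹ * k⁻¹ = x * (k * x * k⁻¹)⁻¹ := by group
    rw [e2] at h2
    have h3 : x * (k * x * k⁻¹)⁻¹ ∈ D.posUnipotent K :=
      mul_mem hxU (inv_mem (conj_mem_posUnipotent D hF.hall hF.hconj k hkH x hxU))
    have h4 := ChevFacts'.eq_one_of_mem_posUnipotent_of_mem_diagonal hF _ h3 h2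
    exact (mul_inv_eq_one.1 h4).symm
  have hchi := hsep k c hc hgc hcent
  -- step 3: `k` centralises `G`
  have hpos : ∀ i < D.rank, ∀ t : K, Commute k (xGL D hF.xadd (D.simple i) t) := by
    intro i hi t
    have := hF.Tmat_conj_xGL k c hc hgc (D.simple i) (hF.simple_lt i hi) t
    rw [hchi i hi, one_mul] at this
    exact mul_inv_eq_iff_eq_mul.1 this
  have hneg : ∀ i < D.rank, ∀ t : K, Commute k (xGL D hF.xadd (D.neg (D.simple i)) t) := by
    intro i hi t
    have := hF.Tmat_conj_xGL k c hc hgc (D.neg (D.simple i)) (hF.neg_simple_lt i hi) t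
    rw [chi_neg D hF.cartan_neg c _ (hF.simple_lt i hi), hchi i hi, inv_one, one_mul] at this
    exact mul_inv_eq_iff_eq_mul.1 this
  have hcomm := ChevFacts'.commute_group hF k hpos hneg
  apply hF.eq_one_of_conj_mem_borel
  intro g hg
  have e : g * k * g⁻¹ = k := by
    rw [← (hcomm g hg).eq]
    group
  rw [e]
  exact diagonal_le_borel D hkH

/-- **the normal core of `B¹` is trivial** -/
theorem ClsData.normalCore_borel
    (hsep : ∀ (k : GL D.Idx K) (c : ℕ → K), (∀ i < D.rank, c i ≠ 0) →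
      (k : Matrix D.Idx D.Idx K) = Tmat D c →
      (∀ x ∈ G₁, x ∈ D.posUnipotent K → k * x * k⁻¹ = x) → ∀ i < D.rank, chi D c (D.simple i) = 1) :
    ((D.borelSubgroup K ⊓ G₁).subgroupOf G₁).normalCore = ⊥ := by
  rw [eq_bot_iff]
  intro k hk
  rw [Subgroup.mem_bot]
  apply Subtype.ext
  rw [Subgroup.coe_one]
  apply h.eq_one_of_conj_mem_borel hsep k.1 k.2
  intro g hg
  have := hk ⟨g, hg⟩
  exact (Subgroup.mem_subgroupOf.1 this).1

end general

namespace F4

variable {K : Type*} [Field K] [Fintype K] [CharP K 2] {m : ℕ} (hK : Fintype.card K = 2 ^ (2 * m + 1))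
  (hperf : ∀ x : K, ∃ y : K, y ^ 2 = x) (f : K ≃+* K) (hf : ∀ t, f t = t ^ (2 ^ m))
include hK hperf hf

theorem posWord_mem_U (w : List (ℕ × K)) (hw : ∀ q ∈ w, chevF4.IsPosRoot q.1) :
    wordGL chevF4 hF.xadd w ∈ chevF4.posUnipotent K := by
  induction w with
  | nil => rw [wordGL_nil]; exact one_mem _
  | cons q w ih =>
    rw [wordGL_cons]
    refine mul_mem ?_ (ih fun q' hq' => hw q' (List.mem_cons_of_mem _ hq'))
    exact Subgroup.subset_closure ⟨q.1, q.2, hw q List.mem_cons_self, by rw [xGL_val]⟩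

/-- the elements of `U¹` separate the characters -/
theorem sep (k : GL chevF4.Idx K) (c : ℕ → K) (hc : ∀ i < chevF4.rank, c i ≠ 0)
    (hkc : (k : Matrix chevF4.Idx chevF4.Idx K) = Tmat chevF4 c)
    (hcent : ∀ x ∈ twistedF4 K (2 ^ m), x ∈ chevF4.posUnipotent K → k * x * k⁻¹ = x) :
    ∀ i < chevF4.rank, chi chevF4 c (chevF4.simple i) = 1 := by
  -- the pair class
  have h1 := hcent _ (gen_mem _ (pair_pos_mem (m := m) (1 : K)))
    (posWord_mem_U hK hperf f hf _ (by
      intro q hq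
      have : q = (33, (1 : K) ^ 2 ^ m) ∨ q = (24, (1 : K)) := by simpa [f4PairWord, f4p1, f4p4] using hq
      rcases this with rfl | rfl <;> dsimp only <;> decide +kernel))
  have e1 : f4PairWord (2 ^ m) f4p1 f4p4 (1 : K) = [(33, 1), (24, 1)] := by
    simp [f4PairWord, f4p1, f4p4]
  rw [e1, ChevFacts'.conj_wordGL hF k c hc hkc _ (by
    intro q hq
    simp only [List.mem_cons, List.not_mem_nil, or_false] at hq
    rcases hq with rfl | rfl <;> dsimp only <;> decide)] at h1
  simp only [List.map_cons, List.map_nil, mul_one] at h1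
  rw [← pair_comm_pos, ← pair_comm_pos] at h1
  obtain ⟨k24, k33⟩ := inj_pair _ _ _ _ h1
  -- the class of type `B₂`
  have h2 := hcent _ (gen_mem _ (b2_pos_mem (m := m) (1 : K) 0))
    (posWord_mem_U hK hperf f hf _ (by
      intro q hq
      simp only [b2ClassWord, f4a, f4b, f4ab, f4aab, List.mem_cons, List.not_mem_nil, or_false] at hq
      rcases hq with rfl | rfl | rfl | rfl <;> dsimp only <;> decide +kernel))
  have e2 : b2ClassWord (2 ^ m) f4a f4b f4ab f4aab (1 : K) 0 = [(27, 1), (25, 1), (28, 1), (30, 0)] := by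
    simp [b2ClassWord, f4a, f4b, f4ab, f4aab]
  rw [e2, ChevFacts'.conj_wordGL hF k c hc hkc _ (by
    intro q hq
    simp only [List.mem_cons, List.not_mem_nil, or_false] at hq
    rcases hq with rfl | rfl | rfl | rfl <;> dsimp only <;> decide)] at h2
  simp only [List.map_cons, List.map_nil, mul_one, mul_zero] at h2
  rw [wordGL_congr_val _ _ (MCalc.f4I2p _ _ _ _), wordGL_congr_val _ _ (MCalc.f4I2p (1 : K) 1 1 0)] at h2
  obtain ⟨k25, k27, -, -⟩ := inj_b2 _ _ _ _ _ _ _ _ h2
  intro i hi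
  have hi4 : i < 4 := hi
  interval_cases i
  · exact k33
  · exact k27
  · exact k25
  · exact k24

/-- **the normal core of `B¹` in `²F₄`** -/
theorem normalCore_borel :
    ((chevF4.borelSubgroup K ⊓ twistedF4 K (2 ^ m)).subgroupOf (twistedF4 K (2 ^ m))).normalCore = ⊥ :=
  (clsData hK hperf f hf).normalCore_borel (sep hK hperf f hf)

end F4

namespace G2

variable {K : Type*} [Field K] [Fintype K] [CharP K 3] {m : ℕ} (hK : Fintype.card K = 3 ^ (2 * m + 1))
  (hperf : ∀ x : K, ∃ y : K, y ^ 3 = x) (f : K ≃+* K) (hf : ∀ t, f t = t ^ (3 ^ m))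
include hK hperf hf

theorem posWord_mem_U (w : List (ℕ × K)) (hw : ∀ q ∈ w, chevG2.IsPosRoot q.1) :
    wordGL chevG2 hF.xadd w ∈ chevG2.posUnipotent K := by
  induction w with
  | nil => rw [wordGL_nil]; exact one_mem _
  | cons q w ih =>
    rw [wordGL_cons]
    refine mul_mem ?_ (ih fun q' hq' => hw q' (List.mem_cons_of_mem _ hq'))
    exact Subgroup.subset_closure ⟨q.1, q.2, hw q List.mem_cons_self, by rw [xGL_val]⟩

/-- the elements of `U¹` separate the characters -/
theorem sep (k : GL chevG2.Idx K) (c : ℕ → K) (hc : ∀ i < chevG2.rank, c i ≠ 0)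
    (hkc : (k : Matrix chevG2.Idx chevG2.Idx K) = Tmat chevG2 c)
    (hcent : ∀ x ∈ twistedG2 K (3 ^ m), x ∈ chevG2.posUnipotent K → k * x * k⁻¹ = x) :
    ∀ i < chevG2.rank, chi chevG2 c (chevG2.simple i) = 1 := by
  have e1 : reeWordU (3 ^ m) (1 : K) 0 0 = [(7, 1), (6, 1), (8, 1), (9, 1), (10, 0), (11, 0)] := by
    have h0 : (0 : K) ^ 3 ^ m = 0 := zero_pow (pow_ne_zero _ (by norm_num))
    simp [reeWordU, g2a, g2b, g2ab, g2aab, g2aaab, g2aaabb, h0]
  have h1 := hcent _ (gen_mem _ (pos_mem (m := m) (1 : K) 0 0))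
    (posWord_mem_U hK hperf f hf _ (by
      rw [e1]
      intro q hq
      simp only [List.mem_cons, List.not_mem_nil, or_false] at hq
      rcases hq with rfl | rfl | rfl | rfl | rfl | rfl <;> dsimp only <;> decide +kernel))
  rw [e1, ChevFacts'.conj_wordGL hF k c hc hkc _ (by
    intro q hq
    simp only [List.mem_cons, List.not_mem_nil, or_false] at hq
    rcases hq with rfl | rfl | rfl | rfl | rfl | rfl <;> dsimp only <;> decide)] at h1
  simp only [List.map_cons, List.map_nil, mul_one, mul_zero] at h1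
  rw [wordGL_congr_val _ _ (MCalc.g2I2p _ _ _ _ _ _),
    wordGL_congr_val _ _ (MCalc.g2I2p (1 : K) 1 1 1 0 0)] at h1
  obtain ⟨k6, k7, -, -, -, -⟩ := inj_u _ _ _ _ _ _ _ _ _ _ _ _ h1
  intro i hi
  have hi2 : i < 2 := hi
  interval_cases i
  · exact k7
  · exact k6

/-- **the normal core of `B¹` in `²G₂`** -/
theorem normalCore_borel :
    ((chevG2.borelSubgroup K ⊓ twistedG2 K (3 ^ m)).subgroupOf (twistedG2 K (3 ^ m))).normalCore = ⊥ :=
  (clsData hK hperf f hf).normalCore_borel (sep hK hperf f hf)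

end G2

end Cfsg.Agent.Lead.Tw
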