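import Mathlib
import Cfsg.Agent.Lib.Lead.TwCount
import Cfsg.Agent.Lib.Lead.TwReeCore

/-!
# The order of a twisted group of Ree type through the Bruhat decomposition
-/

set_option autoImplicit false
set_option linter.unusedSectionVars false
set_option linter.unusedSimpArgs false
set_option linter.unusedVariables false

namespace Cfsg.Agent.Lead.Tw

open Cfsg Cfsg.Lie Cfsg.Agent.Lead.Chev

variable {K : Type*} [Field K]

/-- product of powers along a list, with a divisor of the lengths -/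
theorem prod_map_pow_div (q d : ℕ) (l : List (List ℕ)) (g : List ℕ → ℕ)
    (h : ∀ v ∈ l, g v = q ^ (v.length / d)) (hd : ∀ v ∈ l, d ∣ v.length) :
    (l.map g).prod = q ^ ((l.map List.length).sum / d) := by
  induction l with
  | nil => simp
  | cons v l ih =>
    rw [List.map_cons, List.prod_cons, List.map_cons, List.sum_cons,
      Nat.add_div_of_dvd_right (hd v List.mem_cons_self), pow_add, h v List.mem_cons_self,
      ih (fun x hx => h x (List.mem_cons_of_mem _ hx)) (fun x hx => hd x (List.mem_cons_of_mem _ hx))]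

section

variable {D : ChevalleyDatum} {hF : ChevFacts D K} {T : Twist D K hF.xadd}
  {S l₀ : List (List ℕ)} {G₁ : Subgroup (GL D.Idx K)} (h : ClsData hF T S l₀ G₁)
include h

/-- the sharp form of the Bruhat decomposition of the twisted group -/
theorem ClsData.exists_bruhat [Fintype K] (hS : CorSize D) (hC : CorComb D) (g : GL D.Idx K)
    (hg : g ∈ G₁) :
    ∃ l : List (List ℕ), (∀ v ∈ l, v ∈ S) ∧ RedChain D l ∧
      ∃ b ∈ D.borelSubgroup K ⊓ G₁, ∃ u ∈ negPart D hF.xadd (wordOf l),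
        T.σ u = u ∧ g = b * nWordGL D hF.xadd (wordOf l) * u := by
  have hG := h.twGroup hS hC
  obtain ⟨u₁, hu₁, n, hn, u, hu, f1, f2, f3, e⟩ :=
    T.exists_fixed_canonical hF hS g (hG.le_group hg) (hG.fixed g hg)
  have huU := hF.negPartN_le_posUnipotent n hu
  have h1 := hG.U_le u₁ hu₁ f1
  have h3 := hG.U_le u huU f3
  have hn₁ : n ∈ G₁ := by
    have : n = u₁⁻¹ * g * u⁻¹ := by rw [e]; group
    rw [this]
    exact mul_mem (mul_mem (inv_mem h1) hg) (inv_mem h3)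
  obtain ⟨hd, hhd, w, hw, hwc, en⟩ := hG.exists_word n hn hn₁
  obtain ⟨l, hl, hred, hact⟩ := ChevFacts'.exists_redChain hF hS T.ρ T.π S h.gen T.ρ_lt
    (fun r hr => T.ρ_negRoot hF r hr) T.ρ_simple T.π_lt w hw hwc
  have hw' := wordOf_valid S l h.gen.valid hl
  have hnl := h.nWordGL_wordOf_mem l hl
  have hd' : n * (nWordGL D hF.xadd (wordOf l))⁻¹ ∈ D.diagonalSubgroup K := by
    have := monomial_mul_inv_mem_diagonal hF hd 1 hhd (one_mem _) w (wordOf l) hw hw' hact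
    rwa [one_mul, ← en] at this
  refine ⟨l, hl, hred, u₁ * (n * (nWordGL D hF.xadd (wordOf l))⁻¹), Subgroup.mem_inf.2 ⟨?_, ?_⟩, u, ?_, f3, ?_⟩
  · exact mul_mem (posUnipotent_le_borel D hu₁) (diagonal_le_borel D hd')
  · exact mul_mem h1 (mul_mem hn₁ (inv_mem hnl))
  · rw [← negPart_congr D hF.xadd w (wordOf l) hact]
    apply ChevFacts'.negPartN_le_negPart hF hS hd hhd w hw
    rw [← en]
    exact hu
  · rw [e]
    group

/-- `|G¹| = |B¹| ∑_w q^{N(w)}` -/
theorem ClsData.card_group [Fintype K] (hS : CorSize D) (hC : CorComb D) (q d : ℕ)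
    (hq : ∀ v ∈ S, Nat.card (FixedIn T (negPart D hF.xadd v)) = q ^ (v.length / d))
    (hdvd : ∀ v ∈ S, d ∣ v.length)
    (hlen : ∀ v ∈ S, (negSet D v).card = v.length) :
    Nat.card ↥(G₁) = Nat.card ↥(D.borelSubgroup K ⊓ G₁) *
      ∑ f ∈ weylSetσ D T.ρ, q ^ (nNeg D f / d) := by
  classical
  have hG := h.twGroup hS hC
  have hex := fun g : ↥(G₁) => h.exists_bruhat hS hC g.1 g.2
  choose lOf hlOf hred hcell using hex
  have hwOf : ∀ g, ∀ i ∈ wordOf (lOf g), i < D.rank := fun g => wordOf_valid S _ h.gen.valid (hlOf g)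
  set φ : ↥(G₁) → (Fin D.nroots → Fin D.nroots) := fun g => actF D (wordOf (lOf g)) with hφ
  have hfixn : ∀ w ∈ S, T.σ (nWordGL D hF.xadd w) = nWordGL D hF.xadd w :=
    fun w hw => h.fixed _ (h.s_mem w hw)
  have hfib : ∀ f : Fin D.nroots → Fin D.nroots, Nat.card {g : ↥(G₁) // φ g = f} =
      if f ∈ weylSetσ D T.ρ then Nat.card ↥(D.borelSubgroup K ⊓ G₁) * q ^ (nNeg D f / d) else 0 := by
    intro f
    by_cases hf : f ∈ weylSetσ D T.ρ
    · rw [if_pos hf]
      obtain ⟨w₁, hw₁, hwc₁, rfl⟩ := (mem_weylSetσ D _ f).1 hf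
      obtain ⟨l, hl, hlred, hact⟩ := ChevFacts'.exists_redChain hF hS T.ρ T.π S h.gen T.ρ_lt
        (fun r hr => T.ρ_negRoot hF r hr) T.ρ_simple T.π_lt w₁ hw₁ hwc₁
      set w₀ := wordOf l with hw₀def
      have hw₀' : ∀ i ∈ w₀, i < D.rank := wordOf_valid S l h.gen.valid hl
      have hactF : actF D w₁ = actF D w₀ := (actF_eq_iff D (etaOf D) hF.facts _ _ hw₁ hw₀').2 hact
      rw [hactF, nNeg_actF D (etaOf D) hF.facts w₀ hw₀',
        ChevFacts'.card_negSet_wordOf hF hS S h.gen.valid hlen l hl hlred,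
        ← prod_map_pow_div q d l (fun v => Nat.card (FixedIn T (negPart D hF.xadd v)))
          (fun v hv => hq v (hl v hv)) (fun v hv => hdvd v (hl v hv)),
        ← T.card_fixed_chain hF hS hC S h.gen.valid h.gen.comm hfixn l hl hlred, ← Nat.card_prod]
      have hn₀ : nWordGL D hF.xadd w₀ ∈ G₁ := h.nWordGL_wordOf_mem l hl
      have hval : ∀ (b : ↥(D.borelSubgroup K ⊓ G₁)) (u : FixedIn T (negPart D hF.xadd w₀)),
          (b : GL D.Idx K) * nWordGL D hF.xadd w₀ * u.1 ∈ G₁ := fun b u =>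
        mul_mem (mul_mem b.2.2 hn₀) (hG.U_le u.1 (hF.negPart_le_posUnipotent w₀ u.2.1) u.2.2)
      have hφv : ∀ (b : ↥(D.borelSubgroup K ⊓ G₁)) (u : FixedIn T (negPart D hF.xadd w₀)),
          φ ⟨_, hval b u⟩ = actF D w₀ := by
        intro b u
        obtain ⟨b', hb', u', hu', -, e⟩ := hcell ⟨_, hval b u⟩
        have e' : (b : GL D.Idx K) * nWordGL D hF.xadd w₀ * u.1 =
            b' * nWordGL D hF.xadd (wordOf (lOf ⟨_, hval b u⟩)) * u' := e
        have := hF.cell_action w₀ _ hw₀' (hwOf _) b b' u.1 u' b.2.1 hb'.1 u.2.1 hu' e'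
        exact ((actF_eq_iff D (etaOf D) hF.facts _ _ hw₀' (hwOf _)).2 this).symm
      let ψ : ↥(D.borelSubgroup K ⊓ G₁) × FixedIn T (negPart D hF.xadd w₀) →
          {g : ↥(G₁) // φ g = actF D w₀} := fun p => ⟨⟨_, hval p.1 p.2⟩, hφv p.1 p.2⟩
      have hinj : Function.Injective ψ := by
        rintro ⟨b, u⟩ ⟨b', u'⟩ hh
        have h1 : (b : GL D.Idx K) * nWordGL D hF.xadd w₀ * u.1 = b' * nWordGL D hF.xadd w₀ * u'.1 :=
          congrArg (fun x : {g : ↥(G₁) // φ g = actF D w₀} =>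
            ((x : ↥(G₁)) : GL D.Idx K)) hh
        obtain ⟨h2, h3⟩ := hF.cell_unique w₀ hw₀' b b' u.1 u'.1 b.2.1 b'.2.1 u.2.1 u'.2.1 h1
        exact Prod.ext (Subtype.ext h2) (Subtype.ext h3)
      have hsurj : Function.Surjective ψ := by
        rintro ⟨g, hg⟩
        obtain ⟨b', hb', u', hu', hfu', e⟩ := hcell g
        have hact' : ∀ r < D.nroots, reflWord D w₀ r = reflWord D (wordOf (lOf g)) r :=
          (actF_eq_iff D (etaOf D) hF.facts _ _ hw₀' (hwOf g)).1 hg.symm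
        have hh := hF.nWordGL_inv_mul_mem_diagonal w₀ (wordOf (lOf g)) hw₀' (hwOf g) hact'
        have hh' := nWordGL_conj_mem_diagonal D hF.xadd (etaOf D) hF.nsimple w₀ hw₀' _ hh
        have hng : nWordGL D hF.xadd (wordOf (lOf g)) ∈ G₁ := h.nWordGL_wordOf_mem _ (hlOf g)
        have hu'' : u' ∈ negPart D hF.xadd w₀ := by
          rw [negPart_congr D hF.xadd w₀ (wordOf (lOf g)) hact']
          exact hu'
        have hb'' := Subgroup.mem_inf.1 hb'
        refine ⟨(⟨b' * (nWordGL D hF.xadd w₀ * ((nWordGL D hF.xadd w₀)⁻¹ * nWordGL D hF.xadd (wordOf (lOf g))) *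
          (nWordGL D hF.xadd w₀)⁻¹), Subgroup.mem_inf.2 ⟨mul_mem hb''.1 (diagonal_le_borel D hh'),
          mul_mem hb''.2 (mul_mem (mul_mem hn₀ (mul_mem (inv_mem hn₀) hng)) (inv_mem hn₀))⟩⟩,
          ⟨u', hu'', hfu'⟩), ?_⟩
        apply Subtype.ext
        apply Subtype.ext
        show b' * (nWordGL D hF.xadd w₀ * ((nWordGL D hF.xadd w₀)⁻¹ * nWordGL D hF.xadd (wordOf (lOf g))) *
          (nWordGL D hF.xadd w₀)⁻¹) * nWordGL D hF.xadd w₀ * u' = (g : GL D.Idx K)
        rw [e]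
        group
      exact (Nat.card_congr (Equiv.ofBijective ψ ⟨hinj, hsurj⟩)).symm
    · rw [if_neg hf]
      have : IsEmpty {g : ↥(G₁) // φ g = f} := by
        constructor
        rintro ⟨g, hg⟩
        exact hf ((mem_weylSetσ D _ f).2 ⟨wordOf (lOf g), hwOf g,
          T.rhoComm_wordOf hF S _ h.gen.valid h.gen.comm (hlOf g), hg⟩)
      exact Nat.card_of_isEmpty
  rw [Nat.card_congr (Equiv.sigmaFiberEquiv φ).symm, Nat.card_sigma]
  simp_rw [hfib]
  rw [← Finset.sum_filter, Finset.mul_sum]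
  apply Finset.sum_congr
  · ext f
    simp
  · intro f _
    rfl

/-- `|B¹| = |U¹| |H¹|` -/
theorem ClsData.card_borel_inf [Fintype K] (hS : CorSize D) (hC : CorComb D) :
    Nat.card ↥(D.borelSubgroup K ⊓ G₁) =
      Nat.card ↥(D.posUnipotent K ⊓ G₁) * Nat.card ↥(D.diagonalSubgroup K ⊓ G₁) := by
  have hG := h.twGroup hS hC
  rw [← Nat.card_prod]
  symm
  let ψ : ↥(D.posUnipotent K ⊓ G₁) × ↥(D.diagonalSubgroup K ⊓ G₁) →
      ↥(D.borelSubgroup K ⊓ G₁) := fun p =>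
    ⟨p.1.1 * p.2.1, mul_mem (posUnipotent_le_borel D p.1.2.1) (diagonal_le_borel D p.2.2.1),
      mul_mem p.1.2.2 p.2.2.2⟩
  have hinj : Function.Injective ψ := by
    rintro ⟨u, d⟩ ⟨u', d'⟩ hh
    have h1 : (u : GL D.Idx K) * d = u' * d' := congrArg (fun x : ↥(D.borelSubgroup K ⊓ G₁) =>
      (x : GL D.Idx K)) hh
    obtain ⟨h2, h3⟩ := Twist.fixed_borel hF u d u.2.1 d.2.1 u' d' u'.2.1 d'.2.1 h1
    exact Prod.ext (Subtype.ext h2) (Subtype.ext h3)
  have hsurj : Function.Surjective ψ := by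
    rintro ⟨b, hb, hb₁⟩
    obtain ⟨u, hu, d, hd, rfl⟩ := (hF.mem_borel_iff b).1 hb
    have hfix := hG.fixed _ hb₁
    have huG := hF.posUnipotent_le_group hu
    have hdG := hF.diagonal_le_group hd
    rw [T.map_mul _ _ huG hdG] at hfix
    obtain ⟨e1, e2⟩ := Twist.fixed_borel hF (T.σ u) (T.σ d) (T.map_mem_posUnipotent hF u hu)
      (T.map_mem_diagonal hF d hd) u d hu hd hfix
    have hu₁ := hG.U_le u hu e1
    have hd₁ : d ∈ G₁ := by
      have : d = u⁻¹ * (u * d) := by group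
      rw [this]
      exact mul_mem (inv_mem hu₁) hb₁
    exact ⟨(⟨u, hu, hu₁⟩, ⟨d, hd, hd₁⟩), rfl⟩
  exact Nat.card_congr (Equiv.ofBijective ψ ⟨hinj, hsurj⟩)

end

end Cfsg.Agent.Lead.Tw
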