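import Mathlib
import Cfsg.Agent.Lib.Lead.TwSumG
import Cfsg.Agent.Lib.Lead.TwF4

/-!
# The twisted Weyl groups of `²F₄` and `²G₂`: the elements with their lengths
-/

set_option autoImplicit false

namespace Cfsg.Agent.Lead.Tw

open Cfsg Cfsg.Lie Cfsg.Agent.Lead.Chev

namespace F4

/-- the elements of the twisted Weyl group, dihedral of order 16 -/
def twReps : List RepT := [
  ⟨[1, 0, 1, 0], [8, 29, 41, 2], [1, 2], 12⟩,
  ⟨[0, 1, 0, 1, 0], [8, 35, 31, 2], [0, 3], 14⟩,
  ⟨[0, 1, 0], [9, 29, 41, 4], [5, 0], 8⟩,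
  ⟨[1, 0, 1, 0, 1, 0], [9, 34, 26, 4], [4, 1], 18⟩,
  ⟨[0, 1, 0, 1, 0, 1, 0], [10, 27, 25, 15], [3, 6], 20⟩,
  ⟨[1, 0], [10, 35, 31, 15], [2, 7], 6⟩,
  ⟨[1, 0, 1, 0, 1, 0, 1, 0], [14, 20, 22, 23], [8, 4], 24⟩,
  ⟨[0], [14, 34, 26, 23], [9, 5], 2⟩,
  ⟨[1, 0, 1, 0, 1, 0, 1], [33, 13, 21, 24], [6, 10], 22⟩,
  ⟨[], [33, 27, 25, 24], [7, 11], 0⟩,
  ⟨[0, 1, 0, 1, 0, 1], [37, 12, 16, 32], [13, 8], 18⟩,
  ⟨[1], [37, 20, 22, 32], [12, 9], 4⟩,
  ⟨[0, 1], [38, 13, 21, 43], [11, 14], 6⟩,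
  ⟨[1, 0, 1, 0, 1], [38, 18, 6, 43], [10, 15], 16⟩,
  ⟨[1, 0, 1], [39, 12, 16, 45], [15, 12], 10⟩,
  ⟨[0, 1, 0, 1], [39, 18, 6, 45], [14, 13], 12⟩]

set_option maxRecDepth 1000000 in
theorem twChk : ∀ e ∈ twReps, repChkT chevF4 (wsOf chevF4) S twReps e = true := by
  have h : twReps.all (repChkT chevF4 (wsOf chevF4) S twReps) = true := by decide +kernel
  exact fun e he => List.all_eq_true.1 h e he

set_option maxRecDepth 1000000 in
theorem twSorted : incChk (twReps.map fun e => packL e.img) = true := by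
  decide +kernel

set_option maxRecDepth 1000000 in
theorem twHead : (twReps.any fun e => e.cl == []) = true := by
  decide +kernel

set_option maxRecDepth 1000000 in
theorem hlen : ∀ v ∈ S, (negSet chevF4 v).card = v.length := by
  decide +kernel

end F4

namespace G2

/-- the elements of the twisted Weyl group, of order 2 -/
def twReps : List RepT := [
  ⟨[0], [4, 5], [1], 6⟩,
  ⟨[], [7, 6], [0], 0⟩]

set_option maxRecDepth 1000000 in
theorem twChk : ∀ e ∈ twReps, repChkT chevG2 (wsOf chevG2) S twReps e = true := by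
  have h : twReps.all (repChkT chevG2 (wsOf chevG2) S twReps) = true := by decide +kernel
  exact fun e he => List.all_eq_true.1 h e he

set_option maxRecDepth 1000000 in
theorem twSorted : incChk (twReps.map fun e => packL e.img) = true := by
  decide +kernel

set_option maxRecDepth 1000000 in
theorem twHead : (twReps.any fun e => e.cl == []) = true := by
  decide +kernel

set_option maxRecDepth 1000000 in
theorem hlen : ∀ v ∈ S, (negSet chevG2 v).card = v.length := by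
  decide +kernel

end G2

end Cfsg.Agent.Lead.Tw
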