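import Mathlib
import Cfsg.Agent.Lib.Lead.TwReeSum
import Cfsg.Agent.Lib.Lead.TwReeCount
import Cfsg.Agent.Lib.Lead.TwReeCard
import Cfsg.Agent.Lib.Lead.TwF4Torus
import Cfsg.Agent.Lib.Lead.TwG2Torus

/-!
# The orders of `²F₄(q)` and `²G₂(q)`
-/

set_option autoImplicit false
set_option linter.unusedSectionVars false
set_option linter.unusedSimpArgs false
set_option linter.unusedVariables false

namespace Cfsg.Agent.Lead.Tw

open Cfsg Cfsg.Lie Cfsg.Agent.Lead.Chev

namespace F4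

variable {K : Type*} [Field K] [Fintype K] [CharP K 2] {m : ℕ} (hK : Fintype.card K = 2 ^ (2 * m + 1))
  (hperf : ∀ x : K, ∃ y : K, y ^ 2 = x) (f : K ≃+* K) (hf : ∀ t, f t = t ^ (2 ^ m))
include hK hperf hf

theorem sum_weyl (g : ℕ → ℕ) :
    ∑ w ∈ weylSetσ chevF4 (tw hperf f).ρ, g (nNeg chevF4 w) = (twReps.map fun e => g e.N).sum := by
  have hd := clsData hK hperf f hf
  exact sum_weylSetσ_of_chk_fun (hF (K := K)) hS (corInj_of_mem _ hmem) (wsOf chevF4)
    (wsTab_of_mem _ hmem) (tw hperf f).ρ S hd.gen.valid hd.gen.comm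
    (hd.twGroup hS hC).gen twReps (by decide) twHead twSorted twChk g

/-- **the order of `²F₄(q)`** -/
theorem card_group :
    Nat.card ↥(twistedF4 K (2 ^ m)) =
      (2 ^ (2 * m + 1)) ^ 12 * (2 ^ (2 * m + 1) - 1) * ((2 ^ (2 * m + 1)) ^ 3 + 1) *
        ((2 ^ (2 * m + 1)) ^ 4 - 1) * ((2 ^ (2 * m + 1)) ^ 6 + 1) := by
  have hd := clsData hK hperf f hf
  have hcard := hd.card_group hS hC (2 ^ (2 * m + 1)) 2 (by
    intro v hvS
    simp only [S, List.mem_cons, List.not_mem_nil, or_false] at hvS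
    rcases hvS with rfl | rfl
    · rw [card_fixed_pair hK hperf f hf, hK]
      norm_num
    · rw [card_fixed_b2 hK hperf f hf, hK]
      norm_num) (by decide) hlen
  rw [hcard, hd.card_borel_inf hS hC, card_U hK hperf f hf, card_H hK hperf f hf,
    sum_weyl hK hperf f hf (fun n => (2 ^ (2 * m + 1)) ^ (n / 2))]
  generalize hq : 2 ^ (2 * m + 1) = q
  have hq1 : 1 ≤ q := by rw [← hq]; exact Nat.one_le_two_pow
  obtain ⟨r, rfl⟩ : ∃ r, q = r + 1 := ⟨q - 1, by omega⟩
  have h4 : (r + 1) ^ 4 - 1 = r * (r + 1 + 1) * ((r + 1) ^ 2 + 1) := by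
    have : (r + 1) ^ 4 = r * (r + 1 + 1) * ((r + 1) ^ 2 + 1) + 1 := by ring
    rw [this, Nat.add_sub_cancel]
  rw [h4, Nat.add_sub_cancel]
  simp only [twReps, List.map_cons, List.map_nil, List.sum_cons, List.sum_nil]
  norm_num
  ring

end F4

namespace G2

variable {K : Type*} [Field K] [Fintype K] [CharP K 3] {m : ℕ} (hK : Fintype.card K = 3 ^ (2 * m + 1))
  (hperf : ∀ x : K, ∃ y : K, y ^ 3 = x) (f : K ≃+* K) (hf : ∀ t, f t = t ^ (3 ^ m))
include hK hperf hf

theorem sum_weyl (g : ℕ → ℕ) :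
    ∑ w ∈ weylSetσ chevG2 (tw hperf f).ρ, g (nNeg chevG2 w) = (twReps.map fun e => g e.N).sum := by
  have hd := clsData hK hperf f hf
  exact sum_weylSetσ_of_chk_fun (hF (K := K)) hS (corInj_of_mem _ hmem) (wsOf chevG2)
    (wsTab_of_mem _ hmem) (tw hperf f).ρ S hd.gen.valid hd.gen.comm
    (hd.twGroup hS hC).gen twReps (by decide) twHead twSorted twChk g

/-- **the order of `²G₂(q)`** -/
theorem card_group :
    Nat.card ↥(twistedG2 K (3 ^ m)) =
      (3 ^ (2 * m + 1)) ^ 3 * (3 ^ (2 * m + 1) - 1) * ((3 ^ (2 * m + 1)) ^ 3 + 1) := by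
  have hd := clsData hK hperf f hf
  have hfix : Nat.card (FixedIn (tw hperf f) (negPart chevG2 hF.xadd [0, 1, 0, 1, 0, 1])) =
      (3 ^ (2 * m + 1)) ^ 3 := by
    have h1 := hd.card_posUnipotent_inf hS hC
    simp only [l₀, List.map_cons, List.map_nil, List.prod_cons, List.prod_nil, mul_one] at h1
    rw [← h1, card_U hK hperf f hf]
  have hcard := hd.card_group hS hC (3 ^ (2 * m + 1)) 2 (by
    intro v hvS
    simp only [S, List.mem_cons, List.not_mem_nil, or_false] at hvS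
    subst hvS
    rw [hfix]
    norm_num) (by decide) hlen
  rw [hcard, hd.card_borel_inf hS hC, card_U hK hperf f hf, card_H hK hperf f hf,
    sum_weyl hK hperf f hf (fun n => (3 ^ (2 * m + 1)) ^ (n / 2))]
  simp only [twReps, List.map_cons, List.map_nil, List.sum_cons, List.sum_nil]
  norm_num

end G2

end Cfsg.Agent.Lead.Tw
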