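import Mathlib
import Cfsg.Agent.Lib.Lead.TwReeCount

/-!
# The decomposition `B¹ = U¹ H¹` in a twisted group of Ree type
-/

set_option autoImplicit false
set_option linter.unusedSectionVars false
set_option linter.unusedSimpArgs false
set_option linter.unusedVariables false

namespace Cfsg.Agent.Lead.Tw

open Cfsg Cfsg.Lie Cfsg.Agent.Lead.Chev

variable {K : Type*} [Field K]

section

variable {D : ChevalleyDatum} {hF : ChevFacts D K} {T : Twist D K hF.xadd}
  {S l₀ : List (List ℕ)} {G₁ : Subgroup (GL D.Idx K)} (h : ClsData hF T S l₀ G₁)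
include h

/-- `B¹ = U¹ H¹` -/
theorem ClsData.borel_decomp [Fintype K] (hS : CorSize D) (hC : CorComb D) (b : GL D.Idx K)
    (hb : b ∈ D.borelSubgroup K) (hb₁ : b ∈ G₁) :
    ∃ u ∈ D.posUnipotent K ⊓ G₁, ∃ d ∈ D.diagonalSubgroup K ⊓ G₁, b = u * d := by
  have hG := h.twGroup hS hC
  obtain ⟨u, hu, d, hd, rfl⟩ := (hF.mem_borel_iff b).1 hb
  have hfix := hG.fixed _ hb₁
  have huG := hF.posUnipotent_le_group hu
  have hdG := hF.diagonal_le_group hd
  rw [T.map_mul _ _ huG hdG] at hfix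
  obtain ⟨e1, e2⟩ := Twist.fixed_borel hF (T.σ u) (T.σ d) (T.map_mem_posUnipotent hF u hu)
    (T.map_mem_diagonal hF d hd) u d hu hd hfix
  have hu₁ := hG.U_le u hu e1
  have hd₁ : d ∈ G₁ := by
    have : d = u⁻¹ * (u * d) := by group
    rw [this]
    exact mul_mem (inv_mem hu₁) hb₁
  exact ⟨u, ⟨hu, hu₁⟩, d, ⟨hd, hd₁⟩, rfl⟩

end

end Cfsg.Agent.Lead.Tw
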