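import Mathlib

/-!
# Finite fields of characteristic `p`: perfectness and the Frobenius powers
-/

set_option autoImplicit false
set_option linter.style.haveILetI false
set_option linter.unusedVariables false

namespace Cfsg.Agent.Lead.Tw

/-- the characteristic, perfectness and the automorphism `t ↦ t ^ (p ^ m)` -/
theorem exists_ree_setup {K : Type*} [Field K] [Fintype K] (p : ℕ) (hp : p.Prime) (m : ℕ) {n : ℕ}
    (hK : Fintype.card K = p ^ n) :
    ∃ (_ : CharP K p), (∀ x : K, ∃ y : K, y ^ p = x) ∧ ∃ f : K ≃+* K, ∀ t, f t = t ^ (p ^ m) := by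
  haveI : Fact p.Prime := ⟨hp⟩
  have hn : n ≠ 0 := by
    rintro rfl
    rw [pow_zero] at hK
    have := Fintype.one_lt_card (α := K)
    omega
  haveI hc : CharP K p := by
    obtain ⟨k, rfl⟩ := Nat.exists_eq_succ_of_ne_zero hn
    exact charP_of_card_eq_prime_pow hK
  haveI : ExpChar K p := ExpChar.prime hp
  haveI : PerfectRing K p := PerfectRing.ofFiniteOfIsReduced p K
  refine ⟨hc, ?_, iterateFrobeniusEquiv K p m, ?_⟩
  · intro x
    obtain ⟨y, hy⟩ := (frobeniusEquiv K p).surjective x
    exact ⟨y, by rw [← hy, frobeniusEquiv_apply, frobenius_def]⟩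
  · intro t
    rw [iterateFrobeniusEquiv_apply, iterateFrobenius_def]

end Cfsg.Agent.Lead.Tw
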