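import Mathlib
import Cfsg.Agent.Lib.Lead.TwE6

/-!
# `²E₆(q)` is the group of the orthogonal twisting datum; its (B,N)-pair
-/

set_option autoImplicit false
set_option linter.unusedSectionVars false
set_option linter.unusedSimpArgs false
set_option linter.unusedVariables false

namespace Cfsg.Agent.Lead.Tw.E6

open Cfsg Cfsg.Lie Cfsg.Agent.Lead.Chev Cfsg.Agent.Helper6.ChevC

variable {K : Type*} [Field K]

theorem hmem : chevE6 ∈ [chevG2, chevB2, chevD4, chevF4, chevE6, chevE7, chevE8] := by simp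

/-- the facts for `E₆` -/
theorem hF : ChevFacts chevE6 K := chevFacts_of_mem chevE6 hmem

/-- the twisting datum of `²E₆` -/
noncomputable def tw (f : K ≃+* K) : Twist chevE6 K (hF (K := K)).xadd :=
  graphTwist hF GE6.gp GE6.gpInv GE6.data πs tables f

theorem c_simple (f : K ≃+* K) (i : ℕ) (hi : i < 6) (t : K) : (tw f).c (chevE6.simple i) t = f t := by
  show ((GE6.gp.ε (chevE6.simple i) : ℤ) : K) * f t = f t
  rw [GE6.eps_simple i hi]
  simp

theorem c_neg_simple (f : K ≃+* K) (i : ℕ) (hi : i < 6) (t : K) :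
    (tw f).c (chevE6.neg (chevE6.simple i)) t = f t := by
  show ((GE6.gp.ε (chevE6.neg (chevE6.simple i)) : ℤ) : K) * f t = f t
  rw [GE6.eps_neg_simple i hi]
  simp

theorem orthData (f : K ≃+* K) : OrthData hF (tw f) πs S l₀ := by
  apply OrthChk.orthData (T := tw f) chk
  · intro v hv i hi
    rw [c_simple f i (chk.valid v hv i hi), map_one]
  · intro v hv i hi
    rw [c_neg_simple f i (chk.valid v hv i hi), map_neg, map_one]


theorem simple_vals : chevE6.simple 0 = e6p1 ∧ chevE6.simple 1 = e6p2 ∧ chevE6.simple 2 = e6p3 ∧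
    chevE6.simple 3 = e6p4 ∧ chevE6.simple 4 = e6p5 ∧ chevE6.simple 5 = e6p6 := by decide +kernel

theorem neg_simple_vals : chevE6.neg (chevE6.simple 0) = e6m1 ∧ chevE6.neg (chevE6.simple 1) = e6m2 ∧
    chevE6.neg (chevE6.simple 2) = e6m3 ∧ chevE6.neg (chevE6.simple 3) = e6m4 ∧
    chevE6.neg (chevE6.simple 4) = e6m5 ∧ chevE6.neg (chevE6.simple 5) = e6m6 := by decide +kernel

section

variable [Fintype K] {q : ℕ} (hK : Fintype.card K = q ^ 2) (f : K ≃+* K) (hf : ∀ t, f t = t ^ q)
include hK hf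

theorem frob_sq (t : K) : (t ^ q) ^ q = t := by
  rw [← pow_mul, ← pow_two, ← hK, FiniteField.pow_card]

theorem fixPos_single (i : ℕ) (hi : i < 6) (h1 : πs i = i) (t : K) (ht : t ^ q = t) :
    FixPos hF (tw f) [i] (fun _ => t) := by
  intro k hk
  rw [List.mem_singleton] at hk
  subst hk
  rw [c_simple f k hi, hf, ht]

theorem fixNeg_single (i : ℕ) (hi : i < 6) (h1 : πs i = i) (t : K) (ht : t ^ q = t) :
    FixNeg hF (tw f) [i] (fun _ => t) := by
  intro k hk
  rw [List.mem_singleton] at hk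
  subst hk
  rw [c_neg_simple f k hi, hf, ht]

theorem fixPos_pair (i j : ℕ) (hi : i < 6) (hj : j < 6) (hij : j ≠ i) (h1 : πs i = j) (h2 : πs j = i) (t : K) :
    FixPos hF (tw f) [i, j] (fun k => if k = i then t else t ^ q) := by
  intro k hk
  simp only [List.mem_cons, List.not_mem_nil, or_false] at hk
  rcases hk with rfl | rfl
  · show (if πs k = k then t else t ^ q) = (tw f).c (chevE6.simple k) (if k = k then t else t ^ q)
    rw [c_simple f k hi, h1, if_neg hij, if_pos rfl, hf]
  · show (if πs k = i then t else t ^ q) = (tw f).c (chevE6.simple k) (if k = i then t else t ^ q)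
    rw [c_simple f k hj, h2, if_pos rfl, if_neg hij, hf, frob_sq hK f hf]

theorem fixNeg_pair (i j : ℕ) (hi : i < 6) (hj : j < 6) (hij : j ≠ i) (h1 : πs i = j) (h2 : πs j = i) (t : K) :
    FixNeg hF (tw f) [i, j] (fun k => if k = i then t else t ^ q) := by
  intro k hk
  simp only [List.mem_cons, List.not_mem_nil, or_false] at hk
  rcases hk with rfl | rfl
  · show (if πs k = k then t else t ^ q) = (tw f).c (chevE6.neg (chevE6.simple k)) (if k = k then t else t ^ q)
    rw [c_neg_simple f k hi, h1, if_neg hij, if_pos rfl, hf]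
  · show (if πs k = i then t else t ^ q) = (tw f).c (chevE6.neg (chevE6.simple k)) (if k = i then t else t ^ q)
    rw [c_neg_simple f k hj, h2, if_pos rfl, if_neg hij, hf, frob_sq hK f hf]

/-- the generators of `²E₆(q)` are fixed elements of the class subgroups -/
theorem word_cases (w : List (ℕ × K)) (hw : w ∈ e6Words K q) :
    (∃ v ∈ S, ∃ φ : ℕ → K, FixPos hF (tw f) v φ ∧ w = v.map fun i => (chevE6.simple i, φ i)) ∨
    (∃ v ∈ S, ∃ φ : ℕ → K, FixNeg hF (tw f) v φ ∧ w = v.map fun i => (chevE6.neg (chevE6.simple i), φ i)) := by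
  obtain ⟨s0, s1, s2, s3, s4, s5⟩ := simple_vals
  obtain ⟨m0, m1, m2, m3, m4, m5⟩ := neg_simple_vals
  rcases hw with ⟨t, ht, r, hr, rfl⟩ | ⟨t, rs, hrs, rfl⟩
  · simp only [List.mem_cons, List.not_mem_nil, or_false] at hr
    rcases hr with rfl | rfl | rfl | rfl
    · left
      exact ⟨[1], by decide, fun _ => t, fixPos_single hK f hf 1 (by norm_num) rfl t ht, by simp [s1]⟩
    · right
      exact ⟨[1], by decide, fun _ => t, fixNeg_single hK f hf 1 (by norm_num) rfl t ht, by simp [m1]⟩
    · left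
      exact ⟨[3], by decide, fun _ => t, fixPos_single hK f hf 3 (by norm_num) rfl t ht, by simp [s3]⟩
    · right
      exact ⟨[3], by decide, fun _ => t, fixNeg_single hK f hf 3 (by norm_num) rfl t ht, by simp [m3]⟩
  · simp only [List.mem_cons, List.not_mem_nil, or_false] at hrs
    rcases hrs with rfl | rfl | rfl | rfl
    · left
      exact ⟨[0, 5], by decide, _, fixPos_pair hK f hf 0 5 (by norm_num) (by norm_num) (by norm_num) rfl rfl t,
        by simp [s0, s5]⟩
    · right
      exact ⟨[0, 5], by decide, _, fixNeg_pair hK f hf 0 5 (by norm_num) (by norm_num) (by norm_num) rfl rfl t,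
        by simp [m0, m5]⟩
    · left
      exact ⟨[2, 4], by decide, _, fixPos_pair hK f hf 2 4 (by norm_num) (by norm_num) (by norm_num) rfl rfl t,
        by simp [s2, s4]⟩
    · right
      exact ⟨[2, 4], by decide, _, fixNeg_pair hK f hf 2 4 (by norm_num) (by norm_num) (by norm_num) rfl rfl t,
        by simp [m2, m4]⟩

theorem pos_word_mem (v : List ℕ) (hv : v ∈ S) (φ : ℕ → K) (hφ : FixPos hF (tw f) v φ) :
    (v.map fun i => (chevE6.simple i, φ i)) ∈ e6Words K q := by
  obtain ⟨s0, s1, s2, s3, s4, s5⟩ := simple_vals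
  simp only [S, List.mem_cons, List.not_mem_nil, or_false] at hv
  rcases hv with rfl | rfl | rfl | rfl
  · left
    have h1 := hφ 1 (by simp)
    rw [c_simple f 1 (by norm_num), hf] at h1
    exact ⟨φ 1, h1.symm, e6p2, by simp, by simp [s1]⟩
  · left
    have h1 := hφ 3 (by simp)
    rw [c_simple f 3 (by norm_num), hf] at h1
    exact ⟨φ 3, h1.symm, e6p4, by simp, by simp [s3]⟩
  · right
    have h1 := hφ 0 (by simp)
    rw [c_simple f 0 (by norm_num), hf] at h1
    refine ⟨φ 0, (e6p1, e6p6), by simp, ?_⟩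
    have h2 : φ 5 = φ 0 ^ q := h1
    simp [s0, s5, h2]
  · right
    have h1 := hφ 2 (by simp)
    rw [c_simple f 2 (by norm_num), hf] at h1
    refine ⟨φ 2, (e6p3, e6p5), by simp, ?_⟩
    have h2 : φ 4 = φ 2 ^ q := h1
    simp [s2, s4, h2]

theorem neg_word_mem (v : List ℕ) (hv : v ∈ S) (φ : ℕ → K) (hφ : FixNeg hF (tw f) v φ) :
    (v.map fun i => (chevE6.neg (chevE6.simple i), φ i)) ∈ e6Words K q := by
  obtain ⟨m0, m1, m2, m3, m4, m5⟩ := neg_simple_vals
  simp only [S, List.mem_cons, List.not_mem_nil, or_false] at hv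
  rcases hv with rfl | rfl | rfl | rfl
  · left
    have h1 := hφ 1 (by simp)
    rw [c_neg_simple f 1 (by norm_num), hf] at h1
    exact ⟨φ 1, h1.symm, e6m2, by simp, by simp [m1]⟩
  · left
    have h1 := hφ 3 (by simp)
    rw [c_neg_simple f 3 (by norm_num), hf] at h1
    exact ⟨φ 3, h1.symm, e6m4, by simp, by simp [m3]⟩
  · right
    have h1 := hφ 0 (by simp)
    rw [c_neg_simple f 0 (by norm_num), hf] at h1
    refine ⟨φ 0, (e6m1, e6m6), by simp, ?_⟩
    have h2 : φ 5 = φ 0 ^ q := h1
    simp [m0, m5, h2]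
  · right
    have h1 := hφ 2 (by simp)
    rw [c_neg_simple f 2 (by norm_num), hf] at h1
    refine ⟨φ 2, (e6m3, e6m5), by simp, ?_⟩
    have h2 : φ 4 = φ 2 ^ q := h1
    simp [m2, m4, h2]

/-- **`²E₆(q)` is the group of the twisting datum.** -/
theorem twisted_eq : twistedE6 K q = orthGroup hF (tw f) S := by
  apply le_antisymm
  · unfold twistedE6 ChevalleyDatum.genSubgroup
    rw [Subgroup.closure_le]
    rintro g ⟨w, hw, hg⟩
    rcases word_cases hK f hf w hw with ⟨v, hv, φ, hφ, rfl⟩ | ⟨v, hv, φ, hφ, rfl⟩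
    · have : g = xs hF v φ := Units.ext (by rw [hg, xs_val])
      rw [this]
      exact (orthData f).xs_mem v hv φ hφ
    · have : g = ys hF v φ := Units.ext (by rw [hg, ys_val])
      rw [this]
      exact (orthData f).ys_mem v hv φ hφ
  · unfold orthGroup
    rw [Subgroup.closure_le]
    rintro g (⟨v, hv, φ, hφ, rfl⟩ | ⟨v, hv, φ, hφ, rfl⟩)
    · exact Subgroup.subset_closure ⟨_, pos_word_mem hK f hf v hv φ hφ, xs_val hF v φ⟩
    · exact Subgroup.subset_closure ⟨_, neg_word_mem hK f hf v hv φ hφ, ys_val hF v φ⟩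

end

end Cfsg.Agent.Lead.Tw.E6
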