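import Mathlib

/-!
Pure noncommutative algebra for the "global step" of Zassenhaus' theorem (S0690):
two icosian systems over a common quaternion frame whose golden elements satisfy the
two test conditions must have commuting golden elements.
-/

namespace Cfsg.Agent.Lead.IcosAlg

variable {A : Type*} [Ring A]

/-- A quaternion frame `i, j, k` in a ring. -/
structure Frame (i j k : A) : Prop where
  ii : i * i = -1
  jj : j * j = -1
  ij : i * j = k
  ji : j * i = -k

namespace Frame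

variable {i j k : A} (h : Frame i j k)
include h

theorem kk : k * k = -1 := by
  have : k * k = i * (j * i) * j := by rw [← h.ij]; noncomm_ring
  rw [this, h.ji]
  have : i * -k * j = -((i * i) * (j * j)) := by rw [← h.ij]; noncomm_ring
  rw [this, h.ii, h.jj]; noncomm_ring

theorem jk : j * k = i := by
  have : j * k = (j * i) * j := by rw [← h.ij]; noncomm_ring
  rw [this, h.ji, ← h.ij]
  have : -(i * j) * j = -(i * (j * j)) := by noncomm_ring
  rw [this, h.jj]; noncomm_ring

theorem kj : k * j = -i := by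
  rw [← h.ij, mul_assoc, h.jj]; noncomm_ring

theorem ik : i * k = -j := by
  rw [← h.ij, ← mul_assoc, h.ii]; noncomm_ring

theorem ki : k * i = j := by
  rw [← h.ij, mul_assoc, h.ji, ← h.ij]
  have : i * -(i * j) = -((i * i) * j) := by noncomm_ring
  rw [this, h.ii]; noncomm_ring

theorem commute_k {b : A} (hi : Commute b i) (hj : Commute b j) : Commute b k := by
  rw [← h.ij]; exact hi.mul_right hj

omit h in
theorem term (b c p q : A) (hc : Commute c p) : (b * p) * (c * q) = b * c * (p * q) := by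
  rw [mul_assoc, ← mul_assoc p c q, ← hc.eq]; noncomm_ring

/-- Product of two "pure quaternions" with coefficients centralising the frame. -/
theorem pure_mul {b₁ b₂ b₃ c₁ c₂ c₃ : A}
    (h1i : Commute c₁ i) (h1j : Commute c₁ j)
    (h2i : Commute c₂ i) (h2j : Commute c₂ j)
    (h3i : Commute c₃ i) (h3j : Commute c₃ j) :
    (b₁ * i + b₂ * j + b₃ * k) * (c₁ * i + c₂ * j + c₃ * k) =
      -(b₁ * c₁ + b₂ * c₂ + b₃ * c₃) + (b₂ * c₃ - b₃ * c₂) * i + (b₃ * c₁ - b₁ * c₃) * j
        + (b₁ * c₂ - b₂ * c₁) * k := by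
  have h1k := h.commute_k h1i h1j
  have h2k := h.commute_k h2i h2j
  have h3k := h.commute_k h3i h3j
  simp only [add_mul, mul_add]
  rw [term b₁ c₁ i i h1i, term b₁ c₂ i j h2i, term b₁ c₃ i k h3i,
    term b₂ c₁ j i h1j, term b₂ c₂ j j h2j, term b₂ c₃ j k h3j,
    term b₃ c₁ k i h1k, term b₃ c₂ k j h2k, term b₃ c₃ k k h3k,
    h.ii, h.jj, h.kk, h.ij, h.ji, h.jk, h.kj, h.ik, h.ki]
  noncomm_ring

end Frame

section Sig

variable {x y : A}

theorem five_comm (z : A) : (5 : A) * z = z * 5 := by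
  have : (5 : A) = ((5 : ℕ) : A) := by norm_num
  rw [this]; exact (Nat.cast_commute 5 z).eq

theorem K_comm_x (hx : x * x = 5) : (x * y + y * x) * x = x * (x * y + y * x) := by
  have h1 : (x * y + y * x) * x = x * y * x + y * (x * x) := by noncomm_ring
  have h2 : x * (x * y + y * x) = (x * x) * y + x * y * x := by noncomm_ring
  rw [h1, h2, hx, five_comm y]; abel

theorem K_comm_y (hy : y * y = 5) : (x * y + y * x) * y = y * (x * y + y * x) := by
  have h1 : (x * y + y * x) * y = x * (y * y) + y * x * y := by noncomm_ring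
  have h2 : y * (x * y + y * x) = y * x * y + (y * y) * x := by noncomm_ring
  rw [h1, h2, hy, five_comm x]; abel

theorem N_anti_x (hx : x * x = 5) : (x * y - y * x) * x = -(x * (x * y - y * x)) := by
  have h1 : (x * y - y * x) * x = x * y * x - y * (x * x) := by noncomm_ring
  have h2 : x * (x * y - y * x) = (x * x) * y - x * y * x := by noncomm_ring
  rw [h1, h2, hx, five_comm y]; abel

theorem N_anti_y (hy : y * y = 5) : (x * y - y * x) * y = -(y * (x * y - y * x)) := by
  have h1 : (x * y - y * x) * y = x * (y * y) - y * x * y := by noncomm_ring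
  have h2 : y * (x * y - y * x) = y * x * y - (y * y) * x := by noncomm_ring
  rw [h1, h2, hy, five_comm x]; abel

theorem N_sq (hx : x * x = 5) (hy : y * y = 5) :
    (x * y - y * x) * (x * y - y * x) = (x * y + y * x) * (x * y + y * x) - 100 := by
  have hab : (x * y) * (y * x) = 25 := by
    have : (x * y) * (y * x) = x * (y * y) * x := by noncomm_ring
    rw [this, hy, ← five_comm x, mul_assoc, hx]; norm_num
  have hba : (y * x) * (x * y) = 25 := by
    have : (y * x) * (x * y) = y * (x * x) * y := by noncomm_ring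
    rw [this, hx, ← five_comm y, mul_assoc, hy]; norm_num
  have e1 : (x * y - y * x) * (x * y - y * x)
      = (x * y) * (x * y) + (y * x) * (y * x) - ((x * y) * (y * x) + (y * x) * (x * y)) := by
    noncomm_ring
  have e2 : (x * y + y * x) * (x * y + y * x)
      = (x * y) * (x * y) + (y * x) * (y * x) + ((x * y) * (y * x) + (y * x) * (x * y)) := by
    noncomm_ring
  rw [e1, e2, hab, hba]
  have : (100 : A) = 25 + 25 + (25 + 25) := by norm_num
  rw [this]; abel

theorem K_comm_N (hx : x * x = 5) (hy : y * y = 5) :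
    (x * y + y * x) * (x * y - y * x) = (x * y - y * x) * (x * y + y * x) := by
  have hab : (x * y) * (y * x) = 25 := by
    have : (x * y) * (y * x) = x * (y * y) * x := by noncomm_ring
    rw [this, hy, ← five_comm x, mul_assoc, hx]; norm_num
  have hba : (y * x) * (x * y) = 25 := by
    have : (y * x) * (x * y) = y * (x * x) * y := by noncomm_ring
    rw [this, hx, ← five_comm y, mul_assoc, hy]; norm_num
  have e1 : (x * y + y * x) * (x * y - y * x)
      = (x * y) * (x * y) - (y * x) * (y * x) - (x * y) * (y * x) + (y * x) * (x * y) := by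
    noncomm_ring
  have e2 : (x * y - y * x) * (x * y + y * x)
      = (x * y) * (x * y) - (y * x) * (y * x) + (x * y) * (y * x) - (y * x) * (x * y) := by
    noncomm_ring
  rw [e1, e2, hab, hba]; abel

end Sig

section Main

variable {i j k φ ψ : A}

/-- the commutator of the two golden elements -/
def Mc (φ ψ : A) : A := φ * ψ - ψ * φ

theorem anti_phi (hφ : φ * φ = φ + 1) : φ * Mc φ ψ + Mc φ ψ * φ = Mc φ ψ := by
  unfold Mc
  have : φ * (φ * ψ - ψ * φ) + (φ * ψ - ψ * φ) * φ = (φ * φ) * ψ - ψ * (φ * φ) := by noncomm_ring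
  rw [this, hφ]; noncomm_ring

theorem anti_psi (hψ : ψ * ψ = ψ + 1) : ψ * Mc φ ψ + Mc φ ψ * ψ = Mc φ ψ := by
  unfold Mc
  have : ψ * (φ * ψ - ψ * φ) + (φ * ψ - ψ * φ) * ψ = φ * (ψ * ψ) - (ψ * ψ) * φ := by noncomm_ring
  rw [this, hψ]; noncomm_ring

variable (h : Frame i j k)
include h

/-- first test pair: `G₁ = (φ-1) j + φ k`, `G₂ = -(ψ-1) j + ψ k`. -/
theorem c12_formula (hφi : Commute φ i) (hφj : Commute φ j) (hψi : Commute ψ i)
    (hψj : Commute ψ j) :
    ((0 : A) * i + (φ - 1) * j + φ * k) * ((0 : A) * i + (-(ψ - 1)) * j + ψ * k)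
      + ((0 : A) * i + (-(ψ - 1)) * j + ψ * k) * ((0 : A) * i + (φ - 1) * j + φ * k)
      = (2 - 2 * φ - 2 * ψ) + (2 * Mc φ ψ) * i := by
  have z_i : Commute (0 : A) i := Commute.zero_left i
  have z_j : Commute (0 : A) j := Commute.zero_left j
  have a_i : Commute (φ - 1) i := hφi.sub_left (Commute.one_left i)
  have a_j : Commute (φ - 1) j := hφj.sub_left (Commute.one_left j)
  have b_i : Commute (-(ψ - 1)) i := (hψi.sub_left (Commute.one_left i)).neg_left
  have b_j : Commute (-(ψ - 1)) j := (hψj.sub_left (Commute.one_left j)).neg_left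
  rw [h.pure_mul z_i z_j b_i b_j hψi hψj, h.pure_mul z_i z_j a_i a_j hφi hφj]
  unfold Mc
  have h2 : (2 : A) = 1 + 1 := by norm_num
  rw [h2]
  noncomm_ring

/-- second test pair: `G₁ = (φ-1) j + φ k`, `G₃ = ψ i + (ψ-1) k`. -/
theorem c13_formula (hφi : Commute φ i) (hφj : Commute φ j) (hψi : Commute ψ i)
    (hψj : Commute ψ j) :
    ((0 : A) * i + (φ - 1) * j + φ * k) * (ψ * i + (0 : A) * j + (ψ - 1) * k)
      + (ψ * i + (0 : A) * j + (ψ - 1) * k) * ((0 : A) * i + (φ - 1) * j + φ * k)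
      = (2 * φ - (φ * ψ + ψ * φ)) + Mc φ ψ * (i + j - k) := by
  have z_i : Commute (0 : A) i := Commute.zero_left i
  have z_j : Commute (0 : A) j := Commute.zero_left j
  have a_i : Commute (φ - 1) i := hφi.sub_left (Commute.one_left i)
  have a_j : Commute (φ - 1) j := hφj.sub_left (Commute.one_left j)
  have b_i : Commute (ψ - 1) i := hψi.sub_left (Commute.one_left i)
  have b_j : Commute (ψ - 1) j := hψj.sub_left (Commute.one_left j)
  rw [h.pure_mul hψi hψj z_i z_j b_i b_j, h.pure_mul z_i z_j a_i a_j hφi hφj]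
  unfold Mc
  have h2 : (2 : A) = 1 + 1 := by norm_num
  rw [h2]
  noncomm_ring

omit h in
theorem sq_plus_i (hii : i * i = -1) {S M : A} (hSi : Commute S i) (hMi : Commute M i)
    (hSM : S * M + M * S = 0) :
    (S + (2 * M) * i) * (S + (2 * M) * i) = S * S - 4 * (M * M) := by
  have e1 : (2 * M * i) * S = (2 * (M * S)) * i := by
    rw [mul_assoc (2 * M) i S, ← hSi.eq]; noncomm_ring
  have e2 : (2 * M * i) * (2 * M * i) = -(4 * (M * M)) := by
    have : (2 * M * i) * (2 * M * i) = 2 * M * (i * (2 * M)) * i := by noncomm_ring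
    rw [this]
    have h2M : Commute (2 * M) i := (Commute.ofNat_left 2 i).mul_left hMi
    rw [← h2M.eq]
    have : 2 * M * (2 * M * i) * i = 2 * M * (2 * M) * (i * i) := by noncomm_ring
    rw [this, hii]
    have h4 : (4 : A) = 2 * 2 := by norm_num
    have h2c : (2 : A) * M = M * 2 := (Commute.ofNat_left 2 M).eq
    rw [h4]
    calc 2 * M * (2 * M) * -1 = -(2 * (M * 2) * M) := by noncomm_ring
      _ = -(2 * (2 * M) * M) := by rw [h2c]
      _ = -(2 * 2 * (M * M)) := by noncomm_ring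
  have e0 : S * (2 * M * i) = (2 * (S * M)) * i := by
    have h2c : S * 2 = 2 * S := (Commute.ofNat_right S 2).eq
    calc S * (2 * M * i) = (S * 2) * M * i := by noncomm_ring
      _ = (2 * S) * M * i := by rw [h2c]
      _ = (2 * (S * M)) * i := by noncomm_ring
  have : (S + (2 * M) * i) * (S + (2 * M) * i)
      = S * S + (S * (2 * M * i) + (2 * M * i) * S) + (2 * M * i) * (2 * M * i) := by
    noncomm_ring
  rw [this, e0, e1, e2, ← add_mul, ← mul_add, hSM]
  noncomm_ring

omit h in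
theorem sig_sq (hφ : φ * φ = φ + 1) : (2 * φ - 1) * (2 * φ - 1) = 5 := by
  have : (2 * φ - 1) * (2 * φ - 1) = 4 * (φ * φ) - 4 * φ + 1 := by noncomm_ring
  rw [this, hφ]; noncomm_ring; norm_num

omit h in
theorem four_c12_sq (hφ : φ * φ = φ + 1) (hψ : ψ * ψ = ψ + 1) :
    4 * ((2 - 2 * φ - 2 * ψ) * (2 - 2 * φ - 2 * ψ) - 4 * (Mc φ ψ * Mc φ ψ))
      = 140 + 4 * ((2 * φ - 1) * (2 * ψ - 1) + (2 * ψ - 1) * (2 * φ - 1))
        - ((2 * φ - 1) * (2 * ψ - 1) + (2 * ψ - 1) * (2 * φ - 1))
          * ((2 * φ - 1) * (2 * ψ - 1) + (2 * ψ - 1) * (2 * φ - 1)) := by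
  set σ := 2 * φ - 1 with hσ
  set τ := 2 * ψ - 1 with hτ
  have hσ2 : σ * σ = 5 := sig_sq hφ
  have hτ2 : τ * τ = 5 := sig_sq hψ
  have hS : 2 - 2 * φ - 2 * ψ = -(σ + τ) := by
    rw [hσ, hτ]
    have h2 : (2 : A) = 1 + 1 := by norm_num
    rw [h2]; noncomm_ring
  have hN : σ * τ - τ * σ = 4 * Mc φ ψ := by rw [hσ, hτ]; unfold Mc; noncomm_ring
  have hSS : (-(σ + τ)) * (-(σ + τ)) = 10 + (σ * τ + τ * σ) := by
    have : (-(σ + τ)) * (-(σ + τ)) = σ * σ + τ * τ + (σ * τ + τ * σ) := by noncomm_ring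
    rw [this, hσ2, hτ2]; norm_num
  have hMM : 16 * (Mc φ ψ * Mc φ ψ) = (σ * τ + τ * σ) * (σ * τ + τ * σ) - 100 := by
    rw [← N_sq hσ2 hτ2, hN]; noncomm_ring
  rw [hS, hSS]
  have : 4 * (10 + (σ * τ + τ * σ) - 4 * (Mc φ ψ * Mc φ ψ))
      = 40 + 4 * (σ * τ + τ * σ) - 16 * (Mc φ ψ * Mc φ ψ) := by
    rw [mul_sub, mul_add, ← mul_assoc]; norm_num
  rw [this, hMM]
  have h140 : (140 : A) = 40 + 100 := by norm_num
  rw [h140]; abel

/-- If the square of `Θ + M u`, `u = i + j - k`, commutes with `i`, then `Θ` and `M`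
anticommute (coefficients centralise the frame, `2` invertible). -/
theorem anticomm_of_sq_comm (h2 : IsUnit (2 : A)) {Θ M : A}
    (hΘi : Commute Θ i) (hΘj : Commute Θ j) (hMi : Commute M i) (hMj : Commute M j)
    (h13 : Commute ((Θ + M * (i + j - k)) * (Θ + M * (i + j - k))) i) :
    Θ * M + M * Θ = 0 := by
  have hΘk := h.commute_k hΘi hΘj
  have hMk := h.commute_k hMi hMj
  set u := i + j - k with hu
  have hΘu : Commute Θ u := (hΘi.add_right hΘj).sub_right hΘk
  have hMu : Commute M u := (hMi.add_right hMj).sub_right hMk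
  have huu : u * u = -3 := by
    have : u * u = i * i + j * j + k * k + (i * j + j * i) - (i * k + k * i) - (j * k + k * j) := by
      rw [hu]; noncomm_ring
    rw [this, h.ii, h.jj, h.kk, h.ij, h.ji, h.ik, h.ki, h.jk, h.kj]; norm_num
  have hui : u * i - i * u = -(2 * (j + k)) := by
    have : u * i - i * u = (j * i - i * j) + (i * k - k * i) := by rw [hu]; noncomm_ring
    rw [this, h.ji, h.ij, h.ik, h.ki]
    have h2' : (2 : A) = 1 + 1 := by norm_num
    rw [h2']; noncomm_ring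
  have hjk : (j + k) * (j + k) = -2 := by
    have : (j + k) * (j + k) = j * j + k * k + (j * k + k * j) := by noncomm_ring
    rw [this, h.jj, h.kk, h.jk, h.kj]; norm_num
  set R := Θ * M + M * Θ with hR
  have hRi : Commute R i := (hΘi.mul_left hMi).add_left (hMi.mul_left hΘi)
  have hX : (Θ + M * u) * (Θ + M * u) = (Θ * Θ - 3 * (M * M)) + R * u := by
    have e1 : (M * u) * Θ = (M * Θ) * u := by rw [mul_assoc, ← hΘu.eq, mul_assoc]
    have e2 : (M * u) * (M * u) = -(3 * (M * M)) := by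
      have : (M * u) * (M * u) = M * (u * M) * u := by noncomm_ring
      rw [this, ← hMu.eq]
      have : M * (M * u) * u = M * M * (u * u) := by noncomm_ring
      rw [this, huu]
      have h3 : (3 : A) * (M * M) = (M * M) * 3 := (Commute.ofNat_left 3 (M * M)).eq
      rw [h3]; noncomm_ring
    have : (Θ + M * u) * (Θ + M * u) = Θ * Θ + (Θ * (M * u) + (M * u) * Θ) + (M * u) * (M * u) := by
      noncomm_ring
    rw [this, e1, e2, hR]; noncomm_ring
  have hPi : Commute (Θ * Θ - 3 * (M * M)) i :=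
    (hΘi.mul_left hΘi).sub_left ((Commute.ofNat_left 3 i).mul_left (hMi.mul_left hMi))
  rw [hX] at h13
  have h1 : R * (u * i - i * u) = 0 := by
    have e := h13.eq
    have e' : (Θ * Θ - 3 * (M * M)) * i + R * u * i = i * (Θ * Θ - 3 * (M * M)) + i * (R * u) := by
      rw [← add_mul, ← mul_add]; exact e
    rw [hPi.eq] at e'
    have e'' : R * u * i = i * (R * u) := add_left_cancel e'
    have : i * (R * u) = R * (i * u) := by rw [← mul_assoc, ← hRi.eq, mul_assoc]
    rw [this] at e''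
    rw [mul_sub, ← mul_assoc, e'', sub_self]
  rw [hui] at h1
  have h4 : R * 4 = 0 := by
    have : R * -(2 * (j + k)) * (j + k) = R * 4 := by
      have : R * -(2 * (j + k)) * (j + k) = -(R * 2 * ((j + k) * (j + k))) := by noncomm_ring
      rw [this, hjk]
      have : -(R * 2 * -2) = R * (2 * 2) := by noncomm_ring
      rw [this]; norm_num
    rw [← this, h1, zero_mul]
  have hu4 : IsUnit (4 : A) := by
    have : (4 : A) = 2 * 2 := by norm_num
    rw [this]; exact h2.mul h2
  exact (hu4.mul_left_eq_zero).mp h4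

/-- **Key computation.**  `i, j, k` a quaternion frame, `φ, ψ` golden (`t² = t + 1`) and
centralising the frame, `2` invertible.  Put `G₁ = (φ-1) j + φ k`, `G₂ = -(ψ-1) j + ψ k`,
`G₃ = ψ i + (ψ-1) k`, `c₁₂ = G₁G₂ + G₂G₁`, `c₁₃ = G₁G₃ + G₃G₁`.  If `c₁₂² ∈ {4, 20}` and
`c₁₃²` commutes with `i`, then `φ ψ = ψ φ`. -/
theorem golden_commute (h2 : IsUnit (2 : A))
    (hφ : φ * φ = φ + 1) (hψ : ψ * ψ = ψ + 1)
    (hφi : Commute φ i) (hφj : Commute φ j) (hψi : Commute ψ i) (hψj : Commute ψ j)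
    {c12 c13 : A}
    (hc12 : c12 = ((φ - 1) * j + φ * k) * (-(ψ - 1) * j + ψ * k)
      + (-(ψ - 1) * j + ψ * k) * ((φ - 1) * j + φ * k))
    (hc13 : c13 = ((φ - 1) * j + φ * k) * (ψ * i + (ψ - 1) * k)
      + (ψ * i + (ψ - 1) * k) * ((φ - 1) * j + φ * k))
    (h12 : c12 * c12 = 4 ∨ c12 * c12 = 20) (h13 : Commute (c13 * c13) i) :
    φ * ψ = ψ * φ := by
  set M := Mc φ ψ with hM
  have hMi : Commute M i := (hφi.mul_left hψi).sub_left (hψi.mul_left hφi)
  have hMj : Commute M j := (hφj.mul_left hψj).sub_left (hψj.mul_left hφj)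
  -- formulas
  have f12 : c12 = (2 - 2 * φ - 2 * ψ) + (2 * M) * i := by
    rw [hc12, ← c12_formula h hφi hφj hψi hψj]; simp only [zero_mul, zero_add]
  have f13 : c13 = (2 * φ - (φ * ψ + ψ * φ)) + M * (i + j - k) := by
    rw [hc13, ← c13_formula h hφi hφj hψi hψj]; simp only [zero_mul, zero_add, add_zero]
  set σ := 2 * φ - 1 with hσ
  set τ := 2 * ψ - 1 with hτ
  set K := σ * τ + τ * σ with hK
  have hσ2 : σ * σ = 5 := sig_sq hφ
  have hτ2 : τ * τ = 5 := sig_sq hψ
  have hN : σ * τ - τ * σ = 4 * M := by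
    rw [hσ, hτ, hM]; unfold Mc; noncomm_ring
  have hu4 : IsUnit (4 : A) := by
    have : (4 : A) = 2 * 2 := by norm_num
    rw [this]; exact h2.mul h2
  -- K commutes with M
  have hKM : K * M = M * K := by
    have e := K_comm_N (x := σ) (y := τ) hσ2 hτ2
    rw [hN] at e
    have e4 : (4 : A) * (K * M - M * K) = 0 := by
      have c4 : K * 4 = 4 * K := (Commute.ofNat_right K 4).eq
      have : (4 : A) * (K * M - M * K) = K * (4 * M) - 4 * M * K := by
        rw [mul_sub, ← mul_assoc K 4 M, c4]; noncomm_ring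
      rw [this, e, sub_self]
    exact sub_eq_zero.mp ((hu4.mul_right_eq_zero).mp e4)
  -- S anticommutes with M
  have hSM : (2 - 2 * φ - 2 * ψ) * M + M * (2 - 2 * φ - 2 * ψ) = 0 := by
    have a1 := anti_phi (ψ := ψ) hφ
    have a2 := anti_psi (φ := φ) hψ
    rw [← hM] at a1 a2
    have c2 : M * 2 = 2 * M := (Commute.ofNat_right M 2).eq
    have : (2 - 2 * φ - 2 * ψ) * M + M * (2 - 2 * φ - 2 * ψ)
        = 2 * M + M * 2 - (2 * (φ * M) + M * 2 * φ) - (2 * (ψ * M) + M * 2 * ψ) := by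
      noncomm_ring
    rw [this, c2]
    have : 2 * M + 2 * M - (2 * (φ * M) + 2 * M * φ) - (2 * (ψ * M) + 2 * M * ψ)
        = 2 * M + 2 * M - 2 * (φ * M + M * φ) - 2 * (ψ * M + M * ψ) := by noncomm_ring
    rw [this, a1, a2]; noncomm_ring
  have hSi : Commute (2 - 2 * φ - 2 * ψ) i :=
    ((Commute.ofNat_left 2 i).sub_left ((Commute.ofNat_left 2 i).mul_left hφi)).sub_left
      ((Commute.ofNat_left 2 i).mul_left hψi)
  -- c12 squared
  have g12 : 4 * (c12 * c12) = 140 + 4 * K - K * K := by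
    rw [f12, sq_plus_i h.ii hSi hMi hSM, hM, four_c12_sq hφ hψ]
  -- (K-2)^2 is a unit
  have hK2 : IsUnit ((K - 2) * (K - 2)) := by
    have e : (K - 2) * (K - 2) = K * K - 4 * K + 4 := by
      have c2 : K * 2 = 2 * K := (Commute.ofNat_right K 2).eq
      have : (K - 2) * (K - 2) = K * K - K * 2 - 2 * K + 2 * 2 := by noncomm_ring
      rw [this, c2]
      have : (2 : A) * 2 = 4 := by norm_num
      rw [this]
      have : (4 : A) * K = 2 * K + 2 * K := by
        rw [← add_mul]; norm_num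
      rw [this]; abel
    have e' : K * K - 4 * K = 140 - 4 * (c12 * c12) := by rw [g12]; abel
    rw [e, e']
    rcases h12 with h | h
    · rw [h]
      have : (140 : A) - 4 * 4 + 4 = 2 * 2 * 2 * 2 * 2 * 2 * 2 := by norm_num
      rw [this]
      exact (((((h2.mul h2).mul h2).mul h2).mul h2).mul h2).mul h2
    · rw [h]
      have : (140 : A) - 4 * 20 + 4 = 2 * 2 * 2 * 2 * 2 * 2 := by norm_num
      rw [this]
      exact ((((h2.mul h2).mul h2).mul h2).mul h2).mul h2
  -- c13: Θ anticommutes with M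
  have hΘi : Commute (2 * φ - (φ * ψ + ψ * φ)) i :=
    ((Commute.ofNat_left 2 i).mul_left hφi).sub_left
      ((hφi.mul_left hψi).add_left (hψi.mul_left hφi))
  have hΘj : Commute (2 * φ - (φ * ψ + ψ * φ)) j :=
    ((Commute.ofNat_left 2 j).mul_left hφj).sub_left
      ((hφj.mul_left hψj).add_left (hψj.mul_left hφj))
  rw [f13] at h13
  have hR := anticomm_of_sq_comm h h2 hΘi hΘj hMi hMj h13
  -- 4 R = -2 (K-2) M
  have hKM2 : (K - 2) * M = 0 := by
    have a1 := anti_phi (ψ := ψ) hφ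
    have a2 := anti_psi (φ := φ) hψ
    rw [← hM] at a1 a2
    have hK' : K - 2 = 4 * (φ * ψ + ψ * φ) - 4 * φ - 4 * ψ := by
      rw [hK, hσ, hτ]
      have h2' : (2 : A) = 1 + 1 := by norm_num
      have h4' : (4 : A) = 1 + 1 + 1 + 1 := by norm_num
      rw [h2', h4']; noncomm_ring
    -- 4 Θ = 4 φ - 4 ψ - (K - 2)
    have hΘ4 : 4 * (2 * φ - (φ * ψ + ψ * φ)) = 4 * φ - 4 * ψ - (K - 2) := by
      rw [hK']
      have h2' : (2 : A) = 1 + 1 := by norm_num
      have h4' : (4 : A) = 1 + 1 + 1 + 1 := by norm_num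
      rw [h2', h4']; noncomm_ring
    have c4 : M * 4 = 4 * M := (Commute.ofNat_right M 4).eq
    have e : (4 * (2 * φ - (φ * ψ + ψ * φ))) * M + M * (4 * (2 * φ - (φ * ψ + ψ * φ))) = 0 := by
      have : (4 * (2 * φ - (φ * ψ + ψ * φ))) * M + M * (4 * (2 * φ - (φ * ψ + ψ * φ)))
          = 4 * ((2 * φ - (φ * ψ + ψ * φ)) * M) + (M * 4) * (2 * φ - (φ * ψ + ψ * φ)) := by
        noncomm_ring
      rw [this, c4, mul_assoc, ← mul_add, hR, mul_zero]
    rw [hΘ4] at e
    have e2 : (4 * φ - 4 * ψ - (K - 2)) * M + M * (4 * φ - 4 * ψ - (K - 2))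
        = 4 * (φ * M) + (M * 4) * φ - (4 * (ψ * M) + (M * 4) * ψ) - ((K - 2) * M + M * (K - 2)) := by
      noncomm_ring
    rw [e2, c4] at e
    have e3 : 4 * (φ * M) + 4 * M * φ - (4 * (ψ * M) + 4 * M * ψ)
        = 4 * (φ * M + M * φ) - 4 * (ψ * M + M * ψ) := by noncomm_ring
    rw [e3, a1, a2, sub_self, zero_sub, neg_eq_zero] at e
    have hMK2 : M * (K - 2) = (K - 2) * M := by
      have c2 : M * 2 = 2 * M := (Commute.ofNat_right M 2).eq
      rw [mul_sub, sub_mul, hKM, c2]
    rw [hMK2, ← two_mul] at e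
    exact (h2.mul_right_eq_zero).mp e
  -- conclude
  have hM0 : M = 0 := by
    have : (K - 2) * (K - 2) * M = 0 := by rw [mul_assoc, hKM2, mul_zero]
    exact (hK2.mul_right_eq_zero).mp this
  rw [hM] at hM0
  unfold Mc at hM0
  exact sub_eq_zero.mp hM0

end Main

end Cfsg.Agent.Lead.IcosAlg
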