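import Mathlib
import Cfsg.Agent.Lib.Helper4.ZassB

/-!
S0690 (Zassenhaus), piece FRAME: a pair of order-three elements with `bt x y = -2`
spans a quaternion frame.
-/

set_option autoImplicit false

namespace Cfsg.Agent.Lead.Zass

open Cfsg.Agent.Lead.IcosAlg Cfsg.Agent.Helper4.Zass

variable {R : Type*} [Ring R]

theorem bt_expand (x y : R) :
    bt x y = 4 * (x * y + y * x + x + y + 1) - 2 := by
  unfold bt sv
  have h2 : (2 : R) = 1 + 1 := by norm_num
  have h4 : (4 : R) = 1 + 1 + 1 + 1 := by norm_num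
  rw [h2, h4]; noncomm_ring

theorem frame_of_pair {M : Submonoid R} (hM : Fpf M) {x y : R} (hx : IsX M x) (hy : IsX M y)
    (h : bt x y = -2) :
    ∃ i j k : R, Frame i j k ∧ i ∈ M ∧ j ∈ M ∧ 2 * x = -1 + i + j + k := by
  obtain ⟨hxM, hx2⟩ := hx
  obtain ⟨hyM, hy2⟩ := hy
  have hu4 : IsUnit (4 : R) := by
    have : (4 : R) = 2 * 2 := by norm_num
    rw [this]; exact hM.u2.mul hM.u2
  -- the basic relation
  have hrel : x * y + y * x + x + y + 1 = 0 := by
    have e := bt_expand x y
    rw [h] at e
    have : (4 : R) * (x * y + y * x + x + y + 1) = 0 := by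
      have : (4 : R) * (x * y + y * x + x + y + 1) = (4 * (x * y + y * x + x + y + 1) - 2) + 2 := by
        abel
      rw [this, ← e]; norm_num
    exact (hu4.mul_right_eq_zero).mp this
  have hyx : y * x = -1 - x - y - x * y := by
    have : y * x = (x * y + y * x + x + y + 1) - 1 - x - y - x * y := by abel
    rw [this, hrel]; abel
  have hxx : x * x = -x - 1 := by
    have : x * x = (x * x + x + 1) - x - 1 := by abel
    rw [this, hx2]; abel
  have hyy : y * y = -y - 1 := by
    have : y * y = (y * y + y + 1) - y - 1 := by abel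
    rw [this, hy2]; abel
  -- x y x = 1 + y
  have hxyx : x * (y * x) = 1 + y := by
    rw [hyx]
    have : x * (-1 - x - y - x * y) = -x - x * x - x * y - (x * x) * y := by noncomm_ring
    rw [this, hxx]; noncomm_ring
  -- y x y = 1 + x
  have hyxy : (y * x) * y = 1 + x := by
    rw [hyx]
    have : (-1 - x - y - x * y) * y = -y - x * y - y * y - x * (y * y) := by noncomm_ring
    rw [this, hyy]; noncomm_ring
  have hxyxy : (x * y) * (x * y) = -1 := by
    have : (x * y) * (x * y) = x * ((y * x) * y) := by noncomm_ring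
    rw [this, hyxy]
    have : x * (1 + x) = x + x * x := by noncomm_ring
    rw [this, hxx]; abel
  have hyxyx : (y * x) * (y * x) = -1 := by
    have : (y * x) * (y * x) = ((y * x) * y) * x := by noncomm_ring
    rw [this, hyxy]
    have : (1 + x) * x = x + x * x := by noncomm_ring
    rw [this, hxx]; abel
  have hneg1 : (-1 : R) ∈ M := by
    rw [← hxyxy]; exact M.mul_mem (M.mul_mem hxM hyM) (M.mul_mem hxM hyM)
  refine ⟨-(x * y), -(y * x), x - y, ⟨?_, ?_, ?_, ?_⟩, ?_, ?_, ?_⟩
  · rw [neg_mul_neg, hxyxy]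
  · rw [neg_mul_neg, hyxyx]
  · rw [neg_mul_neg]
    have : (x * y) * (y * x) = x * (y * y) * x := by noncomm_ring
    rw [this, hyy]
    have : x * (-y - 1) * x = -(x * (y * x)) - x * x := by noncomm_ring
    rw [this, hxyx, hxx]; abel
  · rw [neg_mul_neg]
    have : (y * x) * (x * y) = y * (x * x) * y := by noncomm_ring
    rw [this, hxx]
    have : y * (-x - 1) * y = -((y * x) * y) - y * y := by noncomm_ring
    rw [this, hyxy, hyy]; abel
  · have : -(x * y) = (-1) * (x * y) := by simp
    rw [this]; exact M.mul_mem hneg1 (M.mul_mem hxM hyM)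
  · have : -(y * x) = (-1) * (y * x) := by simp
    rw [this]; exact M.mul_mem hneg1 (M.mul_mem hyM hxM)
  · rw [hyx]
    have h2 : (2 : R) = 1 + 1 := by norm_num
    rw [h2]; noncomm_ring

end Cfsg.Agent.Lead.Zass
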