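import Mathlib
import Cfsg.Agent.Lib.Helper4.ZassB

/-!
S0690 (Zassenhaus), piece UNIQ: the golden parameter `ϑ` of the golden elements over a fixed
quaternion frame is unique.
-/

set_option autoImplicit false

namespace Cfsg.Agent.Lead.Zass

open Cfsg.Agent.Lead.IcosAlg Cfsg.Agent.Helper4.Zass

variable {R : Type*} [Ring R]

/-! ### generalities on `IsX` -/

theorem isX_sq_eq {M : Submonoid R} {w : R} (hw : IsX M w) : w * w = -w - 1 := by
  have : w * w = (w * w + w + 1) - w - 1 := by abel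
  rw [this, hw.2]; abel

theorem isX_sq {M : Submonoid R} {w : R} (hw : IsX M w) : IsX M (w * w) := by
  refine ⟨M.mul_mem hw.1 hw.1, ?_⟩
  have h := isX_sq_eq hw
  have : (w * w) * (w * w) = w := by
    rw [h]
    have : (-w - 1) * (-w - 1) = w * w + w + w + 1 := by noncomm_ring
    rw [this, h]; abel
  rw [this]
  have : w + w * w + 1 = w * w + w + 1 := by abel
  rw [this, hw.2]

theorem sv_sq {M : Submonoid R} {w : R} (hw : IsX M w) : sv (w * w) = -sv w := by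
  unfold sv
  rw [isX_sq_eq hw]
  have h2 : (2 : R) = 1 + 1 := by norm_num
  rw [h2]; noncomm_ring

theorem isX_mul_sq {M : Submonoid R} {w : R} (hw : IsX M w) : w * (w * w) = 1 := by
  rw [isX_sq_eq hw]
  have : w * (-w - 1) = -(w * w) - w := by noncomm_ring
  rw [this, isX_sq_eq hw]; abel

theorem isX_conj {M : Submonoid R} {w u u' : R} (hw : IsX M w) (hu : u ∈ M) (hu' : u' ∈ M)
    (h1 : u * u' = 1) (h2 : u' * u = 1) : IsX M (u * w * u') := by
  refine ⟨M.mul_mem (M.mul_mem hu hw.1) hu', ?_⟩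
  have e : (u * w * u') * (u * w * u') = u * (w * w) * u' := by
    have : (u * w * u') * (u * w * u') = u * w * (u' * u) * w * u' := by noncomm_ring
    rw [this, h2]; noncomm_ring
  rw [e]
  have : u * (w * w) * u' + u * w * u' + 1 = u * (w * w + w + 1) * u' := by
    have : u * (w * w + w + 1) * u' = u * (w * w) * u' + u * w * u' + u * u' := by noncomm_ring
    rw [this, h1]
  rw [this, hw.2]; simp

theorem sv_conj {w u u' : R} (h1 : u * u' = 1) : sv (u * w * u') = u * sv w * u' := by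
  unfold sv
  have c2 : u * 2 = 2 * u := (Commute.ofNat_right u 2).eq
  have : u * (2 * w + 1) * u' = (u * 2) * w * u' + u * u' := by noncomm_ring
  rw [this, c2, h1]; noncomm_ring

theorem two_sv_conj {w u u' : R} (h1 : u * u' = 1) : 2 * sv (u * w * u') = u * (2 * sv w) * u' := by
  rw [sv_conj h1]
  have c2 : u * 2 = 2 * u := (Commute.ofNat_right u 2).eq
  have : u * (2 * sv w) * u' = (u * 2) * sv w * u' := by noncomm_ring
  rw [this, c2]; noncomm_ring

/-! ### realised vectors and their transport -/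

/-- `s` is twice the `sv` of an element of order three of `M` -/
def Real2 (M : Submonoid R) (s : R) : Prop := ∃ w, IsX M w ∧ 2 * sv w = s

theorem real2_neg {M : Submonoid R} {s : R} (h : Real2 M s) : Real2 M (-s) := by
  obtain ⟨w, hw, rfl⟩ := h
  refine ⟨w * w, isX_sq hw, ?_⟩
  rw [sv_sq hw]; simp

theorem real2_conj {M : Submonoid R} {s u u' : R} (h : Real2 M s) (hu : u ∈ M) (hu' : u' ∈ M)
    (h1 : u * u' = 1) (h2 : u' * u = 1) : Real2 M (u * s * u') := by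
  obtain ⟨w, hw, rfl⟩ := h
  exact ⟨u * w * u', isX_conj hw hu hu' h1 h2, two_sv_conj h1⟩

theorem conj_lin {u u' β γ p q p' q' : R} (hβ : Commute β u) (hγ : Commute γ u)
    (hp : u * p = p' * u) (hq : u * q = q' * u) (h1 : u * u' = 1) :
    u * (β * p + γ * q) * u' = β * p' + γ * q' := by
  calc u * (β * p + γ * q) * u' = (u * β) * p * u' + (u * γ) * q * u' := by noncomm_ring
    _ = β * (u * p) * u' + γ * (u * q) * u' := by rw [← hβ.eq, ← hγ.eq]; noncomm_ring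
    _ = β * p' * (u * u') + γ * q' * (u * u') := by rw [hp, hq]; noncomm_ring
    _ = _ := by rw [h1]; simp

theorem neg_G0 (a b c ϑ : R) (s1 s2 : Bool) : -G0 a b c ϑ s1 s2 = G0 a b c ϑ (!s1) (!s2) := by
  unfold G0
  cases s1 <;> cases s2 <;> simp [sg] <;> noncomm_ring

theorem cz_coef {a b c ϑ : R} (hϑ : Cz a b c ϑ) (s : Bool) :
    Cz a b c (sg s * (1 + ϑ)) ∧ Cz a b c (sg s * (1 - ϑ)) := by
  have hs : Cz a b c (sg s : R) := ⟨sg_commute s _, sg_commute s _, sg_commute s _⟩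
  exact ⟨hs.mul (Cz.one.add hϑ), hs.mul (Cz.one.sub hϑ)⟩

/-- conjugation by `b` flips the `c`-sign -/
theorem real2_flip {M : Submonoid R} (hM : Fpf M) {a b c ϑ : R} (hf : Frame a b c) (hb : b ∈ M)
    (hϑ : Cz a b c ϑ) (s1 s2 : Bool) (h : Real2 M (G0 a b c ϑ s1 s2)) :
    Real2 M (G0 a b c ϑ s1 (!s2)) := by
  obtain ⟨b', hb', h1, h2⟩ := hM.inv b hb
  have key : b * G0 a b c ϑ s1 s2 * b' = G0 a b c ϑ s1 (!s2) := by
    unfold G0
    have e := conj_lin (u := b) (u' := b') (β := sg s1 * (1 + ϑ)) (γ := sg s2 * (1 - ϑ))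
      (p := b) (q := c) (p' := b) (q' := -c) (cz_coef hϑ s1).1.cj (cz_coef hϑ s2).2.cj rfl
      (by rw [hf.jk, neg_mul, hf.kj, neg_neg]) h1
    rw [e]
    cases s2 <;> simp [sg] <;> noncomm_ring
  rw [← key]
  exact real2_conj h hb hb' h1 h2

theorem real2_signs {M : Submonoid R} (hM : Fpf M) {a b c ϑ : R} (hf : Frame a b c) (hb : b ∈ M)
    (hϑ : Cz a b c ϑ) {s1 s2 : Bool} (h : Real2 M (G0 a b c ϑ s1 s2)) (t1 t2 : Bool) :
    Real2 M (G0 a b c ϑ t1 t2) := by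
  have A : ∀ s1 s2, Real2 M (G0 a b c ϑ s1 s2) → Real2 M (G0 a b c ϑ s1 (!s2)) :=
    fun s1 s2 h => real2_flip hM hf hb hϑ s1 s2 h
  have B : ∀ s1 s2, Real2 M (G0 a b c ϑ s1 s2) → Real2 M (G0 a b c ϑ (!s1) (!s2)) := by
    intro s1 s2 h
    rw [← neg_G0]; exact real2_neg h
  have C : ∀ s1 s2, Real2 M (G0 a b c ϑ s1 s2) → Real2 M (G0 a b c ϑ (!s1) s2) := by
    intro s1 s2 h
    have := A _ _ (B _ _ h)
    rwa [Bool.not_not] at this
  cases s1 <;> cases s2 <;> cases t1 <;> cases t2 <;>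
    first | exact h | exact A _ _ h | exact B _ _ h | exact C _ _ h

theorem rot_rel {a b c x0 : R} (hf : Frame a b c) (hu : IsUnit (2 : R))
    (h : 2 * x0 = -1 + a + b + c) :
    x0 * a = c * x0 ∧ x0 * b = a * x0 ∧ x0 * c = b * x0 := by
  have c2 : ∀ r : R, 2 * (r * x0) = r * (2 * x0) := by
    intro r
    rw [← mul_assoc, (Commute.ofNat_left 2 r).eq, mul_assoc]
  refine ⟨?_, ?_, ?_⟩
  · apply hu.mul_left_cancel
    rw [c2, ← mul_assoc, h]
    simp only [add_mul, mul_add, neg_mul, mul_neg, one_mul, mul_one, hf.ii, hf.ji, hf.ki, hf.kk, hf.kj]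
    abel
  · apply hu.mul_left_cancel
    rw [c2, ← mul_assoc, h]
    simp only [add_mul, mul_add, neg_mul, mul_neg, one_mul, mul_one, hf.ii, hf.ij, hf.jj, hf.kj, hf.ik]
    abel
  · apply hu.mul_left_cancel
    rw [c2, ← mul_assoc, h]
    simp only [add_mul, mul_add, neg_mul, mul_neg, one_mul, mul_one, hf.ik, hf.jk, hf.kk, hf.ji, hf.jj]
    abel

theorem commute_x0 {a b c x0 ϑ : R} (hu : IsUnit (2 : R)) (h : 2 * x0 = -1 + a + b + c)
    (hϑ : Cz a b c ϑ) : Commute ϑ x0 := by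
  have e : Commute ϑ (2 * x0) := by
    rw [h]
    exact (((Commute.one_right ϑ).neg_right.add_right hϑ.ci).add_right hϑ.cj).add_right hϑ.ck
  apply hu.mul_left_cancel
  have : 2 * (ϑ * x0) = ϑ * (2 * x0) := by
    rw [← mul_assoc, (Commute.ofNat_left 2 ϑ).eq, mul_assoc]
  rw [this, e.eq, mul_assoc]

/-- conjugation by `x0` rotates the frame -/
theorem real2_rot {M : Submonoid R} (hM : Fpf M) {a b c x0 ϑ : R} (hf : Frame a b c)
    (hx0 : x0 ∈ M) (h2x0 : 2 * x0 = -1 + a + b + c)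
    (hϑ : Cz a b c ϑ) (s1 s2 : Bool) (h : Real2 M (G0 a b c ϑ s1 s2)) :
    Real2 M (G0 c a b ϑ s1 s2) := by
  obtain ⟨x0', hx0', h1, h2⟩ := hM.inv x0 hx0
  obtain ⟨r1, r2, r3⟩ := rot_rel hf hM.u2 h2x0
  have key : x0 * G0 a b c ϑ s1 s2 * x0' = G0 c a b ϑ s1 s2 := by
    unfold G0
    exact conj_lin (commute_x0 hM.u2 h2x0 (cz_coef hϑ s1).1) (commute_x0 hM.u2 h2x0 (cz_coef hϑ s2).2)
      r2 r3 h1
  rw [← key]
  exact real2_conj h hx0 hx0' h1 h2

theorem real2_all {M : Submonoid R} (hM : Fpf M) {i j k : R} (hf : Frame i j k) (hi : i ∈ M)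
    (hj : j ∈ M) {x0 : R} (hx0 : x0 ∈ M) (h2x0 : 2 * x0 = -1 + i + j + k) {w ϑ : R}
    (hw : IsX M w) (hϑ : Cz i j k ϑ) (g : IsGold i j k ϑ (sv w)) (t1 t2 : Bool) :
    Real2 M (G0 i j k ϑ t1 t2) ∧ Real2 M (G0 j k i ϑ t1 t2) := by
  have hk : k ∈ M := hf.ij ▸ M.mul_mem hi hj
  have hf' : Frame j k i := frame_rot hf
  have hf'' : Frame k i j := frame_rot hf'
  have hx' : 2 * x0 = -1 + j + k + i := by rw [h2x0]; abel
  have hx'' : 2 * x0 = -1 + k + i + j := by rw [h2x0]; abel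
  have hϑ' : Cz j k i ϑ := hϑ.rot
  have hϑ'' : Cz k i j ϑ := hϑ'.rot
  obtain ⟨s1, s2, g | g | g⟩ := g
  · have r1 : Real2 M (G0 i j k ϑ s1 s2) := ⟨w, hw, g⟩
    have r2 := real2_rot hM hf hx0 h2x0 hϑ s1 s2 r1
    have r3 := real2_rot hM hf'' hx0 hx'' hϑ'' s1 s2 r2
    exact ⟨real2_signs hM hf hj hϑ r1 t1 t2, real2_signs hM hf' hk hϑ' r3 t1 t2⟩
  · have r3 : Real2 M (G0 j k i ϑ s1 s2) := ⟨w, hw, g⟩
    have r1 := real2_rot hM hf' hx0 hx' hϑ' s1 s2 r3
    exact ⟨real2_signs hM hf hj hϑ r1 t1 t2, real2_signs hM hf' hk hϑ' r3 t1 t2⟩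
  · have r2 : Real2 M (G0 k i j ϑ s1 s2) := ⟨w, hw, g⟩
    have r3 := real2_rot hM hf'' hx0 hx'' hϑ'' s1 s2 r2
    have r1 := real2_rot hM hf' hx0 hx' hϑ' s1 s2 r3
    exact ⟨real2_signs hM hf hj hϑ r1 t1 t2, real2_signs hM hf' hk hϑ' r3 t1 t2⟩

/-! ### the uniqueness of the golden parameter -/

theorem exists_half (hu : IsUnit (2 : R)) :
    ∃ h : R, 2 * h = 1 ∧ h * 2 = 1 ∧ ∀ r : R, Commute h r := by
  obtain ⟨u, hu⟩ := hu
  refine ⟨↑u⁻¹, ?_, ?_, ?_⟩
  · rw [← hu]; exact u.mul_inv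
  · rw [← hu]; exact u.inv_mul
  · intro r
    have : Commute (↑u : R) r := by rw [hu]; exact Commute.ofNat_left 2 r
    exact this.units_inv_left

theorem coef_inj {i j k : R} (hf : Frame i j k) (hu : IsUnit (2 : R)) {β γ β' γ' : R}
    (h1 : Cz i j k β) (h2 : Cz i j k γ) (h3 : Cz i j k β') (h4 : Cz i j k γ')
    (h : β * j + γ * k = β' * j + γ' * k) : β = β' ∧ γ = γ' := by
  have := ev_inj hf hu Cz.zero Cz.zero h1 h2 Cz.zero Cz.zero h3 h4 (by unfold ev; simpa using h)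
  exact ⟨this.2.2.1, this.2.2.2⟩

theorem n1b_sq_commute {x y : R}
    (h : (bt x y = -6 ∧ y = x) ∨ (bt x y = 6 ∧ x * y = 1) ∨ bt x y = 2 ∨ bt x y = -2 ∨
      (bt x y * bt x y = 20 ∧ IsUnit (5 : R))) (r : R) : Commute (bt x y * bt x y) r := by
  rcases h with ⟨h, -⟩ | ⟨h, -⟩ | h | h | ⟨h, -⟩
  · rw [h]
    exact ((Commute.ofNat_left 6 r).neg_left).mul_left ((Commute.ofNat_left 6 r).neg_left)
  · rw [h]; exact (Commute.ofNat_left 6 r).mul_left (Commute.ofNat_left 6 r)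
  · rw [h]; exact (Commute.ofNat_left 2 r).mul_left (Commute.ofNat_left 2 r)
  · rw [h]
    exact ((Commute.ofNat_left 2 r).neg_left).mul_left ((Commute.ofNat_left 2 r).neg_left)
  · rw [h]; exact Commute.ofNat_left 20 r

theorem jk_mul {i j k : R} (hf : Frame i j k) {b₂ b₃ c₂ c₃ : R} (h2 : Cz i j k c₂)
    (h3 : Cz i j k c₃) :
    (b₂ * j + b₃ * k) * (c₂ * j + c₃ * k) = -(b₂ * c₂ + b₃ * c₃) + (b₂ * c₃ - b₃ * c₂) * i := by
  have e := hf.pure_mul (b₁ := 0) (b₂ := b₂) (b₃ := b₃) (c₁ := 0) (c₂ := c₂) (c₃ := c₃)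
    (Commute.zero_left _) (Commute.zero_left _) h2.ci h2.cj h3.ci h3.cj
  simpa using e

theorem golden_sq {h ϑ : R} (hu : IsUnit (2 : R)) (h2h : 2 * h = 1) (hs : ϑ * ϑ = 5) :
    (h * (1 - ϑ)) * (h * (1 - ϑ)) = h * (1 - ϑ) + 1 := by
  have hu4 : IsUnit (4 : R) := by
    have : (4 : R) = 2 * 2 := by norm_num
    rw [this]; exact hu.mul hu
  have t : 2 * (h * (1 - ϑ)) = 1 - ϑ := by rw [← mul_assoc, h2h, one_mul]
  set φ := h * (1 - ϑ) with hφ
  have n2 : (2 : R) = 1 + 1 := by norm_num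
  have n4 : (4 : R) = 1 + 1 + 1 + 1 := by norm_num
  have n5 : (5 : R) = 1 + 1 + 1 + 1 + 1 := by norm_num
  apply hu4.mul_left_cancel
  have a : 4 * (φ * φ) = (2 * φ) * (2 * φ) := by rw [n2, n4]; noncomm_ring
  have b : 4 * (φ + 1) = 2 * (2 * φ) + 4 := by rw [n2, n4]; noncomm_ring
  rw [a, b, t]
  have c : (1 - ϑ) * (1 - ϑ) = 1 - ϑ - ϑ + ϑ * ϑ := by noncomm_ring
  rw [c, hs, n2, n4, n5]; noncomm_ring

theorem gold_unique_of_n1b {M : Submonoid R} (hM : Fpf M)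
    (hn : ∀ x y : R, IsX M x → IsX M y →
      (bt x y = -6 ∧ y = x) ∨ (bt x y = 6 ∧ x * y = 1) ∨ bt x y = 2 ∨ bt x y = -2 ∨
        (bt x y * bt x y = 20 ∧ IsUnit (5 : R)))
    {i j k : R} (hf : Frame i j k) (hi : i ∈ M)
    (hj : j ∈ M) {x0 : R} (hx0 : x0 ∈ M) (h2x0 : 2 * x0 = -1 + i + j + k) {w1 w2 ϑ1 ϑ2 : R}
    (hw1 : IsX M w1) (hw2 : IsX M w2) (h1 : Cz i j k ϑ1) (h2 : Cz i j k ϑ2)
    (hs1 : ϑ1 * ϑ1 = 5) (hs2 : ϑ2 * ϑ2 = 5)
    (g1 : IsGold i j k ϑ1 (sv w1)) (g2 : IsGold i j k ϑ2 (sv w2)) : ϑ1 = ϑ2 := by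
  have hu2 := hM.u2
  have n2 : (2 : R) = 1 + 1 := by norm_num
  have n4 : (4 : R) = 1 + 1 + 1 + 1 := by norm_num
  have hu4 : IsUnit (4 : R) := by
    have : (4 : R) = 2 * 2 := by norm_num
    rw [this]; exact hu2.mul hu2
  have A1 := real2_all hM hf hi hj hx0 h2x0 hw1 h1 g1
  have A2 := real2_all hM hf hi hj hx0 h2x0 hw2 h2 g2
  -- Step 1: `ϑ1` and `ϑ2` commute
  have hcomm : ϑ1 * ϑ2 = ϑ2 * ϑ1 ∨ ϑ1 = ϑ2 := by
    obtain ⟨d1, hd1, e1⟩ := (A1 false true).1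
    obtain ⟨d2, hd2, e2⟩ := (A2 true true).1
    obtain ⟨d3, hd3, e3⟩ := (A2 false true).2
    obtain ⟨h, h2h, hh2, hc⟩ := exists_half hu2
    have hφ2 := golden_sq hu2 h2h hs1
    have hψ2 := golden_sq hu2 h2h hs2
    have tφ : 2 * (h * (1 - ϑ1)) = 1 - ϑ1 := by rw [← mul_assoc, h2h, one_mul]
    have tψ : 2 * (h * (1 - ϑ2)) = 1 - ϑ2 := by rw [← mul_assoc, h2h, one_mul]
    set φ := h * (1 - ϑ1) with hφ
    set ψ := h * (1 - ϑ2) with hψ
    have hφi : Commute φ i := (hc i).mul_left (Cz.one.sub h1).ci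
    have hφj : Commute φ j := (hc j).mul_left (Cz.one.sub h1).cj
    have hψi : Commute ψ i := (hc i).mul_left (Cz.one.sub h2).ci
    have hψj : Commute ψ j := (hc j).mul_left (Cz.one.sub h2).cj
    have s1 : sv d1 = (φ - 1) * j + φ * k := by
      apply hu2.mul_left_cancel
      rw [e1]
      have : 2 * ((φ - 1) * j + φ * k) = (2 * φ - 2) * j + (2 * φ) * k := by
        rw [n2]; noncomm_ring
      rw [this, tφ]
      unfold G0 sg
      simp only [if_true, if_false, Bool.false_eq_true]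
      rw [n2]; noncomm_ring
    have s2 : sv d2 = -(ψ - 1) * j + ψ * k := by
      apply hu2.mul_left_cancel
      rw [e2]
      have : 2 * (-(ψ - 1) * j + ψ * k) = (2 - 2 * ψ) * j + (2 * ψ) * k := by
        rw [n2]; noncomm_ring
      rw [this, tψ]
      unfold G0 sg
      simp only [if_true]
      rw [n2]; noncomm_ring
    have s3 : sv d3 = ψ * i + (ψ - 1) * k := by
      apply hu2.mul_left_cancel
      rw [e3]
      have : 2 * (ψ * i + (ψ - 1) * k) = (2 * ψ) * i + (2 * ψ - 2) * k := by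
        rw [n2]; noncomm_ring
      rw [this, tψ]
      unfold G0 sg
      simp only [if_true, if_false, Bool.false_eq_true]
      rw [n2]; noncomm_ring
    have h13 : Commute (bt d1 d3 * bt d1 d3) i := n1b_sq_commute (hn d1 d3 hd1 hd3) i
    have fin : (bt d1 d2 * bt d1 d2 = 4 ∨ bt d1 d2 * bt d1 d2 = 20) → ϑ1 * ϑ2 = ϑ2 * ϑ1 := by
      intro h12
      have hφψ := golden_commute hf hu2 hφ2 hψ2 hφi hφj hψi hψj (c12 := bt d1 d2)
        (c13 := bt d1 d3) (by unfold bt; rw [s1, s2]) (by unfold bt; rw [s1, s3]) h12 h13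
      have q1 : ϑ1 = 1 - 2 * φ := by rw [tφ]; abel
      have q2 : ϑ2 = 1 - 2 * ψ := by rw [tψ]; abel
      rw [q1, q2]
      have a : (1 - 2 * φ) * (1 - 2 * ψ) = 1 - 2 * φ - 2 * ψ + 4 * (φ * ψ) := by
        rw [n2, n4]; noncomm_ring
      have b : (1 - 2 * ψ) * (1 - 2 * φ) = 1 - 2 * φ - 2 * ψ + 4 * (ψ * φ) := by
        rw [n2, n4]; noncomm_ring
      rw [a, b, hφψ]
    rcases hn d1 d2 hd1 hd2 with ⟨-, h⟩ | ⟨-, h⟩ | h | h | ⟨h, -⟩
    · right
      have e : G0 i j k ϑ1 false true = G0 i j k ϑ2 true true := by rw [← e1, ← e2, h]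
      unfold G0 at e
      have := (coef_inj hf hu2 (cz_coef h1 false).1 (cz_coef h1 true).2 (cz_coef h2 true).1
        (cz_coef h2 true).2 e).2
      simpa [sg] using this
    · right
      have hd2 : d2 = d1 * d1 := by
        have a : (d1 * d1) * d1 = 1 := by rw [mul_assoc]; exact isX_mul_sq hd1
        calc d2 = ((d1 * d1) * d1) * d2 := by rw [a, one_mul]
          _ = (d1 * d1) * (d1 * d2) := by rw [mul_assoc]
          _ = d1 * d1 := by rw [h, mul_one]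
      have e : G0 i j k ϑ2 true true = G0 i j k ϑ1 true false := by
        rw [← e2, hd2, sv_sq hd1, mul_neg, e1, neg_G0]; rfl
      unfold G0 at e
      have := (coef_inj hf hu2 (cz_coef h2 true).1 (cz_coef h2 true).2 (cz_coef h1 true).1
        (cz_coef h1 false).2 e).1
      have : 1 + ϑ2 = 1 + ϑ1 := by simpa [sg] using this
      exact (add_left_cancel this).symm
    · left; apply fin; left; rw [h]; norm_num
    · left; apply fin; left; rw [h]; norm_num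
    · left; apply fin; right; exact h
  rcases hcomm with hc | h
  swap
  · exact h
  -- Step 2: the two golden elements with signs `+ +`
  obtain ⟨f1, hf1, q1⟩ := (A1 true true).1
  obtain ⟨f2, hf2, q2⟩ := (A2 true true).1
  have hbt : bt f1 f2 = -1 - ϑ1 * ϑ2 := by
    apply hu4.mul_left_cancel
    have a : ∀ a b : R, 4 * (a * b + b * a) = (2 * a) * (2 * b) + (2 * b) * (2 * a) := by
      intro a b; rw [n2, n4]; noncomm_ring
    unfold bt
    rw [a, q1, q2]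
    unfold G0 sg
    simp only [if_true, one_mul]
    rw [jk_mul hf (Cz.one.add h2) (Cz.one.sub h2), jk_mul hf (Cz.one.add h1) (Cz.one.sub h1)]
    have t1 : (1 + ϑ1) * (1 + ϑ2) + (1 - ϑ1) * (1 - ϑ2) = 2 + 2 * (ϑ1 * ϑ2) := by
      rw [n2]; noncomm_ring
    have t2 : (1 + ϑ2) * (1 + ϑ1) + (1 - ϑ2) * (1 - ϑ1) = 2 + 2 * (ϑ2 * ϑ1) := by
      rw [n2]; noncomm_ring
    have t3 : (1 + ϑ1) * (1 - ϑ2) - (1 - ϑ1) * (1 + ϑ2) = 2 * ϑ1 - 2 * ϑ2 := by
      rw [n2]; noncomm_ring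
    have t4 : (1 + ϑ2) * (1 - ϑ1) - (1 - ϑ2) * (1 + ϑ1) = 2 * ϑ2 - 2 * ϑ1 := by
      rw [n2]; noncomm_ring
    rw [t1, t2, t3, t4, ← hc, n2, n4]; noncomm_ring
  set u := ϑ1 * ϑ2 with hu
  have huu : u * u = 25 := by
    have : u * u = ϑ1 * (ϑ2 * ϑ1) * ϑ2 := by rw [hu]; noncomm_ring
    rw [this, ← hc]
    have : ϑ1 * (ϑ1 * ϑ2) * ϑ2 = (ϑ1 * ϑ1) * (ϑ2 * ϑ2) := by noncomm_ring
    rw [this, hs1, hs2]; norm_num
  have triv24 : (24 : R) = 0 → ϑ1 = ϑ2 := by
    intro h24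
    have : IsUnit (24 : R) := by
      have : (24 : R) = 2 * 2 * 2 * 3 := by norm_num
      rw [this]; exact ((hu2.mul hu2).mul hu2).mul hM.u3
    rw [h24] at this
    exact eq_of_zero_eq_one (isUnit_zero_iff.mp this) _ _
  have triv16 : (16 : R) = 0 → ϑ1 = ϑ2 := by
    intro h16
    have : IsUnit (16 : R) := by
      have : (16 : R) = 2 * 2 * 2 * 2 := by norm_num
      rw [this]; exact ((hu2.mul hu2).mul hu2).mul hu2
    rw [h16] at this
    exact eq_of_zero_eq_one (isUnit_zero_iff.mp this) _ _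
  have hub : u = -1 - bt f1 f2 := by rw [hbt]; abel
  have m3 : u = -3 → ϑ1 = ϑ2 := by
    intro h3
    apply triv16
    rw [h3] at huu
    have : (16 : R) = 25 - (-3) * (-3) := by norm_num
    rw [this, huu, sub_self]
  rcases hn f1 f2 hf1 hf2 with ⟨-, h⟩ | ⟨h, -⟩ | h | h | ⟨h, -⟩
  · have e : G0 i j k ϑ1 true true = G0 i j k ϑ2 true true := by rw [← q1, ← q2, h]
    unfold G0 at e
    have := (coef_inj hf hu2 (cz_coef h1 true).1 (cz_coef h1 true).2 (cz_coef h2 true).1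
      (cz_coef h2 true).2 e).1
    have : 1 + ϑ1 = 1 + ϑ2 := by simpa [sg] using this
    exact add_left_cancel this
  · apply triv24
    rw [h] at hub
    have h7 : u = -7 := by rw [hub]; norm_num
    rw [h7] at huu
    have : (24 : R) = (-7) * (-7) - 25 := by norm_num
    rw [this, huu, sub_self]
  · apply m3
    rw [hub, h]; norm_num
  · apply triv24
    rw [h] at hub
    have h7 : u = 1 := by rw [hub]; norm_num
    rw [h7] at huu
    have : (24 : R) = 25 - 1 * 1 := by norm_num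
    rw [this, huu, sub_self]
  · apply m3
    rw [hbt] at h
    have e : (-1 - u) * (-1 - u) = 1 + 2 * u + u * u := by rw [n2]; noncomm_ring
    rw [e, huu] at h
    apply hu2.mul_left_cancel
    have : 2 * u = (1 + 2 * u + 25) - (1 + 25) := by abel
    rw [this, h]; norm_num

end Cfsg.Agent.Lead.Zass
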