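import Mathlib

/-!
# S4429 / S0435 / S0434 (helper17's farm-out), piece T5: counting the pairs of conjugates of an involution with a
given product
-/

set_option autoImplicit false

namespace Cfsg.Agent.Helper17.M11

universe u

namespace T5

variable {G : Type u} [Group G]

/-- the fibre of `c ↦ c t c⁻¹` over a conjugate of `t` is a coset of the centralizer of `t` -/
noncomputable def fibEquiv (t c₀ : G) :
    {c : G // c * t * c⁻¹ = c₀ * t * c₀⁻¹} ≃ Subgroup.centralizer ({t} : Set G) where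
  toFun c := ⟨c₀⁻¹ * c.1, by
    rw [Subgroup.mem_centralizer_iff]
    intro x hx
    rw [Set.mem_singleton_iff] at hx
    subst hx
    have h := c.2
    have h2 : c.1 * x = c₀ * x * c₀⁻¹ * c.1 := by
      calc c.1 * x = (c.1 * x * c.1⁻¹) * c.1 := by group
        _ = c₀ * x * c₀⁻¹ * c.1 := by rw [h]
    calc x * (c₀⁻¹ * c.1) = c₀⁻¹ * (c₀ * x * c₀⁻¹ * c.1) := by group
      _ = c₀⁻¹ * (c.1 * x) := by rw [h2]
      _ = c₀⁻¹ * c.1 * x := by group⟩
  invFun z := ⟨c₀ * z.1, by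
    have hz := z.2
    rw [Subgroup.mem_centralizer_iff] at hz
    have h := hz t (Set.mem_singleton t)
    calc c₀ * z.1 * t * (c₀ * z.1)⁻¹ = c₀ * (z.1 * t) * z.1⁻¹ * c₀⁻¹ := by group
      _ = c₀ * (t * z.1) * z.1⁻¹ * c₀⁻¹ := by rw [h]
      _ = c₀ * t * c₀⁻¹ := by group⟩
  left_inv c := by
    apply Subtype.ext
    simp
  right_inv z := by
    apply Subtype.ext
    simp

theorem card_fib [Finite G] (t s : G) (h : ∃ c : G, c * t * c⁻¹ = s) :
    Nat.card {c : G // c * t * c⁻¹ = s} = Nat.card (Subgroup.centralizer ({t} : Set G)) := by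
  obtain ⟨c₀, rfl⟩ := h
  exact Nat.card_congr (fibEquiv t c₀)

/-- the set of first components of the pairs of conjugates of `t` with product `u` -/
def Good (t u s : G) : Prop := (∃ c : G, c * t * c⁻¹ = s) ∧ (∃ c : G, c * t * c⁻¹ = s⁻¹ * u)

theorem snd_eq {t u : G} {c : G × G} (h : (c.1 * t * c.1⁻¹) * (c.2 * t * c.2⁻¹) = u) :
    c.2 * t * c.2⁻¹ = (c.1 * t * c.1⁻¹)⁻¹ * u := by
  calc c.2 * t * c.2⁻¹ = (c.1 * t * c.1⁻¹)⁻¹ * ((c.1 * t * c.1⁻¹) * (c.2 * t * c.2⁻¹)) := by group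
    _ = (c.1 * t * c.1⁻¹)⁻¹ * u := by rw [h]

/-- the pairs, sorted by their first conjugate -/
def pairEquiv (t u : G) :
    {c : G × G // (c.1 * t * c.1⁻¹) * (c.2 * t * c.2⁻¹) = u} ≃
      Σ s : {s : G // Good t u s}, {c : G // c * t * c⁻¹ = s.1} × {c : G // c * t * c⁻¹ = s.1⁻¹ * u} where
  toFun c := ⟨⟨c.1.1 * t * c.1.1⁻¹, ⟨c.1.1, rfl⟩, ⟨c.1.2, snd_eq c.2⟩⟩, ⟨c.1.1, rfl⟩, ⟨c.1.2, snd_eq c.2⟩⟩
  invFun x := ⟨(x.2.1.1, x.2.2.1), by
    have h1 := x.2.1.2
    have h2 := x.2.2.2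
    simp only
    rw [h1, h2]; group⟩
  left_inv c := by
    apply Subtype.ext
    rfl
  right_inv x := by
    obtain ⟨⟨s, hs⟩, ⟨c1, h1⟩, ⟨c2, h2⟩⟩ := x
    simp only at h1 h2
    subst h1
    rfl

theorem inverts_of_good {t u s : G} (ht : t * t = 1) (h : Good t u s) : s * u * s⁻¹ = u⁻¹ := by
  obtain ⟨⟨c, hc⟩, ⟨c', hc'⟩⟩ := h
  have hs : s * s = 1 := by
    rw [← hc]
    calc c * t * c⁻¹ * (c * t * c⁻¹) = c * (t * t) * c⁻¹ := by group
      _ = 1 := by rw [ht]; group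
  have hs' : (s⁻¹ * u) * (s⁻¹ * u) = 1 := by
    rw [← hc']
    calc c' * t * c'⁻¹ * (c' * t * c'⁻¹) = c' * (t * t) * c'⁻¹ := by group
      _ = 1 := by rw [ht]; group
  have hsi : s⁻¹ = s := inv_eq_of_mul_eq_one_left hs
  rw [hsi] at hs' ⊢
  -- `s u s u = 1`
  have : s * u * s = u⁻¹ := by
    have h3 : s * u * s * u = 1 := by rw [← hs']; group
    exact eq_inv_of_mul_eq_one_left h3
  exact this

theorem card_good_le [Finite G] {t u : G} (ht : t * t = 1) :
    Nat.card {s : G // Good t u s} ≤ Nat.card (Subgroup.centralizer ({u} : Set G)) := by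
  classical
  by_cases hne : Nonempty {s : G // Good t u s}
  · obtain ⟨⟨s₀, h₀⟩⟩ := hne
    have i₀ := inverts_of_good ht h₀
    let f : {s : G // Good t u s} → Subgroup.centralizer ({u} : Set G) := fun s =>
      ⟨s₀⁻¹ * s.1, by
        rw [Subgroup.mem_centralizer_iff]
        intro x hx
        rw [Set.mem_singleton_iff] at hx
        subst hx
        have i := inverts_of_good ht s.2
        -- `s x s⁻¹ = x⁻¹ = s₀ x s₀⁻¹`
        have e : s.1 * x * s.1⁻¹ = s₀ * x * s₀⁻¹ := by rw [i, i₀]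
        calc x * (s₀⁻¹ * s.1) = s₀⁻¹ * (s₀ * x * s₀⁻¹) * s.1 := by group
          _ = s₀⁻¹ * (s.1 * x * s.1⁻¹) * s.1 := by rw [e]
          _ = s₀⁻¹ * s.1 * x := by group⟩
    have hf : Function.Injective f := by
      intro a b hab
      have := congrArg Subtype.val hab
      simp only [f] at this
      exact Subtype.ext (mul_left_cancel this)
    exact Nat.card_le_card_of_injective f hf
  · rw [not_nonempty_iff] at hne
    rw [Nat.card_of_isEmpty]; exact Nat.zero_le _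

end T5

variable {G : Type u} [Group G] [Fintype G]

/-- PIECE T5: the number of pairs `(c₁,c₂)` with `c₁tc₁⁻¹ · c₂tc₂⁻¹ = u` is `|C(t)|² k` with `k ≤ |C(u)|`. -/
theorem cc_count {t u : G} (ht : t * t = 1) :
    ∃ k : ℕ, k ≤ Nat.card (Subgroup.centralizer ({u} : Set G)) ∧
      Nat.card {c : G × G // (c.1 * t * c.1⁻¹) * (c.2 * t * c.2⁻¹) = u} =
        Nat.card (Subgroup.centralizer ({t} : Set G)) ^ 2 * k := by
  classical
  refine ⟨Nat.card {s : G // T5.Good t u s}, T5.card_good_le ht, ?_⟩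
  rw [Nat.card_congr (T5.pairEquiv t u), Nat.card_sigma]
  have : ∀ s : {s : G // T5.Good t u s},
      Nat.card ({c : G // c * t * c⁻¹ = s.1} × {c : G // c * t * c⁻¹ = s.1⁻¹ * u}) =
        Nat.card (Subgroup.centralizer ({t} : Set G)) ^ 2 := by
    intro s
    rw [Nat.card_prod, T5.card_fib t s.1 s.2.1, T5.card_fib t _ s.2.2, sq]
  simp only [this]
  rw [Finset.sum_const, Finset.card_univ, smul_eq_mul, ← Nat.card_eq_fintype_card, mul_comm]

end Cfsg.Agent.Helper17.M11
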