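import Mathlib
import Cfsg.Prelude.Def_OddOrder
import Cfsg.Prelude.Def_OddOrderLocal
import Cfsg.Agent.Lib.Helper1.Focal
import Cfsg.Agent.Lib.Helper4.BGSigA
import Cfsg.Agent.Lib.Helper12.NilCover
import Cfsg.Agent.Lib.Helper15.SylowIn
import Cfsg.Agent.Lib.Helper20.BG12B
import Cfsg.Agent.Lib.Helper20.BG12C
import Cfsg.Agent.Lib.Lead.BGSigmaHall

/-!
# Bender–Glauberman, Corollary 12.9(a), abelian case

Let `M` be a maximal subgroup, `E` a complement of `M_σ` in `M`, `p ∈ τ₂(M)` and suppose that the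
Sylow `p`-subgroups of `G` are abelian.  Then every Sylow `p`-subgroup of `E` is normal in `E`.

The proof uses the frozen statements S1350, S1408, S1414, S1415, S1417, S1418 (as hypotheses).
-/

set_option autoImplicit false

namespace Cfsg.Agent.Lead.BG129

open Cfsg Subgroup
open scoped commutatorElement
open Cfsg.Agent.Helper15 (IsSylowIn)
open Cfsg.Agent.Helper20.BG12 (H1350 H1415 H1417 H1418)

universe u

variable {G : Type u} [Group G]

/-! ### General lemmas -/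

/-- If `N` normalises the cyclic subgroup `R`, then `N'` centralises `R`. -/
theorem commutator_le_centralizer_of_isCyclic {N R : Subgroup G} (hR : IsCyclic R)
    (hN : N ≤ normalizer (R : Set G)) : ⁅N, N⁆ ≤ centralizer (R : Set G) := by
  obtain ⟨⟨g, hgR⟩, hg⟩ := hR.exists_generator
  have hgen : ∀ r ∈ R, ∃ k : ℤ, g ^ k = r := by
    intro r hr
    obtain ⟨k, hk⟩ := Subgroup.mem_zpowers_iff.mp (hg ⟨r, hr⟩)
    exact ⟨k, by simpa using congrArg Subtype.val hk⟩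
  -- conjugation by `n ∈ N` raises `g` to a power
  have hpow : ∀ n ∈ N, ∃ a : ℤ, n * g * n⁻¹ = g ^ a := by
    intro n hn
    have h1 : n * g * n⁻¹ ∈ R := (mem_normalizer_iff.mp (hN hn) g).mp hgR
    obtain ⟨a, ha⟩ := hgen _ h1
    exact ⟨a, ha.symm⟩
  have hconj_pow : ∀ (n : G) (a k : ℤ), n * g * n⁻¹ = g ^ a → n * g ^ k * n⁻¹ = (g ^ k) ^ a := by
    intro n a k h
    have h1 : n * g ^ k * n⁻¹ = (n * g * n⁻¹) ^ k := by
      rw [conj_zpow]
    rw [h1, h, ← zpow_mul, ← zpow_mul, mul_comm]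
  -- `⁅n₁⁻¹, n₂⁻¹⁆` centralises `g`
  have key : ∀ n₁ ∈ N, ∀ n₂ ∈ N, ⁅n₁⁻¹, n₂⁻¹⁆ * g = g * ⁅n₁⁻¹, n₂⁻¹⁆ := by
    intro n₁ h₁ n₂ h₂
    obtain ⟨a, ha⟩ := hpow n₁ h₁
    obtain ⟨b, hb⟩ := hpow n₂ h₂
    have e1 : (n₁ * n₂) * g * (n₁ * n₂)⁻¹ = g ^ (b * a) := by
      calc (n₁ * n₂) * g * (n₁ * n₂)⁻¹ = n₁ * (n₂ * g * n₂⁻¹) * n₁⁻¹ := by group
        _ = n₁ * g ^ b * n₁⁻¹ := by rw [hb]
        _ = (g ^ b) ^ a := hconj_pow n₁ a b ha
        _ = g ^ (b * a) := by rw [← zpow_mul]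
    have e2 : (n₂ * n₁) * g * (n₂ * n₁)⁻¹ = g ^ (b * a) := by
      calc (n₂ * n₁) * g * (n₂ * n₁)⁻¹ = n₂ * (n₁ * g * n₁⁻¹) * n₂⁻¹ := by group
        _ = n₂ * g ^ a * n₂⁻¹ := by rw [ha]
        _ = (g ^ a) ^ b := hconj_pow n₂ b a hb
        _ = g ^ (b * a) := by rw [← zpow_mul, mul_comm]
    have e3 : (n₁ * n₂) * g * (n₁ * n₂)⁻¹ = (n₂ * n₁) * g * (n₂ * n₁)⁻¹ := by rw [e1, e2]
    have e4 : ⁅n₁⁻¹, n₂⁻¹⁆ = (n₂ * n₁)⁻¹ * (n₁ * n₂) := by
      rw [commutatorElement_def]; group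
    rw [e4]
    calc (n₂ * n₁)⁻¹ * (n₁ * n₂) * g
        = (n₂ * n₁)⁻¹ * ((n₁ * n₂) * g * (n₁ * n₂)⁻¹) * (n₁ * n₂) := by group
      _ = (n₂ * n₁)⁻¹ * ((n₂ * n₁) * g * (n₂ * n₁)⁻¹) * (n₁ * n₂) := by rw [e3]
      _ = g * ((n₂ * n₁)⁻¹ * (n₁ * n₂)) := by group
  rw [Subgroup.commutator_le]
  intro n₁ h₁ n₂ h₂
  have hk := key n₁⁻¹ (N.inv_mem h₁) n₂⁻¹ (N.inv_mem h₂)
  rw [inv_inv, inv_inv] at hk
  rw [mem_centralizer_iff]
  intro r hr
  obtain ⟨k, rfl⟩ := hgen r hr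
  have hc : Commute ⁅n₁, n₂⁆ g := hk
  exact (hc.zpow_right k).eq.symm

/-- A normal `p`-subgroup of `E` lies in every Sylow `p`-subgroup of `E`. -/
theorem le_of_normal_isPGroup [Finite G] {p : ℕ} [Fact p.Prime] {S E Q : Subgroup G}
    (hS : IsSylowIn p S E) (hQE : Q ≤ E) (hQ : IsPGroup p Q)
    (hEQ : E ≤ normalizer (Q : Set G)) : Q ≤ S := by
  obtain ⟨T, hQT, hT⟩ := Cfsg.Agent.Helper15.exists_isSylowIn_ge hQ hQE
  obtain ⟨k, hk, hkT⟩ := hT.exists_conj hS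
  rw [← hkT, ← Cfsg.Agent.Helper15.map_conj_eq_of_mem_normalizer (hEQ hk)]
  exact Subgroup.map_mono hQT

/-- **Focal subgroup theorem** for an abelian Sylow subgroup of a perfect group. -/
theorem le_commutator_normalizer [Finite G] (hG : IsMinSimpleOddOrder G) {p : ℕ} [Fact p.Prime]
    (P : Sylow p G) (hab : ∀ a ∈ (P : Subgroup G), ∀ b ∈ (P : Subgroup G), a * b = b * a) :
    (P : Subgroup G) ≤ ⁅normalizer ((P : Subgroup G) : Set G),
      normalizer ((P : Subgroup G) : Set G)⁆ := by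
  have hcomm := Cfsg.Agent.Lead.BGSig.commutator_eq_top_of_minSimple hG
  have hfoc : (P : Subgroup G).focalSubgroup = P := by
    have h1 := commutator_inf_eq_focalSubgroup P
    rw [hcomm, top_inf_eq] at h1
    exact h1.symm
  haveI : IsMulCommutative (P : Subgroup G) :=
    ⟨⟨fun a b => Subtype.ext (hab a a.2 b b.2)⟩⟩
  conv_lhs => rw [← hfoc]
  apply Cfsg.Agent.Helper1.focalSubgroup_le_of_forall
  intro x hx u hux
  have hy : (u⁻¹)⁻¹ * x * u⁻¹ ∈ (P : Subgroup G) := by rwa [inv_inv]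
  obtain ⟨n, hn, hnx⟩ := P.conj_eq_normalizer_conj_of_mem x u⁻¹ hx hy
  rw [inv_inv] at hnx
  rw [hnx]
  have e : x * (n⁻¹ * x * n)⁻¹ = ⁅x, n⁻¹⁆ := by
    rw [commutatorElement_def]; group
  rw [e]
  exact commutator_mem_commutator (le_normalizer hx) (inv_mem hn)

/-- Two subgroups, both normalised by `E ≥ A, B`, with trivial intersection commute. -/
theorem le_centralizer_of_normal_of_disjoint {E A B : Subgroup G} (hAE : A ≤ E) (hBE : B ≤ E)
    (hEA : E ≤ normalizer (A : Set G)) (hEB : E ≤ normalizer (B : Set G)) (hd : A ⊓ B = ⊥) :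
    B ≤ centralizer (A : Set G) := by
  intro b hb
  rw [mem_centralizer_iff]
  intro a ha
  have h1 : a * b * a⁻¹ * b⁻¹ ∈ B :=
    B.mul_mem ((mem_normalizer_iff.mp (hEB (hAE ha)) b).mp hb) (B.inv_mem hb)
  have h2 : a * b * a⁻¹ * b⁻¹ ∈ A := by
    have : a * b * a⁻¹ * b⁻¹ = a * (b * a⁻¹ * b⁻¹) := by group
    rw [this]
    exact A.mul_mem ha ((mem_normalizer_iff.mp (hEA (hBE hb)) a⁻¹).mp (A.inv_mem ha))
  have h3 : a * b * a⁻¹ * b⁻¹ ∈ A ⊓ B := ⟨h2, h1⟩
  rw [hd, mem_bot] at h3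
  calc a * b = (a * b * a⁻¹ * b⁻¹) * (b * a) := by group
    _ = b * a := by rw [h3, one_mul]

/-- Conjugation by an element of `N(A)` preserves `C(A)`. -/
theorem conj_mem_centralizer_of_mem_normalizer {A : Subgroup G} {n x : G}
    (hn : n ∈ normalizer (A : Set G)) (hx : x ∈ centralizer (A : Set G)) :
    n * x * n⁻¹ ∈ centralizer (A : Set G) := by
  rw [mem_centralizer_iff] at hx ⊢
  intro a ha
  have h1 : n⁻¹ * a * n ∈ A := by
    have := (mem_normalizer_iff.mp (inv_mem hn) a).mp ha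
    rwa [inv_inv] at this
  have h2 := hx _ h1
  calc a * (n * x * n⁻¹) = n * ((n⁻¹ * a * n) * x) * n⁻¹ := by group
    _ = n * (x * (n⁻¹ * a * n)) * n⁻¹ := by rw [h2]
    _ = n * x * n⁻¹ * a := by group

/-- If `B` contains every subgroup of order `q` of `E`, has exponent `q`, and `n` conjugates `B`
into `E`, then `n` normalises `B`. -/
theorem mem_normalizer_of_forall_card_le [Finite G] {E B : Subgroup G} {q : ℕ} [Fact q.Prime]
    (hall : ∀ X : Subgroup G, X ≤ E → Nat.card X = q → X ≤ B) (hexp : ∀ b ∈ B, b ^ q = 1)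
    {n : G} (hn : ∀ b ∈ B, n * b * n⁻¹ ∈ E) : n ∈ normalizer (B : Set G) := by
  apply Cfsg.Agent.Helper15.mem_normalizer_of_map_conj_eq
  rw [Cfsg.Agent.Helper15.map_conj_eq_iff_le]
  rintro y ⟨b, hb, rfl⟩
  simp only [MulEquiv.coe_toMonoidHom, MulAut.conj_apply]
  by_cases h1 : n * b * n⁻¹ = 1
  · rw [h1]; exact B.one_mem
  · have hpow : (n * b * n⁻¹) ^ q = 1 := by rw [conj_pow, hexp b hb]; group
    have hord : orderOf (n * b * n⁻¹) = q := by
      have hd := orderOf_dvd_of_pow_eq_one hpow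
      rcases (Nat.dvd_prime (Fact.out : q.Prime)).mp hd with h | h
      · exact absurd (orderOf_eq_one_iff.mp h) h1
      · exact h
    have hle : zpowers (n * b * n⁻¹) ≤ B := by
      apply hall
      · rw [zpowers_le]; exact hn b hb
      · rw [Nat.card_zpowers, hord]
    exact hle (mem_zpowers _)

/-! ### The frozen statements S1408 and S1414 as hypotheses -/

/-- S1408. -/
def H1408 (G : Type u) [Group G] : Prop :=
  ∀ (M : Subgroup G), IsCoatom M → ∀ (p : ℕ) [Fact p.Prime], p ∉ Cfsg.sigma M →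
    Cfsg.PRankLE p 2 M → ¬ Cfsg.PRankLE p 1 M →
    ¬ Cfsg.IsIdealPrime p G ∧ ∀ A : Subgroup G, A ≤ M → Cfsg.IsElementaryAbelian p A →
      Nat.card A = p ^ 2 → ∀ B : Subgroup G, Cfsg.IsElementaryAbelian p B → A ≤ B → B = A

/-- S1414. -/
def H1414 (G : Type u) [Group G] : Prop :=
  ∀ (M : Subgroup G), IsCoatom M →
    Cfsg.IsPiHallOf (Cfsg.beta M) (Cfsg.piCoreOf (Cfsg.beta M) M) M ∧
      Cfsg.IsPiHall (Cfsg.beta M) (Cfsg.piCoreOf (Cfsg.beta M) M) ∧
      (∃ H : Subgroup G, Cfsg.IsPiHallOf {q | q.Prime ∧ q ∉ Cfsg.beta M} H ⁅M, M⁆ ∧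
        Group.IsNilpotent H) ∧
      (∃ H : Subgroup G, Cfsg.IsPiHallOf {q | q.Prime ∧ q ∉ Cfsg.beta M} H (Cfsg.sigmaCore M) ∧
        Group.IsNilpotent H) ∧
      ∀ p : ℕ, p.Prime → p ∣ Nat.card M → p ∉ Cfsg.beta M →
        Cfsg.HasNormalPComplement p ↥⁅M, M⁆ ∧ Cfsg.HasNormalPComplement p ↥(Cfsg.sigmaCore M) ∧
        ∀ q : ℕ, q.Prime → q ∣ (Cfsg.pPrimeCore p ↥M).index → q ≤ p

/-- The frozen statements used. -/
structure Hyps (G : Type u) [Group G] : Prop where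
  hG : IsMinSimpleOddOrder G
  hασ : ∀ M : Subgroup G, IsCoatom M → alpha M ⊆ sigma M
  h1350 : H1350 G
  h1408 : H1408 G
  h1414 : H1414 G
  h1415 : H1415 G
  h1417 : H1417 G
  h1418 : H1418 G

/-- `p ∈ τ₂(M)`, `A = E_{p²} ≤ E`, `S` a Sylow `p`-subgroup of `E` which is Sylow in `G`. -/
structure Ctx (M E A S : Subgroup G) (p : ℕ) : Prop where
  hM : IsCoatom M
  hE : IsComplIn E (sigmaCore M) M
  hp : p ∈ tau2 M
  hA : A ≤ E ∧ IsElementaryAbelian p A ∧ Nat.card A = p ^ 2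
  hS : IsSylowIn p S E
  hSG : IsSylowIn p S ⊤

section ctx

variable [Finite G] {M E A S : Subgroup G} {p : ℕ} [Fact p.Prime]

theorem Ctx.h18 (h : Hyps G) (c : Ctx M E A S p) :
    (E ≤ Subgroup.normalizer (A : Set G) ∧ ∀ X : Subgroup G, X ≤ E → Nat.card X = p → X ≤ A) ∧
      (Subgroup.centralizer (A : Set G) ≤ M ⊓ Subgroup.normalizer (A : Set G) ∧
        M ⊓ Subgroup.normalizer (A : Set G) = E ∧ ¬ Subgroup.normalizer (A : Set G) ≤ M) ∧
      ∀ X : Subgroup G, X ≤ A → Nat.card X = p →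
        Cfsg.sigmaCore M ⊓ Subgroup.centralizer (X : Set G) ≠ ⊥ →
        (Subgroup.centralizer (X : Set G) ≤ M ∧ ∀ L : Subgroup G, IsCoatom L →
          Subgroup.centralizer (X : Set G) ≤ L → L = M) :=
  h.h1418 M c.hM E c.hE p c.hp A c.hA

theorem Ctx.A_isPGroup (c : Ctx M E A S p) : IsPGroup p A :=
  Cfsg.Agent.Helper14.BGUniq.isPGroup_of_isElementaryAbelian c.hA.2.1

theorem Ctx.A_le_S (h : Hyps G) (c : Ctx M E A S p) : A ≤ S :=
  le_of_normal_isPGroup c.hS c.hA.1 c.A_isPGroup (c.h18 h).1.1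

theorem Ctx.centralizer_A_le (h : Hyps G) (c : Ctx M E A S p) : centralizer (A : Set G) ≤ E := by
  have h1 := (c.h18 h).2.1
  exact h1.1.trans (le_of_eq h1.2.1)

theorem Ctx.S_comm (h : Hyps G) (c : Ctx M E A S p) : ∀ a ∈ S, ∀ b ∈ S, a * b = b * a :=
  Cfsg.Agent.Helper20.BG12.comm_of_pgroup_not_sigma h.hG c.hM (h.hασ M c.hM) h.h1417 c.hp.2.1
    c.hS.isPGroup (c.hS.le.trans c.hE.1)

theorem Ctx.S_le_centralizer_A (h : Hyps G) (c : Ctx M E A S p) :
    S ≤ centralizer (A : Set G) := by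
  intro s hs
  rw [mem_centralizer_iff]
  intro a ha
  exact c.S_comm h a (c.A_le_S h ha) s hs

theorem Ctx.A_exp (c : Ctx M E A S p) : ∀ a ∈ A, a ^ p = 1 := c.hA.2.1.2

theorem Ctx.normalizer_S_le (h : Hyps G) (c : Ctx M E A S p) :
    normalizer (S : Set G) ≤ normalizer (A : Set G) := by
  intro n hn
  apply mem_normalizer_of_forall_card_le (c.h18 h).1.2 c.A_exp
  intro a ha
  exact c.hS.le ((mem_normalizer_iff.mp hn a).mp (c.A_le_S h ha))

theorem Ctx.centralizer_S_le (h : Hyps G) (c : Ctx M E A S p) : centralizer (S : Set G) ≤ E :=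
  (centralizer_le (c.A_le_S h)).trans (c.centralizer_A_le h)

/-- Existence of the context when the Sylow `p`-subgroups of `G` are abelian. -/
theorem exists_ctx (h : Hyps G) (hM : IsCoatom M) (hE : IsComplIn E (sigmaCore M) M)
    (hp : p ∈ tau2 M)
    (hab : ∃ P : Sylow p G, ∀ a ∈ (P : Subgroup G), ∀ b ∈ (P : Subgroup G), a * b = b * a)
    (hS : IsSylowIn p S E) : ∃ A : Subgroup G, Ctx M E A S p := by
  obtain ⟨A, hAE, hAe, hAc⟩ :=
    Cfsg.Agent.Helper20.BG12.exists_elemAb_sq_le_compl (h.h1350 M hM).1 hE hp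
  refine ⟨A, hM, hE, hp, ⟨hAE, hAe, hAc⟩, hS, ?_⟩
  have h18 := h.h1418 M hM E hE p hp A ⟨hAE, hAe, hAc⟩
  have hAp : IsPGroup p A := Cfsg.Agent.Helper14.BGUniq.isPGroup_of_isElementaryAbelian hAe
  have hAS : A ≤ S := le_of_normal_isPGroup hS hAE hAp h18.1.1
  obtain ⟨P₀, hP₀⟩ := hab
  obtain ⟨Q, hSQ⟩ := hS.isPGroup.exists_le_sylow
  obtain ⟨g, hg⟩ := MulAction.exists_smul_eq G P₀ Q
  have hcoe : (Q : Subgroup G) = (P₀ : Subgroup G).map (MulAut.conj g).toMonoidHom := by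
    rw [← hg]; rfl
  have hQab : ∀ a ∈ (Q : Subgroup G), ∀ b ∈ (Q : Subgroup G), a * b = b * a := by
    intro a ha b hb
    rw [hcoe] at ha hb
    obtain ⟨a', ha', rfl⟩ := ha
    obtain ⟨b', hb', rfl⟩ := hb
    rw [← map_mul, ← map_mul, hP₀ a' ha' b' hb']
  have hQC : (Q : Subgroup G) ≤ centralizer (A : Set G) := by
    intro x hx
    rw [mem_centralizer_iff]
    intro a ha
    exact hQab a (hSQ (hAS ha)) x hx
  have hQE : (Q : Subgroup G) ≤ E := hQC.trans (h18.2.1.1.trans (le_of_eq h18.2.1.2.1))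
  have hQS : (Q : Subgroup G) = S := hS.eq_of_le Q.isPGroup' hSQ hQE
  rw [← hQS]
  exact Cfsg.Agent.Helper15.isSylowIn_top Q

/-- The `τ₃`-case: a Hall `τ₃(M)`-subgroup of `E` centralises `S`. -/
theorem Ctx.tau3_le_centralizer (h : Hyps G) (c : Ctx M E A S p) {E₃ : Subgroup G}
    (hE₃ : IsPiHallOf (tau3 M) E₃ E) : E₃ ≤ centralizer (S : Set G) := by
  have hpp : p.Prime := Fact.out
  obtain ⟨hcyc, -, hEN⟩ := (h.h1415 M c.hM E c.hE).2.2 E₃ hE₃
  -- `A ∩ E₃ = 1`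
  have hcop : (Nat.card A).Coprime (Nat.card E₃) := by
    rw [c.hA.2.2]
    apply Nat.Coprime.pow_left
    rw [Nat.Prime.coprime_iff_not_dvd hpp]
    intro hd
    exact c.hp.2.2.2 (hE₃.2.1 p hpp hd).2.2.2
  have hd : A ⊓ E₃ = ⊥ := (Subgroup.disjoint_of_coprime_natCard hcop).eq_bot
  have hE₃C : E₃ ≤ centralizer (A : Set G) :=
    le_centralizer_of_normal_of_disjoint c.hA.1 hE₃.1 (c.h18 h).1.1 hEN hd
  -- `N(A)` normalises `E₃`
  have hNA : normalizer (A : Set G) ≤ normalizer (E₃ : Set G) := by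
    intro n hn
    apply Cfsg.Agent.Helper15.mem_normalizer_of_map_conj_eq
    rw [Cfsg.Agent.Helper15.map_conj_eq_iff_le]
    apply Cfsg.Agent.Helper4.BGSig.le_of_isPiHallOf_normal hE₃ hEN
    · rintro y ⟨x, hx, rfl⟩
      simp only [MulEquiv.coe_toMonoidHom, MulAut.conj_apply]
      exact c.centralizer_A_le h (conj_mem_centralizer_of_mem_normalizer hn (hE₃C hx))
    · intro q hq hqd
      rw [Cfsg.Agent.Helper15.card_map_conj] at hqd
      exact hE₃.2.1 q hq hqd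
  have hNS : normalizer (S : Set G) ≤ normalizer (E₃ : Set G) := (c.normalizer_S_le h).trans hNA
  have h1 := commutator_le_centralizer_of_isCyclic hcyc hNS
  have h2 : S ≤ centralizer (E₃ : Set G) := by
    have h3 := le_commutator_normalizer h.hG c.hSG.sylowOfTop (by
      rw [c.hSG.coe_sylowOfTop]; exact c.S_comm h)
    rw [c.hSG.coe_sylowOfTop] at h3
    exact h3.trans h1
  intro x hx
  rw [mem_centralizer_iff]
  intro s hs
  exact ((mem_centralizer_iff.mp (h2 hs)) x hx).symm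

/-- If `N(A) ≤ H` for a maximal subgroup `H` and `A` is elementary abelian of order `p²`,
then `p ∈ σ(H)`. -/
theorem mem_sigma_of_normalizer_le (h : Hyps G) {H A : Subgroup G} (hH : IsCoatom H)
    (hA : IsElementaryAbelian p A) (hAc : Nat.card A = p ^ 2)
    (hN : normalizer (A : Set G) ≤ H) : p ∈ sigma H := by
  have hpp : p.Prime := Fact.out
  have hAH : A ≤ H := le_normalizer.trans hN
  by_contra hσ
  have hr2 : PRankLE p 2 H := by
    by_contra hr
    exact hσ (h.hασ H hH ⟨hpp, hr⟩)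
  have hr1 : ¬ PRankLE p 1 H := by
    intro hr
    have h1 := hr (A.subgroupOf H) (by
      have := hA.1
      infer_instance) (by
      intro a ha
      apply Subtype.ext
      have := hA.2 (a : G) (Subgroup.mem_subgroupOf.mp ha)
      simpa using this)
    rw [Cfsg.Agent.S0001.card_subgroupOf_of_le hAH, hAc, pow_one] at h1
    have : p < p ^ 2 := by
      have := hpp.one_lt
      nlinarith
    omega
  have hτ : p ∈ tau2 H := ⟨hpp, hσ, hr2, hr1⟩
  have hhall := (h.h1350 H hH).1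
  have hpK : ¬ p ∣ Nat.card (sigmaCore H) := fun hd => hσ (hhall.2.1 p hpp hd)
  have hcop : (Nat.card (sigmaCore H)).Coprime ((sigmaCore H).relIndex H) := by
    apply Nat.coprime_of_dvd
    intro k hk h1 h2
    exact hhall.2.2 k hk (hhall.2.1 k hk h1) h2
  obtain ⟨EH, hEH, hAEH⟩ := Cfsg.Agent.Helper4.BGSig.exists_complIn_ge hhall.1
    (Cfsg.Agent.Helper14.BGTrans.le_normalizer_piCoreOf (sigma H) H) hcop hpK hAH
    (Cfsg.Agent.Helper14.BGUniq.isPGroup_of_isElementaryAbelian hA)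
  exact (h.h1418 H hH EH hEH p hτ A ⟨hAEH, hA, hAc⟩).2.1.2.2 hN

/-- In a nilpotent subgroup `W`, Sylow subgroups for distinct primes commute. -/
theorem sylow_commute_of_isNilpotent {W S₁ T₁ : Subgroup G} (hW : Group.IsNilpotent W)
    {q : ℕ} [Fact q.Prime] (hpq : p ≠ q) (hS₁ : IsSylowIn p S₁ W) (hT₁ : IsSylowIn q T₁ W) :
    T₁ ≤ centralizer (S₁ : Set G) := by
  have htfae := (Group.isNilpotent_of_finite_tfae (G := ↥W)).out 0 3
  have hall := htfae.mp hW
  have hnS : (hS₁.toSylow : Subgroup W).Normal := hall p inferInstance hS₁.toSylow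
  have hnT : (hT₁.toSylow : Subgroup W).Normal := hall q inferInstance hT₁.toSylow
  rw [hS₁.coe_toSylow, Subgroup.normal_subgroupOf_iff_le_normalizer hS₁.le] at hnS
  rw [hT₁.coe_toSylow, Subgroup.normal_subgroupOf_iff_le_normalizer hT₁.le] at hnT
  have hcop : (Nat.card S₁).Coprime (Nat.card T₁) := by
    obtain ⟨a, ha⟩ := hS₁.isPGroup.exists_card_eq
    obtain ⟨b, hb⟩ := hT₁.isPGroup.exists_card_eq
    rw [ha, hb]
    exact Nat.Coprime.pow _ _ ((Nat.coprime_primes Fact.out Fact.out).mpr hpq)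
  exact le_centralizer_of_normal_of_disjoint hS₁.le hT₁.le hnS hnT
    (Subgroup.disjoint_of_coprime_natCard hcop).eq_bot

/-- A Sylow `r`-subgroup of a Hall subgroup `W` of `H_σ` (for a set of primes containing
`r ∈ σ(H)`) is a Sylow subgroup of `G`. -/
theorem isSylowIn_top_of_hall (h : Hyps G) {H W R : Subgroup G} (hH : IsCoatom H) {π : Set ℕ}
    (hW : IsPiHallOf π W (sigmaCore H)) {r : ℕ} [Fact r.Prime] (hrπ : r ∈ π)
    (hrσ : r ∈ sigma H) (hR : IsSylowIn r R W) : IsSylowIn r R ⊤ := by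
  have hrp : r.Prime := Fact.out
  apply Cfsg.Agent.Helper15.isSylowIn_of_not_dvd_relIndex hR.isPGroup le_top
  rw [Subgroup.relIndex_top_right]
  have h1 : R.index = R.relIndex W * (W.relIndex (sigmaCore H) * (sigmaCore H).index) := by
    rw [Subgroup.relIndex_mul_index hW.1, Subgroup.relIndex_mul_index hR.le]
  rw [h1]
  intro hd
  rcases (Nat.Prime.dvd_mul hrp).mp hd with h2 | h2
  · exact hR.not_dvd_relIndex h2
  · rcases (Nat.Prime.dvd_mul hrp).mp h2 with h3 | h3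
    · exact hW.2.2 r hrp hrπ h3
    · exact (h.h1350 H hH).2.1.2 r hrp hrσ h3

/-- The `τ₂`-case: for `q ∈ τ₂(M)`, `q ≠ p`, some Sylow `q`-subgroup of `E` centralises `S`. -/
theorem Ctx.exists_sylow_tau2 (h : Hyps G) (c : Ctx M E A S p) {q : ℕ} [Fact q.Prime]
    (hq : q ∈ tau2 M) (hpq : p ≠ q) :
    ∃ T : Subgroup G, IsSylowIn q T E ∧ T ≤ centralizer (S : Set G) := by
  have hpp : p.Prime := Fact.out
  have hqp : q.Prime := Fact.out
  obtain ⟨B, hBE, hBe, hBc⟩ :=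
    Cfsg.Agent.Helper20.BG12.exists_elemAb_sq_le_compl (h.h1350 M c.hM).1 c.hE hq
  have h18q := h.h1418 M c.hM E c.hE q hq B ⟨hBE, hBe, hBc⟩
  have h18p := c.h18 h
  -- `[A, B] = 1`
  have hcop : (Nat.card A).Coprime (Nat.card B) := by
    rw [c.hA.2.2, hBc]
    exact Nat.Coprime.pow _ _ ((Nat.coprime_primes hpp hqp).mpr hpq)
  have hd : A ⊓ B = ⊥ := (Subgroup.disjoint_of_coprime_natCard hcop).eq_bot
  have hBC : B ≤ centralizer (A : Set G) :=
    le_centralizer_of_normal_of_disjoint c.hA.1 hBE h18p.1.1 h18q.1.1 hd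
  have hAC : A ≤ centralizer (B : Set G) :=
    le_centralizer_of_normal_of_disjoint hBE c.hA.1 h18q.1.1 h18p.1.1 (by rw [inf_comm]; exact hd)
  have hCB : centralizer (B : Set G) ≤ E := h18q.2.1.1.trans (le_of_eq h18q.2.1.2.1)
  -- `N(A) = N(B)`
  have hNAB : normalizer (B : Set G) ≤ normalizer (A : Set G) := by
    intro n hn
    apply mem_normalizer_of_forall_card_le h18p.1.2 c.A_exp
    intro a ha
    exact hCB (conj_mem_centralizer_of_mem_normalizer hn (hAC ha))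
  -- a maximal subgroup over `N(A)`
  have hB1 : B ≠ ⊥ := by
    intro hb
    rw [hb, Subgroup.card_bot] at hBc
    have := hqp.one_lt
    nlinarith
  have hNtop : normalizer (B : Set G) ≠ ⊤ :=
    Cfsg.Agent.Helper14.BGTrans.normalizer_ne_top_of_isPGroup h.hG
      (Cfsg.Agent.Helper14.BGUniq.isPGroup_of_isElementaryAbelian hBe) hB1
  obtain ⟨H, hH, hNH⟩ := Cfsg.Agent.Helper14.BGUniq.exists_isCoatom_ge hNtop
  have hqσ : q ∈ sigma H := mem_sigma_of_normalizer_le h hH hBe hBc hNH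
  have hNAH : normalizer (A : Set G) ≤ H := by
    -- `N(A) ≤ N(B)`
    intro n hn
    apply hNH
    apply mem_normalizer_of_forall_card_le h18q.1.2 hBe.2
    intro b hb
    exact c.centralizer_A_le h (conj_mem_centralizer_of_mem_normalizer hn (hBC hb))
  have hpσ : p ∈ sigma H := mem_sigma_of_normalizer_le h hH c.hA.2.1 c.hA.2.2 hNAH
  -- `p, q ∉ β(H)`
  have hpβ : p ∉ beta H := fun hb =>
    (h.h1408 M c.hM p c.hp.2.1 c.hp.2.2.1 c.hp.2.2.2).1 hb.2
  have hqβ : q ∉ beta H := fun hb =>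
    (h.h1408 M c.hM q hq.2.1 hq.2.2.1 hq.2.2.2).1 hb.2
  obtain ⟨W, hW, hWnil⟩ := (h.h1414 H hH).2.2.2.1
  obtain ⟨S₁, hS₁⟩ := Cfsg.Agent.Helper15.exists_isSylowIn (p := p) W
  obtain ⟨T₁, hT₁⟩ := Cfsg.Agent.Helper15.exists_isSylowIn (p := q) W
  have hcomm := sylow_commute_of_isNilpotent hWnil hpq hS₁ hT₁
  have hS₁G : IsSylowIn p S₁ ⊤ := isSylowIn_top_of_hall h hH hW ⟨hpp, hpβ⟩ hpσ hS₁
  have hT₁G : IsSylowIn q T₁ ⊤ := isSylowIn_top_of_hall h hH hW ⟨hqp, hqβ⟩ hqσ hT₁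
  obtain ⟨k, -, hk⟩ := hS₁G.exists_conj c.hSG
  refine ⟨T₁.map (MulAut.conj k).toMonoidHom, ?_, ?_⟩
  · have hTS : T₁.map (MulAut.conj k).toMonoidHom ≤ centralizer (S : Set G) := by
      rw [← hk]
      rintro y ⟨t, ht, rfl⟩
      rw [mem_centralizer_iff]
      rintro x ⟨s, hs, rfl⟩
      have := (mem_centralizer_iff.mp (hcomm ht)) s hs
      simp only [MulEquiv.coe_toMonoidHom]
      rw [← map_mul, ← map_mul, this]
    exact (hT₁G.map_conj_of_mem (Subgroup.mem_top k)).of_le (hTS.trans (c.centralizer_S_le h))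
      le_top
  · rw [← hk]
    rintro y ⟨t, ht, rfl⟩
    rw [mem_centralizer_iff]
    rintro x ⟨s, hs, rfl⟩
    have := (mem_centralizer_iff.mp (hcomm ht)) s hs
    simp only [MulEquiv.coe_toMonoidHom]
    rw [← map_mul, ← map_mul, this]

/-- `E` normalises its derived subgroup. -/
theorem le_normalizer_commutator (E : Subgroup G) : E ≤ normalizer ((⁅E, E⁆ : Subgroup G) : Set G) := by
  intro e he
  apply Cfsg.Agent.Helper15.mem_normalizer_of_map_conj_eq
  rw [Subgroup.map_commutator, Cfsg.Agent.Helper15.map_conj_eq_self_of_mem he]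

/-- **BG 12.9(a), abelian case**: `S` is normal in `E`. -/
theorem Ctx.main (h : Hyps G) (c : Ctx M E A S p) : E ≤ normalizer (S : Set G) := by
  have hpp : p.Prime := Fact.out
  have hE'ab : IsMulCommutative ↥⁅E, E⁆ :=
    Cfsg.Agent.Helper20.BG12.partB h.hG c.hM (h.hασ M c.hM) h.h1350 h.h1415 h.h1417 c.hE
  have hab' : ∀ a ∈ ⁅E, E⁆, ∀ b ∈ ⁅E, E⁆, a * b = b * a := by
    intro a ha b hb
    have := (isMulCommutative_iff.mp hE'ab) ⟨a, ha⟩ ⟨b, hb⟩
    exact congrArg Subtype.val this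
  have hE'E : ⁅E, E⁆ ≤ E := by
    rw [Subgroup.commutator_le]
    intro a ha b hb
    exact E.mul_mem (E.mul_mem (E.mul_mem ha hb) (E.inv_mem ha)) (E.inv_mem hb)
  have hEN' := le_normalizer_commutator E
  obtain ⟨N, hN⟩ : ∃ N : ℕ, N = Nat.card G := ⟨_, rfl⟩
  -- the primary parts of `E'`
  have hΩE : ∀ r : ℕ, Cfsg.Agent.Helper4.BGSig.omegaSub ⁅E, E⁆ hab' (r ^ N) ≤ E := fun r =>
    (Cfsg.Agent.Helper4.BGSig.omegaSub_le _ hab' _).trans hE'E
  have hΩN : ∀ r : ℕ, E ≤ normalizer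
      ((Cfsg.Agent.Helper4.BGSig.omegaSub ⁅E, E⁆ hab' (r ^ N) : Subgroup G) : Set G) := fun r =>
    hEN'.trans (Cfsg.Agent.Helper4.BGSig.normalizer_le_normalizer_omegaSub _ hab' _)
  have hΩp : ∀ r : ℕ, IsPGroup r ↥(Cfsg.Agent.Helper4.BGSig.omegaSub ⁅E, E⁆ hab' (r ^ N)) := by
    intro r x
    refine ⟨N, Subtype.ext ?_⟩
    have := x.2.2
    simpa using this
  have hmemΩ : ∀ (r : ℕ), r.Prime → ∀ x ∈ ⁅E, E⁆, (∃ k, orderOf x = r ^ k) →
      x ∈ Cfsg.Agent.Helper4.BGSig.omegaSub ⁅E, E⁆ hab' (r ^ N) := by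
    intro r hr x hx ⟨k, hk⟩
    refine ⟨hx, ?_⟩
    have h1 : k < r ^ k := Nat.lt_pow_self hr.one_lt
    have h2 : orderOf x ≤ N := by rw [hN]; exact orderOf_le_card
    have h3 : k ≤ N := by rw [hk] at h2; omega
    have h4 : orderOf x ∣ r ^ N := by rw [hk]; exact pow_dvd_pow r h3
    exact orderOf_dvd_iff_pow_eq_one.mp h4
  -- the `p`-part lies in `S`
  have hΩS : Cfsg.Agent.Helper4.BGSig.omegaSub ⁅E, E⁆ hab' (p ^ N) ≤ S :=
    le_of_normal_isPGroup c.hS (hΩE p) (hΩp p) (hΩN p)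
  -- the `r`-parts centralise `S`
  have hΩC : ∀ r : ℕ, r.Prime → r ≠ p →
      Cfsg.Agent.Helper4.BGSig.omegaSub ⁅E, E⁆ hab' (r ^ N) ≤ centralizer (S : Set G) := by
    intro r hr hrp
    haveI : Fact r.Prime := ⟨hr⟩
    obtain ⟨Ω, hΩ⟩ : ∃ Ω : Subgroup G,
      Ω = Cfsg.Agent.Helper4.BGSig.omegaSub ⁅E, E⁆ hab' (r ^ N) := ⟨_, rfl⟩
    rw [← hΩ]
    have hΩE' : Ω ≤ E := by rw [hΩ]; exact hΩE r
    have hΩN' : E ≤ normalizer (Ω : Set G) := by rw [hΩ]; exact hΩN r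
    have hΩp' : IsPGroup r Ω := by rw [hΩ]; exact hΩp r
    have hΩle : Ω ≤ ⁅E, E⁆ := by rw [hΩ]; exact Cfsg.Agent.Helper4.BGSig.omegaSub_le _ hab' _
    by_cases hbot : Ω = ⊥
    · rw [hbot]; exact bot_le
    have hrd : r ∣ Nat.card Ω := by
      obtain ⟨k, hk⟩ := hΩp'.exists_card_eq
      have hk0 : k ≠ 0 := by
        rintro rfl
        rw [pow_zero] at hk
        exact hbot (Subgroup.card_eq_one.mp hk)
      rw [hk]; exact dvd_pow_self r hk0
    have hprimes : ∀ q : ℕ, q.Prime → q ∣ Nat.card Ω → q = r := by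
      intro q hq hqd
      obtain ⟨k, hk⟩ := hΩp'.exists_card_eq
      rw [hk] at hqd
      exact (Nat.prime_dvd_prime_iff_eq hq hr).mp (hq.dvd_of_dvd_pow hqd)
    have hrσ : r ∉ sigma M :=
      Cfsg.Agent.Helper20.BG12.not_mem_sigma_of_dvd_card_compl (h.h1350 M c.hM).1 c.hE hr
        (hrd.trans (Subgroup.card_dvd_of_le hΩE'))
    have hr2 : PRankLE r 2 M := by
      by_contra hr2
      exact hrσ (h.hασ M c.hM ⟨hr, hr2⟩)
    by_cases hr1 : PRankLE r 1 M
    · -- `r ∈ τ₃(M)`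
      have hrM' : r ∣ Nat.card ↥⁅M, M⁆ :=
        hrd.trans (Subgroup.card_dvd_of_le (hΩle.trans (Subgroup.commutator_mono c.hE.1 c.hE.1)))
      have hτ : r ∈ tau3 M := ⟨hr, hrσ, hrM', hr1⟩
      have hsolvM : Group.IsSolvable ↥M := Cfsg.Agent.Helper20.BG12.isSolvable_coatom h.hG c.hM
      have hsolvE : Group.IsSolvable ↥E := by
        haveI := hsolvM
        exact Group.isSolvable_of_isSolvable_injective (Subgroup.inclusion_injective c.hE.1)
      obtain ⟨E₃, -, hE₃⟩ := Cfsg.Agent.Helper4.BGSig.exists_isPiHallOf_ge hsolvE (tau3 M)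
        (bot_le : (⊥ : Subgroup G) ≤ E) (by
          intro q hq hqd
          rw [Subgroup.card_bot] at hqd
          exact absurd (Nat.dvd_one.mp hqd) hq.one_lt.ne')
      have hEN₃ := ((h.h1415 M c.hM E c.hE).2.2 E₃ hE₃).2.2
      have h1 : Ω ≤ E₃ := Cfsg.Agent.Helper4.BGSig.le_of_isPiHallOf_normal hE₃ hEN₃ hΩE' (by
        intro q hq hqd
        rw [hprimes q hq hqd]; exact hτ)
      exact h1.trans (c.tau3_le_centralizer h hE₃)
    · -- `r ∈ τ₂(M)`
      have hτ : r ∈ tau2 M := ⟨hr, hrσ, hr2, hr1⟩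
      obtain ⟨T, hT, hTC⟩ := c.exists_sylow_tau2 h hτ (Ne.symm hrp)
      exact (le_of_normal_isPGroup hT hΩE' hΩp' hΩN').trans hTC
  -- `E'` normalises `S`
  have hE'N : ⁅E, E⁆ ≤ normalizer (S : Set G) := by
    intro x hx
    obtain ⟨u, y, hu, hy, hxuy, hupow, hpy⟩ := Cfsg.Agent.Helper12.NilCover.exists_pParts p x
    have hzx : zpowers x ≤ ⁅E, E⁆ := zpowers_le.mpr hx
    have huS : u ∈ S := hΩS (hmemΩ p hpp u (hzx hu) hupow)
    have hyC : y ∈ centralizer (S : Set G) := by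
      have hKle : zpowers y ≤ ⁅E, E⁆ := zpowers_le.mpr (hzx hy)
      have hCK : zpowers y ⊓ centralizer (S : Set G) ≤ zpowers y := inf_le_left
      have heq := Cfsg.Agent.Helper4.BGSig.eq_of_forall_sylow_le hCK (by
        intro r hr hrd
        haveI : Fact r.Prime := ⟨hr⟩
        have hrp : r ≠ p := by
          rintro rfl
          rw [Nat.card_zpowers] at hrd
          exact hpy hrd
        obtain ⟨U, hU⟩ := Cfsg.Agent.Helper15.exists_isSylowIn (p := r) (zpowers y)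
        refine ⟨U, hU, le_inf hU.le ?_⟩
        intro z hz
        apply hΩC r hr hrp
        apply hmemΩ r hr z (hKle (hU.le hz))
        obtain ⟨k, hk⟩ := (IsPGroup.iff_orderOf.mp hU.isPGroup) ⟨z, hz⟩
        exact ⟨k, by rw [← hk, Subgroup.orderOf_mk]⟩)
      have : y ∈ zpowers y ⊓ centralizer (S : Set G) := by rw [heq]; exact mem_zpowers y
      exact this.2
    rw [hxuy]
    exact (normalizer (S : Set G)).mul_mem (le_normalizer huS) (centralizer_le_normalizer _ hyC)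
  -- conclusion
  obtain ⟨Y, hY⟩ : ∃ Y : Subgroup G, Y = S ⊔ ⁅E, E⁆ := ⟨_, rfl⟩
  have hYE : Y ≤ E := by rw [hY]; exact sup_le c.hS.le hE'E
  have hYN : Y ≤ normalizer (S : Set G) := by rw [hY]; exact sup_le le_normalizer hE'N
  have hSY : S ≤ Y := by rw [hY]; exact le_sup_left
  have hSylY : IsSylowIn p S Y := c.hS.of_le hSY hYE
  have hprimesS : ∀ q : ℕ, q.Prime → q ∣ Nat.card S → q ∈ ({p} : Set ℕ) := by
    intro q hq hqd
    obtain ⟨k, hk⟩ := c.hS.isPGroup.exists_card_eq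
    rw [hk] at hqd
    exact (Nat.prime_dvd_prime_iff_eq hq hpp).mp (hq.dvd_of_dvd_pow hqd)
  have hHall : IsPiHallOf ({p} : Set ℕ) S Y := by
    refine ⟨hSY, hprimesS, ?_⟩
    intro q hq hqp
    rw [Set.mem_singleton_iff] at hqp
    subst hqp
    exact hSylY.not_dvd_relIndex
  intro e he
  apply Cfsg.Agent.Helper15.mem_normalizer_of_map_conj_eq
  rw [Cfsg.Agent.Helper15.map_conj_eq_iff_le]
  apply Cfsg.Agent.Helper4.BGSig.le_of_isPiHallOf_normal hHall hYN
  · rintro z ⟨s, hs, rfl⟩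
    simp only [MulEquiv.coe_toMonoidHom, MulAut.conj_apply]
    have h1 : e * s * e⁻¹ = ⁅e, s⁆ * s := by rw [commutatorElement_def]; group
    rw [h1, hY]
    exact Subgroup.mul_mem _
      (Subgroup.mem_sup_right (Subgroup.commutator_mem_commutator he (c.hS.le hs)))
      (Subgroup.mem_sup_left hs)
  · intro q hq hqd
    rw [Cfsg.Agent.Helper15.card_map_conj] at hqd
    exact hprimesS q hq hqd

/-- **BG 12.9(a), abelian case.** If `p ∈ τ₂(M)` and the Sylow `p`-subgroups of `G` are abelian,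
every Sylow `p`-subgroup of the complement `E` of `M_σ` is normal in `E`. -/
theorem sylow_tau2_normal (h : Hyps G) (hM : IsCoatom M) (hE : IsComplIn E (sigmaCore M) M)
    (hp : p ∈ tau2 M)
    (hab : ∃ P : Sylow p G, ∀ a ∈ (P : Subgroup G), ∀ b ∈ (P : Subgroup G), a * b = b * a)
    (hS : IsSylowIn p S E) : E ≤ normalizer (S : Set G) := by
  obtain ⟨A, c⟩ := exists_ctx h hM hE hp hab hS
  exact c.main h

/-- The same for `Sylow p E`. -/
theorem sylow_tau2_normal' (h : Hyps G) (hM : IsCoatom M) (hE : IsComplIn E (sigmaCore M) M)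
    (hp : p ∈ tau2 M)
    (hab : ∃ P : Sylow p G, ∀ a ∈ (P : Subgroup G), ∀ b ∈ (P : Subgroup G), a * b = b * a)
    (P : Sylow p E) : E ≤ normalizer (((P : Subgroup E).map E.subtype : Subgroup G) : Set G) :=
  sylow_tau2_normal h hM hE hp hab (Cfsg.Agent.Helper15.isSylowIn_map_subtype P)

/-- A Sylow subgroup of a Hall subgroup `E₂` of `E` (for a prime dividing `|E₂|`) is a Sylow
subgroup of `E`. -/
theorem isSylowIn_of_hall {E E₂ U : Subgroup G} {π : Set ℕ} (hE₂ : IsPiHallOf π E₂ E) {u : ℕ}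
    [Fact u.Prime] (huπ : u ∈ π) (hU : IsSylowIn u U E₂) : IsSylowIn u U E := by
  have hup : u.Prime := Fact.out
  apply Cfsg.Agent.Helper15.isSylowIn_of_not_dvd_relIndex hU.isPGroup (hU.le.trans hE₂.1)
  rw [← Subgroup.relIndex_mul_relIndex U E₂ E hU.le hE₂.1]
  intro hd
  rcases (Nat.Prime.dvd_mul hup).mp hd with h1 | h1
  · exact hU.not_dvd_relIndex h1
  · exact hE₂.2.2 u hup huπ h1

/-- **BG 12.9(a)**: if all primes of `τ₂(M)` have abelian Sylow subgroups in `G`, a Hall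
`τ₂(M)`-subgroup `E₂` of `E` is normal in `E` and abelian. -/
theorem hall_tau2_normal (h : Hyps G) (hM : IsCoatom M) (hE : IsComplIn E (sigmaCore M) M)
    (hab : ∀ q : ℕ, q ∈ tau2 M → ∀ [Fact q.Prime],
      ∃ P : Sylow q G, ∀ a ∈ (P : Subgroup G), ∀ b ∈ (P : Subgroup G), a * b = b * a)
    {E₂ : Subgroup G} (hE₂ : IsPiHallOf (tau2 M) E₂ E) :
    E ≤ normalizer (E₂ : Set G) ∧ ∀ a ∈ E₂, ∀ b ∈ E₂, a * b = b * a := by
  -- every Sylow subgroup of `E₂` is normal in `E`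
  have hsyl : ∀ (u : ℕ) [Fact u.Prime], u ∣ Nat.card E₂ → ∀ U : Subgroup G, IsSylowIn u U E₂ →
      E ≤ normalizer (U : Set G) := by
    intro u hu hud U hU
    have huτ : u ∈ tau2 M := hE₂.2.1 u hu.out hud
    exact sylow_tau2_normal h hM hE huτ (hab u huτ) (isSylowIn_of_hall hE₂ huτ hU)
  have hnorm : E ≤ normalizer (E₂ : Set G) := by
    intro e he
    apply Cfsg.Agent.Helper15.mem_normalizer_of_map_conj_eq
    rw [Cfsg.Agent.Helper15.map_conj_eq_iff_le]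
    obtain ⟨K, hK⟩ : ∃ K : Subgroup G, K = E₂.map (MulAut.conj e).toMonoidHom := ⟨_, rfl⟩
    rw [← hK]
    have hcardK : Nat.card K = Nat.card E₂ := by rw [hK, Cfsg.Agent.Helper15.card_map_conj]
    have heq := Cfsg.Agent.Helper4.BGSig.eq_of_forall_sylow_le (C := K ⊓ E₂) (E := K)
      inf_le_left (by
        intro u hu hud
        haveI : Fact u.Prime := ⟨hu⟩
        rw [hcardK] at hud
        obtain ⟨U, hU⟩ := Cfsg.Agent.Helper15.exists_isSylowIn (p := u) E₂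
        have hUe : U.map (MulAut.conj e).toMonoidHom = U :=
          Cfsg.Agent.Helper15.map_conj_eq_of_mem_normalizer (hsyl u hud U hU he)
        have hUK : IsSylowIn u U K := by
          have := hU.map_conj e
          rwa [hUe, ← hK] at this
        exact ⟨U, hUK, le_inf hUK.le hU.le⟩)
    rw [← heq]
    exact inf_le_right
  refine ⟨hnorm, ?_⟩
  -- `E₂` is nilpotent, hence abelian
  have hnil : Group.IsNilpotent ↥E₂ := by
    apply (Group.isNilpotent_of_finite_tfae (G := ↥E₂)).out 0 3 |>.mpr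
    intro u hu P
    have hP := Cfsg.Agent.Helper15.isSylowIn_map_subtype P
    by_cases hud : u ∣ Nat.card E₂
    · have h1 := (hE₂.1).trans (hsyl u hud _ hP)
      have h2 : ((P : Subgroup ↥E₂).map E₂.subtype).subgroupOf E₂ = (P : Subgroup ↥E₂) := by
        unfold Subgroup.subgroupOf
        exact Subgroup.comap_map_eq_self_of_injective E₂.subtype_injective _
      rw [← h2, Subgroup.normal_subgroupOf_iff_le_normalizer hP.le]
      exact h1
    · have : (P : Subgroup ↥E₂) = ⊥ := by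
        apply Subgroup.card_eq_one.mp
        obtain ⟨k, hk⟩ := P.isPGroup'.exists_card_eq
        rcases Nat.eq_zero_or_pos k with hk0 | hk0
        · rw [hk, hk0, pow_zero]
        · exfalso
          apply hud
          have h3 : u ∣ Nat.card (P : Subgroup ↥E₂) := by rw [hk]; exact dvd_pow_self u hk0.ne'
          exact h3.trans (Subgroup.card_subgroup_dvd_card _)
      rw [this]
      infer_instance
  have hcomm := Cfsg.Agent.Helper20.BG12.partA h.hG hM (h.hασ M hM) h.h1417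
    (hE₂.1.trans hE.1) hnil (by
      intro q hq hqd
      exact (hE₂.2.1 q hq hqd).2.1)
  intro a ha b hb
  have := (isMulCommutative_iff.mp hcomm) ⟨a, ha⟩ ⟨b, hb⟩
  exact congrArg Subtype.val this

end ctx

end Cfsg.Agent.Lead.BG129
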