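import Mathlib

/-!
# Automorphisms of the small Ree groups: the coordinate model of the Borel subgroup

An abstract model `X t u v`, `hh y` of the subgroups `U¹` and `H¹` of the small Ree groups, and the purely
algebraic part of the determination of the automorphisms: an automorphism preserving `U¹` and `H¹` is,
on the Borel subgroup, the product of a torus element and a field automorphism.
-/

set_option autoImplicit false
set_option linter.unusedSectionVars false
set_option linter.unusedVariables false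
set_option linter.unusedSimpArgs false

namespace Cfsg.Agent.Lead.Tw.G2Aut

/-- the character of the torus on the first coordinate -/
def l1 {K : Type*} [Field K] (m : ℕ) (y : Kˣ) : Kˣ := y ^ 2 * ((y ^ 3 ^ m) ^ 3)⁻¹

/-- the character of the torus on the second coordinate -/
def l2 {K : Type*} [Field K] (m : ℕ) (y : Kˣ) : Kˣ := (y ^ 3 ^ m) ^ 3 * y⁻¹

theorem l1_val {K : Type*} [Field K] (m : ℕ) (y : Kˣ) :
    ((l1 m y : Kˣ) : K) = (y : K) ^ 2 * (((y : K) ^ 3 ^ m) ^ 3)⁻¹ := by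
  simp [l1]

theorem l2_val {K : Type*} [Field K] (m : ℕ) (y : Kˣ) :
    ((l2 m y : Kˣ) : K) = ((y : K) ^ 3 ^ m) ^ 3 * (y : K)⁻¹ := by
  simp [l2]

/-- the coordinate model -/
structure Model (m : ℕ) (K : Type*) [Field K] (G : Type*) [Group G] where
  X : K → K → K → G
  hh : Kˣ →* G
  FA : (K ≃+* K) →* MulAut G
  X_inj : ∀ t u v t' u' v' : K, X t u v = X t' u' v' → t = t' ∧ u = u' ∧ v = v'
  hh_inj : Function.Injective hh
  mul1 : ∀ t u v u' v' : K, X t u v * X 0 u' v' = X t (u + u') (v + v')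
  mul2 : ∀ t t' : K, ∃ v₃ : K, X t 0 0 * X t' 0 0 = X (t + t') (-(t * (t' ^ 3 ^ m) ^ 3)) v₃
  mul3 : ∀ u v t' : K, X 0 u v * X t' 0 0 = X t' u (v + 2 * u * t')
  cube : ∀ t u v : K, X t u v ^ 3 = X 0 0 (2 * t ^ 2 * (t ^ 3 ^ m) ^ 3)
  conj : ∀ (y : Kˣ) (t u v : K),
    hh y * X t u v * (hh y)⁻¹ = X ((l1 m y : K) * t) ((l2 m y : K) * u) ((y : K) * v)
  l1_surj : Function.Surjective (l1 (K := K) m)
  frob : ∀ t : K, ((t ^ 3 ^ m) ^ 3 ^ m) ^ 3 = t
  FA_X : ∀ (φ : K ≃+* K) (t u v : K), FA φ (X t u v) = X (φ t) (φ u) (φ v)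
  FA_hh : ∀ (φ : K ≃+* K) (y : Kˣ), FA φ (hh y) = hh (Units.map (φ : K →* K) y)

variable {m : ℕ} {K : Type*} [Field K] [Fintype K] [CharP K 3] {G : Type*} [Group G] (M : Model m K G)

theorem three_eq_zero' : (3 : K) = 0 := by
  have := CharP.cast_eq_zero K 3
  exact_mod_cast this

theorem two_ne_zero' : (2 : K) ≠ 0 := by
  intro h
  have h3 := three_eq_zero' (K := K)
  have : (1 : K) = 0 := by linear_combination h3 - h
  exact one_ne_zero this

theorem pow_e_add' (a b : K) : (a + b) ^ 3 ^ m = a ^ 3 ^ m + b ^ 3 ^ m := by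
  have : Fact (Nat.Prime 3) := ⟨Nat.prime_three⟩
  exact add_pow_char_pow a b 3 m

theorem cube_add' (a b : K) : (a + b) ^ 3 = a ^ 3 + b ^ 3 := by
  have h3 := three_eq_zero' (K := K)
  linear_combination (a ^ 2 * b + a * b ^ 2) * h3

theorem pow_e_neg' (a : K) : (-a) ^ 3 ^ m = -(a ^ 3 ^ m) := Odd.neg_pow (Odd.pow (by decide)) a

theorem pow_e_zero' : (0 : K) ^ 3 ^ m = 0 := zero_pow (pow_ne_zero _ (by norm_num))

/-- the norm-like map `r ↦ (r^θ)³` -/
def gg (m : ℕ) (r : K) : K := (r ^ 3 ^ m) ^ 3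

theorem gg_add (a b : K) : gg m (a + b) = gg m a + gg m b := by
  unfold gg
  rw [pow_e_add', cube_add']

theorem gg_mul (a b : K) : gg m (a * b) = gg m a * gg m b := by
  unfold gg
  rw [mul_pow, mul_pow]

theorem gg_neg (a : K) : gg m (-a) = -gg m a := by
  unfold gg
  rw [pow_e_neg', Odd.neg_pow (by decide)]

theorem gg_zero : gg m (0 : K) = 0 := by
  unfold gg
  rw [pow_e_zero', zero_pow (by norm_num)]

theorem gg_one : gg m (1 : K) = 1 := by
  unfold gg
  rw [one_pow, one_pow]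

theorem gg_pow (a : K) (n : ℕ) : gg m (a ^ n) = gg m a ^ n := by
  unfold gg
  rw [← pow_mul, ← pow_mul, ← pow_mul, ← pow_mul]
  congr 1
  ring

theorem gg_inv (a : K) : gg m a⁻¹ = (gg m a)⁻¹ := by
  unfold gg
  rw [inv_pow, inv_pow]

theorem gg_sub (a b : K) : gg m (a - b) = gg m a - gg m b := by
  rw [sub_eq_add_neg, gg_add, gg_neg, ← sub_eq_add_neg]

theorem gg_gg_of_frob (hfrob : ∀ t : K, ((t ^ 3 ^ m) ^ 3 ^ m) ^ 3 = t) (t : K) : gg m (gg m t) = t ^ 3 := by
  unfold gg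
  have h := hfrob t
  calc (((t ^ 3 ^ m) ^ 3) ^ 3 ^ m) ^ 3 = (((t ^ 3 ^ m) ^ 3 ^ m) ^ 3) ^ 3 := by
        rw [← pow_mul, ← pow_mul, ← pow_mul, ← pow_mul, ← pow_mul, ← pow_mul]
        congr 1
        ring
    _ = t ^ 3 := by rw [h]

theorem l2_eq_of_frob (hfrob : ∀ t : K, ((t ^ 3 ^ m) ^ 3 ^ m) ^ 3 = t) (y : Kˣ) :
    ((l2 m y : Kˣ) : K) = gg m (l1 m y : K) * (l1 m y : K) := by
  rw [l1_val, l2_val, gg_mul, gg_pow, gg_inv]
  have hy0 : (y : K) ≠ 0 := Units.ne_zero y
  have e : gg m (((y : K) ^ 3 ^ m) ^ 3) = (y : K) ^ 3 := gg_gg_of_frob hfrob (y : K)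
  have hg : gg m (y : K) = ((y : K) ^ 3 ^ m) ^ 3 := rfl
  rw [e, hg]
  have hw0 : ((y : K) ^ 3 ^ m) ^ 3 ≠ 0 := pow_ne_zero _ (pow_ne_zero _ hy0)
  field_simp

theorem y_eq_of_frob (hfrob : ∀ t : K, ((t ^ 3 ^ m) ^ 3 ^ m) ^ 3 = t) (y : Kˣ) :
    (y : K) = gg m (l1 m y : K) * (l1 m y : K) ^ 2 := by
  rw [l1_val, gg_mul, gg_pow, gg_inv]
  have hy0 : (y : K) ≠ 0 := Units.ne_zero y
  have e : gg m (((y : K) ^ 3 ^ m) ^ 3) = (y : K) ^ 3 := gg_gg_of_frob hfrob (y : K)
  have hg : gg m (y : K) = ((y : K) ^ 3 ^ m) ^ 3 := rfl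
  rw [e, hg]
  have hw0 : ((y : K) ^ 3 ^ m) ^ 3 ≠ 0 := pow_ne_zero _ (pow_ne_zero _ hy0)
  field_simp

/-- the first character is injective, hence surjective -/
theorem l1_surj_of_frob (hfrob : ∀ t : K, ((t ^ 3 ^ m) ^ 3 ^ m) ^ 3 = t) :
    Function.Surjective (l1 (K := K) m) := by
  apply Finite.injective_iff_surjective.1
  have hmul : ∀ a b : Kˣ, l1 m (a * b) = l1 m a * l1 m b := by
    intro a b
    unfold l1
    rw [mul_pow, mul_pow, mul_pow, mul_inv]
    exact mul_mul_mul_comm _ _ _ _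
  have hker : ∀ y : Kˣ, l1 m y = 1 → y = 1 := by
    intro y hy
    have h1 : ((l1 m y : Kˣ) : K) = 1 := by rw [hy]; rfl
    have h2 := y_eq_of_frob hfrob y
    rw [h1, gg_one, one_pow, mul_one] at h2
    exact Units.ext h2
  intro a b hab
  have h1 : l1 m (a * b⁻¹) = 1 := by
    rw [hmul, hab, ← hmul, mul_inv_cancel]
    unfold l1
    simp
  have h2 := hker _ h1
  exact mul_inv_eq_one.1 h2

namespace Model

include M in
theorem gg_gg (t : K) : gg m (gg m t) = t ^ 3 := by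
  unfold gg
  have h := M.frob t
  calc (((t ^ 3 ^ m) ^ 3) ^ 3 ^ m) ^ 3 = (((t ^ 3 ^ m) ^ 3 ^ m) ^ 3) ^ 3 := by
        rw [← pow_mul, ← pow_mul, ← pow_mul, ← pow_mul, ← pow_mul, ← pow_mul]
        congr 1
        ring
    _ = t ^ 3 := by rw [h]

theorem X_zero : M.X 0 0 0 = 1 := by
  have h := M.mul1 0 0 0 0 0
  simp only [add_zero] at h
  exact mul_left_cancel (a := M.X 0 0 0) (h.trans (mul_one _).symm)

theorem split (t u v : K) : M.X t u v = M.X t 0 0 * M.X 0 u v := by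
  have h := M.mul1 t 0 0 u v
  rw [zero_add, zero_add] at h
  exact h.symm

theorem mul_gen (t u v t' u' v' : K) :
    ∃ w : K, M.X t u v * M.X t' u' v' = M.X (t + t') (u + u' - t * (t' ^ 3 ^ m) ^ 3) w := by
  obtain ⟨v₃, h3⟩ := M.mul2 t t'
  refine ⟨v₃ + (v + 2 * u * t') + v', ?_⟩
  rw [M.split t u v, M.split t' u' v']
  calc M.X t 0 0 * M.X 0 u v * (M.X t' 0 0 * M.X 0 u' v')
      = M.X t 0 0 * (M.X 0 u v * M.X t' 0 0) * M.X 0 u' v' := by group
    _ = M.X t 0 0 * (M.X t' 0 0 * M.X 0 u (v + 2 * u * t')) * M.X 0 u' v' := by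
        rw [M.mul3, M.split t' u _]
    _ = (M.X t 0 0 * M.X t' 0 0) * M.X 0 u (v + 2 * u * t') * M.X 0 u' v' := by group
    _ = M.X (t + t') (u + u' - t * (t' ^ 3 ^ m) ^ 3) (v₃ + (v + 2 * u * t') + v') := by
        rw [h3, M.mul1, M.mul1]
        congr 1
        ring

theorem cube_eq_one_iff (t u v : K) : M.X t u v ^ 3 = 1 ↔ t = 0 := by
  rw [M.cube, ← M.X_zero]
  constructor
  · intro h
    have h1 := (M.X_inj _ _ _ _ _ _ h).2.2
    rcases mul_eq_zero.1 h1 with h2 | h2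
    · rcases mul_eq_zero.1 h2 with h3 | h3
      · exact absurd h3 two_ne_zero'
      · exact pow_eq_zero_iff (by norm_num) |>.1 h3
    · exact pow_eq_zero_iff (pow_ne_zero _ (by norm_num)) |>.1 (pow_eq_zero_iff (by norm_num) |>.1 h2)
  · rintro rfl
    rw [zero_pow (by norm_num), mul_zero, zero_mul]

include M in
/-- the torus characters in terms of the first one -/
theorem l2_eq (y : Kˣ) : ((l2 m y : Kˣ) : K) = gg m (l1 m y : K) * (l1 m y : K) := l2_eq_of_frob M.frob y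

include M in
theorem y_eq (y : Kˣ) : (y : K) = gg m (l1 m y : K) * (l1 m y : K) ^ 2 := y_eq_of_frob M.frob y

include M in
/-- every non-zero element is a value of the first character -/
theorem exists_l1 (r : K) (hr : r ≠ 0) :
    ∃ y : Kˣ, ((l1 m y : Kˣ) : K) = r ∧ ((l2 m y : Kˣ) : K) = gg m r * r ∧ (y : K) = gg m r * r ^ 2 := by
  obtain ⟨y, hy⟩ := M.l1_surj (Units.mk0 r hr)
  have h1 : ((l1 m y : Kˣ) : K) = r := by rw [hy]; rfl
  refine ⟨y, h1, ?_, ?_⟩
  · rw [M.l2_eq, h1]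
  · rw [M.y_eq y, h1]

/-- **an automorphism preserving `U¹` and `H¹` is, up to a torus element and a field automorphism, the identity
on `H¹` and on `U¹` modulo the elements of order three** -/
theorem exists_field (β : MulAut G)
    (hX : ∀ t u v : K, ∃ t' u' v' : K, β (M.X t u v) = M.X t' u' v')
    (hH : ∀ y : Kˣ, ∃ y' : Kˣ, β (M.hh y) = M.hh y') :
    ∃ (y₀ : Kˣ) (φ : K ≃+* K),
      (∀ y : Kˣ, ((MulAut.conj (M.hh y₀) * M.FA φ)⁻¹ * β) (M.hh y) = M.hh y) ∧
      (∀ t u v : K, ∃ u' v' : K, ((MulAut.conj (M.hh y₀) * M.FA φ)⁻¹ * β) (M.X t u v) = M.X t u' v') := by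
  classical
  choose fa fb fc hf using hX
  choose τ hτ using hH
  have hfa0 : ∀ u v, fa 0 u v = 0 := by
    intro u v
    have h1 : β (M.X 0 u v) ^ 3 = 1 := by
      rw [← map_pow, (M.cube_eq_one_iff 0 u v).2 rfl, map_one]
    rw [hf] at h1
    exact (M.cube_eq_one_iff _ _ _).1 h1
  obtain ⟨A, hA⟩ : ∃ A : K → K, ∀ t, A t = fa t 0 0 := ⟨fun t => fa t 0 0, fun t => rfl⟩
  have hfaA : ∀ t u v, fa t u v = A t := by
    intro t u v
    have h1 : β (M.X t u v) = β (M.X t 0 0) * β (M.X 0 u v) := by rw [← map_mul, ← M.split]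
    rw [hf, hf, hf, hfa0, M.mul1] at h1
    rw [hA]
    exact (M.X_inj _ _ _ _ _ _ h1).1
  have hA_add : ∀ t t', A (t + t') = A t + A t' := by
    intro t t'
    obtain ⟨v₃, h3'⟩ := M.mul2 t t'
    have h1 : β (M.X t 0 0 * M.X t' 0 0) = β (M.X t 0 0) * β (M.X t' 0 0) := map_mul _ _ _
    rw [h3', hf, hf, hf] at h1
    obtain ⟨w, hw⟩ := M.mul_gen (fa t 0 0) (fb t 0 0) (fc t 0 0) (fa t' 0 0) (fb t' 0 0) (fc t' 0 0)
    rw [hw] at h1
    have h2 := (M.X_inj _ _ _ _ _ _ h1).1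
    rw [hfaA, hfaA, hfaA] at h2
    exact h2
  have hA0 : A 0 = 0 := by
    have := hA_add 0 0
    rw [add_zero] at this
    exact left_eq_add.1 this
  have hA_inj : ∀ t, A t = 0 → t = 0 := by
    intro t ht
    have h1 : β (M.X t 0 0) ^ 3 = 1 := by
      rw [hf, hfaA]
      exact (M.cube_eq_one_iff _ _ _).2 ht
    rw [← map_pow, map_eq_one_iff β β.injective] at h1
    exact (M.cube_eq_one_iff _ _ _).1 h1
  have hτ_mul : ∀ y y', τ (y * y') = τ y * τ y' := by
    intro y y'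
    apply M.hh_inj
    rw [← hτ, map_mul M.hh, map_mul β, hτ, hτ, ← map_mul M.hh]
  have hconj : ∀ (y : Kˣ) (t : K), A ((l1 m y : K) * t) = (l1 m (τ y) : K) * A t := by
    intro y t
    have h1 : β (M.hh y * M.X t 0 0 * (M.hh y)⁻¹) = β (M.hh y) * β (M.X t 0 0) * (β (M.hh y))⁻¹ := by
      rw [map_mul, map_mul, map_inv]
    rw [M.conj, hτ, hf, hf, M.conj] at h1
    have h2 := (M.X_inj _ _ _ _ _ _ h1).1
    rw [hfaA, hfaA] at h2
    exact h2
  have hc : A 1 ≠ 0 := fun h => one_ne_zero (hA_inj 1 h)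
  -- the field automorphism
  have hmulA : ∀ x z : K, A (x * z) * (A 1)⁻¹ = A x * (A 1)⁻¹ * (A z * (A 1)⁻¹) := by
    intro x z
    by_cases hx : x = 0
    · rw [hx, zero_mul, hA0, zero_mul, zero_mul]
    · obtain ⟨y, hy⟩ := M.l1_surj (Units.mk0 x hx)
      have hy' : ((l1 m y : Kˣ) : K) = x := by rw [hy]; rfl
      have h1 := hconj y z
      have h2 := hconj y 1
      rw [hy'] at h1 h2
      rw [mul_one] at h2
      rw [h1, h2]
      field_simp
  obtain ⟨φ₀, hφ₀⟩ : ∃ φ₀ : K →+* K, ∀ x, φ₀ x = A x * (A 1)⁻¹ := by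
    refine ⟨{ toFun := fun x => A x * (A 1)⁻¹
              map_one' := mul_inv_cancel₀ hc
              map_mul' := hmulA
              map_zero' := by rw [hA0, zero_mul]
              map_add' := fun x z => by rw [hA_add, add_mul] }, fun x => rfl⟩
  have hφ₀bij : Function.Bijective φ₀ := Finite.injective_iff_bijective.1 φ₀.injective
  obtain ⟨φ, hφdef⟩ : ∃ φ : K ≃+* K, ∀ x, φ x = φ₀ x :=
    ⟨RingEquiv.ofBijective φ₀ hφ₀bij, fun x => rfl⟩
  have hφ : ∀ x, φ x = A x * (A 1)⁻¹ := fun x => (hφdef x).trans (hφ₀ x)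
  have hτφ : ∀ y, ((l1 m (τ y) : Kˣ) : K) = φ ((l1 m y : Kˣ) : K) := by
    intro y
    have h1 := hconj y 1
    rw [mul_one] at h1
    rw [hφ, h1, mul_assoc, mul_inv_cancel₀ hc, mul_one]
  have hl1φ : ∀ y : Kˣ, φ ((l1 m y : Kˣ) : K) = ((l1 m (Units.map (φ : K →* K) y) : Kˣ) : K) := by
    intro y
    rw [l1_val, l1_val, map_mul, map_inv₀, map_pow, map_pow, map_pow]
    rfl
  have hl1inj : Function.Injective (l1 (K := K) m) := Finite.injective_iff_surjective.2 M.l1_surj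
  have hτeq : ∀ y, τ y = Units.map (φ : K →* K) y := by
    intro y
    apply hl1inj
    apply Units.ext
    rw [hτφ, hl1φ]
  obtain ⟨y₀, hy₀⟩ := M.l1_surj (Units.mk0 (A 1) hc)
  have hy₀' : ((l1 m y₀ : Kˣ) : K) = A 1 := by rw [hy₀]; rfl
  refine ⟨y₀, φ, ?_, ?_⟩
  · intro y
    have h1 : β (M.hh y) = (MulAut.conj (M.hh y₀) * M.FA φ) (M.hh y) := by
      rw [MulAut.mul_apply, M.FA_hh, MulAut.conj_apply, ← map_mul, ← map_inv, ← map_mul, mul_comm y₀,
        mul_inv_cancel_right, hτ, hτeq]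
    rw [MulAut.mul_apply, h1, MulAut.inv_apply_self]
  · intro t u v
    have hAt : A t = ((l1 m y₀ : Kˣ) : K) * φ t := by
      rw [hy₀', hφ]
      field_simp
    refine ⟨φ.symm (((l2 m y₀ : Kˣ) : K)⁻¹ * fb t u v), φ.symm ((y₀ : K)⁻¹ * fc t u v), ?_⟩
    have h1 : β (M.X t u v) = (MulAut.conj (M.hh y₀) * M.FA φ)
        (M.X t (φ.symm (((l2 m y₀ : Kˣ) : K)⁻¹ * fb t u v)) (φ.symm ((y₀ : K)⁻¹ * fc t u v))) := by
      rw [MulAut.mul_apply, M.FA_X, MulAut.conj_apply, M.conj, hf, hfaA, hAt, RingEquiv.apply_symm_apply,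
        RingEquiv.apply_symm_apply, mul_inv_cancel_left₀ (Units.ne_zero _),
        mul_inv_cancel_left₀ (Units.ne_zero _)]
    rw [MulAut.mul_apply, h1, MulAut.inv_apply_self]

include M in
/-- the map `t ↦ t² (t^θ)³` is injective -/
theorem P_inj : Function.Injective (fun t : K => t ^ 2 * gg m t) := by
  intro t t' h
  simp only at h
  have key : ∀ s : K, s * gg m (s ^ 2 * gg m s) = (s ^ 2 * gg m s) ^ 2 := by
    intro s
    rw [gg_mul, gg_pow, M.gg_gg]
    ring
  have hgg0 : ∀ s : K, gg m s = 0 → s = 0 := by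
    intro s hs
    unfold gg at hs
    exact (pow_eq_zero_iff (pow_ne_zero _ (by norm_num))).1 ((pow_eq_zero_iff (by norm_num)).1 hs)
  by_cases ht : t = 0
  · subst ht
    rw [zero_pow (by norm_num), zero_mul] at h
    rcases mul_eq_zero.1 h.symm with h1 | h1
    · exact ((pow_eq_zero_iff (by norm_num)).1 h1).symm
    · exact (hgg0 _ h1).symm
  · have k1 := key t
    have k2 := key t'
    rw [← h] at k2
    have hne : gg m (t ^ 2 * gg m t) ≠ 0 := by
      intro h0
      rcases mul_eq_zero.1 (hgg0 _ h0) with h1 | h1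
      · exact ht ((pow_eq_zero_iff (by norm_num)).1 h1)
      · exact ht (hgg0 _ h1)
    exact mul_right_cancel₀ hne (k1.trans k2.symm)

include M in
/-- the map `r ↦ (r^θ)³ + r` is surjective -/
theorem Q_surj : Function.Surjective (fun r : K => gg m r + r) := by
  apply Finite.injective_iff_surjective.1
  intro r r' h
  simp only at h
  have h3 := three_eq_zero' (K := K)
  have he : gg m (r - r') + (r - r') = 0 := by
    rw [gg_sub]
    linear_combination h
  set e := r - r' with hedef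
  have h1 : gg m e = -e := by linear_combination he
  have h2 : e ^ 3 = e := by
    rw [← M.gg_gg, h1, gg_neg, h1, neg_neg]
  have h4 : ∀ n : ℕ, e ^ 3 ^ n = e := by
    intro n
    induction n with
    | zero => rw [pow_zero, pow_one]
    | succ k ih => rw [pow_succ, pow_mul, ih, h2]
  have h5 : gg m e = e := by
    unfold gg
    rw [h4 m, h2]
  have h6 : e = 0 := by
    have : (2 : K) * e = 0 := by linear_combination h1 - h5
    exact (mul_eq_zero.1 this).resolve_left two_ne_zero'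
  exact sub_eq_zero.1 h6

/-- **an automorphism fixing `H¹` elementwise and `U¹` modulo the elements of order three fixes `U¹`
elementwise** -/
theorem eq_of_fix (hs : ∃ s : K, gg m s ≠ s) (γ : MulAut G)
    (hH : ∀ y : Kˣ, γ (M.hh y) = M.hh y)
    (hX : ∀ t u v : K, ∃ u' v' : K, γ (M.X t u v) = M.X t u' v') :
    ∀ t u v : K, γ (M.X t u v) = M.X t u v := by
  classical
  have h3 := three_eq_zero' (K := K)
  choose gb gc hg using hX
  have hequiv : ∀ (y : Kˣ) (t u v : K),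
      γ (M.X ((l1 m y : K) * t) ((l2 m y : K) * u) ((y : K) * v)) =
        M.hh y * γ (M.X t u v) * (M.hh y)⁻¹ := by
    intro y t u v
    rw [← M.conj, map_mul, map_mul, map_inv, hH]
  -- the centre
  have hPsurj : Function.Surjective (fun t : K => t ^ 2 * gg m t) :=
    Finite.injective_iff_surjective.1 M.P_inj
  have hZ : ∀ w, γ (M.X 0 0 w) = M.X 0 0 w := by
    intro w
    obtain ⟨t, ht⟩ := hPsurj (2 * w)
    simp only at ht
    have e : 2 * t ^ 2 * (t ^ 3 ^ m) ^ 3 = w := by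
      have : (t ^ 3 ^ m) ^ 3 = gg m t := rfl
      rw [this, mul_assoc, ht]
      linear_combination w * h3
    have h1 : M.X t 0 0 ^ 3 = M.X 0 0 w := by rw [M.cube, e]
    rw [← h1, map_pow, hg, M.cube, M.cube]
  -- the elements of order three
  have hU1 : ∀ u v, γ (M.X 0 u v) = M.X 0 (gb 0 u 0) (gc 0 u 0 + v) := by
    intro u v
    have e : M.X 0 u v = M.X 0 u 0 * M.X 0 0 v := by rw [M.mul1, add_zero, zero_add]
    rw [e, map_mul, hZ, hg, M.mul1, add_zero]
  -- the involution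
  have hneg1 : ((l1 m (-1 : Kˣ) : Kˣ) : K) = -1 ∧ ((l2 m (-1 : Kˣ) : Kˣ) : K) = 1 := by
    rw [l1_val, l2_val]
    have e1 : ((-1 : Kˣ) : K) = -1 := by simp
    rw [e1, pow_e_neg', one_pow]
    constructor
    · norm_num
    · norm_num
  have hd : ∀ u, gc 0 u 0 = 0 := by
    intro u
    have h1 := hequiv (-1) 0 u 0
    rw [hneg1.2, mul_zero, mul_zero, one_mul, hU1, M.conj] at h1
    have h2 := (M.X_inj _ _ _ _ _ _ h1).2.2
    have e1 : ((-1 : Kˣ) : K) = -1 := by simp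
    rw [e1, add_zero] at h2
    have : (2 : K) * gc 0 u 0 = 0 := by linear_combination h2
    exact (mul_eq_zero.1 this).resolve_left two_ne_zero'
  obtain ⟨c, hcdef⟩ : ∃ c : K → K, ∀ u, c u = gb 0 u 0 := ⟨fun u => gb 0 u 0, fun u => rfl⟩
  obtain ⟨a, hadef⟩ : ∃ a : K → K, ∀ t, a t = gb t 0 0 := ⟨fun t => gb t 0 0, fun t => rfl⟩
  obtain ⟨b, hbdef⟩ : ∃ b : K → K, ∀ t, b t = gc t 0 0 := ⟨fun t => gc t 0 0, fun t => rfl⟩
  have hU1' : ∀ u v, γ (M.X 0 u v) = M.X 0 (c u) v := by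
    intro u v
    rw [hU1, hd, zero_add, hcdef]
  have hgen : ∀ t u v, γ (M.X t u v) = M.X t (a t + c u) (b t + v) := by
    intro t u v
    rw [M.split t u v, map_mul, hg, hU1', M.mul1, hadef, hbdef]
  have hc_add : ∀ u u', c (u + u') = c u + c u' := by
    intro u u'
    have h1 : γ (M.X 0 u 0 * M.X 0 u' 0) = γ (M.X 0 u 0) * γ (M.X 0 u' 0) := map_mul _ _ _
    rw [M.mul1, hU1', hU1', hU1', M.mul1] at h1
    exact (M.X_inj _ _ _ _ _ _ h1).2.1
  have hc0 : c 0 = 0 := by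
    have := hc_add 0 0
    rw [add_zero] at this
    exact left_eq_add.1 this
  have hstar : ∀ t t', a (t + t') + c (-(t * gg m t')) = a t + a t' - t * gg m t' := by
    intro t t'
    obtain ⟨v₃, h⟩ := M.mul2 t t'
    have h1 : γ (M.X t 0 0 * M.X t' 0 0) = γ (M.X t 0 0) * γ (M.X t' 0 0) := map_mul _ _ _
    rw [h, hgen, hgen, hgen] at h1
    obtain ⟨w, hw⟩ := M.mul_gen t (a t + c 0) (b t + 0) t' (a t' + c 0) (b t' + 0)
    rw [hw] at h1
    have h2 := (M.X_inj _ _ _ _ _ _ h1).2.1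
    rw [hc0, add_zero, add_zero] at h2
    exact h2
  -- `c` is linear
  have hc_r : ∀ r u : K, c (gg m r * r * u) = gg m r * r * c u := by
    intro r u
    by_cases hr : r = 0
    · rw [hr, mul_zero, zero_mul, hc0, zero_mul]
    · obtain ⟨y, hy1, hy2, hy3⟩ := M.exists_l1 r hr
      have h1 := hequiv y 0 u 0
      rw [hy2, mul_zero, mul_zero, hU1', hU1', M.conj] at h1
      have h2 := (M.X_inj _ _ _ _ _ _ h1).2.1
      rw [hy2] at h2
      exact h2
  have hc_neg : ∀ u, c (-u) = -c u := by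
    intro u
    have := hc_add u (-u)
    rw [add_neg_cancel, hc0] at this
    linear_combination -this
  have hc_Q : ∀ r : K, c (gg m r + r) = (gg m r + r) * c 1 := by
    intro r
    have h1 := hc_r (r + 1) 1
    rw [mul_one] at h1
    have h2 := hc_r r 1
    rw [mul_one] at h2
    have e : gg m (r + 1) * (r + 1) = gg m r * r + (gg m r + r) + 1 := by
      rw [gg_add, gg_one]
      ring
    rw [e, hc_add, hc_add, h2] at h1
    linear_combination h1
  have hc_lin : ∀ w, c w = w * c 1 := by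
    intro w
    obtain ⟨r, hr⟩ := M.Q_surj w
    simp only at hr
    rw [← hr, hc_Q]
  have hc1 : c 1 = 1 := by
    obtain ⟨s, hs'⟩ := hs
    have h1 := hstar s 1
    have h2 := hstar 1 s
    rw [hc_lin, gg_one, mul_one] at h1
    rw [hc_lin, one_mul] at h2
    rw [add_comm 1 s] at h2
    have h4 : (gg m s - s) * (c 1 - 1) = 0 := by linear_combination h1 - h2
    rcases mul_eq_zero.1 h4 with h5 | h5
    · exact absurd (sub_eq_zero.1 h5) hs'
    · exact sub_eq_zero.1 h5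
  have hc_id : ∀ w, c w = w := by
    intro w
    rw [hc_lin, hc1, mul_one]
  -- `a` vanishes
  have ha_add : ∀ t t', a (t + t') = a t + a t' := by
    intro t t'
    have := hstar t t'
    rw [hc_id] at this
    linear_combination this
  have ha : ∀ t, a t = 0 := by
    intro t
    have h1 := hequiv (-1) t 0 0
    rw [hneg1.1, mul_zero, mul_zero, hgen, hgen, M.conj, hc0, add_zero, add_zero] at h1
    have h2 := (M.X_inj _ _ _ _ _ _ h1).2.1
    rw [hneg1.2, one_mul] at h2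
    have h5 := ha_add t (-1 * t)
    have e : t + -1 * t = 0 := by ring
    rw [e, h2] at h5
    have ha0 : a 0 = 0 := by
      have := ha_add 0 0
      rw [add_zero] at this
      exact left_eq_add.1 this
    rw [ha0] at h5
    have : (2 : K) * a t = 0 := by linear_combination -h5
    exact (mul_eq_zero.1 this).resolve_left two_ne_zero'
  have hgen' : ∀ t u v, γ (M.X t u v) = M.X t u (b t + v) := by
    intro t u v
    rw [hgen, ha, hc_id, zero_add]
  -- `b` vanishes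
  have hcentral : ∀ w t : K, M.X 0 0 w * M.X t 0 0 = M.X t 0 0 * M.X 0 0 w := by
    intro w t
    rw [M.mul3, M.mul1]
    congr 1 <;> ring
  have hb_add : ∀ t t', b (t + t') = b t + b t' := by
    intro t t'
    obtain ⟨v₃, h⟩ := M.mul2 t t'
    have h1 : γ (M.X t 0 0 * M.X t' 0 0) = γ (M.X t 0 0) * γ (M.X t' 0 0) := map_mul _ _ _
    rw [h, hgen', hgen', hgen'] at h1
    have e1 : M.X t 0 (b t + 0) = M.X t 0 0 * M.X 0 0 (b t) := by
      rw [M.mul1]
      simp only [add_zero, zero_add]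
    have e2 : M.X t' 0 (b t' + 0) = M.X t' 0 0 * M.X 0 0 (b t') := by
      rw [M.mul1]
      simp only [add_zero, zero_add]
    rw [e1, e2] at h1
    have e3 : M.X t 0 0 * M.X 0 0 (b t) * (M.X t' 0 0 * M.X 0 0 (b t')) =
        M.X t 0 0 * M.X t' 0 0 * (M.X 0 0 (b t) * M.X 0 0 (b t')) := by
      calc M.X t 0 0 * M.X 0 0 (b t) * (M.X t' 0 0 * M.X 0 0 (b t'))
          = M.X t 0 0 * (M.X 0 0 (b t) * M.X t' 0 0) * M.X 0 0 (b t') := by group
        _ = M.X t 0 0 * (M.X t' 0 0 * M.X 0 0 (b t)) * M.X 0 0 (b t') := by rw [hcentral]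
        _ = _ := by group
    rw [e3, h, M.mul1, M.mul1] at h1
    have h2 := (M.X_inj _ _ _ _ _ _ h1).2.2
    linear_combination h2
  have hb0 : b 0 = 0 := by
    have := hb_add 0 0
    rw [add_zero] at this
    exact left_eq_add.1 this
  have hb_r : ∀ r : K, b r = gg m r * r ^ 2 * b 1 := by
    intro r
    by_cases hr : r = 0
    · rw [hr, hb0, gg_zero, zero_mul, zero_mul]
    · obtain ⟨y, hy1, hy2, hy3⟩ := M.exists_l1 r hr
      have h1 := hequiv y 1 0 0
      rw [hy1, mul_zero, mul_zero, mul_one, hgen', hgen', M.conj] at h1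
      have h2 := (M.X_inj _ _ _ _ _ _ h1).2.2
      rw [hy3, add_zero, add_zero] at h2
      exact h2
  have hb1 : b 1 = 0 := by
    by_contra hne
    obtain ⟨s, hs'⟩ := hs
    have hQ : ∀ r : K, 2 * gg m r * r + gg m r + r ^ 2 + 2 * r = 0 := by
      intro r
      have h1 := hb_add r 1
      rw [hb_r (r + 1), hb_r r, gg_add, gg_one] at h1
      have h4 : (2 * gg m r * r + gg m r + r ^ 2 + 2 * r) * b 1 = 0 := by linear_combination h1
      exact (mul_eq_zero.1 h4).resolve_right hne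
    have h1 := hQ s
    have h2 := hQ (-s)
    rw [gg_neg] at h2
    have h4 : s * (gg m s - s) = 0 := by linear_combination h1 + h2 - (gg m s * s + s ^ 2) * h3
    rcases mul_eq_zero.1 h4 with h5 | h5
    · apply hs'
      rw [h5, gg_zero]
    · exact hs' (sub_eq_zero.1 h5)
  intro t u v
  rw [hgen', hb_r, hb1, mul_zero, zero_add]

end Model

end Cfsg.Agent.Lead.Tw.G2Aut
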