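import Mathlib
import Cfsg.Agent.Lib.Lead.IsoCalc
import Cfsg.Prelude.Def_LieTwisted

/-!
Word identities in the unipotent groups (generated, verified by the calculator).
-/

set_option autoImplicit false

namespace Cfsg.Agent.Lead.MCalc

open Cfsg Cfsg.Lie

def g2W_A : List (ℕ × LPoly) := [(6, [⟨2, 0, 0, 0, 0, 0, 0⟩, ⟨1, 1, 0, 0, 0, 0, 0⟩]), (7, [⟨2, 0, 0, 0, 0, 0, 0⟩, ⟨1, 0, 1, 0, 0, 0, 0⟩]), (8, [⟨2, 0, 0, 0, 0, 0, 0⟩, ⟨1, 0, 1, 0, 0, 0, 0⟩]), (9, [⟨1, 0, 0, 0, 0, 0, 0⟩, ⟨1, 0, 1, 0, 0, 0, 0⟩, ⟨1, 0, 2, 0, 0, 0, 0⟩]), (10, [⟨2, 0, 3, 0, 0, 0, 0⟩, ⟨1, 1, 3, 0, 0, 0, 0⟩]), (11, [⟨1, 0, 3, 0, 0, 0, 0⟩, ⟨1, 1, 3, 0, 0, 0, 0⟩, ⟨1, 2, 3, 0, 0, 0,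 0⟩]), (6, [⟨2, 0, 0, 0, 0, 0, 0⟩, ⟨1, 0, 0, 1, 0, 0, 0⟩]), (7, [⟨2, 0, 0, 0, 0, 0, 0⟩, ⟨1, 0, 0, 0, 1, 0, 0⟩]), (8, [⟨2, 0, 0, 0, 0, 0, 0⟩, ⟨1, 0, 0, 0, 1, 0, 0⟩]), (9, [⟨1, 0, 0, 0, 0, 0, 0⟩, ⟨1, 0, 0, 0, 1, 0, 0⟩, ⟨1, 0, 0, 0, 2, 0, 0⟩]), (10, [⟨2, 0, 0, 0, 3, 0, 0⟩, ⟨1, 0, 0, 1, 3, 0, 0⟩]), (11, [⟨1, 0, 0, 0, 3, 0, 0⟩, ⟨1, 0, 0, 1, 3, 0, 0⟩, ⟨1, 0, 0, 2, 3, 0, 0⟩])]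

def g2W_B : List (ℕ × LPoly) := [(6, [⟨1, 0, 0, 0, 0, 0, 0⟩, ⟨1, 0, 0, 1, 0, 0, 0⟩, ⟨1, 1, 0, 0, 0, 0, 0⟩]), (7, [⟨1, 0, 0, 0, 0, 0, 0⟩, ⟨1, 0, 0, 0, 1, 0, 0⟩, ⟨1, 0, 1, 0, 0, 0, 0⟩]), (8, [⟨1, 0, 0, 0, 1, 0, 0⟩, ⟨1, 0, 0, 1, 0, 0, 0⟩, ⟨2, 0, 1, 0, 0, 0, 0⟩, ⟨2, 0, 1, 1, 0, 0, 0⟩]), (9, [⟨1, 0, 0, 0, 0, 0, 0⟩, ⟨1, 0, 0, 0, 2, 0, 0⟩, ⟨2, 0, 0, 1, 1, 0, 0⟩, ⟨1, 0, 1, 0, 0, 0, 0⟩, ⟨1, 0, 1, 0, 1, 0, 0⟩, ⟨1, 0, 1, 1, 0, 0, 0⟩, ⟨1, 0, 1, 1, 1, 0, 0⟩, ⟨2, 0, 2, 0, 0, 0, 0⟩, ⟨2, 0, 2, 1, 0, 0, 0⟩]), (10, [⟨1, 0, 0, 0, 0, 0, 0⟩, ⟨2, 0, 0, 0, 3, 0, 0⟩, ⟨2, 0, 0, 1, 0, 0, 0⟩, ⟨1, 0, 0, 1, 3, 0, 0⟩, ⟨1, 0, 3, 0, 0, 0, 0⟩, ⟨1, 0, 3, 1, 0, 0, 0⟩, ⟨1, 1,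 3, 0, 0, 0, 0⟩]), (11, [⟨2, 0, 0, 0, 0, 0, 0⟩, ⟨1, 0, 0, 0, 3, 0, 0⟩, ⟨2, 0, 0, 1, 0, 0, 0⟩, ⟨1, 0, 0, 1, 3, 0, 0⟩, ⟨2, 0, 0, 2, 0, 0, 0⟩, ⟨1, 0, 0, 2, 3, 0, 0⟩, ⟨1, 0, 3, 0, 0, 0, 0⟩, ⟨2, 0, 3, 1, 0, 0, 0⟩, ⟨1, 0, 3, 2, 0, 0, 0⟩, ⟨2, 1, 3, 0, 0, 0, 0⟩, ⟨2, 1, 3, 1, 0, 0, 0⟩, ⟨1, 2, 3, 0, 0, 0, 0⟩])]

theorem g2W_chk : wordEqN 3 chevG2 g2W_A g2W_B = true := by decide +kernel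

/-- the product of two elements `[h, x(1,0,0)]` -/
theorem g2W {K : Type*} [Field K] [CharP K 3] (x1 x2 x3 x4 : K) :
    chevG2.wordMat K [(6, 2 + x1), (7, 2 + x2), (8, 2 + x2), (9, 1 + x2 + x2 ^ 2), (10, 2 * x2 ^ 3 + x1 * x2 ^ 3), (11, x2 ^ 3 + x1 * x2 ^ 3 + x1 ^ 2 * x2 ^ 3), (6, 2 + x3), (7, 2 + x4), (8, 2 + x4), (9, 1 + x4 + x4 ^ 2), (10, 2 * x4 ^ 3 + x3 * x4 ^ 3), (11, x4 ^ 3 + x3 * x4 ^ 3 + x3 ^ 2 * x4 ^ 3)] =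
      chevG2.wordMat K [(6, 1 + x3 + x1), (7, 1 + x4 + x2), (8, x4 + x3 + 2 * x2 + 2 * x2 * x3), (9, 1 + x4 ^ 2 + 2 * x3 * x4 + x2 + x2 * x4 + x2 * x3 + x2 * x3 * x4 + 2 * x2 ^ 2 + 2 * x2 ^ 2 * x3), (10, 1 + 2 * x4 ^ 3 + 2 * x3 + x3 * x4 ^ 3 + x2 ^ 3 + x2 ^ 3 * x3 + x1 * x2 ^ 3), (11, 2 + x4 ^ 3 + 2 * x3 + x3 * x4 ^ 3 + 2 * x3 ^ 2 + x3 ^ 2 * x4 ^ 3 + x2 ^ 3 + 2 * x2 ^ 3 * x3 + x2 ^ 3 * x3 ^ 2 + 2 * x1 * x2 ^ 3 + 2 * x1 * x2 ^ 3 * x3 + x1 ^ 2 * x2 ^ 3)] := by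
  have h := wordMat_eq_of_wordEqN 3 chevG2 (⟨x1, x2, x3, x4, 0, 0⟩ : Val K) g2W_A g2W_B g2W_chk
  have e1 : evalWord (⟨x1, x2, x3, x4, 0, 0⟩ : Val K) g2W_A = [(6, 2 + x1), (7, 2 + x2), (8, 2 + x2), (9, 1 + x2 + x2 ^ 2), (10, 2 * x2 ^ 3 + x1 * x2 ^ 3), (11, x2 ^ 3 + x1 * x2 ^ 3 + x1 ^ 2 * x2 ^ 3), (6, 2 + x3), (7, 2 + x4), (8, 2 + x4), (9, 1 + x4 + x4 ^ 2), (10, 2 * x4 ^ 3 + x3 * x4 ^ 3), (11, x4 ^ 3 + x3 * x4 ^ 3 + x3 ^ 2 * x4 ^ 3)] := by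
    simp [evalWord, evalP, Term.eval, g2W_A]
    all_goals (repeat' apply And.intro) <;> ring1
  have e2 : evalWord (⟨x1, x2, x3, x4, 0, 0⟩ : Val K) g2W_B = [(6, 1 + x3 + x1), (7, 1 + x4 + x2), (8, x4 + x3 + 2 * x2 + 2 * x2 * x3), (9, 1 + x4 ^ 2 + 2 * x3 * x4 + x2 + x2 * x4 + x2 * x3 + x2 * x3 * x4 + 2 * x2 ^ 2 + 2 * x2 ^ 2 * x3), (10, 1 + 2 * x4 ^ 3 + 2 * x3 + x3 * x4 ^ 3 + x2 ^ 3 + x2 ^ 3 * x3 + x1 * x2 ^ 3), (11, 2 + x4 ^ 3 + 2 * x3 + x3 * x4 ^ 3 + 2 * x3 ^ 2 + x3 ^ 2 * x4 ^ 3 + x2 ^ 3 + 2 * x2 ^ 3 * x3 + x2 ^ 3 * x3 ^ 2 + 2 * x1 * x2 ^ 3 + 2 * x1 * x2 ^ 3 * x3 + x1 ^ 2 * x2 ^ 3)] := by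
    simp [evalWord, evalP, Term.eval, g2W_B]
    all_goals (repeat' apply And.intro) <;> ring1
  rw [e1, e2] at h
  exact h

end Cfsg.Agent.Lead.MCalc
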