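import Mathlib
import Cfsg.Agent.Lib.Lead.IsoCalc
import Cfsg.Prelude.Def_LieTwisted

/-!
Word identities in the unipotent groups (generated, verified by the calculator).
-/

set_option autoImplicit false

namespace Cfsg.Agent.Lead.MCalc

open Cfsg Cfsg.Lie

def g2Cube_A : List (ℕ × LPoly) := [(6, [⟨1, 1, 0, 0, 0, 0, 0⟩]), (7, [⟨1, 0, 1, 0, 0, 0, 0⟩]), (8, [⟨1, 0, 0, 1, 0, 0, 0⟩]), (9, [⟨1, 0, 0, 0, 1, 0, 0⟩]), (10, [⟨1, 0, 0, 0, 0, 1, 0⟩]), (11, [⟨1, 0, 0, 0, 0, 0, 1⟩]), (6, [⟨1, 1, 0, 0, 0, 0, 0⟩]), (7, [⟨1, 0, 1, 0, 0, 0, 0⟩]), (8, [⟨1, 0, 0, 1, 0, 0, 0⟩]), (9, [⟨1, 0, 0, 0, 1, 0, 0⟩]), (10, [⟨1, 0, 0, 0, 0, 1, 0⟩]), (11, [⟨1, 0, 0, 0, 0, 0, 1⟩]), (6, [⟨1, 1, 0, 0, 0, 0, 0⟩]), (7, [⟨1, 0, 1, 0, 0, 0, 0⟩]), (8, [⟨1, 0, 0, 1, 0, 0, 0⟩]), (9, [⟨1, 0, 0, 0, 1, 0, 0⟩]), (10, [⟨1, 0, 0, 0, 0, 1, 0⟩]),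 (11, [⟨1, 0, 0, 0, 0, 0, 1⟩])]

def g2Cube_B : List (ℕ × LPoly) := [(6, []), (7, []), (8, []), (9, [⟨2, 1, 2, 0, 0, 0, 0⟩]), (10, []), (11, [⟨2, 2, 3, 0, 0, 0, 0⟩])]

theorem g2Cube_chk : wordEqN 3 chevG2 g2Cube_A g2Cube_B = true := by decide +kernel

/-- the cube of an element of `U` -/
theorem g2Cube {K : Type*} [Field K] [CharP K 3] (x1 x2 x3 x4 x5 x6 : K) :
    chevG2.wordMat K [(6, x1), (7, x2), (8, x3), (9, x4), (10, x5), (11, x6), (6, x1), (7, x2), (8, x3), (9, x4), (10, x5), (11, x6), (6, x1), (7, x2), (8, x3), (9, x4), (10, x5), (11, x6)] =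
      chevG2.wordMat K [(6, 0), (7, 0), (8, 0), (9, 2 * x1 * x2 ^ 2), (10, 0), (11, 2 * x1 ^ 2 * x2 ^ 3)] := by
  have h := wordMat_eq_of_wordEqN 3 chevG2 (⟨x1, x2, x3, x4, x5, x6⟩ : Val K) g2Cube_A g2Cube_B g2Cube_chk
  have e1 : evalWord (⟨x1, x2, x3, x4, x5, x6⟩ : Val K) g2Cube_A = [(6, x1), (7, x2), (8, x3), (9, x4), (10, x5), (11, x6), (6, x1), (7, x2), (8, x3), (9, x4), (10, x5), (11, x6), (6, x1), (7, x2), (8, x3), (9, x4), (10, x5), (11, x6)] := by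
    simp [evalWord, evalP, Term.eval, g2Cube_A]
  have e2 : evalWord (⟨x1, x2, x3, x4, x5, x6⟩ : Val K) g2Cube_B = [(6, 0), (7, 0), (8, 0), (9, 2 * x1 * x2 ^ 2), (10, 0), (11, 2 * x1 ^ 2 * x2 ^ 3)] := by
    simp [evalWord, evalP, Term.eval, g2Cube_B]
    all_goals first | ring1 | (constructor <;> ring1)
  rw [e1, e2] at h
  exact h

end Cfsg.Agent.Lead.MCalc
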