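import Mathlib
import Cfsg.Agent.Lib.Lead.TwTorus
import Cfsg.Agent.Lib.Lead.TwCore

/-!
# Perfectness of the twisted groups

Three ways to put the generators of `G¹` into its derived group: through an element of `H¹` acting without fixed
points on a class subgroup, through a commutator of two fixed root elements, and through conjugation by `n_v`.
-/

set_option autoImplicit false
set_option linter.unusedSectionVars false
set_option linter.unusedSimpArgs false
set_option linter.unusedVariables false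

namespace Cfsg.Agent.Lead.Tw

open Cfsg Cfsg.Lie Cfsg.Agent.Lead.Chev
open scoped commutatorElement

/-- conjugation by an element of `H` preserves the derived subgroup of `H` -/
theorem conj_mem_commutator {G : Type*} [Group G] (H : Subgroup G) (n x : G) (hn : n ∈ H) (hx : x ∈ ⁅H, H⁆) :
    n * x * n⁻¹ ∈ ⁅H, H⁆ := by
  rw [← Subgroup.map_subtype_commutator] at hx ⊢
  obtain ⟨y, hy, rfl⟩ := hx
  refine ⟨⟨n, hn⟩ * y * ⟨n, hn⟩⁻¹, ?_, by simp⟩
  exact (inferInstance : (commutator ↥H).Normal).conj_mem y hy ⟨n, hn⟩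

variable {K : Type*} [Field K]

/-- a unit whose square is not `1` -/
theorem exists_unit_sq_ne_one [Fintype K] (hc : 3 < Fintype.card K) : ∃ μ : Kˣ, μ ^ 2 ≠ 1 := by
  classical
  obtain ⟨g, hg⟩ := IsCyclic.exists_generator (α := Kˣ)
  refine ⟨g, fun h2 => ?_⟩
  have ho : orderOf g = Fintype.card Kˣ := by
    rw [← Nat.card_eq_fintype_card]
    exact orderOf_eq_card_of_forall_mem_zpowers hg
  have h3 : orderOf g ∣ 2 := orderOf_dvd_of_pow_eq_one h2
  have h4 : orderOf g ≤ 2 := Nat.le_of_dvd (by norm_num) h3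
  rw [ho, Fintype.card_units] at h4
  omega

/-- perfectness from the derived subgroup inside the ambient group -/
theorem commutator_eq_top_of_le {G : Type*} [Group G] (H : Subgroup G) (h : H ≤ ⁅H, H⁆) :
    commutator ↥H = ⊤ := by
  apply Subgroup.map_injective H.subtype_injective
  rw [Subgroup.map_subtype_commutator, ← MonoidHom.range_eq_map, Subgroup.range_subtype]
  refine le_antisymm (Subgroup.commutator_le.2 fun a ha b hb => ?_) h
  rw [commutatorElement_def]
  exact H.mul_mem (H.mul_mem (H.mul_mem ha hb) (H.inv_mem ha)) (H.inv_mem hb)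

section

variable {D : ChevalleyDatum} {hF : ChevFacts D K} {T : Twist D K hF.xadd}
  {π' : ℕ → ℕ} {S l₀ : List (List ℕ)} (h : OrthData hF T π' S l₀)
include h

/-- the negative class subgroups, through conjugation by `n_v` -/
theorem OrthData.ys_mem_commutator (v : List ℕ) (hv : v ∈ S)
    (hpos : ∀ φ : ℕ → K, FixPos hF T v φ → xs hF v φ ∈ ⁅orthGroup hF T S, orthGroup hF T S⁆)
    (ψ : ℕ → K) (hψ : FixNeg hF T v ψ) :
    ys hF v ψ ∈ ⁅orthGroup hF T S, orthGroup hF T S⁆ := by
  have hvv := h.gen.valid v hv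
  set n := nWordGL D hF.xadd v with hn
  have hnG : n ∈ orthGroup hF T S := h.s_mem v hv
  have hyG : ys hF v ψ ∈ orthGroup hF T S := h.ys_mem v hv ψ hψ
  have hgG : n * ys hF v ψ * n⁻¹ ∈ orthGroup hF T S := mul_mem (mul_mem hnG hyG) (inv_mem hnG)
  have hgN : n * ys hF v ψ * n⁻¹ ∈ negPart D hF.xadd v := by
    have e : n * ys hF v ψ * n⁻¹ = (MulAut.conj n) (ys hF v ψ) := by rw [MulAut.conj_apply]
    rw [e]
    unfold ys
    rw [map_list_prod]
    apply Subgroup.list_prod_mem
    intro x hx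
    obtain ⟨y, hy, rfl⟩ := List.mem_map.1 hx
    obtain ⟨i, hi, rfl⟩ := List.mem_map.1 hy
    have hi' := hvv i hi
    have hsl := hF.simple_lt i hi'
    have hnl := hF.sign.neg_lt _ hsl
    rw [MulAut.conj_apply, hn, nWordGL_conj D hF.xadd (etaOf D) hF.nsimple v hvv _ hnl]
    unfold Chev.negPart
    apply Subgroup.subset_closure
    refine ⟨_, _, ?_, ?_, rfl⟩
    · rw [reflWord_neg D (etaOf D) hF.facts v hvv _ hsl]
      exact hF.sign.pos_of_neg _ (h.neg_simple v hv i hi)
    · rw [← reflWord_append, h.gen.sq v hv _ hnl]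
      exact hF.sign.neg_of_pos _ (hF.simple_pos i hi')
  obtain ⟨φ, hφ, e⟩ := T.fixed_negPart hF (h.cls v hv) (h.perm v hv) _ hgN (h.fixed _ hgG)
  have e2 : ys hF v ψ = n⁻¹ * xs hF v φ * n⁻¹⁻¹ := by
    rw [← e]; group
  rw [e2]
  exact conj_mem_commutator _ _ _ (inv_mem hnG) (hpos φ hφ)

/-- a class subgroup on which an element of `H¹` acts without fixed points -/
theorem OrthData.xs_mem_commutator_of_torus (f : K ≃+* K) (πe : Equiv.Perm (Fin D.rank))
    (hπ : ∀ i : Fin D.rank, T.π i.val = (πe i).val)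
    (hcs : ∀ i < D.rank, ∀ t, T.c (D.simple i) t = f t)
    (hcn : ∀ i < D.rank, ∀ t, T.c (D.neg (D.simple i)) t = f t)
    (hperm : S.flatten.Perm (List.range D.rank))
    (hcm : ∀ r < D.nroots, ∀ a t, T.c r (a * t) = f a * T.c r t)
    (c : Fin D.rank → Kˣ) (hc : c ∈ fixT f πe) (v : List ℕ) (hv : v ∈ S)
    (hχ : ∀ i ∈ v, chi D (extC D c) (D.simple i) ≠ 1) (φ : ℕ → K) (hφ : FixPos hF T v φ) :
    xs hF v φ ∈ ⁅orthGroup hF T S, orthGroup hF T S⁆ := by
  have hvv := h.gen.valid v hv
  have hmem : torusHom D K c ∈ orthGroup hF T S := h.torusHom_mem f πe hπ hcs hcn hperm c hc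
  have hfix := h.fixed _ hmem
  set χ : ℕ → K := fun i => chi D (extC D c) (D.simple i) with hχdef
  have hχf : ∀ i ∈ v, χ (T.π i) = f (χ i) := by
    intro i hi
    have := chi_fixed (hF := hF) (T := T) f hcm c hfix (D.simple i) (hF.simple_lt i (hvv i hi))
    rw [T.ρ_simple i (hvv i hi)] at this
    exact this
  set ψ : ℕ → K := fun i => (χ i - 1)⁻¹ * φ i with hψdef
  have hψ : FixPos hF T v ψ := by
    intro i hi
    have h1 := hφ i hi
    show (χ (T.π i) - 1)⁻¹ * φ (T.π i) = T.c (D.simple i) ((χ i - 1)⁻¹ * φ i)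
    rw [hcm _ (hF.simple_lt i (hvv i hi)), hχf i hi, h1, map_inv₀, map_sub, map_one]
  have hcne : ∀ i < D.rank, extC D c i ≠ 0 := fun i _ => extC_ne_zero D c i
  have hconj := ChevFacts'.conj_xs hF (torusHom D K c) (extC D c) hcne (torusHom_val D c) v hvv ψ
  have e : xs hF v φ = ⁅(torusHom D K c : GL D.Idx K), xs hF v ψ⁆ := by
    rw [commutatorElement_def, hconj, xs_inv hF (h.cls v hv), ← xs_add hF (h.cls v hv)]
    apply xs_congr
    intro i hi
    have hne : χ i - 1 ≠ 0 := sub_ne_zero.2 (hχ i hi)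
    show φ i = χ i * ((χ i - 1)⁻¹ * φ i) + -((χ i - 1)⁻¹ * φ i)
    field_simp
    ring
  rw [e]
  exact Subgroup.commutator_mem_commutator hmem (h.xs_mem v hv ψ hψ)

/-- a fixed fundamental root element, as a commutator of fixed root elements -/
theorem OrthData.xGL_mem_commutator_of_comm [Fintype K] (hS : CorSize D) (hC : CorComb D)
    (i : ℕ) (hi : [i] ∈ S) (r₂ s : ℕ) (hr₂ : D.IsPosRoot r₂) (hρ : T.ρ r₂ = r₂) (hc1 : T.c r₂ 1 = 1)
    (hne1 : r₂ ≠ D.simple i) (hne2 : r₂ ≠ D.neg (D.simple i))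
    (hct : D.commTerms (D.simple i) r₂ = [(s, 1, 1, 1)] ∨ D.commTerms (D.simple i) r₂ = [(s, -1, 1, 1)])
    (hs : s < D.nroots) (l : List (List ℕ)) (hl : ∀ v ∈ l, v ∈ S)
    (hls : reflWord D (wordOf l) s = D.simple i)
    (t : K) (ht : T.c (D.simple i) t = t) :
    xGL D hF.xadd (D.simple i) t ∈ ⁅orthGroup hF T S, orthGroup hF T S⁆ := by
  have hG := h.twGroup hS hC
  have hir : i < D.rank := h.gen.valid [i] hi i (by simp)
  have hsl := hF.simple_lt i hir
  have hx : ∀ t' : K, T.c (D.simple i) t' = t' → xGL D hF.xadd (D.simple i) t' ∈ orthGroup hF T S := by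
    intro t' ht'
    have h1 := h.xs_mem [i] hi (fun _ => t') (by
      intro j hj
      rw [List.mem_singleton] at hj
      rw [hj]
      exact ht'.symm)
    have e : xs hF [i] (fun _ => t') = xGL D hF.xadd (D.simple i) t' := by
      unfold xs
      simp
    rwa [e] at h1
  have hr : xGL D hF.xadd r₂ 1 ∈ orthGroup hF T S := by
    apply hG.U_le
    · unfold ChevalleyDatum.posUnipotent
      exact Subgroup.subset_closure ⟨r₂, 1, hr₂, xGL_val D hF.xadd r₂ 1⟩
    · rw [T.map_x r₂ hr₂.1, hρ, hc1]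
  have hcomm := hF.comm (D.simple i) hsl r₂ hr₂.1 hne1 hne2
  -- `x_s(t') ∈ G¹'` for fixed `t'`
  have hs1 : ∀ t' : K, T.c (D.simple i) t' = t' →
      xGL D hF.xadd s t' ∈ ⁅orthGroup hF T S, orthGroup hF T S⁆ := by
    intro t' ht'
    rcases hct with hct | hct
    · have e : D.commWord K (D.simple i) r₂ (-t') 1 = [(s, t')] := by
        unfold ChevalleyDatum.commWord
        rw [hct]
        simp
      have h1 := comm_GL D hF.xadd (D.simple i) r₂ hcomm (-t') 1
      rw [e, wordGL_singleton] at h1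
      rw [← h1]
      apply Subgroup.commutator_mem_commutator (inv_mem hr)
      rw [xGL_inv, neg_neg]
      exact hx t' ht'
    · have e : D.commWord K (D.simple i) r₂ t' 1 = [(s, t')] := by
        unfold ChevalleyDatum.commWord
        rw [hct]
        simp
      have h1 := comm_GL D hF.xadd (D.simple i) r₂ hcomm t' 1
      rw [e, wordGL_singleton] at h1
      rw [← h1]
      exact Subgroup.commutator_mem_commutator (inv_mem hr) (inv_mem (hx t' ht'))
  have hwv := wordOf_valid S l h.gen.valid hl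
  have hnG := h.nWordGL_wordOf_mem l hl
  have hconj := fun t' : K => nWordGL_conj D hF.xadd (etaOf D) hF.nsimple (wordOf l) hwv s hs t'
  rw [hls] at hconj
  rcases signWord_sq D (etaOf D) (wordOf l) (fun j hj s => (hF.nsimple j (hwv j hj)).sign s) s with h2 | h2
  · have := conj_mem_commutator _ _ _ hnG (hs1 t ht)
    rw [hconj t, h2] at this
    simpa using this
  · have := conj_mem_commutator _ _ _ hnG (inv_mem (hs1 t ht))
    rw [xGL_inv, hconj (-t), h2] at this
    simpa using this

end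

end Cfsg.Agent.Lead.Tw
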