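import Mathlib
import Cfsg.Agent.Lib.Lead.TwReeCore
import Cfsg.Agent.Lib.Lead.TwPerf

/-!
# Perfectness of the groups of Ree type: general lemmas
-/

set_option autoImplicit false
set_option linter.unusedSectionVars false
set_option linter.unusedSimpArgs false
set_option linter.unusedVariables false

namespace Cfsg.Agent.Lead.Tw

open Cfsg Cfsg.Lie Cfsg.Agent.Lead.Chev
open scoped commutatorElement

variable {K : Type*} [Field K] {D : ChevalleyDatum} (hF : ChevFacts D K)

/-- the ordered product of root elements over a list of roots -/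
noncomputable def xprod (R : List ℕ) (α : ℕ → K) : GL D.Idx K :=
  (R.map fun r => xGL D hF.xadd r (α r)).prod

theorem xprod_eq_wordGL (R : List ℕ) (α : ℕ → K) :
    xprod hF R α = wordGL D hF.xadd (R.map fun r => (r, α r)) := by
  unfold xprod wordGL
  rw [List.map_map]
  rfl

theorem xprod_congr (R : List ℕ) (α β : ℕ → K) (h : ∀ r ∈ R, α r = β r) : xprod hF R α = xprod hF R β := by
  unfold xprod
  congr 1
  apply List.map_congr_left
  intro r hr
  rw [h r hr]

theorem xprod_zero (R : List ℕ) : xprod hF R (fun _ => (0 : K)) = 1 := by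
  unfold xprod
  induction R with
  | nil => simp
  | cons r R ih => rw [List.map_cons, List.prod_cons, ih, xGL_zero, one_mul]

section comm

variable (R : List ℕ) (hnd : R.Nodup)
  (hc : ∀ r ∈ R, ∀ s ∈ R, r ≠ s → ∀ a b : K, Commute (xGL D hF.xadd r a) (xGL D hF.xadd s b))
include hnd hc

theorem xprod_add (α β : ℕ → K) :
    xprod hF R (fun r => α r + β r) = xprod hF R α * xprod hF R β := by
  unfold xprod
  rw [← prod_map_mul_of_commute R _ _ hnd (fun i hi j hj hij => hc i hi j hj hij _ _)]
  congr 1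
  apply List.map_congr_left
  intro r _
  rw [xGL_mul]

theorem xprod_inv (α : ℕ → K) : (xprod hF R α)⁻¹ = xprod hF R (fun r => - α r) := by
  apply inv_eq_of_mul_eq_one_right
  rw [← xprod_add hF R hnd hc]
  rw [← xprod_zero hF R]
  apply xprod_congr
  intro r _
  ring

theorem xprod_sub (α β : ℕ → K) :
    xprod hF R α * (xprod hF R β)⁻¹ = xprod hF R (fun r => α r - β r) := by
  rw [xprod_inv hF R hnd hc, ← xprod_add hF R hnd hc]
  apply xprod_congr
  intro r _
  ring

end comm

/-- conjugation of an ordered product by a diagonal element -/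
theorem xprod_conj (h : GL D.Idx K) (c : ℕ → K) (hc : ∀ i < D.rank, c i ≠ 0)
    (hh : (h : Matrix D.Idx D.Idx K) = Tmat D c) (R : List ℕ) (hR : ∀ r ∈ R, r < D.nroots) (α : ℕ → K) :
    h * xprod hF R α * h⁻¹ = xprod hF R (fun r => chi D c r * α r) := by
  rw [xprod_eq_wordGL, xprod_eq_wordGL, ChevFacts'.conj_wordGL hF h c hc hh _ (by
    intro q hq
    obtain ⟨r, hr, rfl⟩ := List.mem_map.1 hq
    exact hR r hr), List.map_map]
  rfl

/-- the commutator of a diagonal element with an ordered product of commuting root elements -/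
theorem commutator_xprod (h : GL D.Idx K) (c : ℕ → K) (hc : ∀ i < D.rank, c i ≠ 0)
    (hh : (h : Matrix D.Idx D.Idx K) = Tmat D c) (R : List ℕ) (hR : ∀ r ∈ R, r < D.nroots)
    (hnd : R.Nodup)
    (hcm : ∀ r ∈ R, ∀ s ∈ R, r ≠ s → ∀ a b : K, Commute (xGL D hF.xadd r a) (xGL D hF.xadd s b))
    (α : ℕ → K) :
    ⁅h, xprod hF R α⁆ = xprod hF R (fun r => chi D c r * α r - α r) := by
  rw [commutatorElement_def, xprod_conj hF h c hc hh R hR, xprod_sub hF R hnd hcm]

/-- conjugation by `n_v` maps a word in the negatives of the roots of `U_v⁻` into `U_v⁻` -/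
theorem conj_wordGL_mem_negPart (v : List ℕ) (hv : ∀ i ∈ v, i < D.rank) (W : List (ℕ × K))
    (hW : ∀ q ∈ W, q.1 < D.nroots ∧ D.IsPosRoot (reflWord D v q.1) ∧
      D.IsNegRoot (reflWord D v (reflWord D v q.1))) :
    nWordGL D hF.xadd v * wordGL D hF.xadd W * (nWordGL D hF.xadd v)⁻¹ ∈ negPart D hF.xadd v := by
  induction W with
  | nil =>
    rw [wordGL_nil, mul_one, mul_inv_cancel]
    exact one_mem _
  | cons q W ih =>
    rw [wordGL_cons]
    have e : nWordGL D hF.xadd v * (xGL D hF.xadd q.1 q.2 * wordGL D hF.xadd W) * (nWordGL D hF.xadd v)⁻¹ =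
        (nWordGL D hF.xadd v * xGL D hF.xadd q.1 q.2 * (nWordGL D hF.xadd v)⁻¹) *
          (nWordGL D hF.xadd v * wordGL D hF.xadd W * (nWordGL D hF.xadd v)⁻¹) := by group
    rw [e]
    refine mul_mem ?_ (ih fun q' hq' => hW q' (List.mem_cons_of_mem _ hq'))
    obtain ⟨h1, h2, h3⟩ := hW q List.mem_cons_self
    rw [nWordGL_conj D hF.xadd (etaOf D) hF.nsimple v hv q.1 h1]
    exact Subgroup.subset_closure ⟨_, _, h2, h3, rfl⟩

/-- multiplicativity of the characters along the roots -/
theorem chi_of_cartan (c : ℕ → K) (hc : ∀ i < D.rank, c i ≠ 0) (r a b : ℕ) (n : ℤ)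
    (h : ∀ i < D.rank, D.cartan i r = n * D.cartan i a + D.cartan i b) :
    chi D c r = (chi D c a) ^ n * chi D c b := by
  rw [chi_eq_finprod, chi_eq_finprod, chi_eq_finprod, ← Finset.prod_zpow, ← Finset.prod_mul_distrib]
  apply Finset.prod_congr rfl
  intro i _
  rw [h i.val i.2, zpow_add₀ (hc i.val i.2), mul_comm n, zpow_mul]

/-- the derived subgroup of a subgroup lies in it -/
theorem commutator_self_le {G : Type*} [Group G] (H : Subgroup G) : ⁅H, H⁆ ≤ H := by
  refine Subgroup.commutator_le.2 fun a ha b hb => ?_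
  rw [commutatorElement_def]
  exact H.mul_mem (H.mul_mem (H.mul_mem ha hb) (H.inv_mem ha)) (H.inv_mem hb)

end Cfsg.Agent.Lead.Tw
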