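import Mathlib
import Cfsg.Agent.Lib.Lead.IsoCalc
import Cfsg.Prelude.Def_LieTwisted

/-!
Word identities in the unipotent groups (generated, verified by the calculator).
-/

set_option autoImplicit false
set_option linter.unusedTactic false
set_option linter.unreachableTactic false

namespace Cfsg.Agent.Lead.MCalc

open Cfsg Cfsg.Lie

def f4P_A : List (ℕ × LPoly) := [(27, [⟨1, 1, 0, 0, 0, 0, 0⟩]), (25, [⟨1, 0, 1, 0, 0, 0, 0⟩]), (28, [⟨1, 0, 0, 1, 0, 0, 0⟩]), (28, [⟨1, 0, 0, 0, 1, 0, 0⟩]), (25, [⟨1, 0, 0, 0, 0, 1, 0⟩]), (27, [⟨1, 0, 0, 0, 0, 0, 1⟩])]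

def f4P_B : List (ℕ × LPoly) := [(25, [⟨1, 0, 0, 0, 0, 1, 0⟩, ⟨1, 0, 1, 0, 0, 0, 0⟩]), (27, [⟨1, 0, 0, 0, 0, 0, 1⟩, ⟨1, 1, 0, 0, 0, 0, 0⟩]), (28, [⟨1, 0, 0, 0, 1, 0, 0⟩, ⟨1, 0, 0, 1, 0, 0, 0⟩, ⟨1, 1, 0, 0, 0, 1, 0⟩, ⟨1, 1, 1, 0, 0, 0, 0⟩]), (30, [⟨1, 2, 0, 0, 0, 1, 0⟩, ⟨1, 2, 1, 0, 0, 0, 0⟩])]

theorem f4P_chk : wordEqN 2 chevF4 f4P_A f4P_B = true := by decide +kernel

theorem f4P {K : Type*} [Field K] [CharP K 2] (x1 x2 x3 x4 x5 x6 : K) :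
    chevF4.wordMat K [(27, x1), (25, x2), (28, x3), (28, x4), (25, x5), (27, x6)] =
      chevF4.wordMat K [(25, x5 + x2), (27, x6 + x1), (28, x4 + x3 + x1 * x5 + x1 * x2), (30, x1 ^ 2 * x5 + x1 ^ 2 * x2)] := by
  have h := wordMat_eq_of_wordEqN 2 chevF4 (⟨x1, x2, x3, x4, x5, x6⟩ : Val K) f4P_A f4P_B f4P_chk
  have e1 : evalWord (⟨x1, x2, x3, x4, x5, x6⟩ : Val K) f4P_A = [(27, x1), (25, x2), (28, x3), (28, x4), (25, x5), (27, x6)] := by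
    simp [evalWord, evalP, Term.eval, f4P_A]
  have e2 : evalWord (⟨x1, x2, x3, x4, x5, x6⟩ : Val K) f4P_B = [(25, x5 + x2), (27, x6 + x1), (28, x4 + x3 + x1 * x5 + x1 * x2), (30, x1 ^ 2 * x5 + x1 ^ 2 * x2)] := by
    simp [evalWord, evalP, Term.eval, f4P_B]
    all_goals first | ring1 | (constructor <;> ring1)
  rw [e1, e2] at h
  exact h

def g2P_A : List (ℕ × LPoly) := [(7, [⟨1, 1, 0, 1, 0, 0, 0⟩]), (6, [⟨1, 0, 1, 0, 1, 0, 0⟩]), (8, [⟨1, 1, 1, 1, 1, 0, 0⟩]), (9, [⟨2, 2, 1, 0, 0, 0, 0⟩, ⟨1, 2, 1, 2, 1, 0, 0⟩]), (8, [⟨2, 1, 1, 0, 0, 0, 0⟩]), (6, [⟨2, 0, 1, 0, 0, 0, 0⟩]), (7, [⟨2, 1, 0, 0, 0, 0, 0⟩])]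

def g2P_B : List (ℕ × LPoly) := [(6, [⟨2, 0, 1, 0, 0, 0, 0⟩, ⟨1, 0, 1, 0, 1, 0, 0⟩]), (7, [⟨2, 1, 0, 0, 0, 0, 0⟩, ⟨1, 1, 0, 1, 0, 0, 0⟩]), (8, [⟨2, 1, 1, 0, 0, 0, 0⟩, ⟨1, 1, 1, 1, 0, 0, 0⟩]), (9, [⟨1, 2, 1, 0, 0, 0, 0⟩, ⟨1, 2, 1, 1, 0, 0, 0⟩, ⟨1, 2, 1, 2, 0, 0, 0⟩]), (10, [⟨2, 3, 1, 3, 0, 0, 0⟩, ⟨1, 3, 1, 3, 1, 0, 0⟩]), (11, [⟨1, 3, 2, 3, 0, 0, 0⟩, ⟨1, 3, 2, 3, 1, 0, 0⟩, ⟨1, 3, 2, 3, 2, 0, 0⟩])]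

theorem g2P_chk : wordEqN 3 chevG2 g2P_A g2P_B = true := by decide +kernel

/-- the commutator of a diagonal element with a fixed element of `U` -/
theorem g2P {K : Type*} [Field K] [CharP K 3] (x1 x2 x3 x4 : K) :
    chevG2.wordMat K [(7, x1 * x3), (6, x2 * x4), (8, x1 * x2 * x3 * x4), (9, 2 * x1 ^ 2 * x2 + x1 ^ 2 * x2 * x3 ^ 2 * x4), (8, 2 * x1 * x2), (6, 2 * x2), (7, 2 * x1)] =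
      chevG2.wordMat K [(6, 2 * x2 + x2 * x4), (7, 2 * x1 + x1 * x3), (8, 2 * x1 * x2 + x1 * x2 * x3), (9, x1 ^ 2 * x2 + x1 ^ 2 * x2 * x3 + x1 ^ 2 * x2 * x3 ^ 2), (10, 2 * x1 ^ 3 * x2 * x3 ^ 3 + x1 ^ 3 * x2 * x3 ^ 3 * x4), (11, x1 ^ 3 * x2 ^ 2 * x3 ^ 3 + x1 ^ 3 * x2 ^ 2 * x3 ^ 3 * x4 + x1 ^ 3 * x2 ^ 2 * x3 ^ 3 * x4 ^ 2)] := by
  have h := wordMat_eq_of_wordEqN 3 chevG2 (⟨x1, x2, x3, x4, 0, 0⟩ : Val K) g2P_A g2P_B g2P_chk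
  have e1 : evalWord (⟨x1, x2, x3, x4, 0, 0⟩ : Val K) g2P_A = [(7, x1 * x3), (6, x2 * x4), (8, x1 * x2 * x3 * x4), (9, 2 * x1 ^ 2 * x2 + x1 ^ 2 * x2 * x3 ^ 2 * x4), (8, 2 * x1 * x2), (6, 2 * x2), (7, 2 * x1)] := by
    simp [evalWord, evalP, Term.eval, g2P_A]
  have e2 : evalWord (⟨x1, x2, x3, x4, 0, 0⟩ : Val K) g2P_B = [(6, 2 * x2 + x2 * x4), (7, 2 * x1 + x1 * x3), (8, 2 * x1 * x2 + x1 * x2 * x3), (9, x1 ^ 2 * x2 + x1 ^ 2 * x2 * x3 + x1 ^ 2 * x2 * x3 ^ 2), (10, 2 * x1 ^ 3 * x2 * x3 ^ 3 + x1 ^ 3 * x2 * x3 ^ 3 * x4), (11, x1 ^ 3 * x2 ^ 2 * x3 ^ 3 + x1 ^ 3 * x2 ^ 2 * x3 ^ 3 * x4 + x1 ^ 3 * x2 ^ 2 * x3 ^ 3 * x4 ^ 2)] := by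
    simp [evalWord, evalP, Term.eval, g2P_B]
    all_goals first | ring1 | (constructor <;> ring1)
  rw [e1, e2] at h
  exact h

def g2C89_A : List (ℕ × LPoly) := [(9, [⟨1, 1, 0, 0, 0, 0, 0⟩]), (8, [⟨1, 0, 1, 0, 0, 0, 0⟩])]

def g2C89_B : List (ℕ × LPoly) := [(8, [⟨1, 0, 1, 0, 0, 0, 0⟩]), (9, [⟨1, 1, 0, 0, 0, 0, 0⟩]), (11, [])]

theorem g2C89_chk : wordEqN 3 chevG2 g2C89_A g2C89_B = true := by decide +kernel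

theorem g2C89 {K : Type*} [Field K] [CharP K 3] (x1 x2 : K) :
    chevG2.wordMat K [(9, x1), (8, x2)] =
      chevG2.wordMat K [(8, x2), (9, x1), (11, 0)] := by
  have h := wordMat_eq_of_wordEqN 3 chevG2 (⟨x1, x2, 0, 0, 0, 0⟩ : Val K) g2C89_A g2C89_B g2C89_chk
  have e1 : evalWord (⟨x1, x2, 0, 0, 0, 0⟩ : Val K) g2C89_A = [(9, x1), (8, x2)] := by
    simp [evalWord, evalP, Term.eval, g2C89_A]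
  have e2 : evalWord (⟨x1, x2, 0, 0, 0, 0⟩ : Val K) g2C89_B = [(8, x2), (9, x1), (11, 0)] := by
    simp [evalWord, evalP, Term.eval, g2C89_B]
    all_goals first | ring1 | (constructor <;> ring1)
  rw [e1, e2] at h
  exact h

end Cfsg.Agent.Lead.MCalc
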