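import Mathlib
import Cfsg.Agent.Lib.Lead.TwG2Torus
import Cfsg.Agent.Lib.Lead.TwReePerf
import Cfsg.Agent.Lib.Lead.TwReePerfId

/-!
# `²G₂(q)` is perfect for `q > 3`
-/

set_option autoImplicit false
set_option linter.unusedSectionVars false
set_option linter.unusedSimpArgs false
set_option linter.unusedVariables false

namespace Cfsg.Agent.Lead.Tw.G2

open Cfsg Cfsg.Lie Cfsg.Agent.Lead.Chev Cfsg.Agent.Lead.ZPM
open scoped commutatorElement

section finite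

variable {K : Type*} [Field K] [Fintype K] [CharP K 3] {m : ℕ} (hK : Fintype.card K = 3 ^ (2 * m + 1))
  (hperf : ∀ x : K, ∃ y : K, y ^ 3 = x) (f : K ≃+* K) (hf : ∀ t, f t = t ^ (3 ^ m))
include hK hperf hf

omit hK hperf hf [Fintype K] [CharP K 3] in
/-- parameters of the torus element -/
def cT (m : ℕ) (u : Kˣ) : Fin chevG2.rank → Kˣ := fun i =>
  (u ^ 3 ^ m) ^ (([1, 3] : List ℤ).getD i.val 0) * u ^ (([1, 1] : List ℤ).getD i.val 0)

omit hK hperf hf [Fintype K] [CharP K 3] in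
theorem hElt_val (u : Kˣ) :
    ((hElt (m := m) u : GL chevG2.Idx K) : Matrix chevG2.Idx chevG2.Idx K) =
      Tmat chevG2 (extC chevG2 (cT m u)) := by
  rw [hElt_eq, torusHom_val]
  rfl

omit hK hperf hf [Fintype K] [CharP K 3] in
theorem chi_hElt (u : Kˣ) (r : ℕ) :
    chi chevG2 (extC chevG2 (cT m u)) r =
      ((u : K) ^ 3 ^ m * (u : K)) ^ (chevG2.cartan 0 r) *
        (((u : K) ^ 3 ^ m) ^ 3 * (u : K)) ^ (chevG2.cartan 1 r) := by
  rw [← chiU_val]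
  unfold chiU
  have h2 : ∏ i : Fin chevG2.rank, cT m u i ^ chevG2.cartan i.val r =
      cT m u ⟨0, by decide⟩ ^ chevG2.cartan 0 r * cT m u ⟨1, by decide⟩ ^ chevG2.cartan 1 r :=
    Fin.prod_univ_two _
  rw [h2]
  have c0 : cT m u ⟨0, by decide⟩ = u ^ 3 ^ m * u := by simp [cT]
  have c1 : cT m u ⟨1, by decide⟩ = (u ^ 3 ^ m) ^ 3 * u := by simp [cT]
  rw [c0, c1]
  simp only [Units.val_mul, Units.val_zpow_eq_zpow_val, Units.val_pow_eq_pow_val]

omit hK hperf hf [Fintype K] [CharP K 3] in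
theorem cartan_vals : chevG2.cartan 0 6 = -3 ∧ chevG2.cartan 1 6 = 2 ∧ chevG2.cartan 0 10 = 3 ∧
    chevG2.cartan 1 10 = -1 ∧ chevG2.cartan 0 11 = 0 ∧ chevG2.cartan 1 11 = 1 := by decide

/-- the torus parameters we can use -/
def Good (m : ℕ) (u : Kˣ) : Prop :=
  ((u : K) ^ 3 ^ m) ^ 3 ≠ (u : K) ∧ (u : K) ^ 2 ≠ 1 ∧ ((u : K) ^ 3 ^ m) ^ 3 * (u : K) ≠ 1

omit hperf hf [CharP K 3] in
theorem exists_good (hm : 1 ≤ m) : ∃ u : Kˣ, Good m u := by
  classical
  obtain ⟨g, hg⟩ := IsCyclic.exists_generator (α := Kˣ)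
  have hE : 3 ≤ 3 ^ m := by
    calc 3 = 3 ^ 1 := by norm_num
      _ ≤ 3 ^ m := Nat.pow_le_pow_right (by norm_num) hm
  have hN : 3 ^ (2 * m + 1) = 3 ^ m * 3 ^ m * 3 := by ring
  have hEE : 3 * 3 ^ m ≤ 3 ^ m * 3 ^ m := Nat.mul_le_mul_right _ hE
  have ho : orderOf g + 1 = 3 ^ m * 3 ^ m * 3 := by
    have h1 : orderOf g = Fintype.card Kˣ := by
      rw [← Nat.card_eq_fintype_card]
      exact orderOf_eq_card_of_forall_mem_zpowers hg
    rw [h1, Fintype.card_units, hK, hN]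
    have : 1 ≤ 3 ^ m * 3 ^ m * 3 := by nlinarith
    omega
  refine ⟨g, ?_, ?_, ?_⟩
  · intro h
    have h1 : g ^ (3 ^ m * 3) = g ^ 1 := by
      apply Units.ext
      rw [pow_one, Units.val_pow_eq_pow_val, pow_mul]
      exact h
    have h2 := pow_eq_pow_iff_modEq.1 h1
    have h3 := h2.eq_of_lt_of_lt (by nlinarith) (by nlinarith)
    omega
  · intro h
    have h1 : g ^ 2 = 1 := by
      apply Units.ext
      rw [Units.val_pow_eq_pow_val, Units.val_one]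
      exact h
    have h2 := Nat.le_of_dvd (by norm_num) (orderOf_dvd_of_pow_eq_one h1)
    nlinarith
  · intro h
    have h1 : g ^ (3 ^ m * 3 + 1) = 1 := by
      apply Units.ext
      rw [pow_succ, Units.val_mul, Units.val_pow_eq_pow_val, Units.val_one, pow_mul]
      exact h
    have h2 := Nat.le_of_dvd (by positivity) (orderOf_dvd_of_pow_eq_one h1)
    nlinarith

omit hK hperf hf [Fintype K] [CharP K 3] in
theorem chi6_ne (u : Kˣ) (hu : Good m u) : chi chevG2 (extC chevG2 (cT m u)) 6 - 1 ≠ 0 := by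
  rw [chi_hElt, cartan_vals.1, cartan_vals.2.1, sub_ne_zero]
  intro h
  apply hu.1
  have hu0 : (u : K) ≠ 0 := Units.ne_zero u
  have hw0 : (u : K) ^ 3 ^ m ≠ 0 := pow_ne_zero _ hu0
  set w := (u : K) ^ 3 ^ m with hw
  rw [zpow_neg, zpow_ofNat, zpow_ofNat, inv_mul_eq_one₀ (pow_ne_zero _ (mul_ne_zero hw0 hu0))] at h
  have h1 : (w ^ 3 * (u : K) ^ 2) * w ^ 3 = (w ^ 3 * (u : K) ^ 2) * (u : K) := by
    linear_combination -h
  exact mul_left_cancel₀ (mul_ne_zero (pow_ne_zero _ hw0) (pow_ne_zero _ hu0)) h1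

omit hK hperf hf [Fintype K] [CharP K 3] in
theorem chi10_ne (u : Kˣ) (hu : Good m u) : chi chevG2 (extC chevG2 (cT m u)) 10 - 1 ≠ 0 := by
  rw [chi_hElt, cartan_vals.2.2.1, cartan_vals.2.2.2.1, sub_ne_zero]
  intro h
  apply hu.2.1
  have hu0 : (u : K) ≠ 0 := Units.ne_zero u
  have hw0 : (u : K) ^ 3 ^ m ≠ 0 := pow_ne_zero _ hu0
  set w := (u : K) ^ 3 ^ m with hw
  rw [zpow_neg, zpow_one, zpow_ofNat, mul_inv_eq_one₀ (mul_ne_zero (pow_ne_zero _ hw0) hu0)] at h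
  have h1 : (w ^ 3 * (u : K)) * (u : K) ^ 2 = (w ^ 3 * (u : K)) * 1 := by
    linear_combination h
  exact mul_left_cancel₀ (mul_ne_zero (pow_ne_zero _ hw0) hu0) h1

omit hK hperf hf [Fintype K] [CharP K 3] in
theorem chi11_ne (u : Kˣ) (hu : Good m u) : chi chevG2 (extC chevG2 (cT m u)) 11 - 1 ≠ 0 := by
  rw [chi_hElt, cartan_vals.2.2.2.2.1, cartan_vals.2.2.2.2.2, sub_ne_zero, zpow_zero, one_mul, zpow_one]
  exact hu.2.2

omit hK hperf hf [Fintype K] in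
theorem comm_8_9 (a b : K) : Commute (xGL chevG2 hF.xadd 8 a) (xGL chevG2 hF.xadd 9 b) := by
  have h := wordGL_congr_val _ _ (MCalc.g2C89 b a)
  rw [wordGL_cons, wordGL_singleton, wordGL_cons, wordGL_cons, wordGL_singleton, xGL_zero, mul_one] at h
  exact h.symm

omit hK hperf hf [Fintype K] in
theorem comm_R : ∀ r ∈ [8, 9, 10, 11], ∀ s ∈ [8, 9, 10, 11], r ≠ s → ∀ a b : K,
    Commute (xGL chevG2 hF.xadd r a) (xGL chevG2 hF.xadd s b) := by
  intro r hr s hs hrs a b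
  simp only [List.mem_cons, List.not_mem_nil, or_false] at hr hs
  rcases hr with rfl | rfl | rfl | rfl <;> rcases hs with rfl | rfl | rfl | rfl
  · exact absurd rfl hrs
  · exact comm_8_9 a b
  · exact xGL_commute hF 8 10 (by decide) (by decide) (by decide) a b
  · exact xGL_commute hF 8 11 (by decide) (by decide) (by decide) a b
  · exact (comm_8_9 b a).symm
  · exact absurd rfl hrs
  · exact xGL_commute hF 9 10 (by decide) (by decide) (by decide) a b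
  · exact xGL_commute hF 9 11 (by decide) (by decide) (by decide) a b
  · exact xGL_commute hF 10 8 (by decide) (by decide) (by decide) a b
  · exact xGL_commute hF 10 9 (by decide) (by decide) (by decide) a b
  · exact absurd rfl hrs
  · exact xGL_commute hF 10 11 (by decide) (by decide) (by decide) a b
  · exact xGL_commute hF 11 8 (by decide) (by decide) (by decide) a b
  · exact xGL_commute hF 11 9 (by decide) (by decide) (by decide) a b
  · exact xGL_commute hF 11 10 (by decide) (by decide) (by decide) a b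
  · exact absurd rfl hrs

omit hK hperf hf [Fintype K] [CharP K 3] in
theorem xprod_R (γ : ℕ → K) :
    xprod hF [8, 9, 10, 11] γ =
      wordGL chevG2 hF.xadd [(6, 0), (7, 0), (8, γ 8), (9, γ 9), (10, γ 10), (11, γ 11)] := by
  rw [xprod_eq_wordGL, wordGL_cons, wordGL_cons, xGL_zero, xGL_zero, one_mul, one_mul]
  simp

omit hK hperf hf [Fintype K] [CharP K 3] in
theorem nf_eq (a1 a2 a3 a4 a5 a6 : K) :
    wordGL chevG2 hF.xadd [(6, a1), (7, a2), (8, a3), (9, a4), (10, a5), (11, a6)] =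
      xGL chevG2 hF.xadd 6 a1 * xGL chevG2 hF.xadd 7 a2 *
        xprod hF [8, 9, 10, 11] (fun r => if r = 8 then a3 else if r = 9 then a4 else if r = 10 then a5 else a6) := by
  rw [xprod_eq_wordGL, wordGL_cons, wordGL_cons, mul_assoc]
  simp

omit hK hperf hf [Fintype K] in
/-- the normal form of the fixed elements -/
theorem u_normal (t u v : K) :
    wordGL chevG2 hF.xadd (reeWordU (3 ^ m) t u v) =
      wordGL chevG2 hF.xadd [(6, t), (7, t ^ 3 ^ m), (8, t ^ (3 ^ m + 1) + u ^ 3 ^ m + 2 * t ^ 3 ^ m * t),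
        (9, t ^ (2 * 3 ^ m + 1) + v ^ 3 ^ m + 2 * (t ^ 3 ^ m) ^ 2 * t), (10, u + (t ^ 3 ^ m) ^ 3 * t),
        (11, v + (t ^ 3 ^ m) ^ 3 * t ^ 2)] :=
  wordGL_congr_val _ _ (MCalc.g2I2p (t ^ 3 ^ m) t (t ^ (3 ^ m + 1) + u ^ 3 ^ m)
    (t ^ (2 * 3 ^ m + 1) + v ^ 3 ^ m) u v)

omit hK hperf hf [Fintype K] [CharP K 3] in
theorem zero_pow_e : (0 : K) ^ 3 ^ m = 0 := zero_pow (pow_ne_zero _ (by norm_num))

/-- the subgroup `x(0, u, v)` lies in the derived group -/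
theorem u1_mem_commutator (μ : Kˣ) (hμ : Good m μ) (U V : K) :
    wordGL chevG2 hF.xadd (reeWordU (3 ^ m) 0 U V) ∈
      ⁅twistedG2 K (3 ^ m), twistedG2 K (3 ^ m)⁆ := by
  have hcl := clsData hK hperf f hf
  set c := extC chevG2 (cT m μ) with hc
  have hcne : ∀ i < chevG2.rank, c i ≠ 0 := fun i _ => extC_ne_zero chevG2 (cT m μ) i
  have hX : chi chevG2 c 10 - 1 ≠ 0 := chi10_ne μ hμ
  have hY : chi chevG2 c 11 - 1 ≠ 0 := chi11_ne μ hμ
  set u₀ := (chi chevG2 c 10 - 1)⁻¹ * U with hu₀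
  set v₀ := (chi chevG2 c 11 - 1)⁻¹ * V with hv₀
  set α : ℕ → K := fun r => if r = 8 then u₀ ^ 3 ^ m else if r = 9 then v₀ ^ 3 ^ m else
    if r = 10 then u₀ else v₀ with hα
  have h0 : (0 : K) ^ 3 ^ m = 0 := zero_pow_e
  have h0' : (0 : K) ^ (3 ^ m + 1) = 0 := zero_pow (Nat.succ_ne_zero _)
  have h0'' : (0 : K) ^ (2 * 3 ^ m + 1) = 0 := zero_pow (Nat.succ_ne_zero _)
  have hx : xprod hF [8, 9, 10, 11] α = wordGL chevG2 hF.xadd (reeWordU (3 ^ m) 0 u₀ v₀) := by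
    rw [u_normal, xprod_R, h0, h0', h0'']
    simp [hα]
  have hxG : xprod hF [8, 9, 10, 11] α ∈ twistedG2 K (3 ^ m) := by
    rw [hx]
    exact gen_mem _ (pos_mem 0 u₀ v₀)
  have hy : ⁅hElt (m := m) μ, xprod hF [8, 9, 10, 11] α⁆ ∈ ⁅twistedG2 K (3 ^ m), twistedG2 K (3 ^ m)⁆ :=
    Subgroup.commutator_mem_commutator (hElt_mem hK hperf f hf μ) hxG
  have hyG := commutator_self_le _ hy
  have hyfix := hcl.fixed _ hyG
  have e := commutator_xprod hF (hElt (m := m) μ) c hcne (hElt_val μ) [8, 9, 10, 11] (by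
    intro r hr
    simp only [List.mem_cons, List.not_mem_nil, or_false] at hr
    rcases hr with rfl | rfl | rfl | rfl <;> decide) (by decide) comm_R α
  rw [e, xprod_R] at hy hyfix
  obtain ⟨t', u', v', hT'⟩ := fix_u hK hperf f hf _ (mem_negPart_u _ _ _ _ _ _) hyfix
  rw [u_normal] at hT'
  obtain ⟨k1, -, -, -, k5, k6⟩ := inj_u _ _ _ _ _ _ _ _ _ _ _ _ hT'
  have hu' : u' = U := by
    rw [← k1, h0, zero_pow (by norm_num : 3 ≠ 0), zero_mul, add_zero] at k5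
    rw [← k5]
    simp only [hα, show ¬ (10 = 8) by decide, show ¬ (10 = 9) by decide, if_true, if_false]
    rw [hu₀, ← sub_one_mul, mul_inv_cancel_left₀ hX]
  have hv' : v' = V := by
    rw [← k1, h0, zero_pow (by norm_num : 3 ≠ 0), zero_mul, add_zero] at k6
    rw [← k6]
    simp only [hα, show ¬ (11 = 8) by decide, show ¬ (11 = 9) by decide, show ¬ (11 = 10) by decide, if_false]
    rw [hv₀, ← sub_one_mul, mul_inv_cancel_left₀ hY]
  rw [← hu', ← hv', k1, u_normal, ← hT']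
  exact hy

omit hK hperf hf [Fintype K] [CharP K 3] in
theorem chi8_eq (c : ℕ → K) (hc : ∀ i < chevG2.rank, c i ≠ 0) :
    chi chevG2 c 8 = chi chevG2 c 7 * chi chevG2 c 6 := by
  have h := chi_of_cartan (D := chevG2) c hc 8 7 6 1 (by decide)
  rw [zpow_one] at h
  exact h

omit hK hperf hf [Fintype K] [CharP K 3] in
theorem chi9_eq (c : ℕ → K) (hc : ∀ i < chevG2.rank, c i ≠ 0) :
    chi chevG2 c 9 = chi chevG2 c 7 ^ 2 * chi chevG2 c 6 := by
  have h := chi_of_cartan (D := chevG2) c hc 9 7 6 2 (by decide)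
  rw [zpow_ofNat] at h
  exact h

/-- every first coordinate occurs in the derived group -/
theorem first_mem_commutator (μ : Kˣ) (hμ : Good m μ) (T : K) :
    ∃ u₁ v₁ : K, wordGL chevG2 hF.xadd (reeWordU (3 ^ m) T u₁ v₁) ∈
      ⁅twistedG2 K (3 ^ m), twistedG2 K (3 ^ m)⁆ := by
  have hcl := clsData hK hperf f hf
  have h3 := three_eq_zero (K := K)
  set c := extC chevG2 (cT m μ) with hc
  have hcne : ∀ i < chevG2.rank, c i ≠ 0 := fun i _ => extC_ne_zero chevG2 (cT m μ) i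
  have hX : chi chevG2 c 6 - 1 ≠ 0 := chi6_ne μ hμ
  set t := (chi chevG2 c 6 - 1)⁻¹ * T with ht
  set s := t ^ 3 ^ m with hs
  have h0 : (0 : K) ^ 3 ^ m = 0 := zero_pow_e
  have hx : wordGL chevG2 hF.xadd (reeWordU (3 ^ m) t 0 0) =
      wordGL chevG2 hF.xadd [(7, s), (6, t), (8, s * t), (9, s ^ 2 * t)] := by
    show wordGL chevG2 hF.xadd [(7, s), (6, t), (8, t ^ (3 ^ m + 1) + (0 : K) ^ 3 ^ m),
      (9, t ^ (2 * 3 ^ m + 1) + (0 : K) ^ 3 ^ m), (10, 0), (11, 0)] = _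
    have e1 : t ^ (3 ^ m + 1) = s * t := by rw [pow_succ]
    have e2 : t ^ (2 * 3 ^ m + 1) = s ^ 2 * t := by rw [pow_succ, mul_comm 2 (3 ^ m), pow_mul]
    rw [h0, add_zero, add_zero, e1, e2]
    simp only [wordGL_cons, wordGL_nil, xGL_zero, one_mul, mul_one]
  have hxG : wordGL chevG2 hF.xadd [(7, s), (6, t), (8, s * t), (9, s ^ 2 * t)] ∈ twistedG2 K (3 ^ m) := by
    rw [← hx]
    exact gen_mem _ (pos_mem t 0 0)
  have hy : ⁅hElt (m := m) μ, wordGL chevG2 hF.xadd [(7, s), (6, t), (8, s * t), (9, s ^ 2 * t)]⁆ ∈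
      ⁅twistedG2 K (3 ^ m), twistedG2 K (3 ^ m)⁆ :=
    Subgroup.commutator_mem_commutator (hElt_mem hK hperf f hf μ) hxG
  have hyG := commutator_self_le _ hy
  have hyfix := hcl.fixed _ hyG
  have hinv : (wordGL chevG2 hF.xadd [(7, s), (6, t), (8, s * t), (9, s ^ 2 * t)])⁻¹ =
      wordGL chevG2 hF.xadd [(9, -(s ^ 2 * t)), (8, -(s * t)), (6, -t), (7, -s)] := by
    rw [wordGL_cons, wordGL_cons, wordGL_cons, wordGL_singleton, wordGL_cons, wordGL_cons, wordGL_cons,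
      wordGL_singleton, mul_inv_rev, mul_inv_rev, mul_inv_rev, xGL_inv, xGL_inv, xGL_inv, xGL_inv, mul_assoc,
      mul_assoc]
  set χ6 := chi chevG2 c 6 with hχ6
  set χ7 := chi chevG2 c 7 with hχ7
  have h8 : chi chevG2 c 8 = χ7 * χ6 := chi8_eq c hcne
  have h9 : chi chevG2 c 9 = χ7 ^ 2 * χ6 := chi9_eq c hcne
  have e : ⁅hElt (m := m) μ, wordGL chevG2 hF.xadd [(7, s), (6, t), (8, s * t), (9, s ^ 2 * t)]⁆ =
      wordGL chevG2 hF.xadd [(6, 2 * t + t * χ6), (7, 2 * s + s * χ7), (8, 2 * s * t + s * t * χ7),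
        (9, s ^ 2 * t + s ^ 2 * t * χ7 + s ^ 2 * t * χ7 ^ 2),
        (10, 2 * s ^ 3 * t * χ7 ^ 3 + s ^ 3 * t * χ7 ^ 3 * χ6),
        (11, s ^ 3 * t ^ 2 * χ7 ^ 3 + s ^ 3 * t ^ 2 * χ7 ^ 3 * χ6 + s ^ 3 * t ^ 2 * χ7 ^ 3 * χ6 ^ 2)] := by
    rw [commutatorElement_def, ChevFacts'.conj_wordGL hF (hElt (m := m) μ) c hcne (hElt_val μ) _ (by
      intro q hq
      simp only [List.mem_cons, List.not_mem_nil, or_false] at hq
      rcases hq with rfl | rfl | rfl | rfl <;> dsimp only <;> decide), hinv, ← wordGL_append]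
    have hm : wordGL chevG2 hF.xadd ([(7, χ7 * s), (6, χ6 * t), (8, chi chevG2 c 8 * (s * t)),
        (9, chi chevG2 c 9 * (s ^ 2 * t))] ++ [(9, -(s ^ 2 * t)), (8, -(s * t)), (6, -t), (7, -s)]) =
        wordGL chevG2 hF.xadd [(7, χ7 * s), (6, χ6 * t), (8, chi chevG2 c 8 * (s * t)),
          (9, chi chevG2 c 9 * (s ^ 2 * t) + -(s ^ 2 * t)), (8, -(s * t)), (6, -t), (7, -s)] := by
      simp only [List.cons_append, List.nil_append, wordGL_cons, wordGL_nil, mul_one]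
      rw [← mul_assoc (xGL chevG2 hF.xadd 9 _) (xGL chevG2 hF.xadd 9 _), xGL_mul]
    refine hm.trans ?_
    have a1 : χ7 * s = s * χ7 := mul_comm _ _
    have a2 : χ6 * t = t * χ6 := mul_comm _ _
    have a3 : chi chevG2 c 8 * (s * t) = s * t * χ7 * χ6 := by rw [h8]; ring
    have a4 : chi chevG2 c 9 * (s ^ 2 * t) + -(s ^ 2 * t) = 2 * s ^ 2 * t + s ^ 2 * t * χ7 ^ 2 * χ6 := by
      rw [h9]
      linear_combination (-(s ^ 2 * t)) * h3
    have a5 : -(s * t) = 2 * s * t := by linear_combination (-(s * t)) * h3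
    have a6 : -t = 2 * t := by linear_combination (-t) * h3
    have a7 : -s = 2 * s := by linear_combination (-s) * h3
    rw [a1, a2, a3, a4, a5, a6, a7]
    exact wordGL_congr_val _ _ (MCalc.g2P s t χ7 χ6)
  rw [e] at hy hyfix
  obtain ⟨t', u', v', hT'⟩ := fix_u hK hperf f hf _ (mem_negPart_u _ _ _ _ _ _) hyfix
  rw [u_normal] at hT'
  obtain ⟨k1, -, -, -, -, -⟩ := inj_u _ _ _ _ _ _ _ _ _ _ _ _ hT'
  have ht' : t' = T := by
    rw [← k1, ht]
    have : 2 * ((χ6 - 1)⁻¹ * T) + (χ6 - 1)⁻¹ * T * χ6 = (χ6 - 1) * ((χ6 - 1)⁻¹ * T) + 3 * ((χ6 - 1)⁻¹ * T) := by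
      ring
    rw [this, h3, zero_mul, add_zero, mul_inv_cancel_left₀ hX]
  refine ⟨u', v', ?_⟩
  rw [← ht', u_normal, ← hT']
  exact hy

/-- the fixed elements of `U` lie in the derived group -/
theorem u_mem_commutator (μ : Kˣ) (hμ : Good m μ) (T U V : K) :
    wordGL chevG2 hF.xadd (reeWordU (3 ^ m) T U V) ∈
      ⁅twistedG2 K (3 ^ m), twistedG2 K (3 ^ m)⁆ := by
  have hcl := clsData hK hperf f hf
  obtain ⟨u₁, v₁, h1⟩ := first_mem_commutator hK hperf f hf μ hμ T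
  set g₁ := wordGL chevG2 hF.xadd (reeWordU (3 ^ m) T u₁ v₁) with hg₁
  set g₂ := wordGL chevG2 hF.xadd (reeWordU (3 ^ m) T U V) with hg₂
  have hg₁G : g₁ ∈ twistedG2 K (3 ^ m) := gen_mem _ (pos_mem T u₁ v₁)
  have hg₂G : g₂ ∈ twistedG2 K (3 ^ m) := gen_mem _ (pos_mem T U V)
  have hzG : g₁⁻¹ * g₂ ∈ twistedG2 K (3 ^ m) := mul_mem (inv_mem hg₁G) hg₂G
  have hzfix := hcl.fixed _ hzG
  have hz : ∃ a3 a4 a5 a6 : K, g₁⁻¹ * g₂ =
      wordGL chevG2 hF.xadd [(6, 0), (7, 0), (8, a3), (9, a4), (10, a5), (11, a6)] := by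
    rw [hg₁, hg₂, u_normal, u_normal, nf_eq, nf_eq]
    rw [mul_inv_rev, mul_assoc, inv_mul_cancel_left, xprod_inv hF [8, 9, 10, 11] (by decide) comm_R,
      ← xprod_add hF [8, 9, 10, 11] (by decide) comm_R]
    exact ⟨_, _, _, _, xprod_R _⟩
  obtain ⟨a3, a4, a5, a6, hz⟩ := hz
  rw [hz] at hzfix
  obtain ⟨t', u', v', hT'⟩ := fix_u hK hperf f hf _ (mem_negPart_u _ _ _ _ _ _) hzfix
  have hT'' := hT'
  rw [u_normal] at hT''
  obtain ⟨k1, -, -, -, -, -⟩ := inj_u _ _ _ _ _ _ _ _ _ _ _ _ hT''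
  have h2 : g₁⁻¹ * g₂ ∈ ⁅twistedG2 K (3 ^ m), twistedG2 K (3 ^ m)⁆ := by
    rw [hz, hT', ← k1]
    exact u1_mem_commutator hK hperf f hf μ hμ u' v'
  have e : g₂ = g₁ * (g₁⁻¹ * g₂) := by group
  rw [e]
  exact mul_mem h1 h2

/-- the negative generators lie in the derived group -/
theorem v_mem_commutator (μ : Kˣ) (hμ : Good m μ) (T U V : K) :
    wordGL chevG2 hF.xadd (reeWordV (3 ^ m) T U V) ∈
      ⁅twistedG2 K (3 ^ m), twistedG2 K (3 ^ m)⁆ := by
  have hcl := clsData hK hperf f hf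
  set n := nWordGL chevG2 (hF (K := K)).xadd [0, 1, 0, 1, 0, 1] with hn
  have hnG : n ∈ twistedG2 K (3 ^ m) := by
    rw [hn, nWord_eq (m := m)]
    exact mul_mem (mul_mem (gen_mem _ (pos_mem 0 0 1)) (gen_mem _ (neg_mem (-1) (-1) (-1))))
      (gen_mem _ (pos_mem (-1) 0 1))
  set g := wordGL chevG2 hF.xadd (reeWordV (3 ^ m) T U V) with hg
  have hgG : g ∈ twistedG2 K (3 ^ m) := gen_mem _ (neg_mem T U V)
  have hcG : n * g * n⁻¹ ∈ twistedG2 K (3 ^ m) := mul_mem (mul_mem hnG hgG) (inv_mem hnG)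
  have hcfix := hcl.fixed _ hcG
  have hneg : n * g * n⁻¹ ∈ negPart chevG2 hF.xadd [0, 1, 0, 1, 0, 1] := by
    rw [hn, hg, reeWordV_eq]
    apply conj_wordGL_mem_negPart hF [0, 1, 0, 1, 0, 1] (by decide)
    intro q hq
    simp only [List.mem_cons, List.not_mem_nil, or_false] at hq
    rcases hq with rfl | rfl | rfl | rfl | rfl | rfl <;> dsimp only <;> decide +kernel
  obtain ⟨T', U', V', hT'⟩ := fix_u hK hperf f hf _ hneg hcfix
  have h1 : n * g * n⁻¹ ∈ ⁅twistedG2 K (3 ^ m), twistedG2 K (3 ^ m)⁆ := by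
    rw [hT']
    exact u_mem_commutator hK hperf f hf μ hμ T' U' V'
  have h2 := conj_mem_commutator _ n⁻¹ _ (inv_mem hnG) h1
  have e : n⁻¹ * (n * g * n⁻¹) * n⁻¹⁻¹ = g := by group
  rw [e] at h2
  exact h2

/-- **`²G₂(q)` is perfect for `q > 3`** -/
theorem perfect (hm : 1 ≤ m) : commutator ↥(twistedG2 K (3 ^ m)) = ⊤ := by
  apply commutator_eq_top_of_le
  obtain ⟨μ, hμ⟩ := exists_good hK hm
  unfold twistedG2 ChevalleyDatum.genSubgroup
  rw [Subgroup.closure_le]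
  rintro g ⟨w, hw, hg⟩
  have e : g = wordGL chevG2 hF.xadd w := Units.ext (by rw [hg, wordGL_val])
  rw [e]
  obtain ⟨t, u, v, rfl | rfl⟩ := hw
  · exact u_mem_commutator hK hperf f hf μ hμ t u v
  · exact v_mem_commutator hK hperf f hf μ hμ t u v

end finite

end Cfsg.Agent.Lead.Tw.G2
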