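import Mathlib
import Cfsg.Agent.Lib.Lead.TwG2Perf
import Cfsg.Agent.Lib.Lead.TwReeCard

/-!
# The subgroup `H¹` of the small Ree groups
-/

set_option autoImplicit false
set_option linter.unusedSectionVars false
set_option linter.unusedSimpArgs false
set_option linter.unusedVariables false

namespace Cfsg.Agent.Lead.Tw.G2

open Cfsg Cfsg.Lie Cfsg.Agent.Lead.Chev Cfsg.Agent.Lead.ZPM

section finite

variable {K : Type*} [Field K] [Fintype K] [CharP K 3] {m : ℕ} (hK : Fintype.card K = 3 ^ (2 * m + 1))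
  (hperf : ∀ x : K, ∃ y : K, y ^ 3 = x) (f : K ≃+* K) (hf : ∀ t, f t = t ^ (3 ^ m))
include hK hperf hf

omit hK hperf hf [Fintype K] [CharP K 3] in
/-- the parameters of the elements of `H¹` -/
def pc (m : ℕ) (y : Kˣ) : Fin chevG2.rank → Kˣ := fun i => if i.val = 0 then y ^ 3 ^ m else y

omit hK hperf hf [Fintype K] [CharP K 3] in
theorem pc_mul (a b : Kˣ) : pc m (a * b) = pc m a * pc m b := by
  funext i
  unfold pc
  simp only [Pi.mul_apply]
  split_ifs
  · rw [mul_pow]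
  · rfl

omit hK hf in
/-- the elements of `H¹` -/
noncomputable def pHom : Kˣ →* GL chevG2.Idx K :=
  (torusHom chevG2 K).comp (MonoidHom.mk' (pc m) pc_mul)

omit hK hperf hf [Fintype K] [CharP K 3] in
theorem pHom_apply (y : Kˣ) : pHom (m := m) y = torusHom chevG2 K (pc m y) := rfl

omit hK hperf hf [Fintype K] [CharP K 3] in
theorem pHom_injective : Function.Injective (pHom (m := m) (K := K)) := by
  intro a b hab
  rw [pHom_apply, pHom_apply] at hab
  have h := congrFun (torus_inj hab) ⟨1, by decide⟩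
  simpa [pc] using h

/-- every element of `H¹` has this form -/
theorem exists_param (g : GL chevG2.Idx K) (hg : g ∈ chevG2.diagonalSubgroup K ⊓ twistedG2 K (3 ^ m)) :
    ∃ y : Kˣ, g = pHom (m := m) y := by
  have h2 : g ∈ (torusHom chevG2 K).range := by
    rw [torusHom_range chevG2 (hF (K := K)).xadd (hF (K := K)).hsimple (hF (K := K)).hall
      (hF (K := K)).simple_lt]
    exact hg.1
  obtain ⟨c, rfl⟩ := h2
  have hfix := twPl_eq hK hperf f hf c hg.2
  refine ⟨c ⟨1, by decide⟩, ?_⟩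
  rw [pHom_apply]
  congr 1
  funext i
  have hi : i = ⟨0, by decide⟩ ∨ i = ⟨1, by decide⟩ := by
    rcases i with ⟨i, hi'⟩
    have hi2 : i < 2 := hi'
    interval_cases i <;> simp
  rcases hi with rfl | rfl
  · have h0 : c ⟨0, by decide⟩ = twPl f πe lamS c ⟨0, by decide⟩ := by rw [hfix]
    rw [h0]
    unfold twPl pc
    rw [pi_vals]
    have hl : lamS ⟨1, by decide⟩ = 1 := by decide
    rw [hl, pow_one]
    simp only [if_true]
    apply Units.ext
    rw [Units.coe_map, Units.val_pow_eq_pow_val]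
    exact hf _
  · simp [pc]

/-- **`H¹` is cyclic** -/
theorem isCyclic_H : IsCyclic ↥(chevG2.diagonalSubgroup K ⊓ twistedG2 K (3 ^ m)) := by
  classical
  set H1 := chevG2.diagonalSubgroup K ⊓ twistedG2 K (3 ^ m) with hH1
  have hle : H1 ≤ (pHom (m := m) (K := K)).range := by
    intro g hg
    obtain ⟨y, rfl⟩ := exists_param hK hperf f hf g hg
    exact ⟨y, rfl⟩
  have : IsCyclic ↥(pHom (m := m) (K := K)).range :=
    isCyclic_of_surjective (pHom (m := m) (K := K)).rangeRestrict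
      (pHom (m := m) (K := K)).rangeRestrict_surjective
  exact isCyclic_of_surjective (Subgroup.subgroupOfEquivOfLe hle).toMonoidHom
    (Subgroup.subgroupOfEquivOfLe hle).surjective

omit hK hperf hf [Fintype K] [CharP K 3] in
theorem pHom_val (y : Kˣ) :
    ((pHom (m := m) y : GL chevG2.Idx K) : Matrix chevG2.Idx chevG2.Idx K) =
      Tmat chevG2 (extC chevG2 (pc m y)) := by
  rw [pHom_apply, torusHom_val]

omit hK hperf hf [Fintype K] [CharP K 3] in
theorem chi_p (y : Kˣ) (r : ℕ) :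
    chi chevG2 (extC chevG2 (pc m y)) r =
      ((y : K) ^ 3 ^ m) ^ (chevG2.cartan 0 r) * (y : K) ^ (chevG2.cartan 1 r) := by
  rw [← chiU_val]
  unfold chiU
  have h2 : ∏ i : Fin chevG2.rank, pc m y i ^ chevG2.cartan i.val r =
      pc m y ⟨0, by decide⟩ ^ chevG2.cartan 0 r * pc m y ⟨1, by decide⟩ ^ chevG2.cartan 1 r :=
    Fin.prod_univ_two _
  rw [h2]
  have c0 : pc m y ⟨0, by decide⟩ = y ^ 3 ^ m := by simp [pc]
  have c1 : pc m y ⟨1, by decide⟩ = y := by simp [pc]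
  rw [c0, c1]
  simp only [Units.val_mul, Units.val_zpow_eq_zpow_val, Units.val_pow_eq_pow_val]

omit hperf in
theorem chi6p_ne (y : Kˣ) (hy : y ≠ 1) : chi chevG2 (extC chevG2 (pc m y)) 6 - 1 ≠ 0 := by
  rw [chi_p, cartan_vals.1, cartan_vals.2.1, sub_ne_zero]
  intro h
  apply hy
  have hy0 : (y : K) ≠ 0 := Units.ne_zero y
  have hw0 : (y : K) ^ 3 ^ m ≠ 0 := pow_ne_zero _ hy0
  have key := frob_key hK f hf (y : K)
  set w := (y : K) ^ 3 ^ m with hw
  rw [zpow_neg, zpow_ofNat, zpow_ofNat, inv_mul_eq_one₀ (pow_ne_zero _ hw0)] at h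
  -- h : w ^ 3 = y ^ 2
  have h2 : (y : K) = w ^ 2 := by
    have e1 : (w ^ 3 ^ m) ^ 3 = (w ^ 3) ^ 3 ^ m := pow_right_comm _ _ _
    have e2 : ((y : K) ^ 2) ^ 3 ^ m = w ^ 2 := pow_right_comm _ _ _
    rw [← key, e1, h, e2]
  have h3 : (y : K) * (y : K) = (y : K) * w := by
    have : (y : K) * w = w ^ 3 := by rw [h2]; ring
    rw [this, h]; ring
  have h4 : (y : K) = w := mul_left_cancel₀ hy0 h3
  have h5 : (y : K) * 1 = (y : K) * (y : K) := by
    rw [mul_one]
    nth_rewrite 1 [h2]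
    rw [← h4]; ring
  have h6 : (1 : K) = (y : K) := mul_left_cancel₀ hy0 h5
  apply Units.ext
  rw [Units.val_one]
  exact h6.symm

omit hperf in
theorem chi10p_ne (y : Kˣ) (hy2 : (y : K) ^ 2 ≠ 1) : chi chevG2 (extC chevG2 (pc m y)) 10 - 1 ≠ 0 := by
  rw [chi_p, cartan_vals.2.2.1, cartan_vals.2.2.2.1, sub_ne_zero]
  intro h
  apply hy2
  have hy0 : (y : K) ≠ 0 := Units.ne_zero y
  have hw0 : (y : K) ^ 3 ^ m ≠ 0 := pow_ne_zero _ hy0
  have key := frob_key hK f hf (y : K)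
  set w := (y : K) ^ 3 ^ m with hw
  rw [zpow_neg, zpow_one, zpow_ofNat, mul_inv_eq_one₀ hy0] at h
  -- h : w ^ 3 = y
  have h2 : (y : K) = w := by
    have e1 : (w ^ 3 ^ m) ^ 3 = (w ^ 3) ^ 3 ^ m := pow_right_comm _ _ _
    rw [← key, e1, h]
  have h3 : (y : K) * (y : K) ^ 2 = (y : K) * 1 := by
    rw [mul_one]
    nth_rewrite 3 [← h]
    rw [← h2]; ring
  exact mul_left_cancel₀ hy0 h3

omit hK hperf hf [Fintype K] [CharP K 3] in
theorem chi11p_ne (y : Kˣ) (hy : y ≠ 1) : chi chevG2 (extC chevG2 (pc m y)) 11 - 1 ≠ 0 := by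
  rw [chi_p, cartan_vals.2.2.2.2.1, cartan_vals.2.2.2.2.2, sub_ne_zero, zpow_zero, one_mul, zpow_one]
  intro h
  apply hy
  apply Units.ext
  rw [Units.val_one]
  exact h

/-- an element of `H¹` with parameter `y`, `y² ≠ 1`, centralises no non-identity element of `U¹` -/
theorem centralizer_trivial (y : Kˣ) (hy : y ≠ 1) (hy2 : (y : K) ^ 2 ≠ 1) (x : GL chevG2.Idx K)
    (hx : x ∈ chevG2.posUnipotent K ⊓ twistedG2 K (3 ^ m))
    (hcomm : pHom (m := m) y * x = x * pHom (m := m) y) : x = 1 := by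
  obtain ⟨t, u, v, hxv⟩ := (mem_U_iff hK hperf f hf x).1 hx
  have hx' : x = wordGL chevG2 hF.xadd (reeWordU (3 ^ m) t u v) := Units.ext (by rw [hxv, wordGL_val])
  set c := extC chevG2 (pc m y) with hc
  have hcne : ∀ i < chevG2.rank, c i ≠ 0 := fun i _ => extC_ne_zero chevG2 (pc m y) i
  have h6 : chi chevG2 c 6 - 1 ≠ 0 := chi6p_ne hK f hf y hy
  have h10 : chi chevG2 c 10 - 1 ≠ 0 := chi10p_ne hK f hf y hy2
  have h11 : chi chevG2 c 11 - 1 ≠ 0 := chi11p_ne y hy
  have hconj : pHom (m := m) y * x * (pHom (m := m) y)⁻¹ = x := by rw [hcomm]; group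
  rw [hx', u_normal, ChevFacts'.conj_wordGL hF (pHom (m := m) y) c hcne (pHom_val y) _ (by
    intro q hq
    simp only [List.mem_cons, List.not_mem_nil, or_false] at hq
    rcases hq with rfl | rfl | rfl | rfl | rfl | rfl <;> dsimp only <;> decide)] at hconj
  obtain ⟨k1, -, -, -, k5, k6⟩ := inj_u _ _ _ _ _ _ _ _ _ _ _ _ hconj
  have h0 : (0 : K) ^ 3 ^ m = 0 := zero_pow_e
  have h0' : (0 : K) ^ (3 ^ m + 1) = 0 := zero_pow (Nat.succ_ne_zero _)
  have h0'' : (0 : K) ^ (2 * 3 ^ m + 1) = 0 := zero_pow (Nat.succ_ne_zero _)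
  have ht : t = 0 := by
    have : (chi chevG2 c 6 - 1) * t = 0 := by rw [sub_one_mul, k1, sub_self]
    exact (mul_eq_zero.1 this).resolve_left h6
  subst ht
  rw [h0, zero_pow (by norm_num : 3 ≠ 0), zero_mul, add_zero] at k5 k6
  have hu : u = 0 := by
    have : (chi chevG2 c 10 - 1) * u = 0 := by rw [sub_one_mul, k5, sub_self]
    exact (mul_eq_zero.1 this).resolve_left h10
  have hv : v = 0 := by
    have : (chi chevG2 c 11 - 1) * v = 0 := by rw [sub_one_mul, k6, sub_self]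
    exact (mul_eq_zero.1 this).resolve_left h11
  subst hu hv
  rw [hx']
  show wordGL chevG2 hF.xadd [(7, (0 : K) ^ 3 ^ m), (6, 0), (8, (0 : K) ^ (3 ^ m + 1) + (0 : K) ^ 3 ^ m),
    (9, (0 : K) ^ (2 * 3 ^ m + 1) + (0 : K) ^ 3 ^ m), (10, 0), (11, 0)] = 1
  rw [h0, h0', h0'', add_zero]
  exact wordGL_zeros6 _ _ _ _ _ _

/-- **the elements of odd order of `H¹` act without fixed points on `U¹`** -/
theorem odd_centralizer (h : GL chevG2.Idx K) (hh : h ∈ chevG2.diagonalSubgroup K ⊓ twistedG2 K (3 ^ m))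
    (hne : h ≠ 1) (hodd : Odd (orderOf h)) :
    (chevG2.posUnipotent K ⊓ twistedG2 K (3 ^ m)) ⊓ Subgroup.centralizer {h} = ⊥ := by
  obtain ⟨y, rfl⟩ := exists_param hK hperf f hf h hh
  have hy : y ≠ 1 := by
    rintro rfl
    exact hne (map_one _)
  have hy2 : (y : K) ^ 2 ≠ 1 := by
    intro h2
    have h2' : y ^ 2 = 1 := by
      apply Units.ext
      rw [Units.val_pow_eq_pow_val, Units.val_one]
      exact h2
    have ho : orderOf y = orderOf (pHom (m := m) y) := (orderOf_injective _ pHom_injective y).symm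
    have hd : orderOf y ∣ 2 := orderOf_dvd_of_pow_eq_one h2'
    rw [← ho] at hodd
    have h1 : orderOf y = 1 := by
      rcases (Nat.dvd_prime Nat.prime_two).1 hd with h1 | h1
      · exact h1
      · rw [h1] at hodd
        exact absurd hodd (by decide)
    exact hy (orderOf_eq_one_iff.1 h1)
  rw [eq_bot_iff]
  intro x hx
  rw [Subgroup.mem_bot]
  obtain ⟨hx1, hxc⟩ := Subgroup.mem_inf.1 hx
  rw [Subgroup.mem_centralizer_iff] at hxc
  exact centralizer_trivial hK hperf f hf y hy hy2 x hx1 (hxc _ (Set.mem_singleton _))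

/-- **the number of elements of odd order of `H¹`** -/
theorem card_odd :
    2 * Nat.card {h : ↥(chevG2.diagonalSubgroup K ⊓ twistedG2 K (3 ^ m)) // Odd (orderOf h)} =
      3 ^ (2 * m + 1) - 1 := by
  classical
  set H1 := chevG2.diagonalSubgroup K ⊓ twistedG2 K (3 ^ m) with hH1
  have hcyc : IsCyclic ↥H1 := isCyclic_H hK hperf f hf
  have hcard : Nat.card ↥H1 = 3 ^ (2 * m + 1) - 1 := card_H hK hperf f hf
  have hq4 : 3 ^ (2 * m + 1) % 4 = 3 := by
    have := card_mod_four hK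
    rw [hK] at this
    exact this
  obtain ⟨k, hk⟩ : ∃ k, 3 ^ (2 * m + 1) - 1 = 2 * k ∧ Odd k := by
    refine ⟨(3 ^ (2 * m + 1) - 1) / 2, by omega, ?_⟩
    rw [Nat.odd_iff]
    omega
  obtain ⟨hk1, hk2⟩ := hk
  let _ : CommGroup ↥H1 := IsCyclic.commGroup
  have hiff : ∀ h : ↥H1, Odd (orderOf h) ↔ h ^ ((k : ℕ) : ℤ) = 1 := by
    intro h
    rw [zpow_natCast, ← orderOf_dvd_iff_pow_eq_one]
    constructor
    · intro ho
      have h1 : orderOf h ∣ 2 * k := by
        rw [← hk1, ← hcard]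
        exact orderOf_dvd_natCard h
      exact (Nat.Coprime.dvd_of_dvd_mul_left (Nat.Coprime.symm (Nat.coprime_two_left.2 ho)) h1)
    · intro hd
      exact Odd.of_dvd_nat hk2 hd
  have e1 : Nat.card {h : ↥H1 // Odd (orderOf h)} = Nat.card {h : ↥H1 // h ^ ((k : ℕ) : ℤ) = 1} :=
    Nat.card_congr (Equiv.subtypeEquivRight hiff)
  rw [e1, card_zpow_eq_one, hcard, hk1, Nat.gcd_mul_left_left]

end finite

end Cfsg.Agent.Lead.Tw.G2
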