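import Mathlib
import Cfsg.Agent.Lib.Lead.TwG2H
import Cfsg.Agent.Lib.Lead.TwG2CubeId

/-!
# The elements of order `3` of `U¹` in the small Ree groups
-/

set_option autoImplicit false
set_option linter.unusedSectionVars false
set_option linter.unusedSimpArgs false
set_option linter.unusedVariables false

namespace Cfsg.Agent.Lead.Tw.G2

open Cfsg Cfsg.Lie Cfsg.Agent.Lead.Chev Cfsg.Agent.Lead.ZPM

section finite

variable {K : Type*} [Field K] [Fintype K] [CharP K 3] {m : ℕ} (hK : Fintype.card K = 3 ^ (2 * m + 1))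
  (hperf : ∀ x : K, ∃ y : K, y ^ 3 = x) (f : K ≃+* K) (hf : ∀ t, f t = t ^ (3 ^ m))
include hK hperf hf

omit hK hperf hf [Fintype K] in
/-- the cube of a fixed element -/
theorem cube_eq (t u v : K) :
    (wordGL chevG2 hF.xadd (reeWordU (3 ^ m) t u v)) ^ 3 =
      wordGL chevG2 hF.xadd [(6, 0), (7, 0), (8, 0), (9, 2 * t * (t ^ 3 ^ m) ^ 2), (10, 0),
        (11, 2 * t ^ 2 * (t ^ 3 ^ m) ^ 3)] := by
  rw [u_normal, pow_three, ← wordGL_append, ← wordGL_append]
  exact wordGL_congr_val _ _ (MCalc.g2Cube _ _ _ _ _ _)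

omit hK hperf hf [Fintype K] in
theorem two_ne_zero' : (2 : K) ≠ 0 := by
  intro h
  have h3 := three_eq_zero (K := K)
  have : (1 : K) = 0 := by linear_combination h3 - h
  exact one_ne_zero this

omit hK hperf hf in
/-- the cube is trivial exactly when the first coordinate vanishes -/
theorem cube_eq_one_iff (t u v : K) :
    (wordGL chevG2 hF.xadd (reeWordU (3 ^ m) t u v)) ^ 3 = 1 ↔ t = 0 := by
  rw [cube_eq]
  constructor
  · intro h
    rw [← wordGL_zeros6 6 7 8 9 10 11] at h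
    obtain ⟨-, -, -, k4, -, -⟩ := inj_u _ _ _ _ _ _ _ _ _ _ _ _ h
    rcases mul_eq_zero.1 k4 with h1 | h1
    · rcases mul_eq_zero.1 h1 with h2 | h2
      · exact absurd h2 two_ne_zero'
      · exact h2
    · exact pow_eq_zero_iff (pow_ne_zero _ (by norm_num)) |>.1 (pow_eq_zero_iff (by norm_num) |>.1 h1)
  · rintro rfl
    rw [zero_pow_e, mul_zero, zero_mul, zero_pow (by norm_num : 2 ≠ 0), mul_zero, zero_mul]
    exact wordGL_zeros6 _ _ _ _ _ _

omit hK hperf hf in
/-- the identity among the fixed elements -/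
theorem u_eq_one_iff (t u v : K) :
    wordGL chevG2 hF.xadd (reeWordU (3 ^ m) t u v) = 1 ↔ t = 0 ∧ u = 0 ∧ v = 0 := by
  have h0 : (0 : K) ^ 3 ^ m = 0 := zero_pow_e
  constructor
  · intro h
    rw [u_normal, ← wordGL_zeros6 6 7 8 9 10 11] at h
    obtain ⟨k1, -, -, -, k5, k6⟩ := inj_u _ _ _ _ _ _ _ _ _ _ _ _ h
    subst k1
    rw [h0, zero_pow (by norm_num : 3 ≠ 0), zero_mul, add_zero] at k5 k6
    exact ⟨rfl, k5, k6⟩
  · rintro ⟨rfl, rfl, rfl⟩
    rw [u_normal]
    have h0' : (0 : K) ^ (3 ^ m + 1) = 0 := zero_pow (Nat.succ_ne_zero _)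
    have h0'' : (0 : K) ^ (2 * 3 ^ m + 1) = 0 := zero_pow (Nat.succ_ne_zero _)
    rw [h0, h0', h0'']
    simp only [add_zero, mul_zero, zero_mul, zero_pow (by norm_num : 3 ≠ 0), zero_pow (by norm_num : 2 ≠ 0)]
    exact wordGL_zeros6 _ _ _ _ _ _

omit hK hperf hf [Fintype K] in
/-- uniqueness of the parameters of the fixed elements -/
theorem u_inj (t u v t' u' v' : K)
    (h : wordGL chevG2 hF.xadd (reeWordU (3 ^ m) t u v) = wordGL chevG2 hF.xadd (reeWordU (3 ^ m) t' u' v')) :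
    t = t' ∧ u = u' ∧ v = v' := by
  rw [u_normal, u_normal] at h
  obtain ⟨k1, -, -, -, k5, k6⟩ := inj_u _ _ _ _ _ _ _ _ _ _ _ _ h
  subst k1
  exact ⟨rfl, add_right_cancel k5, add_right_cancel k6⟩

/-- **the number of elements of order `3` of `U¹`** -/
theorem card_order_three :
    Nat.card {u : ↥(chevG2.posUnipotent K ⊓ twistedG2 K (3 ^ m)) // orderOf u = 3} =
      (3 ^ (2 * m + 1)) ^ 2 - 1 := by
  classical
  set U1 := chevG2.posUnipotent K ⊓ twistedG2 K (3 ^ m) with hU1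
  have hmem : ∀ t u v : K, wordGL chevG2 hF.xadd (reeWordU (3 ^ m) t u v) ∈ U1 := fun t u v =>
    (mem_U_iff hK hperf f hf _).2 ⟨t, u, v, wordGL_val _ _ _⟩
  have hord : ∀ p : {p : K × K // p ≠ 0},
      orderOf (⟨wordGL chevG2 hF.xadd (reeWordU (3 ^ m) 0 p.1.1 p.1.2), hmem 0 p.1.1 p.1.2⟩ : ↥U1) = 3 := by
    intro p
    have : Fact (Nat.Prime 3) := ⟨Nat.prime_three⟩
    apply orderOf_eq_prime
    · apply Subtype.ext
      rw [Subgroup.coe_pow, Subgroup.coe_one]
      exact (cube_eq_one_iff 0 p.1.1 p.1.2).2 rfl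
    · intro h
      have h1 := congrArg Subtype.val h
      rw [Subgroup.coe_one] at h1
      obtain ⟨-, h2, h3⟩ := (u_eq_one_iff 0 p.1.1 p.1.2).1 h1
      exact p.2 (Prod.ext h2 h3)
  let Ψ : {p : K × K // p ≠ 0} → {u : ↥U1 // orderOf u = 3} := fun p =>
    ⟨⟨wordGL chevG2 hF.xadd (reeWordU (3 ^ m) 0 p.1.1 p.1.2), hmem 0 p.1.1 p.1.2⟩, hord p⟩
  have hΨ : Function.Bijective Ψ := by
    constructor
    · intro p p' h
      have h1 : wordGL chevG2 hF.xadd (reeWordU (3 ^ m) 0 p.1.1 p.1.2) =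
          wordGL chevG2 hF.xadd (reeWordU (3 ^ m) 0 p'.1.1 p'.1.2) :=
        congrArg (fun x : {u : ↥U1 // orderOf u = 3} => ((x : ↥U1) : GL chevG2.Idx K)) h
      obtain ⟨-, h2, h3⟩ := u_inj _ _ _ _ _ _ h1
      exact Subtype.ext (Prod.ext h2 h3)
    · rintro ⟨⟨x, hx⟩, ho⟩
      obtain ⟨t, u, v, hxv⟩ := (mem_U_iff hK hperf f hf x).1 hx
      have hx' : x = wordGL chevG2 hF.xadd (reeWordU (3 ^ m) t u v) := Units.ext (by rw [hxv, wordGL_val])
      subst hx'
      have h3 : (wordGL chevG2 hF.xadd (reeWordU (3 ^ m) t u v)) ^ 3 = 1 := by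
        have := pow_orderOf_eq_one (⟨_, hx⟩ : ↥U1)
        rw [ho] at this
        have h1 := congrArg Subtype.val this
        rw [Subgroup.coe_pow, Subgroup.coe_one] at h1
        exact h1
      have ht := (cube_eq_one_iff t u v).1 h3
      subst ht
      have hne : ((u, v) : K × K) ≠ 0 := by
        intro h
        have hu : u = 0 := congrArg Prod.fst h
        have hv : v = 0 := congrArg Prod.snd h
        subst hu hv
        have h1 : (⟨_, hx⟩ : ↥U1) = 1 := Subtype.ext ((u_eq_one_iff (m := m) (0 : K) 0 0).2 ⟨rfl, rfl, rfl⟩)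
        rw [h1, orderOf_one] at ho
        exact absurd ho (by norm_num)
      exact ⟨⟨(u, v), hne⟩, rfl⟩
  rw [← Nat.card_congr (Equiv.ofBijective Ψ hΨ)]
  have hc : Nat.card {p : K × K // p ≠ 0} = Nat.card (K × K) - 1 := by
    rw [Nat.card_eq_fintype_card, Nat.card_eq_fintype_card, Fintype.card_subtype_compl, Fintype.card_subtype_eq]
  rw [hc, Nat.card_prod, Nat.card_eq_fintype_card, hK, sq]

end finite

end Cfsg.Agent.Lead.Tw.G2
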