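import Mathlib
import Cfsg.Agent.Lib.Lead.TwG2H
import Cfsg.Agent.Lib.Lead.TwReeOrder
import Cfsg.Agent.Lib.Lead.ChevBorel

/-!
# The Sylow `3`-subgroups of the small Ree groups intersect trivially
-/

set_option autoImplicit false
set_option linter.unusedSectionVars false
set_option linter.unusedSimpArgs false
set_option linter.unusedVariables false

namespace Cfsg.Agent.Lead.Tw.G2

open Cfsg Cfsg.Lie Cfsg.Agent.Lead.Chev Cfsg.Agent.Lead.ZPM

/-- a reduced chain of copies of the longest element has at most one term -/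
theorem chain_length_le : ∀ l : List (List ℕ), (∀ v ∈ l, v ∈ S) → RedChain chevG2 l → l.length ≤ 1
  | [], _, _ => by simp
  | [v], _, _ => by simp
  | v :: v' :: l', hl, hred => by
    exfalso
    have ih := chain_length_le (v' :: l') (fun x hx => hl x (List.mem_cons_of_mem _ hx)) hred.2
    have hl' : l' = [] := by
      rcases l' with _ | ⟨a, t⟩
      · rfl
      · simp at ih
    subst hl'
    have hv : v = [0, 1, 0, 1, 0, 1] := by simpa [S] using hl v List.mem_cons_self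
    have hv' : v' = [0, 1, 0, 1, 0, 1] := by simpa [S] using hl v' (List.mem_cons_of_mem _ List.mem_cons_self)
    subst hv hv'
    have h1 := hred.1 0 (by decide) (by decide)
    revert h1
    decide +kernel

section finite

variable {K : Type*} [Field K] [Fintype K] [CharP K 3] {m : ℕ} (hK : Fintype.card K = 3 ^ (2 * m + 1))
  (hperf : ∀ x : K, ∃ y : K, y ^ 3 = x) (f : K ≃+* K) (hf : ∀ t, f t = t ^ (3 ^ m))
include hK hperf hf

/-- the two double cosets -/
theorem bruhat_cases (g : GL chevG2.Idx K) (hg : g ∈ twistedG2 K (3 ^ m)) :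
    g ∈ chevG2.borelSubgroup K ∨ ∃ b ∈ chevG2.borelSubgroup K, ∃ u ∈ chevG2.posUnipotent K,
      g = b * nWordGL chevG2 hF.xadd [0, 1, 0, 1, 0, 1] * u := by
  have hcl := clsData hK hperf f hf
  obtain ⟨l, hl, hred, b, hb, u, hu, hfix, e⟩ := hcl.exists_bruhat hS hC g hg
  have huU := hF.negPart_le_posUnipotent _ hu
  have hlen := chain_length_le l hl hred
  rcases l with _ | ⟨v, l'⟩
  · left
    rw [e]
    have : nWordGL chevG2 (hF (K := K)).xadd (wordOf []) = 1 := nWordGL_nil _ _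
    rw [this, mul_one]
    exact mul_mem hb.1 (posUnipotent_le_borel _ huU)
  · right
    have hl' : l' = [] := by
      rcases l' with _ | ⟨a, t⟩
      · rfl
      · simp at hlen
    subst hl'
    have hv : v = [0, 1, 0, 1, 0, 1] := by simpa [S] using hl v List.mem_cons_self
    subst hv
    exact ⟨b, hb.1, u, huU, e⟩

omit hK hperf hf [Fintype K] [CharP K 3] in
theorem borel_le_normalizer :
    chevG2.borelSubgroup K ≤ Subgroup.normalizer (chevG2.posUnipotent K : Set (GL chevG2.Idx K)) :=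
  sup_le Subgroup.le_normalizer (diagonalSubgroup_le_normalizer chevG2 (hF (K := K)).hall (hF (K := K)).hconj)

/-- an element of `G¹` mapping a non-identity element of `U` into `U` lies in `B` -/
theorem mem_borel_of_conj (c : GL chevG2.Idx K) (hc : c ∈ twistedG2 K (3 ^ m))
    (u : GL chevG2.Idx K) (hu : u ∈ chevG2.posUnipotent K) (hne : u ≠ 1)
    (hcu : c * u * c⁻¹ ∈ chevG2.posUnipotent K) : c ∈ chevG2.borelSubgroup K := by
  have hcl := clsData hK hperf f hf
  have hU : negPart chevG2 hF.xadd [0, 1, 0, 1, 0, 1] = chevG2.posUnipotent K :=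
    Twist.negPart_eq_posUnipotent hF _ hcl.chain_long
  rcases bruhat_cases hK hperf f hf c hc with h | ⟨b, hb, u₀, hu₀, e⟩
  · exact h
  · exfalso
    set n := nWordGL chevG2 (hF (K := K)).xadd [0, 1, 0, 1, 0, 1] with hn
    set u₂ := u₀ * u * u₀⁻¹ with hu₂
    have hu₂U : u₂ ∈ chevG2.posUnipotent K := mul_mem (mul_mem hu₀ hu) (inv_mem hu₀)
    have e1 : c * u * c⁻¹ = b * (n * u₂ * n⁻¹) * b⁻¹ := by rw [e, hu₂]; group
    rw [e1] at hcu
    have hbN := borel_le_normalizer (K := K) (inv_mem hb)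
    have h2 : n * u₂ * n⁻¹ ∈ chevG2.posUnipotent K := by
      have := (Subgroup.mem_normalizer_iff.1 hbN _).1 hcu
      have e2 : b⁻¹ * (b * (n * u₂ * n⁻¹) * b⁻¹) * b⁻¹⁻¹ = n * u₂ * n⁻¹ := by group
      rw [e2] at this
      exact this
    have hneg := ChevFacts'.conj_negPart_mem_negUnipotent hF [0, 1, 0, 1, 0, 1] (by decide) u₂ (by
      rw [hU]; exact hu₂U)
    have h3 := hF.eq_one_of_neg_mul_diag_mem_borel _ hneg 1 (one_mem _) (by
      rw [mul_one]
      exact posUnipotent_le_borel _ h2)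
    apply hne
    have h4 : u₂ = 1 := by
      have : u₂ = n⁻¹ * (n * u₂ * n⁻¹) * n := by group
      rw [this, h3]
      group
    have : u = u₀⁻¹ * u₂ * u₀ := by rw [hu₂]; group
    rw [this, h4]
    group

/-- **distinct Sylow `3`-subgroups of `²G₂(q)` intersect trivially** -/
theorem sylow_ti (P Q : Sylow 3 ↥(twistedG2 K (3 ^ m))) (hPQ : P ≠ Q) :
    (P : Subgroup ↥(twistedG2 K (3 ^ m))) ⊓ (Q : Subgroup ↥(twistedG2 K (3 ^ m))) = ⊥ := by
  classical
  have : Fact (Nat.Prime 3) := ⟨Nat.prime_three⟩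
  set U1 : Subgroup ↥(twistedG2 K (3 ^ m)) := (chevG2.posUnipotent K ⊓ twistedG2 K (3 ^ m)).subgroupOf (twistedG2 K (3 ^ m)) with hU1
  have hmemU1 : ∀ x : ↥(twistedG2 K (3 ^ m)), x ∈ U1 ↔ (x : GL chevG2.Idx K) ∈ chevG2.posUnipotent K := by
    intro x
    rw [hU1, Subgroup.mem_subgroupOf, Subgroup.mem_inf]
    exact ⟨fun h => h.1, fun h => ⟨h, x.2⟩⟩
  have hcardU : Nat.card ↥U1 = 3 ^ (3 * (2 * m + 1)) := by
    rw [hU1, Nat.card_congr (Subgroup.subgroupOfEquivOfLe (inf_le_right :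
      chevG2.posUnipotent K ⊓ twistedG2 K (3 ^ m) ≤ twistedG2 K (3 ^ m))).toEquiv, card_U hK hperf f hf, ← pow_mul, mul_comm]
  have hp : IsPGroup 3 ↥U1 := IsPGroup.of_card hcardU
  have hidx : ¬ 3 ∣ U1.index := by
    have h1 := Subgroup.card_mul_index U1
    rw [hcardU, card_group hK hperf f hf] at h1
    have hq : (3 ^ (2 * m + 1)) ^ 3 = 3 ^ (3 * (2 * m + 1)) := by rw [← pow_mul, mul_comm]
    rw [hq, mul_assoc] at h1
    have h2 := Nat.eq_of_mul_eq_mul_left (by positivity) h1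
    rw [h2]
    intro hd
    have hX : 3 ∣ 3 ^ (2 * m + 1) := dvd_pow_self 3 (by omega)
    have hY : 3 ∣ 3 ^ (3 * (2 * m + 1)) := dvd_pow_self 3 (by omega)
    have hX1 : 1 ≤ 3 ^ (2 * m + 1) := Nat.one_le_pow _ _ (by norm_num)
    rcases (Nat.Prime.dvd_mul Nat.prime_three).1 hd with h3 | h3
    · omega
    · omega
  set S₀ : Sylow 3 ↥(twistedG2 K (3 ^ m)) := hp.toSylow hidx with hS₀
  have hS₀c : (S₀ : Subgroup ↥(twistedG2 K (3 ^ m))) = U1 := rfl
  obtain ⟨a, ha⟩ := MulAction.exists_smul_eq ↥(twistedG2 K (3 ^ m)) S₀ P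
  obtain ⟨b, hb⟩ := MulAction.exists_smul_eq ↥(twistedG2 K (3 ^ m)) S₀ Q
  rw [eq_bot_iff]
  intro x hx
  rw [Subgroup.mem_bot]
  by_contra hx1
  obtain ⟨hxP, hxQ⟩ := Subgroup.mem_inf.1 hx
  rw [← ha, Sylow.coe_subgroup_smul, Subgroup.mem_pointwise_smul_iff_inv_smul_mem, hS₀c, hmemU1] at hxP
  rw [← hb, Sylow.coe_subgroup_smul, Subgroup.mem_pointwise_smul_iff_inv_smul_mem, hS₀c, hmemU1] at hxQ
  simp only [MulAut.smul_def, MulAut.conj_apply, MulAut.conj_inv_apply, inv_inv, Subgroup.coe_mul,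
    Subgroup.coe_inv] at hxP hxQ
  -- `u = a⁻¹ x a`, `u' = b⁻¹ x b`
  set u := (a : GL chevG2.Idx K)⁻¹ * (x : GL chevG2.Idx K) * (a : GL chevG2.Idx K) with hu
  set c := (b : GL chevG2.Idx K)⁻¹ * (a : GL chevG2.Idx K) with hc
  have hcG : c ∈ twistedG2 K (3 ^ m) := mul_mem (inv_mem b.2) a.2
  have hune : u ≠ 1 := by
    intro h
    apply hx1
    apply Subtype.ext
    rw [Subgroup.coe_one]
    have : (x : GL chevG2.Idx K) = (a : GL chevG2.Idx K) * u * (a : GL chevG2.Idx K)⁻¹ := by rw [hu]; group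
    rw [this, h]
    group
  have hcu : c * u * c⁻¹ ∈ chevG2.posUnipotent K := by
    have : c * u * c⁻¹ = (b : GL chevG2.Idx K)⁻¹ * (x : GL chevG2.Idx K) * (b : GL chevG2.Idx K) := by
      rw [hc, hu]; group
    rw [this]
    exact hxQ
  have hcB := mem_borel_of_conj hK hperf f hf c hcG u hxP hune hcu
  have hcN := borel_le_normalizer (K := K) hcB
  apply hPQ
  rw [← ha, ← hb]
  have hnorm : (b⁻¹ * a) • S₀ = S₀ := by
    rw [Sylow.smul_eq_iff_mem_normalizer]
    show b⁻¹ * a ∈ Subgroup.normalizer ((U1 : Subgroup ↥(twistedG2 K (3 ^ m))) : Set ↥(twistedG2 K (3 ^ m)))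
    rw [Subgroup.mem_normalizer_iff]
    intro h
    rw [hmemU1, hmemU1]
    simp only [Subgroup.coe_mul, Subgroup.coe_inv]
    exact Subgroup.mem_normalizer_iff.1 hcN _
  calc a • S₀ = b • ((b⁻¹ * a) • S₀) := by rw [smul_smul, mul_inv_cancel_left]
    _ = b • S₀ := by rw [hnorm]

end finite

end Cfsg.Agent.Lead.Tw.G2
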