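import Mathlib
import Cfsg.Agent.Lib.Lead.TwG2TI
import Cfsg.Agent.Lib.Lead.TwG2Ord3

/-!
# Three-point stabilisers in the doubly transitive action of the small Ree groups
-/

set_option autoImplicit false
set_option linter.unusedSectionVars false
set_option linter.unusedSimpArgs false
set_option linter.unusedVariables false

namespace Cfsg.Agent.Lead.Tw.G2

open Cfsg Cfsg.Lie Cfsg.Agent.Lead.Chev Cfsg.Agent.Lead.ZPM

/-- the representative of the non-trivial element of the Weyl group -/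
noncomputable abbrev n₀ (K : Type*) [Field K] : GL chevG2.Idx K :=
  nWordGL chevG2 (hF (K := K)).xadd [0, 1, 0, 1, 0, 1]

section finite

variable {K : Type*} [Field K] [Fintype K] [CharP K 3] {m : ℕ} (hK : Fintype.card K = 3 ^ (2 * m + 1))
  (hperf : ∀ x : K, ∃ y : K, y ^ 3 = x) (f : K ≃+* K) (hf : ∀ t, f t = t ^ (3 ^ m))
include hK hperf hf

omit hK hperf hf [Fintype K] [CharP K 3] in
theorem n₀_mem_monomial : n₀ K ∈ chevG2.monomialSubgroup K :=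
  nWordGL_mem_monomial chevG2 (hF (K := K)).xadd (hF (K := K)).simple_lt _ (by decide)

theorem n₀_mem : n₀ K ∈ twistedG2 K (3 ^ m) :=
  (clsData hK hperf f hf).s_mem _ (by decide)

/-- `n U n⁻¹ ∩ B = 1` -/
theorem conj_eq_one (u : GL chevG2.Idx K) (hu : u ∈ chevG2.posUnipotent K)
    (hb : n₀ K * u * (n₀ K)⁻¹ ∈ chevG2.borelSubgroup K) : u = 1 := by
  have hcl := clsData hK hperf f hf
  have hU : negPart chevG2 hF.xadd [0, 1, 0, 1, 0, 1] = chevG2.posUnipotent K :=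
    Twist.negPart_eq_posUnipotent hF _ hcl.chain_long
  have hneg := ChevFacts'.conj_negPart_mem_negUnipotent hF [0, 1, 0, 1, 0, 1] (by decide) u (by
    rw [hU]; exact hu)
  have h3 := hF.eq_one_of_neg_mul_diag_mem_borel _ hneg 1 (one_mem _) (by
    rw [mul_one]
    exact hb)
  have : u = (n₀ K)⁻¹ * (n₀ K * u * (n₀ K)⁻¹) * n₀ K := by group
  rw [this, h3]
  group

/-- the other cosets of `B¹` -/
theorem bruhat_inv (g : GL chevG2.Idx K) (hg : g ∈ twistedG2 K (3 ^ m)) (hgB : g ∉ chevG2.borelSubgroup K) :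
    ∃ u ∈ chevG2.posUnipotent K ⊓ twistedG2 K (3 ^ m), ∃ β ∈ chevG2.borelSubgroup K ⊓ twistedG2 K (3 ^ m),
      g = u * (n₀ K)⁻¹ * β := by
  have hcl := clsData hK hperf f hf
  obtain ⟨l, hl, hred, b, hb, u, hu, hfix, e⟩ := hcl.exists_bruhat hS hC g⁻¹ (inv_mem hg)
  have huU := hF.negPart_le_posUnipotent _ hu
  have huG : u ∈ twistedG2 K (3 ^ m) := (hcl.twGroup hS hC).U_le u huU hfix
  have hlen := chain_length_le l hl hred
  rcases l with _ | ⟨v, l'⟩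
  · exfalso
    apply hgB
    have : nWordGL chevG2 (hF (K := K)).xadd (wordOf []) = 1 := nWordGL_nil _ _
    rw [this, mul_one] at e
    have h1 : g⁻¹ ∈ chevG2.borelSubgroup K := by
      rw [e]
      exact mul_mem hb.1 (posUnipotent_le_borel _ huU)
    have := inv_mem h1
    rwa [inv_inv] at this
  · have hl' : l' = [] := by
      rcases l' with _ | ⟨a, t⟩
      · rfl
      · simp at hlen
    subst hl'
    have hv : v = [0, 1, 0, 1, 0, 1] := by simpa [S] using hl v List.mem_cons_self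
    subst hv
    refine ⟨u⁻¹, inv_mem ⟨huU, huG⟩, b⁻¹, inv_mem hb, ?_⟩
    have e' : g⁻¹ = b * n₀ K * u := e
    have : g = (g⁻¹)⁻¹ := (inv_inv g).symm
    rw [this, e']
    group

/-- `B ∩ n⁻¹ B n ⊆ H` -/
theorem mem_diagonal_of_conj (t : GL chevG2.Idx K) (ht : t ∈ chevG2.borelSubgroup K)
    (htn : n₀ K * t * (n₀ K)⁻¹ ∈ chevG2.borelSubgroup K) : t ∈ chevG2.diagonalSubgroup K := by
  have hnorm : chevG2.diagonalSubgroup K ≤ Subgroup.normalizer (chevG2.posUnipotent K : Set (GL chevG2.Idx K)) :=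
    diagonalSubgroup_le_normalizer chevG2 (hF (K := K)).hall (hF (K := K)).hconj
  have hx : t ∈ ((chevG2.posUnipotent K ⊔ chevG2.diagonalSubgroup K : Subgroup _) : Set _) := ht
  rw [Subgroup.coe_mul_of_right_le_normalizer_left _ _ hnorm] at hx
  obtain ⟨u, hu, h, hh, huh'⟩ := hx
  have huh : u * h = t := huh'
  have hcl := clsData hK hperf f hf
  have hU : negPart chevG2 hF.xadd [0, 1, 0, 1, 0, 1] = chevG2.posUnipotent K :=
    Twist.negPart_eq_posUnipotent hF _ hcl.chain_long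
  have hneg := ChevFacts'.conj_negPart_mem_negUnipotent hF [0, 1, 0, 1, 0, 1] (by decide) u (by
    rw [hU]; exact hu)
  have hd := hF.monomial_conj_mem_diagonal _ (n₀_mem_monomial (K := K)) h hh
  have e : n₀ K * t * (n₀ K)⁻¹ = (n₀ K * u * (n₀ K)⁻¹) * (n₀ K * h * (n₀ K)⁻¹) := by
    rw [← huh]; group
  rw [e] at htn
  have h3 := hF.eq_one_of_neg_mul_diag_mem_borel _ hneg _ hd htn
  have hu1 : u = 1 := by
    have : u = (n₀ K)⁻¹ * (n₀ K * u * (n₀ K)⁻¹) * n₀ K := by group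
    rw [this, h3]
    group
  rw [← huh, hu1, one_mul]
  exact hh

/-- an element of `H` fixing the coset of `u n⁻¹` commutes with `u` -/
theorem commute_of_conj (h : GL chevG2.Idx K) (hh : h ∈ chevG2.diagonalSubgroup K)
    (u : GL chevG2.Idx K) (hu : u ∈ chevG2.posUnipotent K)
    (hb : n₀ K * (u⁻¹ * h * u) * (n₀ K)⁻¹ ∈ chevG2.borelSubgroup K) : h * u = u * h := by
  have hus : h⁻¹ * u⁻¹ * h * u ∈ chevG2.posUnipotent K := by
    have h1 := conj_mem_posUnipotent chevG2 (hF (K := K)).hall (hF (K := K)).hconj h⁻¹ (inv_mem hh) u⁻¹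
      (inv_mem hu)
    rw [inv_inv] at h1
    exact mul_mem h1 hu
  have hd := hF.monomial_conj_mem_diagonal _ (n₀_mem_monomial (K := K)) h hh
  have e : n₀ K * (u⁻¹ * h * u) * (n₀ K)⁻¹ =
      (n₀ K * h * (n₀ K)⁻¹) * (n₀ K * (h⁻¹ * u⁻¹ * h * u) * (n₀ K)⁻¹) := by group
  rw [e] at hb
  have h2 : n₀ K * (h⁻¹ * u⁻¹ * h * u) * (n₀ K)⁻¹ ∈ chevG2.borelSubgroup K := by
    have := mul_mem (inv_mem (diagonal_le_borel chevG2 hd)) hb
    rwa [inv_mul_cancel_left] at this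
  have h3 := conj_eq_one hK hperf f hf _ hus h2
  have : h * u = u * h * (h⁻¹ * u⁻¹ * h * u) := by group
  rw [this, h3, mul_one]

/-- the core of the three-point argument -/
theorem three_point_core (a b c : GL chevG2.Idx K) (ha : a ∈ twistedG2 K (3 ^ m))
    (hb : b ∈ twistedG2 K (3 ^ m)) (hc : c ∈ twistedG2 K (3 ^ m))
    (hab : a⁻¹ * b ∉ chevG2.borelSubgroup K) (hac : a⁻¹ * c ∉ chevG2.borelSubgroup K)
    (hbc : b⁻¹ * c ∉ chevG2.borelSubgroup K) :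
    ∃ w ∈ twistedG2 K (3 ^ m), ∃ u ∈ chevG2.posUnipotent K ⊓ twistedG2 K (3 ^ m), u ≠ 1 ∧
      ∀ t ∈ twistedG2 K (3 ^ m), a⁻¹ * t * a ∈ chevG2.borelSubgroup K →
        b⁻¹ * t * b ∈ chevG2.borelSubgroup K → c⁻¹ * t * c ∈ chevG2.borelSubgroup K →
        w⁻¹ * t * w ∈ chevG2.diagonalSubgroup K ∧ (w⁻¹ * t * w) * u = u * (w⁻¹ * t * w) := by
  obtain ⟨u₁, hu₁, β₁, hβ₁, e₁⟩ := bruhat_inv hK hperf f hf (a⁻¹ * b) (mul_mem (inv_mem ha) hb) hab
  obtain ⟨u₂, hu₂, β₂, hβ₂, e₂⟩ := bruhat_inv hK hperf f hf (a⁻¹ * c) (mul_mem (inv_mem ha) hc) hac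
  have hb' : b = a * (u₁ * (n₀ K)⁻¹ * β₁) := by rw [← e₁]; group
  have hc' : c = a * (u₂ * (n₀ K)⁻¹ * β₂) := by rw [← e₂]; group
  refine ⟨a * u₁, mul_mem ha hu₁.2, u₁⁻¹ * u₂, mul_mem (inv_mem hu₁) hu₂, ?_, ?_⟩
  · intro h1
    apply hbc
    have : b⁻¹ * c = β₁⁻¹ * (n₀ K * (u₁⁻¹ * u₂) * (n₀ K)⁻¹) * β₂ := by rw [hb', hc']; group
    rw [this, h1]
    have : β₁⁻¹ * (n₀ K * 1 * (n₀ K)⁻¹) * β₂ = β₁⁻¹ * β₂ := by group
    rw [this]
    exact mul_mem (inv_mem hβ₁.1) hβ₂.1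
  · intro t ht hta htb htc
    set t₂ := (a * u₁)⁻¹ * t * (a * u₁) with ht₂
    have ht₂B : t₂ ∈ chevG2.borelSubgroup K := by
      have : t₂ = u₁⁻¹ * (a⁻¹ * t * a) * u₁ := by rw [ht₂]; group
      rw [this]
      exact mul_mem (mul_mem (inv_mem (posUnipotent_le_borel _ hu₁.1)) hta) (posUnipotent_le_borel _ hu₁.1)
    have h1 : n₀ K * t₂ * (n₀ K)⁻¹ ∈ chevG2.borelSubgroup K := by
      have : n₀ K * t₂ * (n₀ K)⁻¹ = β₁ * (b⁻¹ * t * b) * β₁⁻¹ := by rw [ht₂, hb']; group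
      rw [this]
      exact mul_mem (mul_mem hβ₁.1 htb) (inv_mem hβ₁.1)
    have hd := mem_diagonal_of_conj hK hperf f hf t₂ ht₂B h1
    refine ⟨hd, ?_⟩
    apply commute_of_conj hK hperf f hf t₂ hd _ (mul_mem (inv_mem hu₁.1) hu₂.1)
    have : n₀ K * ((u₁⁻¹ * u₂)⁻¹ * t₂ * (u₁⁻¹ * u₂)) * (n₀ K)⁻¹ = β₂ * (c⁻¹ * t * c) * β₂⁻¹ := by
      rw [ht₂, hc']; group
    rw [this]
    exact mul_mem (mul_mem hβ₂.1 htc) (inv_mem hβ₂.1)

/-- an element of `H¹` commuting with a non-identity element of `U¹` has square `1` -/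
theorem sq_eq_one_of_commute (h : GL chevG2.Idx K)
    (hh : h ∈ chevG2.diagonalSubgroup K ⊓ twistedG2 K (3 ^ m))
    (u : GL chevG2.Idx K) (hu : u ∈ chevG2.posUnipotent K ⊓ twistedG2 K (3 ^ m)) (hu1 : u ≠ 1)
    (hc : h * u = u * h) : h ^ 2 = 1 := by
  by_contra hne
  have hcard : Nat.card ↥(chevG2.diagonalSubgroup K ⊓ twistedG2 K (3 ^ m)) = 3 ^ (2 * m + 1) - 1 :=
    card_H hK hperf f hf
  have hq4 : 3 ^ (2 * m + 1) % 4 = 3 := by
    have := card_mod_four hK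
    rw [hK] at this
    exact this
  obtain ⟨k, hk1, hk2⟩ : ∃ k, 3 ^ (2 * m + 1) - 1 = 2 * k ∧ Odd k := by
    refine ⟨(3 ^ (2 * m + 1) - 1) / 2, by omega, ?_⟩
    rw [Nat.odd_iff]
    omega
  have hpow : h ^ (2 * k) = 1 := by
    have h1 : (⟨h, hh⟩ : ↥(chevG2.diagonalSubgroup K ⊓ twistedG2 K (3 ^ m))) ^
        Nat.card ↥(chevG2.diagonalSubgroup K ⊓ twistedG2 K (3 ^ m)) = 1 := pow_card_eq_one'
    rw [hcard, hk1] at h1
    have h2 := congrArg Subtype.val h1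
    rw [Subgroup.coe_pow, Subgroup.coe_one] at h2
    exact h2
  have hodd : Odd (orderOf (h ^ 2)) := by
    apply Odd.of_dvd_nat hk2
    apply orderOf_dvd_of_pow_eq_one
    rw [← pow_mul]
    exact hpow
  have h3 := odd_centralizer hK hperf f hf (h ^ 2) (pow_mem hh 2) hne hodd
  have hmem : u ∈ (chevG2.posUnipotent K ⊓ twistedG2 K (3 ^ m)) ⊓ Subgroup.centralizer {h ^ 2} := by
    refine Subgroup.mem_inf.2 ⟨hu, ?_⟩
    rw [Subgroup.mem_centralizer_iff]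
    intro g hg
    rw [Set.mem_singleton_iff] at hg
    subst hg
    have hcm : Commute h u := hc
    exact (hcm.pow_left 2).eq
  rw [h3, Subgroup.mem_bot] at hmem
  exact hu1 hmem

omit hK hperf hf [Fintype K] [CharP K 3] in
theorem mem_B1_iff (g : ↥(twistedG2 K (3 ^ m))) :
    g ∈ (chevG2.borelSubgroup K ⊓ twistedG2 K (3 ^ m)).subgroupOf (twistedG2 K (3 ^ m)) ↔
      (g : GL chevG2.Idx K) ∈ chevG2.borelSubgroup K := by
  rw [Subgroup.mem_subgroupOf, Subgroup.mem_inf]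
  exact ⟨fun h => h.1, fun h => ⟨h, g.2⟩⟩

omit hK hperf hf [Fintype K] [CharP K 3] in
theorem mem_stab_iff (t a : ↥(twistedG2 K (3 ^ m))) :
    t ∈ MulAction.stabilizer ↥(twistedG2 K (3 ^ m))
      (QuotientGroup.mk a : ↥(twistedG2 K (3 ^ m)) ⧸
        (chevG2.borelSubgroup K ⊓ twistedG2 K (3 ^ m)).subgroupOf (twistedG2 K (3 ^ m))) ↔
      (a : GL chevG2.Idx K)⁻¹ * (t : GL chevG2.Idx K) * (a : GL chevG2.Idx K) ∈ chevG2.borelSubgroup K := by
  rw [MulAction.mem_stabilizer_iff, MulAction.Quotient.smul_mk, smul_eq_mul, QuotientGroup.eq, mem_B1_iff]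
  have e : (((t * a)⁻¹ * a : ↥(twistedG2 K (3 ^ m))) : GL chevG2.Idx K) =
      ((a : GL chevG2.Idx K)⁻¹ * (t : GL chevG2.Idx K) * (a : GL chevG2.Idx K))⁻¹ := by
    simp only [Subgroup.coe_mul, Subgroup.coe_inv]
    group
  rw [e, inv_mem_iff]

omit hK hperf hf [Fintype K] [CharP K 3] in
theorem mk_ne_iff (a b : ↥(twistedG2 K (3 ^ m))) :
    (QuotientGroup.mk a : ↥(twistedG2 K (3 ^ m)) ⧸
        (chevG2.borelSubgroup K ⊓ twistedG2 K (3 ^ m)).subgroupOf (twistedG2 K (3 ^ m))) ≠ QuotientGroup.mk b ↔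
      (a : GL chevG2.Idx K)⁻¹ * (b : GL chevG2.Idx K) ∉ chevG2.borelSubgroup K := by
  rw [Ne, QuotientGroup.eq, mem_B1_iff]
  simp only [Subgroup.coe_mul, Subgroup.coe_inv]

/-- **three-point stabilisers have order at most `2`** -/
theorem card_stab_le (x y z : ↥(twistedG2 K (3 ^ m)) ⧸
      (chevG2.borelSubgroup K ⊓ twistedG2 K (3 ^ m)).subgroupOf (twistedG2 K (3 ^ m)))
    (hxy : x ≠ y) (hxz : x ≠ z) (hyz : y ≠ z) :
    Nat.card ↥(MulAction.stabilizer ↥(twistedG2 K (3 ^ m)) x ⊓ MulAction.stabilizer ↥(twistedG2 K (3 ^ m)) y ⊓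
      MulAction.stabilizer ↥(twistedG2 K (3 ^ m)) z) ≤ 2 := by
  classical
  obtain ⟨a, rfl⟩ := QuotientGroup.mk_surjective x
  obtain ⟨b, rfl⟩ := QuotientGroup.mk_surjective y
  obtain ⟨c, rfl⟩ := QuotientGroup.mk_surjective z
  rw [mk_ne_iff] at hxy hxz hyz
  obtain ⟨w, hw, u, hu, hu1, key⟩ := three_point_core hK hperf f hf a.1 b.1 c.1 a.2 b.2 c.2 hxy hxz hyz
  set H1 := chevG2.diagonalSubgroup K ⊓ twistedG2 K (3 ^ m) with hH1
  have hcyc : IsCyclic ↥H1 := isCyclic_H hK hperf f hf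
  have hcard : Nat.card ↥H1 = 3 ^ (2 * m + 1) - 1 := card_H hK hperf f hf
  let _ : CommGroup ↥H1 := IsCyclic.commGroup
  set T := MulAction.stabilizer ↥(twistedG2 K (3 ^ m)) (QuotientGroup.mk a : ↥(twistedG2 K (3 ^ m)) ⧸
      (chevG2.borelSubgroup K ⊓ twistedG2 K (3 ^ m)).subgroupOf (twistedG2 K (3 ^ m))) ⊓
    MulAction.stabilizer ↥(twistedG2 K (3 ^ m)) (QuotientGroup.mk b : ↥(twistedG2 K (3 ^ m)) ⧸
      (chevG2.borelSubgroup K ⊓ twistedG2 K (3 ^ m)).subgroupOf (twistedG2 K (3 ^ m))) ⊓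
    MulAction.stabilizer ↥(twistedG2 K (3 ^ m)) (QuotientGroup.mk c : ↥(twistedG2 K (3 ^ m)) ⧸
      (chevG2.borelSubgroup K ⊓ twistedG2 K (3 ^ m)).subgroupOf (twistedG2 K (3 ^ m))) with hT
  have hprop : ∀ t : ↥T, w⁻¹ * ((t : ↥(twistedG2 K (3 ^ m))) : GL chevG2.Idx K) * w ∈ H1 ∧
      (w⁻¹ * ((t : ↥(twistedG2 K (3 ^ m))) : GL chevG2.Idx K) * w) * u =
        u * (w⁻¹ * ((t : ↥(twistedG2 K (3 ^ m))) : GL chevG2.Idx K) * w) := by
    intro t
    obtain ⟨h12, h3⟩ := Subgroup.mem_inf.1 t.2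
    obtain ⟨h1, h2⟩ := Subgroup.mem_inf.1 h12
    rw [mem_stab_iff] at h1 h2 h3
    obtain ⟨k1, k2⟩ := key _ t.1.2 h1 h2 h3
    exact ⟨Subgroup.mem_inf.2 ⟨k1, mul_mem (mul_mem (inv_mem hw) t.1.2) hw⟩, k2⟩
  let ι : ↥T → {h : ↥H1 // h ^ ((2 : ℕ) : ℤ) = 1} := fun t =>
    ⟨⟨w⁻¹ * ((t : ↥(twistedG2 K (3 ^ m))) : GL chevG2.Idx K) * w, (hprop t).1⟩, by
      rw [zpow_natCast]
      apply Subtype.ext
      rw [Subgroup.coe_pow, Subgroup.coe_one]
      exact sq_eq_one_of_commute hK hperf f hf _ (hprop t).1 u hu hu1 (hprop t).2⟩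
  have hι : Function.Injective ι := by
    intro t t' h
    have h1 : w⁻¹ * ((t : ↥(twistedG2 K (3 ^ m))) : GL chevG2.Idx K) * w =
        w⁻¹ * ((t' : ↥(twistedG2 K (3 ^ m))) : GL chevG2.Idx K) * w :=
      congrArg (fun x : {h : ↥H1 // h ^ ((2 : ℕ) : ℤ) = 1} => ((x : ↥H1) : GL chevG2.Idx K)) h
    have h2 : ((t : ↥(twistedG2 K (3 ^ m))) : GL chevG2.Idx K) = ((t' : ↥(twistedG2 K (3 ^ m))) : GL chevG2.Idx K) :=
      mul_left_cancel (mul_right_cancel h1)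
    exact Subtype.ext (Subtype.ext h2)
  have h1 := Nat.card_le_card_of_injective ι hι
  rw [card_zpow_eq_one] at h1
  exact h1.trans (Nat.gcd_le_right _ (by norm_num))

omit hK hperf hf [Fintype K] in
theorem neg_one_ne_one : (-1 : Kˣ) ≠ 1 := by
  intro h
  have h1 : ((-1 : Kˣ) : K) = ((1 : Kˣ) : K) := by rw [h]
  rw [Units.val_neg, Units.val_one] at h1
  have h3 := three_eq_zero (K := K)
  have : (1 : K) = 0 := by linear_combination h3 + h1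
  exact one_ne_zero this

omit hK hperf hf [Fintype K] [CharP K 3] in
theorem zElt_eq_pHom : (zElt : GL chevG2.Idx K) = pHom (m := m) (-1 : Kˣ) := by
  rw [zElt_eq, pHom_apply]
  congr 1
  funext i
  have hi : i = ⟨0, by decide⟩ ∨ i = ⟨1, by decide⟩ := by
    rcases i with ⟨i, hi'⟩
    have hi2 : i < 2 := hi'
    interval_cases i <;> simp
  have hodd : (-1 : Kˣ) ^ 3 ^ m = -1 := Odd.neg_one_pow (Odd.pow (by decide))
  rcases hi with rfl | rfl
  · simp [pc, hodd]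
  · simp [pc]

/-- the element of `U¹` centralised by the involution of `H¹` -/
noncomputable def u₀ (K : Type*) [Field K] (m : ℕ) : GL chevG2.Idx K :=
  wordGL chevG2 hF.xadd (reeWordU (3 ^ m) (0 : K) 1 0)

omit hK hperf hf [Fintype K] in
theorem u₀_eq : u₀ K m = wordGL chevG2 hF.xadd [(6, 0), (7, 0), (8, 1), (9, 0), (10, 1), (11, 0)] := by
  unfold u₀
  rw [u_normal]
  have h0 : (0 : K) ^ 3 ^ m = 0 := zero_pow_e
  have h0' : (0 : K) ^ (3 ^ m + 1) = 0 := zero_pow (Nat.succ_ne_zero _)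
  have h0'' : (0 : K) ^ (2 * 3 ^ m + 1) = 0 := zero_pow (Nat.succ_ne_zero _)
  rw [h0, h0', h0'']
  simp

theorem u₀_mem : u₀ K m ∈ chevG2.posUnipotent K ⊓ twistedG2 K (3 ^ m) :=
  (mem_U_iff hK hperf f hf _).2 ⟨0, 1, 0, wordGL_val _ _ _⟩

omit hK hperf hf in
theorem u₀_ne : u₀ K m ≠ 1 := by
  intro h
  have := (u_eq_one_iff (m := m) (0 : K) 1 0).1 h
  exact one_ne_zero this.2.1

omit hK hperf hf [Fintype K] in
/-- the involution of `H¹` centralises `u₀` -/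
theorem zElt_commute : (zElt : GL chevG2.Idx K) * u₀ K m = u₀ K m * zElt := by
  have hcne : ∀ i < chevG2.rank, extC chevG2 (pc m (-1 : Kˣ)) i ≠ 0 :=
    fun i _ => extC_ne_zero chevG2 (pc m (-1 : Kˣ)) i
  have hodd : (-1 : K) ^ 3 ^ m = -1 := Odd.neg_one_pow (Odd.pow (by decide))
  have c8 : chi chevG2 (extC chevG2 (pc m (-1 : Kˣ))) 8 = 1 := by
    rw [chi_p, Units.val_neg, Units.val_one, hodd]
    have : chevG2.cartan 0 8 = -1 ∧ chevG2.cartan 1 8 = 1 := by decide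
    rw [this.1, this.2]
    norm_num
  have c10 : chi chevG2 (extC chevG2 (pc m (-1 : Kˣ))) 10 = 1 := by
    rw [chi_p, Units.val_neg, Units.val_one, hodd, cartan_vals.2.2.1, cartan_vals.2.2.2.1]
    norm_num
  have hconj : (zElt : GL chevG2.Idx K) * u₀ K m * (zElt : GL chevG2.Idx K)⁻¹ = u₀ K m := by
    rw [zElt_eq_pHom (m := m), u₀_eq, ChevFacts'.conj_wordGL hF (pHom (m := m) (-1 : Kˣ)) _ hcne (pHom_val _) _ (by
      intro q hq
      simp only [List.mem_cons, List.not_mem_nil, or_false] at hq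
      rcases hq with rfl | rfl | rfl | rfl | rfl | rfl <;> dsimp only <;> decide)]
    simp only [List.map_cons, List.map_nil, mul_zero, mul_one, c8, c10]
  have : (zElt : GL chevG2.Idx K) * u₀ K m = (zElt * u₀ K m * (zElt : GL chevG2.Idx K)⁻¹) * zElt := by group
  rw [this, hconj]

/-- **some three-point stabiliser has order `2`** -/
theorem exists_card_stab_eq :
    ∃ x y z : ↥(twistedG2 K (3 ^ m)) ⧸
      (chevG2.borelSubgroup K ⊓ twistedG2 K (3 ^ m)).subgroupOf (twistedG2 K (3 ^ m)),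
      x ≠ y ∧ x ≠ z ∧ y ≠ z ∧
      Nat.card ↥(MulAction.stabilizer ↥(twistedG2 K (3 ^ m)) x ⊓ MulAction.stabilizer ↥(twistedG2 K (3 ^ m)) y ⊓
        MulAction.stabilizer ↥(twistedG2 K (3 ^ m)) z) = 2 := by
  classical
  have hn := n₀_mem hK hperf f hf
  have hu := u₀_mem hK hperf f hf
  have hnB : (n₀ K)⁻¹ ∉ chevG2.borelSubgroup K := by
    intro h
    have h1 : n₀ K ∈ chevG2.borelSubgroup K := by
      have := inv_mem h
      rwa [inv_inv] at this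
    have h2 : n₀ K * u₀ K m * (n₀ K)⁻¹ ∈ chevG2.borelSubgroup K :=
      mul_mem (mul_mem h1 (posUnipotent_le_borel _ hu.1)) h
    exact u₀_ne (conj_eq_one hK hperf f hf _ hu.1 h2)
  set a : ↥(twistedG2 K (3 ^ m)) := 1 with ha
  set b : ↥(twistedG2 K (3 ^ m)) := ⟨(n₀ K)⁻¹, inv_mem hn⟩ with hb
  set c : ↥(twistedG2 K (3 ^ m)) := ⟨u₀ K m * (n₀ K)⁻¹, mul_mem hu.2 (inv_mem hn)⟩ with hc
  have hxy : (QuotientGroup.mk a : ↥(twistedG2 K (3 ^ m)) ⧸
      (chevG2.borelSubgroup K ⊓ twistedG2 K (3 ^ m)).subgroupOf (twistedG2 K (3 ^ m))) ≠ QuotientGroup.mk b := by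
    rw [mk_ne_iff]
    show (1 : GL chevG2.Idx K)⁻¹ * (n₀ K)⁻¹ ∉ _
    rw [inv_one, one_mul]
    exact hnB
  have hxz : (QuotientGroup.mk a : ↥(twistedG2 K (3 ^ m)) ⧸
      (chevG2.borelSubgroup K ⊓ twistedG2 K (3 ^ m)).subgroupOf (twistedG2 K (3 ^ m))) ≠ QuotientGroup.mk c := by
    rw [mk_ne_iff]
    show (1 : GL chevG2.Idx K)⁻¹ * (u₀ K m * (n₀ K)⁻¹) ∉ _
    rw [inv_one, one_mul]
    intro h
    apply hnB
    have := mul_mem (inv_mem (posUnipotent_le_borel _ hu.1)) h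
    rwa [inv_mul_cancel_left] at this
  have hyz : (QuotientGroup.mk b : ↥(twistedG2 K (3 ^ m)) ⧸
      (chevG2.borelSubgroup K ⊓ twistedG2 K (3 ^ m)).subgroupOf (twistedG2 K (3 ^ m))) ≠ QuotientGroup.mk c := by
    rw [mk_ne_iff]
    show ((n₀ K)⁻¹)⁻¹ * (u₀ K m * (n₀ K)⁻¹) ∉ _
    rw [inv_inv, ← mul_assoc]
    intro h
    exact u₀_ne (conj_eq_one hK hperf f hf _ hu.1 h)
  refine ⟨_, _, _, hxy, hxz, hyz, ?_⟩
  apply le_antisymm (card_stab_le hK hperf f hf _ _ _ hxy hxz hyz)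
  have hzG : (zElt : GL chevG2.Idx K) ∈ twistedG2 K (3 ^ m) := zElt_mem
  have hzH : (zElt : GL chevG2.Idx K) ∈ chevG2.diagonalSubgroup K := zElt_mem_diagonal
  have hzn : n₀ K * zElt * (n₀ K)⁻¹ ∈ chevG2.borelSubgroup K :=
    diagonal_le_borel chevG2 (hF.monomial_conj_mem_diagonal _ (n₀_mem_monomial (K := K)) _ hzH)
  have hzT : (⟨zElt, hzG⟩ : ↥(twistedG2 K (3 ^ m))) ∈
      MulAction.stabilizer ↥(twistedG2 K (3 ^ m)) (QuotientGroup.mk a : ↥(twistedG2 K (3 ^ m)) ⧸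
        (chevG2.borelSubgroup K ⊓ twistedG2 K (3 ^ m)).subgroupOf (twistedG2 K (3 ^ m))) ⊓
      MulAction.stabilizer ↥(twistedG2 K (3 ^ m)) (QuotientGroup.mk b : ↥(twistedG2 K (3 ^ m)) ⧸
        (chevG2.borelSubgroup K ⊓ twistedG2 K (3 ^ m)).subgroupOf (twistedG2 K (3 ^ m))) ⊓
      MulAction.stabilizer ↥(twistedG2 K (3 ^ m)) (QuotientGroup.mk c : ↥(twistedG2 K (3 ^ m)) ⧸
        (chevG2.borelSubgroup K ⊓ twistedG2 K (3 ^ m)).subgroupOf (twistedG2 K (3 ^ m))) := by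
    refine Subgroup.mem_inf.2 ⟨Subgroup.mem_inf.2 ⟨?_, ?_⟩, ?_⟩
    · rw [mem_stab_iff]
      show (1 : GL chevG2.Idx K)⁻¹ * zElt * 1 ∈ _
      rw [inv_one, one_mul, mul_one]
      exact diagonal_le_borel chevG2 hzH
    · rw [mem_stab_iff]
      show ((n₀ K)⁻¹)⁻¹ * zElt * (n₀ K)⁻¹ ∈ _
      rw [inv_inv]
      exact hzn
    · rw [mem_stab_iff]
      show (u₀ K m * (n₀ K)⁻¹)⁻¹ * zElt * (u₀ K m * (n₀ K)⁻¹) ∈ _
      have e : (u₀ K m * (n₀ K)⁻¹)⁻¹ * zElt * (u₀ K m * (n₀ K)⁻¹) =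
          n₀ K * ((u₀ K m)⁻¹ * (zElt * u₀ K m)) * (n₀ K)⁻¹ := by group
      rw [e, zElt_commute (m := m), inv_mul_cancel_left]
      exact hzn
  have hne : (⟨⟨zElt, hzG⟩, hzT⟩ : ↥(MulAction.stabilizer ↥(twistedG2 K (3 ^ m)) (QuotientGroup.mk a :
        ↥(twistedG2 K (3 ^ m)) ⧸ (chevG2.borelSubgroup K ⊓ twistedG2 K (3 ^ m)).subgroupOf (twistedG2 K (3 ^ m))) ⊓
      MulAction.stabilizer ↥(twistedG2 K (3 ^ m)) (QuotientGroup.mk b : ↥(twistedG2 K (3 ^ m)) ⧸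
        (chevG2.borelSubgroup K ⊓ twistedG2 K (3 ^ m)).subgroupOf (twistedG2 K (3 ^ m))) ⊓
      MulAction.stabilizer ↥(twistedG2 K (3 ^ m)) (QuotientGroup.mk c : ↥(twistedG2 K (3 ^ m)) ⧸
        (chevG2.borelSubgroup K ⊓ twistedG2 K (3 ^ m)).subgroupOf (twistedG2 K (3 ^ m))))) ≠ 1 := by
    intro h
    have h1 : (zElt : GL chevG2.Idx K) = 1 := congrArg Subtype.val (congrArg Subtype.val h)
    rw [zElt_eq_pHom (m := m)] at h1
    have h2 : pHom (m := m) (-1 : Kˣ) = pHom (m := m) (1 : Kˣ) := by rw [h1, map_one]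
    exact neg_one_ne_one (pHom_injective h2)
  have hnt := Finite.one_lt_card_iff_nontrivial.2 ⟨⟨_, _, hne⟩⟩
  exact hnt

end finite

end Cfsg.Agent.Lead.Tw.G2
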