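import Mathlib
import Cfsg.Agent.Lib.Lead.TwG2Stab
import Cfsg.Agent.Lib.Lead.TwG2GenId

/-!
# The small Ree groups are generated by two elements
-/

set_option autoImplicit false
set_option linter.unusedSectionVars false
set_option linter.unusedSimpArgs false
set_option linter.unusedVariables false

namespace Cfsg.Agent.Lead.Tw.G2

open Cfsg Cfsg.Lie Cfsg.Agent.Lead.Chev Cfsg.Agent.Lead.ZPM
open scoped commutatorElement

section finite

variable {K : Type*} [Field K] [Fintype K] [CharP K 3] {m : ℕ} (hK : Fintype.card K = 3 ^ (2 * m + 1))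
  (hperf : ∀ x : K, ∃ y : K, y ^ 3 = x) (f : K ≃+* K) (hf : ∀ t, f t = t ^ (3 ^ m))
include hK hperf hf

/-- `H¹` is the image of `pHom` -/
theorem range_pHom :
    (pHom (m := m) (K := K)).range = chevG2.diagonalSubgroup K ⊓ twistedG2 K (3 ^ m) := by
  classical
  symm
  apply Subgroup.eq_of_le_of_card_ge
  · intro g hg
    obtain ⟨y, rfl⟩ := exists_param hK hperf f hf g hg
    exact ⟨y, rfl⟩
  · rw [card_H hK hperf f hf, Nat.card_congr (MonoidHom.ofInjective (pHom_injective (m := m) (K := K))).symm.toEquiv,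
      Nat.card_eq_fintype_card, Fintype.card_units, hK]

theorem pHom_mem (y : Kˣ) : pHom (m := m) y ∈ chevG2.diagonalSubgroup K ⊓ twistedG2 K (3 ^ m) := by
  rw [← range_pHom hK hperf f hf]
  exact ⟨y, rfl⟩

omit hK hperf hf [Fintype K] [CharP K 3] in
theorem cartan_vals7 : chevG2.cartan 0 7 = 2 ∧ chevG2.cartan 1 7 = -1 := by decide

/-- the parameter with `χ₆ = s` -/
def ys (m : ℕ) (s : Kˣ) : Kˣ := (s ^ 3 ^ m) ^ 3 * s ^ 2

/-- the parameter with `χ₁₀ = r²` -/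
def yr (m : ℕ) (r : Kˣ) : Kˣ := (r ^ 3 ^ m) ^ 3 * r

omit hperf in
theorem ys_pow (s : Kˣ) : ((ys m s : Kˣ) : K) ^ 3 ^ m = (s : K) * ((s : K) ^ 3 ^ m) ^ 2 := by
  have key := frob_key hK f hf (s : K)
  unfold ys
  rw [Units.val_mul, Units.val_pow_eq_pow_val, Units.val_pow_eq_pow_val, Units.val_pow_eq_pow_val, mul_pow,
    pow_right_comm _ 3 (3 ^ m), key, pow_right_comm _ 2 (3 ^ m)]

omit hperf in
theorem yr_pow (r : Kˣ) : ((yr m r : Kˣ) : K) ^ 3 ^ m = (r : K) * ((r : K) ^ 3 ^ m) := by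
  have key := frob_key hK f hf (r : K)
  unfold yr
  rw [Units.val_mul, Units.val_pow_eq_pow_val, Units.val_pow_eq_pow_val, mul_pow,
    pow_right_comm _ 3 (3 ^ m), key]

omit hperf in
theorem chi6_ys (s : Kˣ) : chi chevG2 (extC chevG2 (pc m (ys m s))) 6 = (s : K) := by
  rw [chi_p, ys_pow hK f hf, cartan_vals.1, cartan_vals.2.1]
  have hs0 : (s : K) ≠ 0 := Units.ne_zero s
  have hσ0 : (s : K) ^ 3 ^ m ≠ 0 := pow_ne_zero _ hs0
  unfold ys
  rw [Units.val_mul, Units.val_pow_eq_pow_val, Units.val_pow_eq_pow_val, Units.val_pow_eq_pow_val]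
  set σ := (s : K) ^ 3 ^ m with hσ
  rw [zpow_neg, zpow_ofNat, zpow_ofNat]
  field_simp

omit hperf in
theorem chi7_ys (s : Kˣ) : chi chevG2 (extC chevG2 (pc m (ys m s))) 7 = (s : K) ^ 3 ^ m := by
  rw [chi_p, ys_pow hK f hf, cartan_vals7.1, cartan_vals7.2]
  have hs0 : (s : K) ≠ 0 := Units.ne_zero s
  have hσ0 : (s : K) ^ 3 ^ m ≠ 0 := pow_ne_zero _ hs0
  unfold ys
  rw [Units.val_mul, Units.val_pow_eq_pow_val, Units.val_pow_eq_pow_val, Units.val_pow_eq_pow_val]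
  set σ := (s : K) ^ 3 ^ m with hσ
  rw [zpow_neg, zpow_one, zpow_ofNat]
  field_simp

omit hperf in
theorem chi10_yr (r : Kˣ) : chi chevG2 (extC chevG2 (pc m (yr m r))) 10 = (r : K) ^ 2 := by
  rw [chi_p, yr_pow hK f hf, cartan_vals.2.2.1, cartan_vals.2.2.2.1]
  have hr0 : (r : K) ≠ 0 := Units.ne_zero r
  have hρ0 : (r : K) ^ 3 ^ m ≠ 0 := pow_ne_zero _ hr0
  unfold yr
  rw [Units.val_mul, Units.val_pow_eq_pow_val, Units.val_pow_eq_pow_val]
  set ρ := (r : K) ^ 3 ^ m with hρ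
  rw [zpow_neg, zpow_one, zpow_ofNat]
  field_simp

omit hK hperf hf [Fintype K] in
/-- the commutator of a diagonal element with `x(t, 0, 0)` -/
theorem comm_h_x (h : GL chevG2.Idx K) (c : ℕ → K) (hcne : ∀ i < chevG2.rank, c i ≠ 0)
    (hh : (h : Matrix chevG2.Idx chevG2.Idx K) = Tmat chevG2 c) (s t : K) :
    ⁅h, wordGL chevG2 hF.xadd [(7, s), (6, t), (8, s * t), (9, s ^ 2 * t)]⁆ =
      wordGL chevG2 hF.xadd [(6, 2 * t + t * chi chevG2 c 6), (7, 2 * s + s * chi chevG2 c 7),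
        (8, 2 * s * t + s * t * chi chevG2 c 7),
        (9, s ^ 2 * t + s ^ 2 * t * chi chevG2 c 7 + s ^ 2 * t * chi chevG2 c 7 ^ 2),
        (10, 2 * s ^ 3 * t * chi chevG2 c 7 ^ 3 + s ^ 3 * t * chi chevG2 c 7 ^ 3 * chi chevG2 c 6),
        (11, s ^ 3 * t ^ 2 * chi chevG2 c 7 ^ 3 + s ^ 3 * t ^ 2 * chi chevG2 c 7 ^ 3 * chi chevG2 c 6 +
          s ^ 3 * t ^ 2 * chi chevG2 c 7 ^ 3 * chi chevG2 c 6 ^ 2)] := by
  have h3 := three_eq_zero (K := K)
  have hinv : (wordGL chevG2 hF.xadd [(7, s), (6, t), (8, s * t), (9, s ^ 2 * t)])⁻¹ =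
      wordGL chevG2 hF.xadd [(9, -(s ^ 2 * t)), (8, -(s * t)), (6, -t), (7, -s)] := by
    rw [wordGL_cons, wordGL_cons, wordGL_cons, wordGL_singleton, wordGL_cons, wordGL_cons, wordGL_cons,
      wordGL_singleton, mul_inv_rev, mul_inv_rev, mul_inv_rev, xGL_inv, xGL_inv, xGL_inv, xGL_inv, mul_assoc,
      mul_assoc]
  set χ6 := chi chevG2 c 6 with hχ6
  set χ7 := chi chevG2 c 7 with hχ7
  have h8 : chi chevG2 c 8 = χ7 * χ6 := chi8_eq c hcne
  have h9 : chi chevG2 c 9 = χ7 ^ 2 * χ6 := chi9_eq c hcne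
  rw [commutatorElement_def, ChevFacts'.conj_wordGL hF h c hcne hh _ (by
    intro q hq
    simp only [List.mem_cons, List.not_mem_nil, or_false] at hq
    rcases hq with rfl | rfl | rfl | rfl <;> dsimp only <;> decide), hinv, ← wordGL_append]
  have hm : wordGL chevG2 hF.xadd ([(7, χ7 * s), (6, χ6 * t), (8, chi chevG2 c 8 * (s * t)),
      (9, chi chevG2 c 9 * (s ^ 2 * t))] ++ [(9, -(s ^ 2 * t)), (8, -(s * t)), (6, -t), (7, -s)]) =
      wordGL chevG2 hF.xadd [(7, χ7 * s), (6, χ6 * t), (8, chi chevG2 c 8 * (s * t)),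
        (9, chi chevG2 c 9 * (s ^ 2 * t) + -(s ^ 2 * t)), (8, -(s * t)), (6, -t), (7, -s)] := by
    simp only [List.cons_append, List.nil_append, wordGL_cons, wordGL_nil, mul_one]
    rw [← mul_assoc (xGL chevG2 hF.xadd 9 _) (xGL chevG2 hF.xadd 9 _), xGL_mul]
  refine hm.trans ?_
  have a1 : χ7 * s = s * χ7 := mul_comm _ _
  have a2 : χ6 * t = t * χ6 := mul_comm _ _
  have a3 : chi chevG2 c 8 * (s * t) = s * t * χ7 * χ6 := by rw [h8]; ring
  have a4 : chi chevG2 c 9 * (s ^ 2 * t) + -(s ^ 2 * t) = 2 * s ^ 2 * t + s ^ 2 * t * χ7 ^ 2 * χ6 := by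
    rw [h9]
    linear_combination (-(s ^ 2 * t)) * h3
  have a5 : -(s * t) = 2 * s * t := by linear_combination (-(s * t)) * h3
  have a6 : -t = 2 * t := by linear_combination (-t) * h3
  have a7 : -s = 2 * s := by linear_combination (-s) * h3
  rw [a1, a2, a3, a4, a5, a6, a7]
  exact wordGL_congr_val _ _ (MCalc.g2P s t χ7 χ6)

/-- the normal form of `[h, x(1,0,0)]` -/
def wNF (l k : K) : List (ℕ × K) :=
  [(6, 2 + l), (7, 2 + k), (8, 2 + k), (9, 1 + k + k ^ 2), (10, 2 * k ^ 3 + l * k ^ 3),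
    (11, k ^ 3 + l * k ^ 3 + l ^ 2 * k ^ 3)]

/-- the element `x(1, 0, 0)` -/
noncomputable def u₁ (K : Type*) [Field K] (m : ℕ) : GL chevG2.Idx K :=
  wordGL chevG2 hF.xadd (reeWordU (3 ^ m) (1 : K) 0 0)

omit hK hperf hf [Fintype K] [CharP K 3] in
theorem u₁_eq : u₁ K m = wordGL chevG2 hF.xadd [(7, 1), (6, 1), (8, 1 * 1), (9, 1 ^ 2 * 1)] := by
  unfold u₁
  have h0 : (0 : K) ^ 3 ^ m = 0 := zero_pow_e
  show wordGL chevG2 hF.xadd [(7, (1 : K) ^ 3 ^ m), (6, 1), (8, (1 : K) ^ (3 ^ m + 1) + (0 : K) ^ 3 ^ m),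
    (9, (1 : K) ^ (2 * 3 ^ m + 1) + (0 : K) ^ 3 ^ m), (10, 0), (11, 0)] = _
  rw [h0, one_pow, one_pow, one_pow, add_zero]
  simp only [wordGL_cons, wordGL_nil, xGL_zero, one_mul, mul_one, one_pow]

theorem u₁_mem : u₁ K m ∈ chevG2.posUnipotent K ⊓ twistedG2 K (3 ^ m) :=
  (mem_U_iff hK hperf f hf _).2 ⟨1, 0, 0, wordGL_val _ _ _⟩

omit hK hperf hf [Fintype K] in
theorem w_eq (y : Kˣ) :
    ⁅pHom (m := m) y, u₁ K m⁆ = wordGL chevG2 hF.xadd
      (wNF (chi chevG2 (extC chevG2 (pc m y)) 6) (chi chevG2 (extC chevG2 (pc m y)) 7)) := by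
  have hcne : ∀ i < chevG2.rank, extC chevG2 (pc m y) i ≠ 0 := fun i _ => extC_ne_zero chevG2 (pc m y) i
  rw [u₁_eq, comm_h_x (pHom (m := m) y) _ hcne (pHom_val y) 1 1]
  unfold wNF
  simp only [one_pow, mul_one, one_mul]
  set χ6 := chi chevG2 (extC chevG2 (pc m y)) 6
  set χ7 := chi chevG2 (extC chevG2 (pc m y)) 7
  have e10 : 2 * χ7 ^ 3 + χ7 ^ 3 * χ6 = 2 * χ7 ^ 3 + χ6 * χ7 ^ 3 := by ring
  have e11 : χ7 ^ 3 + χ7 ^ 3 * χ6 + χ7 ^ 3 * χ6 ^ 2 = χ7 ^ 3 + χ6 * χ7 ^ 3 + χ6 ^ 2 * χ7 ^ 3 := by ring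
  rw [e10, e11]

/-- conjugating a fixed element of `U¹` by an element of `H¹`: the first coordinate, and the second one
when the first vanishes -/
theorem conj_coords (y : Kˣ) (t u v : K) :
    ∃ t' u' v' : K, pHom (m := m) y * wordGL chevG2 hF.xadd (reeWordU (3 ^ m) t u v) * (pHom (m := m) y)⁻¹ =
        wordGL chevG2 hF.xadd (reeWordU (3 ^ m) t' u' v') ∧
      t' = chi chevG2 (extC chevG2 (pc m y)) 6 * t ∧
      (t = 0 → u' = chi chevG2 (extC chevG2 (pc m y)) 10 * u) := by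
  have hG := (pHom_mem hK hperf f hf y).2
  have hD := (pHom_mem hK hperf f hf y).1
  have hx : wordGL chevG2 hF.xadd (reeWordU (3 ^ m) t u v) ∈ chevG2.posUnipotent K ⊓ twistedG2 K (3 ^ m) :=
    (mem_U_iff hK hperf f hf _).2 ⟨t, u, v, wordGL_val _ _ _⟩
  have hc : pHom (m := m) y * wordGL chevG2 hF.xadd (reeWordU (3 ^ m) t u v) * (pHom (m := m) y)⁻¹ ∈
      chevG2.posUnipotent K ⊓ twistedG2 K (3 ^ m) :=
    Subgroup.mem_inf.2 ⟨conj_mem_posUnipotent chevG2 (hF (K := K)).hall (hF (K := K)).hconj _ hD _ hx.1,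
      mul_mem (mul_mem hG hx.2) (inv_mem hG)⟩
  obtain ⟨t', u', v', hv⟩ := (mem_U_iff hK hperf f hf _).1 hc
  have hc' : pHom (m := m) y * wordGL chevG2 hF.xadd (reeWordU (3 ^ m) t u v) * (pHom (m := m) y)⁻¹ =
      wordGL chevG2 hF.xadd (reeWordU (3 ^ m) t' u' v') := Units.ext (by rw [hv, wordGL_val])
  refine ⟨t', u', v', hc', ?_⟩
  have hcne : ∀ i < chevG2.rank, extC chevG2 (pc m y) i ≠ 0 := fun i _ => extC_ne_zero chevG2 (pc m y) i
  rw [u_normal, u_normal, ChevFacts'.conj_wordGL hF (pHom (m := m) y) _ hcne (pHom_val y) _ (by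
    intro q hq
    simp only [List.mem_cons, List.not_mem_nil, or_false] at hq
    rcases hq with rfl | rfl | rfl | rfl | rfl | rfl <;> dsimp only <;> decide)] at hc'
  obtain ⟨k1, -, -, -, k5, -⟩ := inj_u _ _ _ _ _ _ _ _ _ _ _ _ hc'
  refine ⟨k1.symm, ?_⟩
  intro ht
  have h0 : (0 : K) ^ 3 ^ m = 0 := zero_pow_e
  rw [ht, mul_zero] at k1
  rw [ht, ← k1, h0, zero_pow (by norm_num : 3 ≠ 0), zero_mul, add_zero, add_zero] at k5
  exact k5.symm

omit hK hperf hf [Fintype K] in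
/-- the elements `x(0, u, v)` as products of commuting root elements -/
theorem u1_form (u v : K) :
    wordGL chevG2 hF.xadd (reeWordU (3 ^ m) 0 u v) =
      xprod hF [8, 9, 10, 11] (fun r => if r = 8 then u ^ 3 ^ m else if r = 9 then v ^ 3 ^ m else
        if r = 10 then u else v) := by
  have h0 : (0 : K) ^ 3 ^ m = 0 := zero_pow_e
  have h0' : (0 : K) ^ (3 ^ m + 1) = 0 := zero_pow (Nat.succ_ne_zero _)
  have h0'' : (0 : K) ^ (2 * 3 ^ m + 1) = 0 := zero_pow (Nat.succ_ne_zero _)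
  rw [u_normal, xprod_R, h0, h0', h0'']
  simp

omit hK hperf hf [Fintype K] in
theorem pow_e_add (a b : K) : (a + b) ^ 3 ^ m = a ^ 3 ^ m + b ^ 3 ^ m := by
  have : Fact (Nat.Prime 3) := ⟨Nat.prime_three⟩
  exact add_pow_char_pow a b 3 m

omit hK hperf hf [Fintype K] in
theorem pow_e_neg (a : K) : (-a) ^ 3 ^ m = -(a ^ 3 ^ m) := Odd.neg_pow (Odd.pow (by decide)) a

omit hK hperf hf [Fintype K] in
theorem u1_mul (u v u' v' : K) :
    wordGL chevG2 hF.xadd (reeWordU (3 ^ m) 0 u v) * wordGL chevG2 hF.xadd (reeWordU (3 ^ m) 0 u' v') =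
      wordGL chevG2 hF.xadd (reeWordU (3 ^ m) 0 (u + u') (v + v')) := by
  rw [u1_form, u1_form, u1_form, ← xprod_add hF [8, 9, 10, 11] (by decide) comm_R]
  apply xprod_congr
  intro r hr
  simp only [List.mem_cons, List.not_mem_nil, or_false] at hr
  rcases hr with rfl | rfl | rfl | rfl <;> simp [pow_e_add]

omit hK hperf hf [Fintype K] in
theorem u1_inv (u v : K) :
    (wordGL chevG2 hF.xadd (reeWordU (3 ^ m) 0 u v))⁻¹ = wordGL chevG2 hF.xadd (reeWordU (3 ^ m) 0 (-u) (-v)) := by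
  rw [u1_form, u1_form, xprod_inv hF [8, 9, 10, 11] (by decide) comm_R]
  apply xprod_congr
  intro r hr
  simp only [List.mem_cons, List.not_mem_nil, or_false] at hr
  rcases hr with rfl | rfl | rfl | rfl <;> simp [pow_e_neg]

omit hperf in
/-- the cube of a fixed element, as a fixed element -/
theorem cube_form (t u v : K) :
    (wordGL chevG2 hF.xadd (reeWordU (3 ^ m) t u v)) ^ 3 =
      wordGL chevG2 hF.xadd (reeWordU (3 ^ m) 0 0 (2 * t ^ 2 * (t ^ 3 ^ m) ^ 3)) := by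
  have h3 := three_eq_zero (K := K)
  have key := frob_key hK f hf t
  have h0 : (0 : K) ^ 3 ^ m = 0 := zero_pow_e
  have h0' : (0 : K) ^ (3 ^ m + 1) = 0 := zero_pow (Nat.succ_ne_zero _)
  have h0'' : (0 : K) ^ (2 * 3 ^ m + 1) = 0 := zero_pow (Nat.succ_ne_zero _)
  have h2 : (2 : K) ^ 3 ^ m = 2 := by
    have e2 : (2 : K) = -1 := by linear_combination h3
    rw [e2]
    exact neg_one_pow_e
  have hV : (2 * t ^ 2 * (t ^ 3 ^ m) ^ 3) ^ 3 ^ m = 2 * t * (t ^ 3 ^ m) ^ 2 := by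
    rw [mul_pow, mul_pow, h2, pow_right_comm t 2 (3 ^ m), pow_right_comm (t ^ 3 ^ m) 3 (3 ^ m), key]
    ring
  rw [cube_eq, u_normal, h0, h0', h0'', hV]
  simp

omit hK hperf hf [Fintype K] in
/-- quotient of two normal forms with the same first two coordinates -/
theorem nf_inv_mul (a1 a2 a3 a4 a5 a6 b3 b4 b5 b6 : K) :
    (wordGL chevG2 hF.xadd [(6, a1), (7, a2), (8, b3), (9, b4), (10, b5), (11, b6)])⁻¹ *
        wordGL chevG2 hF.xadd [(6, a1), (7, a2), (8, a3), (9, a4), (10, a5), (11, a6)] =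
      wordGL chevG2 hF.xadd [(6, 0), (7, 0), (8, -b3 + a3), (9, -b4 + a4), (10, -b5 + a5), (11, -b6 + a6)] := by
  have grp : ∀ X Y P Q : GL chevG2.Idx K, (X * Y * Q)⁻¹ * (X * Y * P) = Q⁻¹ * P := by
    intro X Y P Q
    group
  rw [nf_eq, nf_eq, grp, xprod_inv hF [8, 9, 10, 11] (by decide) comm_R,
    ← xprod_add hF [8, 9, 10, 11] (by decide) comm_R, xprod_R]
  simp

omit hK hperf hf [Fintype K] in
/-- multiplying a fixed element by an element `x(0, u', v')` -/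
theorem u_mul_u1 (t u v u' v' : K) :
    wordGL chevG2 hF.xadd (reeWordU (3 ^ m) t u v) * wordGL chevG2 hF.xadd (reeWordU (3 ^ m) 0 u' v') =
      wordGL chevG2 hF.xadd (reeWordU (3 ^ m) t (u + u') (v + v')) := by
  rw [u_normal t u v, u_normal t (u + u') (v + v'), u1_form, nf_eq, nf_eq, mul_assoc,
    ← xprod_add hF [8, 9, 10, 11] (by decide) comm_R]
  congr 1
  apply xprod_congr
  intro r hr
  simp only [List.mem_cons, List.not_mem_nil, or_false] at hr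
  rcases hr with rfl | rfl | rfl | rfl <;> simp [pow_e_add] <;> ring

section gen

variable (L : Subgroup (GL chevG2.Idx K)) (hH : ∀ y : Kˣ, pHom (m := m) y ∈ L)
  (hb : u₁ K m * n₀ K ∈ L)
include hH hb

/-- the commutators `[h, x(1,0,0)]` lie in `L` -/
theorem w_mem (y : Kˣ) : ⁅pHom (m := m) y, u₁ K m⁆ ∈ L := by
  set h := pHom (m := m) y with hh
  have hHG := pHom_mem hK hperf f hf y
  have hn := n₀_mem hK hperf f hf
  have h1D : (n₀ K)⁻¹ * h * ((n₀ K)⁻¹)⁻¹ ∈ chevG2.diagonalSubgroup K :=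
    hF.monomial_conj_mem_diagonal _ (inv_mem (n₀_mem_monomial (K := K))) _ hHG.1
  have h1G : (n₀ K)⁻¹ * h * ((n₀ K)⁻¹)⁻¹ ∈ twistedG2 K (3 ^ m) :=
    mul_mem (mul_mem (inv_mem hn) hHG.2) (inv_mem (inv_mem hn))
  obtain ⟨y₁, hy₁⟩ := exists_param hK hperf f hf _ (Subgroup.mem_inf.2 ⟨h1D, h1G⟩)
  have h1L : (n₀ K)⁻¹ * h * ((n₀ K)⁻¹)⁻¹ ∈ L := by rw [hy₁]; exact hH y₁
  have h2 : u₁ K m * h * (u₁ K m)⁻¹ ∈ L := by
    have := mul_mem (mul_mem hb h1L) (inv_mem hb)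
    have e : u₁ K m * n₀ K * ((n₀ K)⁻¹ * h * ((n₀ K)⁻¹)⁻¹) * (u₁ K m * n₀ K)⁻¹ = u₁ K m * h * (u₁ K m)⁻¹ := by
      group
    rwa [e] at this
  have e : ⁅h, u₁ K m⁆ = h * (u₁ K m * h * (u₁ K m)⁻¹)⁻¹ := by
    rw [commutatorElement_def]; group
  rw [e]
  exact mul_mem (hH y) (inv_mem h2)

omit hH hb in
theorem w_mem_U (y : Kˣ) : ⁅pHom (m := m) y, u₁ K m⁆ ∈ chevG2.posUnipotent K ⊓ twistedG2 K (3 ^ m) := by
  have hHG := pHom_mem hK hperf f hf y
  have hu := u₁_mem hK hperf f hf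
  rw [commutatorElement_def]
  exact Subgroup.mem_inf.2
    ⟨mul_mem (conj_mem_posUnipotent chevG2 (hF (K := K)).hall (hF (K := K)).hconj _ hHG.1 _ hu.1) (inv_mem hu.1),
      mul_mem (mul_mem (mul_mem hHG.2 hu.2) (inv_mem hHG.2)) (inv_mem hu.2)⟩

omit hH hb in
/-- the element `[h, x(1,0,0)]` with `χ₆(h) = s` as a fixed element -/
theorem w_form (s : Kˣ) : ∃ u v : K, ⁅pHom (m := m) (ys m s), u₁ K m⁆ =
    wordGL chevG2 hF.xadd (reeWordU (3 ^ m) (2 + (s : K)) u v) := by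
  obtain ⟨t, u, v, hv⟩ := (mem_U_iff hK hperf f hf _).1 (w_mem_U hK hperf f hf (ys m s))
  have e : ⁅pHom (m := m) (ys m s), u₁ K m⁆ = wordGL chevG2 hF.xadd (reeWordU (3 ^ m) t u v) :=
    Units.ext (by rw [hv, wordGL_val])
  have e' := e
  rw [w_eq, u_normal, chi6_ys hK f hf, chi7_ys hK f hf] at e'
  obtain ⟨k1, -, -, -, -, -⟩ := inj_u _ _ _ _ _ _ _ _ _ _ _ _ e'
  refine ⟨u, v, ?_⟩
  rw [e, k1]

/-- every first coordinate occurs in `L` -/
theorem first_coord (t : K) : ∃ u v : K, wordGL chevG2 hF.xadd (reeWordU (3 ^ m) t u v) ∈ L := by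
  have h3 := three_eq_zero (K := K)
  by_cases ht : t + 1 = 0
  · -- `t = -1`: conjugate the element with first coordinate `1`
    obtain ⟨u, v, e⟩ := w_form hK hperf f hf (-1 : Kˣ)
    have hw := w_mem hK hperf f hf L hH hb (ys m (-1 : Kˣ))
    rw [e] at hw
    obtain ⟨t', u', v', hc, ht', -⟩ := conj_coords hK hperf f hf (ys m (-1 : Kˣ)) (2 + ((-1 : Kˣ) : K)) u v
    refine ⟨u', v', ?_⟩
    have ht'' : t' = t := by
      rw [ht', chi6_ys hK f hf, Units.val_neg, Units.val_one]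
      linear_combination -ht
    rw [← ht'', ← hc]
    exact mul_mem (mul_mem (hH _) hw) (inv_mem (hH _))
  · obtain ⟨u, v, e⟩ := w_form hK hperf f hf (Units.mk0 (t + 1) ht)
    have hw := w_mem hK hperf f hf L hH hb (ys m (Units.mk0 (t + 1) ht))
    rw [e] at hw
    refine ⟨u, v, ?_⟩
    have : 2 + ((Units.mk0 (t + 1) ht : Kˣ) : K) = t := by
      rw [Units.val_mk0]
      linear_combination h3
    rwa [this] at hw

/-- the centre `x(0, 0, v)` lies in `L` -/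
theorem u2_mem (v : K) : wordGL chevG2 hF.xadd (reeWordU (3 ^ m) 0 0 v) ∈ L := by
  have h3 := three_eq_zero (K := K)
  have hcube : ∀ t : K, wordGL chevG2 hF.xadd (reeWordU (3 ^ m) 0 0 (2 * t ^ 2 * (t ^ 3 ^ m) ^ 3)) ∈ L := by
    intro t
    obtain ⟨u, v, hw⟩ := first_coord hK hperf f hf L hH hb t
    rw [← cube_form hK f hf t u v]
    exact pow_mem hw 3
  by_cases hv : v = 0
  · have := hcube 0
    rw [zero_pow (by norm_num : 2 ≠ 0), mul_zero, zero_mul] at this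
    rw [hv]
    exact this
  · -- `t = r² ρ⁻³` with `r = -v`
    set r := -v with hr
    have hr0 : r ≠ 0 := neg_ne_zero.2 hv
    set ρ := r ^ 3 ^ m with hρ
    have hρ0 : ρ ≠ 0 := pow_ne_zero _ hr0
    have key : (ρ ^ 3 ^ m) ^ 3 = r := frob_key hK f hf r
    have := hcube (r ^ 2 * (ρ ^ 3)⁻¹)
    have e : 2 * (r ^ 2 * (ρ ^ 3)⁻¹) ^ 2 * ((r ^ 2 * (ρ ^ 3)⁻¹) ^ 3 ^ m) ^ 3 = v := by
      have e1 : (r ^ 2 * (ρ ^ 3)⁻¹) ^ 3 ^ m = ρ ^ 2 * r⁻¹ := by
        rw [mul_pow, inv_pow, pow_right_comm r 2 (3 ^ m), pow_right_comm ρ 3 (3 ^ m), key]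
      rw [e1]
      have : 2 * (r ^ 2 * (ρ ^ 3)⁻¹) ^ 2 * (ρ ^ 2 * r⁻¹) ^ 3 = 2 * r := by
        field_simp
      rw [this, hr]
      linear_combination (-v) * h3
    rwa [e] at this

omit hH hb hperf hf in
/-- a non-zero element or its negative is a square -/
theorem isSquare_or_neg (a : K) (ha : a ≠ 0) : IsSquare a ∨ IsSquare (-a) := by
  have hc : ringChar K ≠ 2 := by
    rw [ringChar.eq K 3]
    norm_num
  have h4 := card_mod_four hK
  rcases FiniteField.pow_dichotomy hc ha with h | h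
  · exact Or.inl ((FiniteField.isSquare_iff hc ha).2 h)
  · right
    rw [FiniteField.isSquare_iff hc (neg_ne_zero.2 ha), neg_pow, h]
    have hodd : Odd (Fintype.card K / 2) := by
      rw [Nat.odd_iff]
      omega
    rw [hodd.neg_one_pow]
    ring

/-- an element `x(0, u, v)` of `L` with `u ≠ 0` -/
theorem exists_u1 (hm : 1 ≤ m) :
    ∃ u v : K, u ≠ 0 ∧ wordGL chevG2 hF.xadd (reeWordU (3 ^ m) 0 u v) ∈ L := by
  have hcl := clsData hK hperf f hf
  have h3 := three_eq_zero (K := K)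
  obtain ⟨s, hs⟩ := exists_good hK hm
  set σ := (s : K) ^ 3 ^ m with hσ
  have hm1 : ((-1 : Kˣ) : K) ^ 3 ^ m = -1 := by
    rw [Units.val_neg, Units.val_one]
    exact neg_one_pow_e
  have hw : ⁅pHom (m := m) (ys m s), u₁ K m⁆ = wordGL chevG2 hF.xadd (wNF (s : K) σ) := by
    rw [w_eq, chi6_ys hK f hf, chi7_ys hK f hf]
  have hw' : ⁅pHom (m := m) (ys m (-1 : Kˣ)), u₁ K m⁆ = wordGL chevG2 hF.xadd (wNF (-1 : K) (-1)) := by
    rw [w_eq, chi6_ys hK f hf, chi7_ys hK f hf, hm1, Units.val_neg, Units.val_one]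
  have hwL := w_mem hK hperf f hf L hH hb (ys m s)
  have hwL' := w_mem hK hperf f hf L hH hb (ys m (-1 : Kˣ))
  have hwG : ⁅pHom (m := m) (ys m s), u₁ K m⁆ ∈ twistedG2 K (3 ^ m) := (w_mem_U hK hperf f hf (ys m s)).2
  have hwG' : ⁅pHom (m := m) (ys m (-1 : Kˣ)), u₁ K m⁆ ∈ twistedG2 K (3 ^ m) :=
    (w_mem_U hK hperf f hf (ys m (-1 : Kˣ))).2
  rw [hw] at hwL hwG
  rw [hw'] at hwL' hwG'
  have eA := (wordGL_append chevG2 (hF (K := K)).xadd (wNF (s : K) σ) (wNF (-1 : K) (-1))).symm.trans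
    (wordGL_congr_val _ _ (MCalc.g2W (s : K) σ (-1) (-1)))
  have eB := (wordGL_append chevG2 (hF (K := K)).xadd (wNF (-1 : K) (-1)) (wNF (s : K) σ)).symm.trans
    (wordGL_congr_val _ _ (MCalc.g2W (-1) (-1) (s : K) σ))
  rw [add_right_comm (1 : K) (s : K) (-1), add_right_comm (1 : K) σ (-1)] at eB
  have hcL := mul_mem (inv_mem (mul_mem hwL' hwL)) (mul_mem hwL hwL')
  have hcG := mul_mem (inv_mem (mul_mem hwG' hwG)) (mul_mem hwG hwG')
  have hcfix := hcl.fixed _ hcG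
  rw [eA, eB, nf_inv_mul] at hcfix hcL
  obtain ⟨t', u', v', hT'⟩ := fix_u hK hperf f hf _ (mem_negPart_u _ _ _ _ _ _) hcfix
  have hT'' := hT'
  rw [u_normal] at hT''
  obtain ⟨k1, -, -, -, k5, -⟩ := inj_u _ _ _ _ _ _ _ _ _ _ _ _ hT''
  have h0 : (0 : K) ^ 3 ^ m = 0 := zero_pow_e
  rw [← k1, h0, zero_pow (by norm_num : 3 ≠ 0), zero_mul, add_zero] at k5
  refine ⟨u', v', ?_, ?_⟩
  · have e : u' = σ ^ 3 - (s : K) := by linear_combination (-σ ^ 3 - 1) * h3 - k5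
    rw [e, sub_ne_zero]
    exact hs.1
  · rw [k1, ← hT']
    exact hcL

/-- all of `x(0, u, v)` lie in `L` -/
theorem u1_mem_L (hm : 1 ≤ m) (u v : K) : wordGL chevG2 hF.xadd (reeWordU (3 ^ m) 0 u v) ∈ L := by
  obtain ⟨u₀, v₀, hu₀, h0L⟩ := exists_u1 hK hperf f hf L hH hb hm
  have hsq : ∀ r : Kˣ, ∃ v' : K,
      wordGL chevG2 hF.xadd (reeWordU (3 ^ m) 0 ((r : K) ^ 2 * u₀) v') ∈ L := by
    intro r
    obtain ⟨t', u', v', hc, ht', hu'⟩ := conj_coords hK hperf f hf (yr m r) 0 u₀ v₀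
    refine ⟨v', ?_⟩
    rw [mul_zero] at ht'
    subst ht'
    have hu'' := hu' rfl
    rw [chi10_yr hK f hf] at hu''
    subst hu''
    rw [← hc]
    exact mul_mem (mul_mem (hH _) h0L) (inv_mem (hH _))
  by_cases hu : u = 0
  · rw [hu]
    exact u2_mem hK hperf f hf L hH hb v
  · have ha : u / u₀ ≠ 0 := div_ne_zero hu hu₀
    rcases isSquare_or_neg hK (u / u₀) ha with ⟨r, hr⟩ | ⟨r, hr⟩
    · have hr0 : r ≠ 0 := by
        rintro rfl
        rw [mul_zero] at hr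
        exact ha hr
      obtain ⟨v', hv'⟩ := hsq (Units.mk0 r hr0)
      have e : ((Units.mk0 r hr0 : Kˣ) : K) ^ 2 * u₀ = u := by
        rw [Units.val_mk0, pow_two, ← hr]
        field_simp
      rw [e] at hv'
      have h2 := mul_mem hv' (u2_mem hK hperf f hf L hH hb (v - v'))
      rw [u1_mul] at h2
      have e1 : u + 0 = u := by ring
      have e2 : v' + (v - v') = v := by ring
      rwa [e1, e2] at h2
    · have hr0 : r ≠ 0 := by
        rintro rfl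
        rw [mul_zero, neg_eq_zero] at hr
        exact ha hr
      obtain ⟨v', hv'⟩ := hsq (Units.mk0 r hr0)
      have e : ((Units.mk0 r hr0 : Kˣ) : K) ^ 2 * u₀ = -u := by
        rw [Units.val_mk0, pow_two, ← hr]
        field_simp
      rw [e] at hv'
      have h1 := inv_mem hv'
      rw [u1_inv] at h1
      have h2 := mul_mem h1 (u2_mem hK hperf f hf L hH hb (v + v'))
      rw [u1_mul] at h2
      have e1 : - -u + 0 = u := by ring
      have e2 : -v' + (v + v') = v := by ring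
      rwa [e1, e2] at h2

/-- all the positive generators lie in `L` -/
theorem u_mem_L (hm : 1 ≤ m) (t u v : K) : wordGL chevG2 hF.xadd (reeWordU (3 ^ m) t u v) ∈ L := by
  obtain ⟨u₁, v₁, h1⟩ := first_coord hK hperf f hf L hH hb t
  have h2 := mul_mem h1 (u1_mem_L hK hperf f hf L hH hb hm (u - u₁) (v - v₁))
  rw [u_mul_u1] at h2
  have e1 : u₁ + (u - u₁) = u := by ring
  have e2 : v₁ + (v - v₁) = v := by ring
  rwa [e1, e2] at h2

/-- the Weyl element lies in `L` -/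
theorem n₀_mem_L (hm : 1 ≤ m) : n₀ K ∈ L := by
  have h1 : u₁ K m ∈ L := u_mem_L hK hperf f hf L hH hb hm 1 0 0
  have h2 := mul_mem (inv_mem h1) hb
  rwa [inv_mul_cancel_left] at h2

/-- all the negative generators lie in `L` -/
theorem v_mem_L (hm : 1 ≤ m) (T U V : K) : wordGL chevG2 hF.xadd (reeWordV (3 ^ m) T U V) ∈ L := by
  have hcl := clsData hK hperf f hf
  have hnG : n₀ K ∈ twistedG2 K (3 ^ m) := n₀_mem hK hperf f hf
  have hnL := n₀_mem_L hK hperf f hf L hH hb hm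
  set g := wordGL chevG2 hF.xadd (reeWordV (3 ^ m) T U V) with hg
  have hgG : g ∈ twistedG2 K (3 ^ m) := gen_mem _ (neg_mem T U V)
  have hcG : n₀ K * g * (n₀ K)⁻¹ ∈ twistedG2 K (3 ^ m) := mul_mem (mul_mem hnG hgG) (inv_mem hnG)
  have hcfix := hcl.fixed _ hcG
  have hneg : n₀ K * g * (n₀ K)⁻¹ ∈ negPart chevG2 hF.xadd [0, 1, 0, 1, 0, 1] := by
    rw [hg, reeWordV_eq]
    apply conj_wordGL_mem_negPart hF [0, 1, 0, 1, 0, 1] (by decide)
    intro q hq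
    simp only [List.mem_cons, List.not_mem_nil, or_false] at hq
    rcases hq with rfl | rfl | rfl | rfl | rfl | rfl <;> dsimp only <;> decide +kernel
  obtain ⟨T', U', V', hT'⟩ := fix_u hK hperf f hf _ hneg hcfix
  have h1 : n₀ K * g * (n₀ K)⁻¹ ∈ L := by
    rw [hT']
    exact u_mem_L hK hperf f hf L hH hb hm T' U' V'
  have h2 := mul_mem (mul_mem (inv_mem hnL) h1) hnL
  have e : (n₀ K)⁻¹ * (n₀ K * g * (n₀ K)⁻¹) * n₀ K = g := by group
  rwa [e] at h2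

/-- `L` contains the Ree group -/
theorem le_L (hm : 1 ≤ m) : twistedG2 K (3 ^ m) ≤ L := by
  unfold twistedG2 ChevalleyDatum.genSubgroup
  rw [Subgroup.closure_le]
  rintro g ⟨w, hw, hg⟩
  have e : g = wordGL chevG2 hF.xadd w := Units.ext (by rw [hg, wordGL_val])
  rw [e]
  obtain ⟨t, u, v, rfl | rfl⟩ := hw
  · exact u_mem_L hK hperf f hf L hH hb hm t u v
  · exact v_mem_L hK hperf f hf L hH hb hm t u v

end gen

/-- **`²G₂(q)`, `q > 3`, is generated by two elements** -/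
theorem two_generated (hm : 1 ≤ m) :
    ∃ a b : ↥(twistedG2 K (3 ^ m)), Subgroup.closure ({a, b} : Set ↥(twistedG2 K (3 ^ m))) = ⊤ := by
  obtain ⟨y₀, hy₀⟩ := IsCyclic.exists_generator (α := Kˣ)
  have haG : pHom (m := m) y₀ ∈ twistedG2 K (3 ^ m) := (pHom_mem hK hperf f hf y₀).2
  have hbG : u₁ K m * n₀ K ∈ twistedG2 K (3 ^ m) :=
    mul_mem (u₁_mem hK hperf f hf).2 (n₀_mem hK hperf f hf)
  refine ⟨⟨_, haG⟩, ⟨_, hbG⟩, ?_⟩
  set C := Subgroup.closure ({⟨_, haG⟩, ⟨_, hbG⟩} : Set ↥(twistedG2 K (3 ^ m))) with hC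
  have haL : pHom (m := m) y₀ ∈ C.map (twistedG2 K (3 ^ m)).subtype :=
    ⟨⟨_, haG⟩, Subgroup.subset_closure (by simp), rfl⟩
  have hbL : u₁ K m * n₀ K ∈ C.map (twistedG2 K (3 ^ m)).subtype :=
    ⟨⟨_, hbG⟩, Subgroup.subset_closure (by simp), rfl⟩
  have hH : ∀ y : Kˣ, pHom (m := m) y ∈ C.map (twistedG2 K (3 ^ m)).subtype := by
    intro y
    obtain ⟨k, rfl⟩ := Subgroup.mem_zpowers_iff.1 (hy₀ y)
    rw [map_zpow]
    exact zpow_mem haL k
  have hle := le_L hK hperf f hf _ hH hbL hm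
  rw [eq_top_iff]
  rintro ⟨g, hg⟩ -
  obtain ⟨c, hc, hcg⟩ := hle hg
  have : c = ⟨g, hg⟩ := Subtype.ext hcg
  rw [← this]
  exact hc


end finite

end Cfsg.Agent.Lead.Tw.G2
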