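import Mathlib
import Cfsg.Agent.Lib.Lead.IsoCalc
import Cfsg.Prelude.Def_LieTwisted

/-!
Word identities in the unipotent groups (generated, verified by the calculator).
-/

set_option autoImplicit false

namespace Cfsg.Agent.Lead.MCalc

open Cfsg Cfsg.Lie

def g2M1_A : List (ℕ × LPoly) := [(6, [⟨1, 1, 0, 0, 0, 0, 0⟩]), (7, [⟨1, 0, 1, 0, 0, 0, 0⟩]), (10, [⟨1, 1, 3, 0, 0, 0, 0⟩]), (11, [⟨1, 2, 3, 0, 0, 0, 0⟩]), (6, [⟨1, 0, 0, 1, 0, 0, 0⟩]), (7, [⟨1, 0, 0, 0, 1, 0, 0⟩]), (10, [⟨1, 0, 0, 1, 3, 0, 0⟩]), (11, [⟨1, 0, 0, 2, 3, 0, 0⟩])]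

def g2M1_B : List (ℕ × LPoly) := [(6, [⟨1, 0, 0, 1, 0, 0, 0⟩, ⟨1, 1, 0, 0, 0, 0, 0⟩]), (7, [⟨1, 0, 0, 0, 1, 0, 0⟩, ⟨1, 0, 1, 0, 0, 0, 0⟩]), (8, [⟨2, 0, 1, 1, 0, 0, 0⟩]), (9, [⟨1, 0, 1, 1, 1, 0, 0⟩, ⟨2, 0, 2, 1, 0, 0, 0⟩]), (10, [⟨1, 0, 0, 1, 3, 0, 0⟩, ⟨1, 0, 3, 1, 0, 0, 0⟩, ⟨1, 1, 3, 0, 0, 0, 0⟩]), (11, [⟨1, 0, 0, 2, 3, 0, 0⟩, ⟨1, 0, 3, 2, 0, 0, 0⟩, ⟨2, 1, 3, 1, 0, 0, 0⟩, ⟨1, 2, 3, 0, 0, 0, 0⟩])]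

theorem g2M1_chk : wordEqN 3 chevG2 g2M1_A g2M1_B = true := by decide +kernel

/-- the product `x(t,0,0) x(t',0,0)` -/
theorem g2M1 {K : Type*} [Field K] [CharP K 3] (x1 x2 x3 x4 : K) :
    chevG2.wordMat K [(6, x1), (7, x2), (10, x1 * x2 ^ 3), (11, x1 ^ 2 * x2 ^ 3), (6, x3), (7, x4), (10, x3 * x4 ^ 3), (11, x3 ^ 2 * x4 ^ 3)] =
      chevG2.wordMat K [(6, x3 + x1), (7, x4 + x2), (8, 2 * x2 * x3), (9, x2 * x3 * x4 + 2 * x2 ^ 2 * x3), (10, x3 * x4 ^ 3 + x2 ^ 3 * x3 + x1 * x2 ^ 3), (11, x3 ^ 2 * x4 ^ 3 + x2 ^ 3 * x3 ^ 2 + 2 * x1 * x2 ^ 3 * x3 + x1 ^ 2 * x2 ^ 3)] := by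
  have h := wordMat_eq_of_wordEqN 3 chevG2 (⟨x1, x2, x3, x4, 0, 0⟩ : Val K) g2M1_A g2M1_B g2M1_chk
  have e1 : evalWord (⟨x1, x2, x3, x4, 0, 0⟩ : Val K) g2M1_A = [(6, x1), (7, x2), (10, x1 * x2 ^ 3), (11, x1 ^ 2 * x2 ^ 3), (6, x3), (7, x4), (10, x3 * x4 ^ 3), (11, x3 ^ 2 * x4 ^ 3)] := by
    simp [evalWord, evalP, Term.eval, g2M1_A]
    all_goals (repeat' apply And.intro) <;> ring1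
  have e2 : evalWord (⟨x1, x2, x3, x4, 0, 0⟩ : Val K) g2M1_B = [(6, x3 + x1), (7, x4 + x2), (8, 2 * x2 * x3), (9, x2 * x3 * x4 + 2 * x2 ^ 2 * x3), (10, x3 * x4 ^ 3 + x2 ^ 3 * x3 + x1 * x2 ^ 3), (11, x3 ^ 2 * x4 ^ 3 + x2 ^ 3 * x3 ^ 2 + 2 * x1 * x2 ^ 3 * x3 + x1 ^ 2 * x2 ^ 3)] := by
    simp [evalWord, evalP, Term.eval, g2M1_B]
    all_goals (repeat' apply And.intro) <;> ring1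
  rw [e1, e2] at h
  exact h

def g2M2_A : List (ℕ × LPoly) := [(8, [⟨1, 1, 0, 0, 0, 0, 0⟩]), (9, [⟨1, 0, 1, 0, 0, 0, 0⟩]), (10, [⟨1, 0, 0, 1, 0, 0, 0⟩]), (11, [⟨1, 0, 0, 0, 1, 0, 0⟩]), (6, [⟨1, 0, 0, 0, 0, 1, 0⟩]), (7, [⟨1, 0, 0, 0, 0, 0, 1⟩]), (10, [⟨1, 0, 0, 0, 0, 1, 3⟩]), (11, [⟨1, 0, 0, 0, 0, 2, 3⟩])]

def g2M2_B : List (ℕ × LPoly) := [(6, [⟨1, 0, 0, 0, 0, 1, 0⟩]), (7, [⟨1, 0, 0, 0, 0, 0, 1⟩]), (8, [⟨1, 1, 0, 0, 0, 0, 0⟩]), (9, [⟨1, 0, 1, 0, 0, 0, 0⟩, ⟨2, 1, 0, 0, 0, 0, 1⟩]), (10, [⟨1, 0, 0, 0, 0, 1, 3⟩, ⟨1, 0, 0, 1, 0, 0, 0⟩]), (11, [⟨1, 0, 0, 0, 0, 2, 3⟩, ⟨1, 0, 0, 0, 1, 0, 0⟩, ⟨2, 0, 0, 1, 0, 1, 0⟩])]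

theorem g2M2_chk : wordEqN 3 chevG2 g2M2_A g2M2_B = true := by decide +kernel

/-- the product `x(0,u,v) x(t',0,0)` -/
theorem g2M2 {K : Type*} [Field K] [CharP K 3] (x1 x2 x3 x4 x5 x6 : K) :
    chevG2.wordMat K [(8, x1), (9, x2), (10, x3), (11, x4), (6, x5), (7, x6), (10, x5 * x6 ^ 3), (11, x5 ^ 2 * x6 ^ 3)] =
      chevG2.wordMat K [(6, x5), (7, x6), (8, x1), (9, x2 + 2 * x1 * x6), (10, x5 * x6 ^ 3 + x3), (11, x5 ^ 2 * x6 ^ 3 + x4 + 2 * x3 * x5)] := by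
  have h := wordMat_eq_of_wordEqN 3 chevG2 (⟨x1, x2, x3, x4, x5, x6⟩ : Val K) g2M2_A g2M2_B g2M2_chk
  have e1 : evalWord (⟨x1, x2, x3, x4, x5, x6⟩ : Val K) g2M2_A = [(8, x1), (9, x2), (10, x3), (11, x4), (6, x5), (7, x6), (10, x5 * x6 ^ 3), (11, x5 ^ 2 * x6 ^ 3)] := by
    simp [evalWord, evalP, Term.eval, g2M2_A]
    all_goals (repeat' apply And.intro) <;> ring1
  have e2 : evalWord (⟨x1, x2, x3, x4, x5, x6⟩ : Val K) g2M2_B = [(6, x5), (7, x6), (8, x1), (9, x2 + 2 * x1 * x6), (10, x5 * x6 ^ 3 + x3), (11, x5 ^ 2 * x6 ^ 3 + x4 + 2 * x3 * x5)] := by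
    simp [evalWord, evalP, Term.eval, g2M2_B]
    all_goals (repeat' apply And.intro) <;> ring1
  rw [e1, e2] at h
  exact h

end Cfsg.Agent.Lead.MCalc
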