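import Mathlib
import Cfsg.Agent.Lib.Lead.TwG2Gen
import Cfsg.Agent.Lib.Lead.TwG2MulId

/-!
# The multiplication of the fixed elements of `U` in the small Ree groups
-/

set_option autoImplicit false
set_option linter.unusedSectionVars false
set_option linter.unusedSimpArgs false
set_option linter.unusedVariables false

namespace Cfsg.Agent.Lead.Tw.G2

open Cfsg Cfsg.Lie Cfsg.Agent.Lead.Chev Cfsg.Agent.Lead.ZPM

section finite

variable {K : Type*} [Field K] [Fintype K] [CharP K 3] {m : ℕ} (hK : Fintype.card K = 3 ^ (2 * m + 1))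
  (hperf : ∀ x : K, ∃ y : K, y ^ 3 = x) (f : K ≃+* K) (hf : ∀ t, f t = t ^ (3 ^ m))
include hK hperf hf

/-- the fixed elements lie in `U¹` -/
theorem xU_mem (t u v : K) :
    wordGL chevG2 hF.xadd (reeWordU (3 ^ m) t u v) ∈ chevG2.posUnipotent K ⊓ twistedG2 K (3 ^ m) :=
  (mem_U_iff hK hperf f hf _).2 ⟨t, u, v, wordGL_val _ _ _⟩

/-- the elements of `U¹` are the fixed elements -/
theorem exists_coords (g : GL chevG2.Idx K) (hg : g ∈ chevG2.posUnipotent K ⊓ twistedG2 K (3 ^ m)) :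
    ∃ t u v : K, g = wordGL chevG2 hF.xadd (reeWordU (3 ^ m) t u v) := by
  obtain ⟨t, u, v, hv⟩ := (mem_U_iff hK hperf f hf _).1 hg
  exact ⟨t, u, v, Units.ext (by rw [hv, wordGL_val])⟩

omit hK hperf hf [Fintype K] in
/-- the normal form of `x(t, 0, 0)` -/
theorem t00_form (t : K) : wordGL chevG2 hF.xadd (reeWordU (3 ^ m) t 0 0) =
    wordGL chevG2 hF.xadd [(6, t), (7, t ^ 3 ^ m), (10, t * (t ^ 3 ^ m) ^ 3), (11, t ^ 2 * (t ^ 3 ^ m) ^ 3)] := by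
  have h3 := three_eq_zero (K := K)
  have h0 : (0 : K) ^ 3 ^ m = 0 := zero_pow_e
  have e8 : t ^ (3 ^ m + 1) + (0 : K) ^ 3 ^ m + 2 * t ^ 3 ^ m * t = 0 := by
    rw [h0, pow_succ]
    linear_combination (t ^ 3 ^ m * t) * h3
  have e9 : t ^ (2 * 3 ^ m + 1) + (0 : K) ^ 3 ^ m + 2 * (t ^ 3 ^ m) ^ 2 * t = 0 := by
    rw [h0, pow_succ, pow_mul']
    linear_combination ((t ^ 3 ^ m) ^ 2 * t) * h3
  have e10 : (0 : K) + (t ^ 3 ^ m) ^ 3 * t = t * (t ^ 3 ^ m) ^ 3 := by ring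
  have e11 : (0 : K) + (t ^ 3 ^ m) ^ 3 * t ^ 2 = t ^ 2 * (t ^ 3 ^ m) ^ 3 := by ring
  rw [u_normal, e8, e9, e10, e11]
  simp only [wordGL_cons, wordGL_nil, xGL_zero, one_mul, mul_one]

omit hK hperf hf [Fintype K] in
/-- the elements `x(0, u, v)` as words -/
theorem u1_word (u v : K) : wordGL chevG2 hF.xadd (reeWordU (3 ^ m) 0 u v) =
    wordGL chevG2 hF.xadd [(8, u ^ 3 ^ m), (9, v ^ 3 ^ m), (10, u), (11, v)] := by
  rw [u1_form, xprod_eq_wordGL]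
  simp

/-- the product `x(t,0,0) x(t',0,0)` -/
theorem mul_t00 (t t' : K) : ∃ v₃ : K,
    wordGL chevG2 hF.xadd (reeWordU (3 ^ m) t 0 0) * wordGL chevG2 hF.xadd (reeWordU (3 ^ m) t' 0 0) =
      wordGL chevG2 hF.xadd (reeWordU (3 ^ m) (t + t') (-(t * (t' ^ 3 ^ m) ^ 3)) v₃) := by
  have h3 := three_eq_zero (K := K)
  have hmem := mul_mem (xU_mem hK hperf f hf t 0 0) (xU_mem hK hperf f hf t' 0 0)
  obtain ⟨t₃, u₃, v₃, e⟩ := exists_coords hK hperf f hf _ hmem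
  have e' := e
  rw [t00_form t, t00_form t'] at e'
  have e2 := ((wordGL_append chevG2 (hF (K := K)).xadd _ _).symm.trans
    (wordGL_congr_val _ _ (MCalc.g2M1 t (t ^ 3 ^ m) t' (t' ^ 3 ^ m)))).symm.trans e'
  rw [u_normal] at e2
  obtain ⟨k1, -, -, -, k5, -⟩ := inj_u _ _ _ _ _ _ _ _ _ _ _ _ e2
  refine ⟨v₃, ?_⟩
  rw [e]
  have ht : t₃ = t + t' := by rw [← k1]; ring
  have hu : u₃ = -(t * (t' ^ 3 ^ m) ^ 3) := by
    rw [← k1, pow_e_add, add_cube_char] at k5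
    linear_combination (-1 : K) * k5
  rw [ht, hu]

/-- the product `x(0,u,v) x(t',0,0)` -/
theorem mul_0uv_t00 (u v t' : K) : ∃ v₂ : K,
    wordGL chevG2 hF.xadd (reeWordU (3 ^ m) 0 u v) * wordGL chevG2 hF.xadd (reeWordU (3 ^ m) t' 0 0) =
      wordGL chevG2 hF.xadd (reeWordU (3 ^ m) t' u v₂) := by
  have hmem := mul_mem (xU_mem hK hperf f hf 0 u v) (xU_mem hK hperf f hf t' 0 0)
  obtain ⟨t₂, u₂, v₂, e⟩ := exists_coords hK hperf f hf _ hmem
  have e' := e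
  rw [u1_word u v, t00_form t'] at e'
  have e2 := ((wordGL_append chevG2 (hF (K := K)).xadd _ _).symm.trans
    (wordGL_congr_val _ _ (MCalc.g2M2 (u ^ 3 ^ m) (v ^ 3 ^ m) u v t' (t' ^ 3 ^ m)))).symm.trans e'
  rw [u_normal] at e2
  obtain ⟨k1, -, -, -, k5, -⟩ := inj_u _ _ _ _ _ _ _ _ _ _ _ _ e2
  refine ⟨v₂, ?_⟩
  rw [e]
  have ht : t₂ = t' := k1.symm
  have hu : u₂ = u := by
    rw [← k1] at k5
    linear_combination (-1 : K) * k5
  rw [ht, hu]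

/-- **the multiplication in `U¹`**, up to the last coordinate -/
theorem mul_form (t u v t' u' v' : K) : ∃ v'' : K,
    wordGL chevG2 hF.xadd (reeWordU (3 ^ m) t u v) * wordGL chevG2 hF.xadd (reeWordU (3 ^ m) t' u' v') =
      wordGL chevG2 hF.xadd (reeWordU (3 ^ m) (t + t') (u + u' - t * (t' ^ 3 ^ m) ^ 3) v'') := by
  obtain ⟨v₃, e3⟩ := mul_t00 hK hperf f hf t t'
  obtain ⟨v₂, e2⟩ := mul_0uv_t00 hK hperf f hf u v t'
  refine ⟨v₃ + v₂ + v', ?_⟩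
  have a1 : wordGL chevG2 hF.xadd (reeWordU (3 ^ m) t u v) =
      wordGL chevG2 hF.xadd (reeWordU (3 ^ m) t 0 0) * wordGL chevG2 hF.xadd (reeWordU (3 ^ m) 0 u v) := by
    rw [u_mul_u1, zero_add, zero_add]
  have a2 : wordGL chevG2 hF.xadd (reeWordU (3 ^ m) t' u' v') =
      wordGL chevG2 hF.xadd (reeWordU (3 ^ m) t' 0 0) * wordGL chevG2 hF.xadd (reeWordU (3 ^ m) 0 u' v') := by
    rw [u_mul_u1, zero_add, zero_add]
  have a3 : wordGL chevG2 hF.xadd (reeWordU (3 ^ m) t' u v₂) =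
      wordGL chevG2 hF.xadd (reeWordU (3 ^ m) t' 0 0) * wordGL chevG2 hF.xadd (reeWordU (3 ^ m) 0 u v₂) := by
    rw [u_mul_u1, zero_add, zero_add]
  have eu : -(t * (t' ^ 3 ^ m) ^ 3) + u + u' = u + u' - t * (t' ^ 3 ^ m) ^ 3 := by ring
  rw [a1, a2]
  rw [show ∀ a b c d : GL chevG2.Idx K, a * b * (c * d) = a * (b * c) * d from fun a b c d => by group]
  rw [e2, a3]
  rw [show ∀ a b c d : GL chevG2.Idx K, a * (b * c) * d = a * b * c * d from fun a b c d => by group]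
  rw [e3, u_mul_u1, u_mul_u1, eu]

/-- conjugating a fixed element of `U¹` by an element of `H¹`: the first two coordinates -/
theorem conj_coords2 (y : Kˣ) (t u v : K) :
    ∃ t' u' v' : K, pHom (m := m) y * wordGL chevG2 hF.xadd (reeWordU (3 ^ m) t u v) * (pHom (m := m) y)⁻¹ =
        wordGL chevG2 hF.xadd (reeWordU (3 ^ m) t' u' v') ∧
      t' = chi chevG2 (extC chevG2 (pc m y)) 6 * t ∧
      u' + (t' ^ 3 ^ m) ^ 3 * t' = chi chevG2 (extC chevG2 (pc m y)) 10 * (u + (t ^ 3 ^ m) ^ 3 * t) := by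
  have hG := (pHom_mem hK hperf f hf y).2
  have hD := (pHom_mem hK hperf f hf y).1
  have hx := xU_mem hK hperf f hf t u v
  have hc : pHom (m := m) y * wordGL chevG2 hF.xadd (reeWordU (3 ^ m) t u v) * (pHom (m := m) y)⁻¹ ∈
      chevG2.posUnipotent K ⊓ twistedG2 K (3 ^ m) :=
    Subgroup.mem_inf.2 ⟨conj_mem_posUnipotent chevG2 (hF (K := K)).hall (hF (K := K)).hconj _ hD _ hx.1,
      mul_mem (mul_mem hG hx.2) (inv_mem hG)⟩
  obtain ⟨t', u', v', hc'⟩ := exists_coords hK hperf f hf _ hc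
  refine ⟨t', u', v', hc', ?_⟩
  have hcne : ∀ i < chevG2.rank, extC chevG2 (pc m y) i ≠ 0 := fun i _ => extC_ne_zero chevG2 (pc m y) i
  rw [u_normal, u_normal, ChevFacts'.conj_wordGL hF (pHom (m := m) y) _ hcne (pHom_val y) _ (by
    intro q hq
    simp only [List.mem_cons, List.not_mem_nil, or_false] at hq
    rcases hq with rfl | rfl | rfl | rfl | rfl | rfl <;> dsimp only <;> decide)] at hc'
  obtain ⟨k1, -, -, -, k5, -⟩ := inj_u _ _ _ _ _ _ _ _ _ _ _ _ hc'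
  exact ⟨k1.symm, k5.symm⟩

end finite

end Cfsg.Agent.Lead.Tw.G2
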