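import Mathlib
import Cfsg.Agent.Lib.Lead.TwG2AutA
import Cfsg.Agent.Lib.Lead.TwG2Mul
import Cfsg.Agent.Lib.Lead.TwG2Stab
import Cfsg.Agent.S1080

/-!
# Automorphisms of the small Ree groups: field automorphisms and the coordinate model
-/

set_option autoImplicit false
set_option linter.unusedSectionVars false
set_option linter.unusedSimpArgs false
set_option linter.unusedVariables false

namespace Cfsg.Agent.Lead.Tw.G2

open Cfsg Cfsg.Lie Cfsg.Agent.Lead.Chev Cfsg.Agent.Lead.ZPM Cfsg.Agent.Lead.Tw.G2Aut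

section fieldmap

variable {K : Type*} [Field K]

/-- the entrywise action of a field automorphism -/
noncomputable abbrev PhiG (φ : K ≃+* K) : GL chevG2.Idx K ≃* GL chevG2.Idx K :=
  Cfsg.Agent.S1080.Phi chevG2 φ

theorem Phi_xGL (φ : K ≃+* K) (r : ℕ) (hr : r < chevG2.nroots) (t : K) :
    PhiG φ (xGL chevG2 hF.xadd r t) = xGL chevG2 hF.xadd r (φ t) := by
  apply Units.ext
  rw [Cfsg.Agent.S1080.Phi_coe, xGL_val, xGL_val]
  unfold ChevalleyDatum.x
  rw [dif_pos hr, dif_pos hr, Cfsg.Agent.S1080.xMat_map]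

theorem Phi_wordGL (φ : K ≃+* K) (w : List (ℕ × K)) (hw : ∀ q ∈ w, q.1 < chevG2.nroots) :
    PhiG φ (wordGL chevG2 hF.xadd w) = wordGL chevG2 hF.xadd (w.map fun q => (q.1, φ q.2)) := by
  induction w with
  | nil => rw [wordGL_nil, map_one, List.map_nil, wordGL_nil]
  | cons q w ih =>
    rw [wordGL_cons, map_mul, Phi_xGL φ q.1 (hw q List.mem_cons_self),
      ih (fun q' hq' => hw q' (List.mem_cons_of_mem _ hq')), List.map_cons, wordGL_cons]

theorem reeWordU_lt (e : ℕ) (t u v : K) : ∀ q ∈ reeWordU e t u v, q.1 < chevG2.nroots := by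
  intro q hq
  simp only [reeWordU, List.mem_cons, List.not_mem_nil, or_false] at hq
  rcases hq with rfl | rfl | rfl | rfl | rfl | rfl <;> dsimp only <;> decide

theorem reeWordV_lt (e : ℕ) (t u v : K) : ∀ q ∈ reeWordV e t u v, q.1 < chevG2.nroots := by
  intro q hq
  simp only [reeWordV, ChevalleyDatum.negWord, reeWordU, List.map_cons, List.map_nil, List.mem_cons,
    List.not_mem_nil, or_false] at hq
  rcases hq with rfl | rfl | rfl | rfl | rfl | rfl <;> dsimp only <;> decide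

theorem Phi_reeU (φ : K ≃+* K) (e : ℕ) (t u v : K) :
    PhiG φ (wordGL chevG2 hF.xadd (reeWordU e t u v)) = wordGL chevG2 hF.xadd (reeWordU e (φ t) (φ u) (φ v)) := by
  rw [Phi_wordGL φ _ (reeWordU_lt e t u v)]
  congr 1
  simp [reeWordU, map_pow, map_add]

theorem Phi_reeV (φ : K ≃+* K) (e : ℕ) (t u v : K) :
    PhiG φ (wordGL chevG2 hF.xadd (reeWordV e t u v)) = wordGL chevG2 hF.xadd (reeWordV e (φ t) (φ u) (φ v)) := by
  rw [Phi_wordGL φ _ (reeWordV_lt e t u v)]
  congr 1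
  simp [reeWordV, ChevalleyDatum.negWord, reeWordU, map_pow, map_add, map_neg]

theorem Phi_mem (φ : K ≃+* K) (e : ℕ) {g : GL chevG2.Idx K} (hg : g ∈ twistedG2 K e) :
    PhiG φ g ∈ twistedG2 K e := by
  have hle : (twistedG2 K e).map (PhiG φ).toMonoidHom ≤ twistedG2 K e := by
    unfold twistedG2 ChevalleyDatum.genSubgroup
    rw [MonoidHom.map_closure, Subgroup.closure_le]
    rintro _ ⟨g, ⟨w, hw, hgw⟩, rfl⟩
    apply Subgroup.subset_closure
    obtain ⟨t, u, v, rfl | rfl⟩ := hw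
    · refine ⟨reeWordU e (φ t) (φ u) (φ v), ⟨_, _, _, Or.inl rfl⟩, ?_⟩
      have hg' : g = wordGL chevG2 hF.xadd (reeWordU e t u v) := Units.ext (by rw [hgw, wordGL_val])
      show ((PhiG φ g : GL chevG2.Idx K) : Matrix chevG2.Idx chevG2.Idx K) = _
      rw [hg', Phi_reeU, wordGL_val]
    · refine ⟨reeWordV e (φ t) (φ u) (φ v), ⟨_, _, _, Or.inr rfl⟩, ?_⟩
      have hg' : g = wordGL chevG2 hF.xadd (reeWordV e t u v) := Units.ext (by rw [hgw, wordGL_val])
      show ((PhiG φ g : GL chevG2.Idx K) : Matrix chevG2.Idx chevG2.Idx K) = _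
      rw [hg', Phi_reeV, wordGL_val]
  exact hle ⟨g, hg, rfl⟩

theorem Phi_Phi (φ ψ : K ≃+* K) (g : GL chevG2.Idx K) : PhiG φ (PhiG ψ g) = PhiG (ψ.trans φ) g := by
  apply Units.ext
  ext i j
  rw [Cfsg.Agent.S1080.Phi_coe, Cfsg.Agent.S1080.Phi_coe, Cfsg.Agent.S1080.Phi_coe]
  rfl

theorem Phi_refl (g : GL chevG2.Idx K) : PhiG (RingEquiv.refl K) g = g := by
  apply Units.ext
  ext i j
  rw [Cfsg.Agent.S1080.Phi_coe]
  rfl

/-- the endomorphism of the Ree group induced by a field automorphism -/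
noncomputable def fieldHom (e : ℕ) (φ : K ≃+* K) : ↥(twistedG2 K e) →* ↥(twistedG2 K e) :=
  ((PhiG φ).toMonoidHom.comp (twistedG2 K e).subtype).codRestrict (twistedG2 K e)
    (fun g => Phi_mem φ e g.2)

theorem fieldHom_coe (e : ℕ) (φ : K ≃+* K) (g : ↥(twistedG2 K e)) :
    ((fieldHom e φ g : ↥(twistedG2 K e)) : GL chevG2.Idx K) = PhiG φ (g : GL chevG2.Idx K) := rfl

/-- the automorphism of the Ree group induced by a field automorphism -/
noncomputable def fieldAut (e : ℕ) : (K ≃+* K) →* MulAut ↥(twistedG2 K e) where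
  toFun φ :=
    { toFun := fieldHom e φ
      invFun := fieldHom e φ.symm
      left_inv := by
        intro g
        apply Subtype.ext
        rw [fieldHom_coe, fieldHom_coe, Phi_Phi, RingEquiv.self_trans_symm, Phi_refl]
      right_inv := by
        intro g
        apply Subtype.ext
        rw [fieldHom_coe, fieldHom_coe, Phi_Phi, RingEquiv.symm_trans_self, Phi_refl]
      map_mul' := map_mul _ }
  map_one' := by
    apply MulEquiv.ext
    intro g
    apply Subtype.ext
    exact Phi_refl _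
  map_mul' := by
    intro φ ψ
    apply MulEquiv.ext
    intro g
    apply Subtype.ext
    show PhiG (φ * ψ) (g : GL chevG2.Idx K) = PhiG φ (PhiG ψ (g : GL chevG2.Idx K))
    rw [Phi_Phi]
    rfl

theorem fieldAut_coe (e : ℕ) (φ : K ≃+* K) (g : ↥(twistedG2 K e)) :
    ((fieldAut e φ g : ↥(twistedG2 K e)) : GL chevG2.Idx K) = PhiG φ (g : GL chevG2.Idx K) := rfl

/-- the action on the torus -/
theorem Phi_torusHom (φ : K ≃+* K) (c : Fin chevG2.rank → Kˣ) :
    PhiG φ (torusHom chevG2 K c) = torusHom chevG2 K (fun i => Units.map (φ : K →* K) (c i)) := by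
  apply Units.ext
  rw [Cfsg.Agent.S1080.Phi_coe, torusHom_val, torusHom_val]
  unfold Tmat
  rw [Matrix.diagonal_map (map_zero φ)]
  congr 1
  funext i
  rcases i with i | v
  · simp
  · simp only [Function.comp_apply, Sum.elim_inr]
    rw [← chiU_val, ← chiU_val]
    unfold chiU
    rw [Units.coe_prod, Units.coe_prod, map_prod]
    apply Finset.prod_congr rfl
    intro i _
    rw [Units.val_zpow_eq_zpow_val, Units.val_zpow_eq_zpow_val, map_zpow₀]
    rfl

theorem Phi_pHom {m : ℕ} (φ : K ≃+* K) (y : Kˣ) :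
    PhiG φ (pHom (m := m) y) = pHom (m := m) (Units.map (φ : K →* K) y) := by
  rw [pHom_apply, pHom_apply, Phi_torusHom]
  congr 1
  funext i
  unfold pc
  split_ifs
  · rw [map_pow]
  · rfl

end fieldmap

section model

variable {K : Type*} [Field K] [Fintype K] [CharP K 3] {m : ℕ}

/-- the elements of `U¹` -/
noncomputable def XG (m : ℕ) (t u v : K) : ↥(twistedG2 K (3 ^ m)) :=
  ⟨wordGL chevG2 hF.xadd (reeWordU (3 ^ m) t u v), gen_mem _ (pos_mem t u v)⟩

theorem XG_coe (t u v : K) :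
    ((XG m t u v : ↥(twistedG2 K (3 ^ m))) : GL chevG2.Idx K) =
      wordGL chevG2 hF.xadd (reeWordU (3 ^ m) t u v) := rfl

theorem XG_inj (t u v t' u' v' : K) (h : XG m t u v = XG m t' u' v') : t = t' ∧ u = u' ∧ v = v' := by
  have h1 := congrArg Subtype.val h
  rw [XG_coe, XG_coe, u_normal, u_normal] at h1
  obtain ⟨k1, -, -, -, k5, k6⟩ := inj_u _ _ _ _ _ _ _ _ _ _ _ _ h1
  subst k1
  exact ⟨rfl, add_right_cancel k5, add_right_cancel k6⟩

variable (hK : Fintype.card K = 3 ^ (2 * m + 1))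
  (hperf : ∀ x : K, ∃ y : K, y ^ 3 = x) (f : K ≃+* K) (hf : ∀ t, f t = t ^ (3 ^ m))
include hK hperf hf

/-- the elements of `H¹` -/
noncomputable def hhG : Kˣ →* ↥(twistedG2 K (3 ^ m)) :=
  (pHom (m := m) (K := K)).codRestrict (twistedG2 K (3 ^ m)) (fun y => (pHom_mem hK hperf f hf y).2)

theorem hhG_coe (y : Kˣ) :
    ((hhG hK hperf f hf y : ↥(twistedG2 K (3 ^ m))) : GL chevG2.Idx K) = pHom (m := m) y := rfl

/-- the product `x(0,u,v) x(t',0,0)`, with all coordinates -/
theorem mul_0uv_t00_full (u v t' : K) :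
    wordGL chevG2 hF.xadd (reeWordU (3 ^ m) 0 u v) * wordGL chevG2 hF.xadd (reeWordU (3 ^ m) t' 0 0) =
      wordGL chevG2 hF.xadd (reeWordU (3 ^ m) t' u (v + 2 * u * t')) := by
  have hmem := mul_mem (xU_mem hK hperf f hf 0 u v) (xU_mem hK hperf f hf t' 0 0)
  obtain ⟨t₂, u₂, v₂, e⟩ := exists_coords hK hperf f hf _ hmem
  have e' := e
  rw [u1_word u v, t00_form t'] at e'
  have e2 := ((wordGL_append chevG2 (hF (K := K)).xadd _ _).symm.trans
    (wordGL_congr_val _ _ (MCalc.g2M2 (u ^ 3 ^ m) (v ^ 3 ^ m) u v t' (t' ^ 3 ^ m)))).symm.trans e'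
  rw [u_normal] at e2
  obtain ⟨k1, -, -, -, k5, k6⟩ := inj_u _ _ _ _ _ _ _ _ _ _ _ _ e2
  rw [e]
  have ht : t₂ = t' := k1.symm
  subst ht
  have hu : u₂ = u := by linear_combination (-1 : K) * k5
  have hv : v₂ = v + 2 * u * t₂ := by linear_combination (-1 : K) * k6
  rw [hu, hv]

/-- conjugation of `U¹` by `H¹`, with all coordinates -/
theorem conj_full (y : Kˣ) (t u v : K) :
    pHom (m := m) y * wordGL chevG2 hF.xadd (reeWordU (3 ^ m) t u v) * (pHom (m := m) y)⁻¹ =
      wordGL chevG2 hF.xadd (reeWordU (3 ^ m) ((l1 m y : K) * t) ((l2 m y : K) * u) ((y : K) * v)) := by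
  have hG := (pHom_mem hK hperf f hf y).2
  have hD := (pHom_mem hK hperf f hf y).1
  have hx := xU_mem hK hperf f hf t u v
  have hc : pHom (m := m) y * wordGL chevG2 hF.xadd (reeWordU (3 ^ m) t u v) * (pHom (m := m) y)⁻¹ ∈
      chevG2.posUnipotent K ⊓ twistedG2 K (3 ^ m) :=
    Subgroup.mem_inf.2 ⟨conj_mem_posUnipotent chevG2 (hF (K := K)).hall (hF (K := K)).hconj _ hD _ hx.1,
      mul_mem (mul_mem hG hx.2) (inv_mem hG)⟩
  obtain ⟨t', u', v', hc'⟩ := exists_coords hK hperf f hf _ hc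
  rw [hc']
  have hcne : ∀ i < chevG2.rank, extC chevG2 (pc m y) i ≠ 0 := fun i _ => extC_ne_zero chevG2 (pc m y) i
  rw [u_normal, u_normal, ChevFacts'.conj_wordGL hF (pHom (m := m) y) _ hcne (pHom_val y) _ (by
    intro q hq
    simp only [List.mem_cons, List.not_mem_nil, or_false] at hq
    rcases hq with rfl | rfl | rfl | rfl | rfl | rfl <;> dsimp only <;> decide)] at hc'
  obtain ⟨k1, -, -, -, k5, k6⟩ := inj_u _ _ _ _ _ _ _ _ _ _ _ _ hc'
  have hfrob := frob_key hK f hf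
  have hy0 : (y : K) ≠ 0 := Units.ne_zero y
  have c6 : chi chevG2 (extC chevG2 (pc m y)) 6 = (l1 m y : K) := by
    rw [chi_p, cartan_vals.1, cartan_vals.2.1, l1_val, zpow_neg, zpow_ofNat, zpow_ofNat, mul_comm]
  have c10 : chi chevG2 (extC chevG2 (pc m y)) 10 = (l2 m y : K) := by
    rw [chi_p, cartan_vals.2.2.1, cartan_vals.2.2.2.1, l2_val, zpow_neg, zpow_one, zpow_ofNat]
  have c11 : chi chevG2 (extC chevG2 (pc m y)) 11 = (y : K) := by
    rw [chi_p, cartan_vals.2.2.2.2.1, cartan_vals.2.2.2.2.2, zpow_zero, one_mul, zpow_one]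
  rw [c6] at k1
  rw [c10] at k5
  rw [c11] at k6
  have h2 := l2_eq_of_frob hfrob y
  have h3 := y_eq_of_frob hfrob y
  have ht : t' = (l1 m y : K) * t := k1.symm
  have hgt : (t' ^ 3 ^ m) ^ 3 = gg m (l1 m y : K) * gg m t := by
    rw [ht, ← gg_mul]
    rfl
  have hgt0 : (t ^ 3 ^ m) ^ 3 = gg m t := rfl
  rw [hgt, hgt0] at k5 k6
  have hu : u' = (l2 m y : K) * u := by
    rw [ht] at k5
    linear_combination (-1 : K) * k5 + (gg m t * t) * h2
  have hv : v' = (y : K) * v := by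
    rw [ht] at k6
    linear_combination (-1 : K) * k6 + (gg m t * t ^ 2) * h3
  rw [ht, hu, hv]

/-- **the coordinate model of the Borel subgroup of the small Ree group** -/
noncomputable def model : Model m K ↥(twistedG2 K (3 ^ m)) where
  X := XG m
  hh := hhG hK hperf f hf
  FA := fieldAut (3 ^ m)
  X_inj := XG_inj
  hh_inj := by
    intro a b hab
    exact pHom_injective (congrArg Subtype.val hab)
  mul1 := fun t u v u' v' => Subtype.ext (u_mul_u1 t u v u' v')
  mul2 := fun t t' => by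
    obtain ⟨v₃, h⟩ := mul_t00 hK hperf f hf t t'
    exact ⟨v₃, Subtype.ext h⟩
  mul3 := fun u v t' => Subtype.ext (mul_0uv_t00_full hK hperf f hf u v t')
  cube := fun t u v => Subtype.ext (by
    rw [SubgroupClass.coe_pow]
    exact cube_form hK f hf t u v)
  conj := fun y t u v => Subtype.ext (by
    show pHom (m := m) y * wordGL chevG2 hF.xadd (reeWordU (3 ^ m) t u v) * (pHom (m := m) y)⁻¹ = _
    exact conj_full hK hperf f hf y t u v)
  l1_surj := l1_surj_of_frob (frob_key hK f hf)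
  frob := frob_key hK f hf
  FA_X := fun φ t u v => Subtype.ext (by
    rw [fieldAut_coe, XG_coe, XG_coe, Phi_reeU])
  FA_hh := fun φ y => Subtype.ext (by
    rw [fieldAut_coe, hhG_coe, hhG_coe, Phi_pHom])

end model

end Cfsg.Agent.Lead.Tw.G2
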