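import Mathlib
import Cfsg.Agent.Lib.Lead.TwG2AutB
import Cfsg.Agent.Lib.Lead.TwReeBorel
import Cfsg.Agent.Lib.Helper6.AutAbs

/-!
# Automorphisms of the small Ree groups: the normalisers of `U¹` and of `H¹`
-/

set_option autoImplicit false
set_option linter.unusedSectionVars false
set_option linter.unusedSimpArgs false
set_option linter.unusedVariables false

namespace Cfsg.Agent.Lead.Tw.G2

open Cfsg Cfsg.Lie Cfsg.Agent.Lead.Chev Cfsg.Agent.Lead.ZPM Cfsg.Agent.Lead.Tw.G2Aut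

section

variable {K : Type*} [Field K] [Fintype K] [CharP K 3] {m : ℕ} (hK : Fintype.card K = 3 ^ (2 * m + 1))
  (hperf : ∀ x : K, ∃ y : K, y ^ 3 = x) (f : K ≃+* K) (hf : ∀ t, f t = t ^ (3 ^ m))
include hK hperf hf

/-- the representative of the Weyl element, in the group -/
noncomputable def n₀G : ↥(twistedG2 K (3 ^ m)) := ⟨n₀ K, n₀_mem hK hperf f hf⟩

theorem n₀G_coe : ((n₀G hK hperf f hf : ↥(twistedG2 K (3 ^ m))) : GL chevG2.Idx K) = n₀ K := rfl

/-- a non-identity element of `U¹` -/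
theorem exists_unip :
    ∃ u : ↥(twistedG2 K (3 ^ m)), (u : GL chevG2.Idx K) ∈ chevG2.posUnipotent K ∧ u ≠ 1 := by
  refine ⟨XG m 1 0 0, (xU_mem hK hperf f hf 1 0 0).1, ?_⟩
  intro h
  have h1 : XG m (1 : K) 0 0 = XG m 0 0 0 := by
    rw [h]
    exact ((model hK hperf f hf).X_zero).symm
  exact one_ne_zero (XG_inj _ _ _ _ _ _ h1).1

/-- the normaliser of `U¹` is `B¹` -/
theorem mem_borel_iff_normalizes (g : ↥(twistedG2 K (3 ^ m))) :
    (g : GL chevG2.Idx K) ∈ chevG2.borelSubgroup K ↔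
      ∀ x : ↥(twistedG2 K (3 ^ m)), (x : GL chevG2.Idx K) ∈ chevG2.posUnipotent K →
        ((g * x * g⁻¹ : ↥(twistedG2 K (3 ^ m))) : GL chevG2.Idx K) ∈ chevG2.posUnipotent K := by
  constructor
  · intro hg x hx
    have hN := borel_le_normalizer (K := K) hg
    exact (Subgroup.mem_normalizer_iff.1 hN _).1 hx
  · intro h
    obtain ⟨u, hu, hne⟩ := exists_unip hK hperf f hf
    have hne' : (u : GL chevG2.Idx K) ≠ 1 := by
      intro h1
      exact hne (Subtype.ext h1)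
    exact mem_borel_of_conj hK hperf f hf (g : GL chevG2.Idx K) g.2 (u : GL chevG2.Idx K) hu hne' (h u hu)

/-- `n₀` does not lie in `B` -/
theorem n₀_not_mem_borel : n₀ K ∉ chevG2.borelSubgroup K := by
  intro h
  obtain ⟨u, hu, hne⟩ := exists_unip hK hperf f hf
  apply hne
  apply Subtype.ext
  apply conj_eq_one hK hperf f hf (u : GL chevG2.Idx K) hu
  exact mul_mem (mul_mem h (posUnipotent_le_borel _ hu)) (inv_mem h)

/-- `H¹` is the intersection of the normalisers of `U¹` and of the opposite subgroup -/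
theorem mem_diagonal_iff_normalizes (g : ↥(twistedG2 K (3 ^ m))) :
    (g : GL chevG2.Idx K) ∈ chevG2.diagonalSubgroup K ↔
      (∀ x : ↥(twistedG2 K (3 ^ m)), (x : GL chevG2.Idx K) ∈ chevG2.posUnipotent K →
        ((g * x * g⁻¹ : ↥(twistedG2 K (3 ^ m))) : GL chevG2.Idx K) ∈ chevG2.posUnipotent K) ∧
      (∀ x : ↥(twistedG2 K (3 ^ m)), n₀ K * (x : GL chevG2.Idx K) * (n₀ K)⁻¹ ∈ chevG2.posUnipotent K →
        n₀ K * ((g * x * g⁻¹ : ↥(twistedG2 K (3 ^ m))) : GL chevG2.Idx K) * (n₀ K)⁻¹ ∈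
          chevG2.posUnipotent K) := by
  have hnorm : chevG2.diagonalSubgroup K ≤ Subgroup.normalizer (chevG2.posUnipotent K : Set (GL chevG2.Idx K)) :=
    diagonalSubgroup_le_normalizer chevG2 (hF (K := K)).hall (hF (K := K)).hconj
  constructor
  · intro hg
    refine ⟨fun x hx => (Subgroup.mem_normalizer_iff.1 (hnorm hg) _).1 hx, fun x hx => ?_⟩
    have hd := hF.monomial_conj_mem_diagonal _ (n₀_mem_monomial (K := K)) (g : GL chevG2.Idx K) hg
    have h1 := (Subgroup.mem_normalizer_iff.1 (hnorm hd) _).1 hx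
    have e : n₀ K * ((g * x * g⁻¹ : ↥(twistedG2 K (3 ^ m))) : GL chevG2.Idx K) * (n₀ K)⁻¹ =
        n₀ K * (g : GL chevG2.Idx K) * (n₀ K)⁻¹ * (n₀ K * (x : GL chevG2.Idx K) * (n₀ K)⁻¹) *
          (n₀ K * (g : GL chevG2.Idx K) * (n₀ K)⁻¹)⁻¹ := by
      simp only [Subgroup.coe_mul, Subgroup.coe_inv]
      group
    rw [e]
    exact h1
  · rintro ⟨h1, h2⟩
    have hgB := (mem_borel_iff_normalizes hK hperf f hf g).2 h1
    apply mem_diagonal_of_conj hK hperf f hf _ hgB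
    -- `n₀ g n₀⁻¹` normalises `U¹`
    set g' : ↥(twistedG2 K (3 ^ m)) := n₀G hK hperf f hf * g * (n₀G hK hperf f hf)⁻¹ with hg'
    have hg'c : (g' : GL chevG2.Idx K) = n₀ K * (g : GL chevG2.Idx K) * (n₀ K)⁻¹ := rfl
    rw [← hg'c]
    apply (mem_borel_iff_normalizes hK hperf f hf g').2
    intro y hy
    set x : ↥(twistedG2 K (3 ^ m)) := (n₀G hK hperf f hf)⁻¹ * y * n₀G hK hperf f hf with hx
    have hxc : n₀ K * (x : GL chevG2.Idx K) * (n₀ K)⁻¹ = (y : GL chevG2.Idx K) := by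
      rw [hx]
      simp only [Subgroup.coe_mul, Subgroup.coe_inv, n₀G_coe]
      group
    have h3 := h2 x (by rw [hxc]; exact hy)
    have e : ((g' * y * g'⁻¹ : ↥(twistedG2 K (3 ^ m))) : GL chevG2.Idx K) =
        n₀ K * ((g * x * g⁻¹ : ↥(twistedG2 K (3 ^ m))) : GL chevG2.Idx K) * (n₀ K)⁻¹ := by
      rw [hg', hx]
      simp only [Subgroup.coe_mul, Subgroup.coe_inv, n₀G_coe]
      group
    rw [e]
    exact h3

/-- an automorphism preserving `U¹` and the opposite subgroup preserves `H¹` -/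
theorem maps_diagonal (θ : ↥(twistedG2 K (3 ^ m)) ≃* ↥(twistedG2 K (3 ^ m)))
    (hU : ∀ x, ((θ x : ↥(twistedG2 K (3 ^ m))) : GL chevG2.Idx K) ∈ chevG2.posUnipotent K ↔
      (x : GL chevG2.Idx K) ∈ chevG2.posUnipotent K)
    (hV : ∀ x, n₀ K * ((θ x : ↥(twistedG2 K (3 ^ m))) : GL chevG2.Idx K) * (n₀ K)⁻¹ ∈ chevG2.posUnipotent K ↔
      n₀ K * (x : GL chevG2.Idx K) * (n₀ K)⁻¹ ∈ chevG2.posUnipotent K)
    (g : ↥(twistedG2 K (3 ^ m))) (hg : (g : GL chevG2.Idx K) ∈ chevG2.diagonalSubgroup K) :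
    ((θ g : ↥(twistedG2 K (3 ^ m))) : GL chevG2.Idx K) ∈ chevG2.diagonalSubgroup K := by
  obtain ⟨h1, h2⟩ := (mem_diagonal_iff_normalizes hK hperf f hf g).1 hg
  apply (mem_diagonal_iff_normalizes hK hperf f hf (θ g)).2
  constructor
  · intro x hx
    have hx' : ((θ.symm x : ↥(twistedG2 K (3 ^ m))) : GL chevG2.Idx K) ∈ chevG2.posUnipotent K := by
      rw [← hU, MulEquiv.apply_symm_apply]
      exact hx
    have h3 := h1 _ hx'
    rw [← hU, map_mul, map_mul, map_inv, MulEquiv.apply_symm_apply] at h3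
    exact h3
  · intro x hx
    have hx' : n₀ K * ((θ.symm x : ↥(twistedG2 K (3 ^ m))) : GL chevG2.Idx K) * (n₀ K)⁻¹ ∈
        chevG2.posUnipotent K := by
      rw [← hV, MulEquiv.apply_symm_apply]
      exact hx
    have h3 := h2 _ hx'
    rw [← hV, map_mul, map_mul, map_inv, MulEquiv.apply_symm_apply] at h3
    exact h3

end

end Cfsg.Agent.Lead.Tw.G2
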