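import Mathlib
import Cfsg.Agent.Lib.Lead.TwG2AutC

/-!
# Automorphisms of the small Ree groups: normalising an automorphism
-/

set_option autoImplicit false
set_option linter.unusedSectionVars false
set_option linter.unusedSimpArgs false
set_option linter.unusedVariables false

namespace Cfsg.Agent.Lead.Tw.G2

open Cfsg Cfsg.Lie Cfsg.Agent.Lead.Chev Cfsg.Agent.Lead.ZPM Cfsg.Agent.Lead.Tw.G2Aut
  Cfsg.Agent.Helper6.AutAbs

theorem mem_iff_of_map_eq {Γ : Type*} [Group Γ] (W : Subgroup Γ) (ψ : Γ ≃* Γ)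
    (h : W.map ψ.toMonoidHom = W) (x : Γ) : ψ x ∈ W ↔ x ∈ W := by
  constructor
  · intro hx
    rw [← h] at hx
    obtain ⟨y, hy, hyx⟩ := hx
    have : y = x := ψ.injective hyx
    rwa [← this]
  · intro hx
    rw [← h]
    exact ⟨x, hx, rfl⟩

section

variable {K : Type*} [Field K] [Fintype K] [CharP K 3] {m : ℕ} (hK : Fintype.card K = 3 ^ (2 * m + 1))
  (hperf : ∀ x : K, ∃ y : K, y ^ 3 = x) (f : K ≃+* K) (hf : ∀ t, f t = t ^ (3 ^ m))
include hK hperf hf

/-- **every automorphism is, up to an inner automorphism, one preserving `U¹` and the opposite subgroup** -/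
theorem exists_normalize (α : MulAut ↥(twistedG2 K (3 ^ m))) :
    ∃ c : ↥(twistedG2 K (3 ^ m)),
      (∀ x, (((MulAut.conj c * α) x : ↥(twistedG2 K (3 ^ m))) : GL chevG2.Idx K) ∈ chevG2.posUnipotent K ↔
        (x : GL chevG2.Idx K) ∈ chevG2.posUnipotent K) ∧
      (∀ x, n₀ K * (((MulAut.conj c * α) x : ↥(twistedG2 K (3 ^ m))) : GL chevG2.Idx K) * (n₀ K)⁻¹ ∈
          chevG2.posUnipotent K ↔
        n₀ K * (x : GL chevG2.Idx K) * (n₀ K)⁻¹ ∈ chevG2.posUnipotent K) := by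
  classical
  have : Fact (Nat.Prime 3) := ⟨Nat.prime_three⟩
  set nG := n₀G hK hperf f hf with hnG
  set U1 : Subgroup ↥(twistedG2 K (3 ^ m)) :=
    (chevG2.posUnipotent K ⊓ twistedG2 K (3 ^ m)).subgroupOf (twistedG2 K (3 ^ m)) with hU1
  have hmemU1 : ∀ x : ↥(twistedG2 K (3 ^ m)), x ∈ U1 ↔ (x : GL chevG2.Idx K) ∈ chevG2.posUnipotent K := by
    intro x
    rw [hU1, Subgroup.mem_subgroupOf, Subgroup.mem_inf]
    exact ⟨fun h => h.1, fun h => ⟨h, x.2⟩⟩
  set V1 : Subgroup ↥(twistedG2 K (3 ^ m)) := U1.map (MulAut.conj nG⁻¹).toMonoidHom with hV1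
  have hmemV1 : ∀ x : ↥(twistedG2 K (3 ^ m)),
      x ∈ V1 ↔ n₀ K * (x : GL chevG2.Idx K) * (n₀ K)⁻¹ ∈ chevG2.posUnipotent K := by
    intro x
    rw [hV1, Subgroup.mem_map]
    constructor
    · rintro ⟨u, hu, rfl⟩
      rw [hmemU1] at hu
      have e : n₀ K * (((MulAut.conj nG⁻¹).toMonoidHom u : ↥(twistedG2 K (3 ^ m))) : GL chevG2.Idx K) *
          (n₀ K)⁻¹ = (u : GL chevG2.Idx K) := by
        simp only [MulEquiv.coe_toMonoidHom, MulAut.conj_apply, Subgroup.coe_mul, Subgroup.coe_inv, hnG,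
          n₀G_coe, inv_inv]
        group
      rw [e]
      exact hu
    · intro hx
      refine ⟨nG * x * nG⁻¹, (hmemU1 _).2 hx, ?_⟩
      simp only [MulEquiv.coe_toMonoidHom, MulAut.conj_apply, inv_inv]
      group
  -- `U¹` is a Sylow subgroup
  have hcardU : Nat.card ↥U1 = 3 ^ (3 * (2 * m + 1)) := by
    rw [hU1, Nat.card_congr (Subgroup.subgroupOfEquivOfLe (inf_le_right :
      chevG2.posUnipotent K ⊓ twistedG2 K (3 ^ m) ≤ twistedG2 K (3 ^ m))).toEquiv, card_U hK hperf f hf,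
      ← pow_mul, mul_comm]
  have hp : IsPGroup 3 ↥U1 := IsPGroup.of_card hcardU
  have hidx : ¬ 3 ∣ U1.index := by
    have h1 := Subgroup.card_mul_index U1
    rw [hcardU, card_group hK hperf f hf] at h1
    have hq : (3 ^ (2 * m + 1)) ^ 3 = 3 ^ (3 * (2 * m + 1)) := by rw [← pow_mul, mul_comm]
    rw [hq, mul_assoc] at h1
    have h2 := Nat.eq_of_mul_eq_mul_left (by positivity) h1
    rw [h2]
    intro hd
    have hX : 3 ∣ 3 ^ (2 * m + 1) := dvd_pow_self 3 (by omega)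
    have hY : 3 ∣ 3 ^ (3 * (2 * m + 1)) := dvd_pow_self 3 (by omega)
    have hX1 : 1 ≤ 3 ^ (2 * m + 1) := Nat.one_le_pow _ _ (by norm_num)
    rcases (Nat.Prime.dvd_mul Nat.prime_three).1 hd with h3 | h3
    · omega
    · omega
  have hSyl : ∃ P : Sylow 3 ↥(twistedG2 K (3 ^ m)), (P : Subgroup ↥(twistedG2 K (3 ^ m))) = U1 :=
    ⟨hp.toSylow hidx, rfl⟩
  -- elements of `B¹` normalise `U¹`
  have hnormB : ∀ b : ↥(twistedG2 K (3 ^ m)), (b : GL chevG2.Idx K) ∈ chevG2.borelSubgroup K →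
      U1.map (MulAut.conj b).toMonoidHom = U1 := by
    intro b hb
    ext x
    rw [Subgroup.mem_map]
    constructor
    · rintro ⟨y, hy, rfl⟩
      rw [hmemU1] at hy ⊢
      exact (mem_borel_iff_normalizes hK hperf f hf b).1 hb y hy
    · intro hx
      rw [hmemU1] at hx
      refine ⟨b⁻¹ * x * b, ?_, ?_⟩
      · rw [hmemU1]
        have hb' : ((b⁻¹ : ↥(twistedG2 K (3 ^ m))) : GL chevG2.Idx K) ∈ chevG2.borelSubgroup K :=
          inv_mem hb
        have := (mem_borel_iff_normalizes hK hperf f hf b⁻¹).1 hb' x hx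
        rwa [inv_inv] at this
      · simp only [MulEquiv.coe_toMonoidHom, MulAut.conj_apply]
        group
  have hUV : U1 ⊓ V1 = ⊥ := by
    rw [eq_bot_iff]
    intro x hx
    obtain ⟨hx1, hx2⟩ := Subgroup.mem_inf.1 hx
    rw [hmemU1] at hx1
    rw [hmemV1] at hx2
    rw [Subgroup.mem_bot]
    apply Subtype.ext
    exact conj_eq_one hK hperf f hf _ hx1 (posUnipotent_le_borel _ hx2)
  have hkey : ∀ g : ↥(twistedG2 K (3 ^ m)), U1.map (MulAut.conj g).toMonoidHom ⊓ U1 = ⊥ →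
      ∃ u ∈ U1, U1.map (MulAut.conj g).toMonoidHom = V1.map (MulAut.conj u).toMonoidHom := by
    intro g hg
    have hgB : (g : GL chevG2.Idx K) ∉ chevG2.borelSubgroup K := by
      intro hb
      obtain ⟨u, hu, hne⟩ := exists_unip hK hperf f hf
      apply hne
      have h1 : u ∈ U1.map (MulAut.conj g).toMonoidHom ⊓ U1 := by
        rw [hnormB g hb, inf_idem, hmemU1]
        exact hu
      rw [hg, Subgroup.mem_bot] at h1
      exact h1
    obtain ⟨u, hu, β, hβ, e⟩ := bruhat_inv hK hperf f hf (g : GL chevG2.Idx K) g.2 hgB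
    set u' : ↥(twistedG2 K (3 ^ m)) := ⟨u, hu.2⟩ with hu'
    set β' : ↥(twistedG2 K (3 ^ m)) := ⟨β, hβ.2⟩ with hβ'
    have eg : g = u' * nG⁻¹ * β' := Subtype.ext e
    refine ⟨u', (hmemU1 u').2 hu.1, ?_⟩
    rw [hV1, map_conj_mul, eg, ← map_conj_mul U1 (u' * nG⁻¹) β', hnormB β' hβ.1]
  obtain ⟨c, hc1, hc2⟩ := exists_conj_normalize 3 U1 V1 hSyl ⟨nG⁻¹, rfl⟩ hUV hkey α
  refine ⟨c, ?_, ?_⟩
  · intro x
    rw [← hmemU1, ← hmemU1]
    apply mem_iff_of_map_eq U1 (MulAut.conj c * α)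
    have e : U1.map (MulEquiv.toMonoidHom (MulAut.conj c * α)) =
        (U1.map (MulEquiv.toMonoidHom α)).map (MulEquiv.toMonoidHom (MulAut.conj c)) := by
      rw [Subgroup.map_map]
      rfl
    rw [e]
    exact hc1
  · intro x
    rw [← hmemV1, ← hmemV1]
    apply mem_iff_of_map_eq V1 (MulAut.conj c * α)
    have e : V1.map (MulEquiv.toMonoidHom (MulAut.conj c * α)) =
        (V1.map (MulEquiv.toMonoidHom α)).map (MulEquiv.toMonoidHom (MulAut.conj c)) :=
      (Subgroup.map_map V1 (MulEquiv.toMonoidHom (MulAut.conj c)) (MulEquiv.toMonoidHom α)).symm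
    rw [e]
    exact hc2

end

end Cfsg.Agent.Lead.Tw.G2
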