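import Mathlib
import Cfsg.Agent.Lib.Lead.TwG2AutD
import Cfsg.Agent.Lib.Helper2.OutCongr

/-!
# The outer automorphism group of the small Ree groups
-/

set_option autoImplicit false
set_option linter.unusedSectionVars false
set_option linter.unusedSimpArgs false
set_option linter.unusedVariables false

namespace Cfsg.Agent.Lead.Tw.G2

open Cfsg Cfsg.Lie Cfsg.Agent.Lead.Chev Cfsg.Agent.Lead.ZPM Cfsg.Agent.Lead.Tw.G2Aut

section

variable {K : Type*} [Field K] [Fintype K] [CharP K 3] {m : ℕ} (hK : Fintype.card K = 3 ^ (2 * m + 1))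
  (hperf : ∀ x : K, ∃ y : K, y ^ 3 = x) (f : K ≃+* K) (hf : ∀ t, f t = t ^ (3 ^ m))
include hK hperf hf

/-- an automorphism fixing `U¹` and `H¹` elementwise fixes `B¹` elementwise -/
theorem fix_borel (γ : MulAut ↥(twistedG2 K (3 ^ m)))
    (hH : ∀ y : Kˣ, γ (hhG hK hperf f hf y) = hhG hK hperf f hf y)
    (hX : ∀ t u v : K, γ (XG m t u v) = XG m t u v)
    (b : ↥(twistedG2 K (3 ^ m))) (hb : (b : GL chevG2.Idx K) ∈ chevG2.borelSubgroup K) : γ b = b := by
  obtain ⟨u, hu, d, hd, e⟩ := (clsData hK hperf f hf).borel_decomp hS hC (b : GL chevG2.Idx K) hb b.2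
  obtain ⟨t, u', v, hu'⟩ := exists_coords hK hperf f hf u hu
  obtain ⟨y, hy⟩ := exists_param hK hperf f hf d hd
  have eb : b = XG m t u' v * hhG hK hperf f hf y := Subtype.ext (by
    rw [e, hu', hy]
    rfl)
  rw [eb, map_mul, hX, hH]

/-- **an automorphism fixing `B¹` elementwise is trivial** -/
theorem eq_one_of_fix_borel (hm : 1 ≤ m) (γ : MulAut ↥(twistedG2 K (3 ^ m)))
    (hB : ∀ b : ↥(twistedG2 K (3 ^ m)), (b : GL chevG2.Idx K) ∈ chevG2.borelSubgroup K → γ b = b) :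
    γ = 1 := by
  obtain ⟨μ, hμ⟩ := exists_good hK hm
  have hμ1 : μ ≠ 1 := by
    rintro rfl
    exact hμ.2.1 (by simp)
  set nG := n₀G hK hperf f hf with hnG
  set h' : ↥(twistedG2 K (3 ^ m)) := hhG hK hperf f hf μ with hh'
  set h : ↥(twistedG2 K (3 ^ m)) := nG * h' * nG⁻¹ with hh
  have hh'D : (h' : GL chevG2.Idx K) ∈ chevG2.diagonalSubgroup K := (pHom_mem hK hperf f hf μ).1
  have hhD : (h : GL chevG2.Idx K) ∈ chevG2.diagonalSubgroup K :=
    hF.monomial_conj_mem_diagonal _ (n₀_mem_monomial (K := K)) _ hh'D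
  have γh : γ h = h := hB h (diagonal_le_borel _ hhD)
  have γh' : γ h' = h' := hB h' (diagonal_le_borel _ hh'D)
  set n' := γ nG⁻¹ with hn'def
  have hn'B : (n' : GL chevG2.Idx K) ∉ chevG2.borelSubgroup K := by
    intro hb
    have h1 := hB n' hb
    have h2 : n' = nG⁻¹ := γ.injective h1
    apply n₀_not_mem_borel hK hperf f hf
    rw [h2] at hb
    have h3 := inv_mem hb
    have e : ((nG⁻¹ : ↥(twistedG2 K (3 ^ m))) : GL chevG2.Idx K)⁻¹ = n₀ K := by
      simp only [Subgroup.coe_inv, inv_inv, hnG, n₀G_coe]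
    rwa [e] at h3
  obtain ⟨u, hu, β, hβ, e⟩ := bruhat_inv hK hperf f hf (n' : GL chevG2.Idx K) n'.2 hn'B
  have hrel : h' = n' * h * n'⁻¹ := by
    have e1 : nG⁻¹ * h * nG = h' := by
      rw [hh]
      group
    have e0 : n'⁻¹ = γ nG := by rw [hn'def, ← map_inv, inv_inv]
    calc h' = γ h' := γh'.symm
      _ = γ (nG⁻¹ * h * nG) := by rw [e1]
      _ = n' * h * n'⁻¹ := by rw [map_mul, map_mul, γh, e0]
  have hrelGL : pHom (m := m) μ =
      (u * (n₀ K)⁻¹ * β) * (h : GL chevG2.Idx K) * (u * (n₀ K)⁻¹ * β)⁻¹ := by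
    have h1 := congrArg Subtype.val hrel
    simp only [Subgroup.coe_mul, Subgroup.coe_inv] at h1
    rw [e] at h1
    exact h1
  have hb : n₀ K * (u⁻¹ * pHom (m := m) μ * u) * (n₀ K)⁻¹ ∈ chevG2.borelSubgroup K := by
    have e2 : n₀ K * (u⁻¹ * pHom (m := m) μ * u) * (n₀ K)⁻¹ = β * (h : GL chevG2.Idx K) * β⁻¹ := by
      rw [hrelGL]
      group
    rw [e2]
    exact mul_mem (mul_mem hβ.1 (diagonal_le_borel _ hhD)) (inv_mem hβ.1)
  have hcomm := commute_of_conj hK hperf f hf (pHom (m := m) μ) hh'D u hu.1 hb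
  have hu1 : u = 1 := centralizer_trivial hK hperf f hf μ hμ1 hμ.2.1 u hu hcomm
  set β' : ↥(twistedG2 K (3 ^ m)) := ⟨β, hβ.2⟩ with hβ'
  have hn'G : n' = nG⁻¹ * β' := Subtype.ext (by
    rw [e, hu1, one_mul]
    rfl)
  -- `g⁻¹ γ(g)` lies in `B¹`
  have hd : ∀ g : ↥(twistedG2 K (3 ^ m)),
      ((g⁻¹ * γ g : ↥(twistedG2 K (3 ^ m))) : GL chevG2.Idx K) ∈ chevG2.borelSubgroup K := by
    intro g
    by_cases hg : (g : GL chevG2.Idx K) ∈ chevG2.borelSubgroup K
    · rw [hB g hg, inv_mul_cancel]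
      exact one_mem _
    · obtain ⟨u₁, hu₁, β₁, hβ₁, e₁⟩ := bruhat_inv hK hperf f hf (g : GL chevG2.Idx K) g.2 hg
      set u₁' : ↥(twistedG2 K (3 ^ m)) := ⟨u₁, hu₁.2⟩ with hu₁'
      set β₁' : ↥(twistedG2 K (3 ^ m)) := ⟨β₁, hβ₁.2⟩ with hβ₁'
      have eg : g = u₁' * nG⁻¹ * β₁' := Subtype.ext e₁
      have γu : γ u₁' = u₁' := hB _ (posUnipotent_le_borel _ hu₁.1)
      have γβ : γ β₁' = β₁' := hB _ hβ₁.1
      have e3 : g⁻¹ * γ g = β₁'⁻¹ * β' * β₁' := by
        rw [eg, map_mul, map_mul, γu, γβ, ← hn'def, hn'G]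
        group
      rw [e3]
      simp only [Subgroup.coe_mul, Subgroup.coe_inv]
      exact mul_mem (mul_mem (inv_mem hβ₁.1) hβ.1) hβ₁.1
  apply MulEquiv.ext
  intro g
  rw [MulAut.one_apply]
  have hcore : g⁻¹ * γ g ∈
      ((chevG2.borelSubgroup K ⊓ twistedG2 K (3 ^ m)).subgroupOf (twistedG2 K (3 ^ m))).normalCore := by
    intro k
    have h1 := hd (g * k⁻¹)
    have h2 := hd k⁻¹
    have e4 : k * (g⁻¹ * γ g) * k⁻¹ = ((g * k⁻¹)⁻¹ * γ (g * k⁻¹)) * ((k⁻¹)⁻¹ * γ k⁻¹)⁻¹ := by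
      rw [map_mul]
      group
    rw [Subgroup.mem_subgroupOf, e4]
    refine Subgroup.mem_inf.2 ⟨?_, Subtype.property _⟩
    rw [Subgroup.coe_mul, Subgroup.coe_inv]
    exact mul_mem h1 (inv_mem h2)
  rw [normalCore_borel hK hperf f hf, Subgroup.mem_bot] at hcore
  exact (inv_mul_eq_one.1 hcore).symm

/-- a non-trivial field automorphism is not inner -/
theorem eq_one_of_fieldAut_inner (φ : K ≃+* K) (g : ↥(twistedG2 K (3 ^ m)))
    (h : MulAut.conj g = fieldAut (3 ^ m) φ) : φ = 1 := by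
  have hgB : (g : GL chevG2.Idx K) ∈ chevG2.borelSubgroup K := by
    apply (mem_borel_iff_normalizes hK hperf f hf g).2
    intro x hx
    obtain ⟨t, u, v, e⟩ := exists_coords hK hperf f hf (x : GL chevG2.Idx K) ⟨hx, x.2⟩
    have ex : x = XG m t u v := Subtype.ext e
    have e1 : g * x * g⁻¹ = fieldAut (3 ^ m) φ x := by
      rw [← h]
      rfl
    have e2 : fieldAut (3 ^ m) φ (XG m t u v) = XG m (φ t) (φ u) (φ v) :=
      (model hK hperf f hf).FA_X φ t u v
    rw [e1, ex, e2]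
    exact (xU_mem hK hperf f hf _ _ _).1
  obtain ⟨u, hu, d, hd, e⟩ := (clsData hK hperf f hf).borel_decomp hS hC (g : GL chevG2.Idx K) hgB g.2
  obtain ⟨yd, hyd⟩ := exists_param hK hperf f hf d hd
  have key : ∀ y : Kˣ, u * pHom (m := m) y * u⁻¹ = pHom (m := m) (Units.map (φ : K →* K) y) := by
    intro y
    have h1 : g * hhG hK hperf f hf y * g⁻¹ = hhG hK hperf f hf (Units.map (φ : K →* K) y) := by
      have e1 : g * hhG hK hperf f hf y * g⁻¹ = (MulAut.conj g) (hhG hK hperf f hf y) := rfl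
      rw [e1, h]
      exact (model hK hperf f hf).FA_hh φ y
    have h2 := congrArg Subtype.val h1
    simp only [Subgroup.coe_mul, Subgroup.coe_inv, hhG_coe] at h2
    rw [e, hyd] at h2
    rw [← h2]
    have hc : pHom (m := m) yd * pHom (m := m) y * (pHom (m := m) yd)⁻¹ = pHom (m := m) y := by
      rw [← map_mul, ← map_inv, ← map_mul, mul_comm yd, mul_inv_cancel_right]
    calc u * pHom (m := m) y * u⁻¹
        = u * (pHom (m := m) yd * pHom (m := m) y * (pHom (m := m) yd)⁻¹) * u⁻¹ := by rw [hc]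
      _ = u * pHom (m := m) yd * pHom (m := m) y * (u * pHom (m := m) yd)⁻¹ := by group
  have hfix : ∀ y : Kˣ, Units.map (φ : K →* K) y = y := by
    intro y
    apply pHom_injective (m := m)
    have hyD := (pHom_mem hK hperf f hf y).1
    have h3 : pHom (m := m) (Units.map (φ : K →* K) y) * (pHom (m := m) y)⁻¹ ∈
        chevG2.posUnipotent K ⊓ chevG2.diagonalSubgroup K := by
      refine Subgroup.mem_inf.2 ⟨?_, ?_⟩
      · rw [← key y]
        have h4 := conj_mem_posUnipotent chevG2 (hF (K := K)).hall (hF (K := K)).hconj _ hyD _ (inv_mem hu.1)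
        have e5 : u * pHom (m := m) y * u⁻¹ * (pHom (m := m) y)⁻¹ =
            u * (pHom (m := m) y * u⁻¹ * (pHom (m := m) y)⁻¹) := by group
        rw [e5]
        exact mul_mem hu.1 h4
      · exact mul_mem (pHom_mem hK hperf f hf _).1 (inv_mem hyD)
    rw [posUnipotent_inf_diagonalSubgroup chevG2 (hF (K := K)).hall (hF (K := K)).posok, Subgroup.mem_bot] at h3
    exact mul_inv_eq_one.1 h3
  apply RingEquiv.ext
  intro x
  by_cases hx : x = 0
  · rw [hx, map_zero, map_zero]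
  · have := congrArg Units.val (hfix (Units.mk0 x hx))
    exact this

/-- **the outer automorphism group of the small Ree group consists of the field automorphisms** -/
theorem card_out (hm : 1 ≤ m) : Nat.card (Cfsg.Out ↥(twistedG2 K (3 ^ m))) = 2 * m + 1 := by
  have hfact : Fact (Nat.Prime 3) := ⟨Nat.prime_three⟩
  rw [← Cfsg.Agent.Helper2.OutCongr.card_ringEquiv (F := K) (p := 3) hK]
  symm
  apply Nat.card_eq_of_bijective
    ((QuotientGroup.mk' (Cfsg.Inn ↥(twistedG2 K (3 ^ m)))).comp (fieldAut (K := K) (3 ^ m)))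
  set M := model hK hperf f hf with hM
  constructor
  · rw [injective_iff_map_eq_one]
    intro φ hφ
    rw [MonoidHom.comp_apply, QuotientGroup.mk'_apply, QuotientGroup.eq_one_iff] at hφ
    obtain ⟨g, hg⟩ := hφ
    exact eq_one_of_fieldAut_inner hK hperf f hf φ g hg
  · intro x
    obtain ⟨α, rfl⟩ := QuotientGroup.mk_surjective x
    obtain ⟨c, hU, hV⟩ := exists_normalize hK hperf f hf α
    set θ : MulAut ↥(twistedG2 K (3 ^ m)) := MulAut.conj c * α with hθ
    have hX : ∀ t u v : K, ∃ t' u' v' : K, θ (M.X t u v) = M.X t' u' v' := by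
      intro t u v
      have h1 := (hU (XG m t u v)).2 (xU_mem hK hperf f hf t u v).1
      obtain ⟨t', u', v', e⟩ := exists_coords hK hperf f hf _ ⟨h1, Subtype.property _⟩
      exact ⟨t', u', v', Subtype.ext e⟩
    have hH : ∀ y : Kˣ, ∃ y' : Kˣ, θ (M.hh y) = M.hh y' := by
      intro y
      have h1 := maps_diagonal hK hperf f hf θ hU hV (hhG hK hperf f hf y) (pHom_mem hK hperf f hf y).1
      obtain ⟨y', e⟩ := exists_param hK hperf f hf _ ⟨h1, Subtype.property _⟩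
      exact ⟨y', Subtype.ext e⟩
    obtain ⟨y₀, φ, hγH, hγX⟩ := M.exists_field θ hX hH
    obtain ⟨μ, hμ⟩ := exists_good hK hm
    have hs : ∃ s : K, gg m s ≠ s := ⟨(μ : K), hμ.1⟩
    have hγX' := M.eq_of_fix hs _ hγH hγX
    have hγB := fix_borel hK hperf f hf _ hγH hγX'
    have hγ1 := eq_one_of_fix_borel hK hperf f hf hm _ hγB
    refine ⟨φ, ?_⟩
    have hα : α = (MulAut.conj c)⁻¹ * MulAut.conj (M.hh y₀) * M.FA φ := by
      have h1 : θ = MulAut.conj (M.hh y₀) * M.FA φ := (inv_mul_eq_one.1 hγ1).symm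
      rw [mul_assoc, ← h1, hθ, inv_mul_cancel_left]
    rw [MonoidHom.comp_apply, QuotientGroup.mk'_apply, hα, QuotientGroup.mk_mul]
    have h2 : (((MulAut.conj c)⁻¹ * MulAut.conj (M.hh y₀) : MulAut ↥(twistedG2 K (3 ^ m))) :
        Cfsg.Out ↥(twistedG2 K (3 ^ m))) = 1 := by
      rw [QuotientGroup.eq_one_iff, ← map_inv, ← map_mul]
      exact ⟨_, rfl⟩
    rw [h2, one_mul]
    rfl

end

end Cfsg.Agent.Lead.Tw.G2
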