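import Mathlib

/-!
# S3341 piece TRI (Higman's (3,3,3) lemma), for helper16's skeleton `plans/S3341_Skel1.lean.txt`.

`G` finite, `P` a Sylow 3-subgroup, abelian of exponent 3 and order 9 with `C_G(s) = P` for all
`s ∈ P^#`.  If `x, y` have order 3, `x * y ∈ P^#` and `x` is not conjugate to `y`, then `x, y ∈ P`.
-/

set_option autoImplicit false
set_option linter.unusedSectionVars false
set_option linter.unusedVariables false

namespace Cfsg.Agent.Helper16.SSC

open scoped Pointwise

universe u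

section Grp

variable {G : Type u} [Group G] [Finite G] (P : Sylow 3 G)

namespace TRIAux

/-- Every Sylow 3-subgroup is a conjugate of `P` (membership form). -/
theorem sylow_conj (Q : Sylow 3 G) :
    ∃ g : G, ∀ h : G, h ∈ (Q : Subgroup G) ↔ g * h * g⁻¹ ∈ (P : Subgroup G) := by
  obtain ⟨g, hg⟩ := MulAction.exists_smul_eq G Q P
  refine ⟨g, fun h => ?_⟩
  have hP : (P : Subgroup G) = MulAut.conj g • (Q : Subgroup G) := by
    rw [← hg, Sylow.coe_subgroup_smul]
  have h2 : g * h * g⁻¹ = MulAut.conj g • h := rfl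
  rw [hP, h2, Subgroup.smul_mem_pointwise_smul_iff]

/-- Every Sylow 3-subgroup has the centralizer property of `P`. -/
theorem sylow_cent
    (hcent : ∀ s ∈ (P : Subgroup G), s ≠ 1 →
      Subgroup.centralizer ({s} : Set G) = (P : Subgroup G))
    (Q : Sylow 3 G) {t : G} (ht : t ∈ (Q : Subgroup G)) (ht1 : t ≠ 1) :
    Subgroup.centralizer ({t} : Set G) = (Q : Subgroup G) := by
  obtain ⟨g, hg⟩ := sylow_conj P Q
  have htP : g * t * g⁻¹ ∈ (P : Subgroup G) := (hg t).1 ht
  have ht1' : g * t * g⁻¹ ≠ 1 := by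
    intro h
    apply ht1
    have e : t = g⁻¹ * (g * t * g⁻¹) * g := by group
    rw [e, h]; group
  have hc := hcent _ htP ht1'
  ext h
  rw [hg h, ← hc, Subgroup.mem_centralizer_iff, Subgroup.mem_centralizer_iff]
  constructor
  · intro e k hk
    rw [Set.mem_singleton_iff] at hk
    subst hk
    have e1 := e t (Set.mem_singleton t)
    calc g * t * g⁻¹ * (g * h * g⁻¹) = g * (t * h) * g⁻¹ := by group
      _ = g * (h * t) * g⁻¹ := by rw [e1]
      _ = g * h * g⁻¹ * (g * t * g⁻¹) := by group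
  · intro e k hk
    rw [Set.mem_singleton_iff] at hk
    subst hk
    have e1 := e (g * k * g⁻¹) (Set.mem_singleton _)
    calc k * h = g⁻¹ * (g * k * g⁻¹ * (g * h * g⁻¹)) * g := by group
      _ = g⁻¹ * (g * h * g⁻¹ * (g * k * g⁻¹)) * g := by rw [e1]
      _ = h * k := by group

/-- Every Sylow 3-subgroup has exponent 3. -/
theorem sylow_exp (hexp : ∀ a ∈ (P : Subgroup G), a ^ 3 = 1)
    (Q : Sylow 3 G) {t : G} (ht : t ∈ (Q : Subgroup G)) : t ^ 3 = 1 := by
  obtain ⟨g, hg⟩ := sylow_conj P Q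
  have h := hexp _ ((hg t).1 ht)
  rw [conj_pow] at h
  have e : t ^ 3 = g⁻¹ * (g * t ^ 3 * g⁻¹) * g := by group
  rw [e, h]; group

/-- An element of order 3 lies in a Sylow 3-subgroup. -/
theorem exists_sylow_of_order3 {a : G} (ha : orderOf a = 3) :
    ∃ Q : Sylow 3 G, a ∈ (Q : Subgroup G) := by
  have hp : IsPGroup 3 (Subgroup.zpowers a) := by
    apply IsPGroup.of_card (n := 1)
    rw [Nat.card_zpowers, ha, pow_one]
  obtain ⟨Q, hQ⟩ := hp.exists_le_sylow
  exact ⟨Q, hQ (Subgroup.mem_zpowers a)⟩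

end TRIAux

open TRIAux in
/-- PIECE TRI (Higman's (3,3,3) trick) -/
theorem mem_of_mul_mem
    (hcomm : ∀ x y : (P : Subgroup G), x * y = y * x)
    (hexp : ∀ a ∈ (P : Subgroup G), a ^ 3 = 1)
    (hcard : Nat.card (P : Subgroup G) = 9)
    (hcent : ∀ s ∈ (P : Subgroup G), s ≠ 1 →
      Subgroup.centralizer ({s} : Set G) = (P : Subgroup G))
    {x y : G} (hx : orderOf x = 3) (hy : orderOf y = 3)
    (hxy : x * y ∈ (P : Subgroup G)) (hxy1 : x * y ≠ 1) (hnc : ¬ IsConj x y) :
    x ∈ (P : Subgroup G) ∧ y ∈ (P : Subgroup G) := by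
  classical
  have hx3 : x ^ 3 = 1 := by rw [← hx]; exact pow_orderOf_eq_one x
  have hy3 : y ^ 3 = 1 := by rw [← hy]; exact pow_orderOf_eq_one y
  have hz3 : (x * y) ^ 3 = 1 := hexp _ hxy
  have hx1 : x ≠ 1 := by
    intro h; rw [h, orderOf_one] at hx; omega
  -- basic identities
  have hxxx : x * (x * x) = 1 := by rw [← hx3, pow_succ, pow_two, mul_assoc]
  have hyyy : y * (y * y) = 1 := by rw [← hy3, pow_succ, pow_two, mul_assoc]
  have hxx : x * x = x⁻¹ := (inv_eq_of_mul_eq_one_right hxxx).symm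
  have hyy : y * y = y⁻¹ := (inv_eq_of_mul_eq_one_right hyyy).symm
  have hxixi : x⁻¹ * x⁻¹ = x := by
    rw [← hxx]
    calc x * x * (x * x) = x * (x * x) * x := by group
      _ = x := by rw [hxxx, one_mul]
  have hyiyi : y⁻¹ * y⁻¹ = y := by
    rw [← hyy]
    calc y * y * (y * y) = y * (y * y) * y := by group
      _ = y := by rw [hyyy, one_mul]
  have hrel : x * y * x = y⁻¹ * x⁻¹ * y⁻¹ := by
    have h1 : (x * y * x) * (y * x * y) = 1 := by
      rw [← hz3, pow_succ, pow_two]; simp only [mul_assoc]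
    rw [eq_inv_of_mul_eq_one_left h1]; group
  -- the abelian subgroup A
  set p : G := x * y⁻¹ with hp_def
  set q : G := y⁻¹ * x with hq_def
  have hpq1 : p * q = x * y * x := by
    calc p * q = x * (y⁻¹ * y⁻¹) * x := by rw [hp_def, hq_def]; group
      _ = x * y * x := by rw [hyiyi]
  have hqp1 : q * p = y⁻¹ * x⁻¹ * y⁻¹ := by
    calc q * p = y⁻¹ * (x * x) * y⁻¹ := by rw [hp_def, hq_def]; group
      _ = y⁻¹ * x⁻¹ * y⁻¹ := by rw [hxx]
  have hpq : p * q = q * p := by rw [hpq1, hqp1, hrel]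
  set A : Subgroup G := Subgroup.closure ({p, q} : Set G) with hA_def
  have hpA : p ∈ A := Subgroup.subset_closure (by simp)
  have hqA : q ∈ A := Subgroup.subset_closure (by simp)
  have hAcomm : ∀ a ∈ A, ∀ b ∈ A, a * b = b * a := by
    have hsub : ({p, q} : Set G) ⊆ Subgroup.centralizer ({p, q} : Set G) := by
      intro a ha
      rw [SetLike.mem_coe, Subgroup.mem_centralizer_iff]
      intro b hb
      rcases ha with rfl | ha <;> rcases hb with rfl | hb
      · rfl
      · rw [Set.mem_singleton_iff] at hb; subst hb; exact hpq.symm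
      · rw [Set.mem_singleton_iff] at ha; subst ha; exact hpq
      · rw [Set.mem_singleton_iff] at ha hb; subst ha; subst hb; rfl
    have hle : A ≤ Subgroup.centralizer (A : Set G) := by
      rw [hA_def, Subgroup.centralizer_closure, Subgroup.closure_le]
      exact hsub
    intro a ha b hb
    have := hle hb
    rw [Subgroup.mem_centralizer_iff] at this
    exact this a ha
  have hxA' : ∀ b ∈ A, x⁻¹ * b * x ∈ A := by
    intro b hb
    refine Subgroup.closure_induction (p := fun b _ => x⁻¹ * b * x ∈ A) ?_ ?_ ?_ ?_ hb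
    · intro b hb
      rcases hb with rfl | hb
      · have : x⁻¹ * p * x = q := by rw [hp_def, hq_def]; group
        rw [this]; exact hqA
      · rw [Set.mem_singleton_iff] at hb; subst hb
        have : x⁻¹ * q * x = (p * q)⁻¹ := by
          rw [hpq1]
          calc x⁻¹ * q * x = x⁻¹ * y⁻¹ * (x * x) := by rw [hq_def]; group
            _ = x⁻¹ * y⁻¹ * x⁻¹ := by rw [hxx]
            _ = (x * y * x)⁻¹ := by group
        rw [this]; exact A.inv_mem (A.mul_mem hpA hqA)
    · simp
    · intro a b _ _ iha ihb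
      have : x⁻¹ * (a * b) * x = (x⁻¹ * a * x) * (x⁻¹ * b * x) := by group
      rw [this]; exact A.mul_mem iha ihb
    · intro a _ iha
      have : x⁻¹ * a⁻¹ * x = (x⁻¹ * a * x)⁻¹ := by group
      rw [this]; exact A.inv_mem iha
  have hxA : ∀ b ∈ A, x * b * x⁻¹ ∈ A := by
    intro b hb
    have h2 := hxA' _ (hxA' b hb)
    have e : x * b * x⁻¹ = x⁻¹ * (x⁻¹ * b * x) * x := by
      calc x * b * x⁻¹ = (x⁻¹ * x⁻¹) * b * (x * x) := by rw [hxixi, hxx]
        _ = x⁻¹ * (x⁻¹ * b * x) * x := by group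
    rw [e]; exact h2
  have hy_eq : y = p⁻¹ * x := by rw [hp_def]; group
  by_cases h3 : ∃ a ∈ A, orderOf a = 3
  · -- Case 1: A contains an element of order 3
    obtain ⟨a, haA, ha3⟩ := h3
    obtain ⟨Q, haQ⟩ := exists_sylow_of_order3 ha3
    have ha1 : a ≠ 1 := by
      intro h; rw [h, orderOf_one] at ha3; omega
    have hCa := sylow_cent P hcent Q haQ ha1
    have hAQ : ∀ b ∈ A, b ∈ (Q : Subgroup G) := by
      intro b hb
      rw [← hCa, Subgroup.mem_centralizer_iff]
      intro k hk
      rw [Set.mem_singleton_iff] at hk; subst hk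
      exact hAcomm k haA b hb
    have ha'A : x * a * x⁻¹ ∈ A := hxA a haA
    have ha'Q : x * a * x⁻¹ ∈ (Q : Subgroup G) := hAQ _ ha'A
    have ha'1 : x * a * x⁻¹ ≠ 1 := by
      intro h
      apply ha1
      have e : a = x⁻¹ * (x * a * x⁻¹) * x := by group
      rw [e, h]; group
    have hCa' := sylow_cent P hcent Q ha'Q ha'1
    have hxN : x ∈ Subgroup.normalizer ((Q : Subgroup G) : Set G) := by
      rw [Subgroup.mem_set_normalizer_iff]
      intro h
      constructor
      · intro hh
        have hh' : h ∈ Subgroup.centralizer ({a} : Set G) := by rw [hCa]; exact hh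
        rw [Subgroup.mem_centralizer_iff] at hh'
        have e1 := hh' a (Set.mem_singleton a)
        have : x * h * x⁻¹ ∈ Subgroup.centralizer ({x * a * x⁻¹} : Set G) := by
          rw [Subgroup.mem_centralizer_iff]
          intro k hk
          rw [Set.mem_singleton_iff] at hk; subst hk
          calc x * a * x⁻¹ * (x * h * x⁻¹) = x * (a * h) * x⁻¹ := by group
            _ = x * (h * a) * x⁻¹ := by rw [e1]
            _ = x * h * x⁻¹ * (x * a * x⁻¹) := by group
        rw [hCa'] at this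
        exact this
      · intro hh
        have hh' : x * h * x⁻¹ ∈ Subgroup.centralizer ({x * a * x⁻¹} : Set G) := by
          rw [hCa']; exact hh
        rw [Subgroup.mem_centralizer_iff] at hh'
        have e1 := hh' _ (Set.mem_singleton _)
        have : h ∈ Subgroup.centralizer ({a} : Set G) := by
          rw [Subgroup.mem_centralizer_iff]
          intro k hk
          rw [Set.mem_singleton_iff] at hk; subst hk
          calc k * h = x⁻¹ * (x * k * x⁻¹ * (x * h * x⁻¹)) * x := by group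
            _ = x⁻¹ * (x * h * x⁻¹ * (x * k * x⁻¹)) * x := by rw [e1]
            _ = h * k := by group
        rw [hCa] at this
        exact this
    have hxQ : x ∈ (Q : Subgroup G) := by
      have hp : IsPGroup 3 (Subgroup.zpowers x) := by
        apply IsPGroup.of_card (n := 1)
        rw [Nat.card_zpowers, hx, pow_one]
      have hinf := hp.inf_normalizer_sylow Q
      have hmem : x ∈ Subgroup.zpowers x ⊓ Subgroup.normalizer ((Q : Subgroup G) : Set G) :=
        ⟨Subgroup.mem_zpowers x, hxN⟩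
      exact (hinf.le hmem).2
    have hyQ : y ∈ (Q : Subgroup G) := by
      rw [hy_eq]
      exact (Q : Subgroup G).mul_mem ((Q : Subgroup G).inv_mem (hAQ p hpA)) hxQ
    have hzQ : x * y ∈ (Q : Subgroup G) := (Q : Subgroup G).mul_mem hxQ hyQ
    have hCz := sylow_cent P hcent Q hzQ hxy1
    have hCzP := hcent _ hxy hxy1
    have hQP : (Q : Subgroup G) = (P : Subgroup G) := hCz.symm.trans hCzP
    rw [← hQP]
    exact ⟨hxQ, hyQ⟩
  · -- Case 2: A has no element of order 3: x is conjugate to y under A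
    exfalso
    have h3 : ∀ a ∈ A, orderOf a ≠ 3 := fun a ha h => h3 ⟨a, ha, h⟩
    have hfix : ∀ b ∈ A, x * b = b * x → b = 1 := by
      intro b hb hbx
      by_contra hb1
      obtain ⟨Q, hxQ⟩ := exists_sylow_of_order3 hx
      have hCx := sylow_cent P hcent Q hxQ hx1
      have hbQ : b ∈ (Q : Subgroup G) := by
        rw [← hCx, Subgroup.mem_centralizer_iff]
        intro k hk
        rw [Set.mem_singleton_iff] at hk; subst hk
        exact hbx
      have hb3 : b ^ 3 = 1 := sylow_exp P hexp Q hbQ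
      have : orderOf b = 3 := orderOf_eq_prime hb3 hb1
      exact h3 b hb this
    let φ : A → A := fun b =>
      ⟨(b : G)⁻¹ * (x * (b : G) * x⁻¹), A.mul_mem (A.inv_mem b.2) (hxA b.1 b.2)⟩
    have hinj : Function.Injective φ := by
      intro b c hbc
      have e : (b : G)⁻¹ * (x * (b : G) * x⁻¹) = (c : G)⁻¹ * (x * (c : G) * x⁻¹) :=
        congrArg Subtype.val hbc
      have hd : (c : G) * (b : G)⁻¹ ∈ A := A.mul_mem c.2 (A.inv_mem b.2)
      have hdx : x * ((c : G) * (b : G)⁻¹) = ((c : G) * (b : G)⁻¹) * x := by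
        calc x * ((c : G) * (b : G)⁻¹)
            = (c : G) * ((c : G)⁻¹ * (x * (c : G) * x⁻¹)) * x * (b : G)⁻¹ := by group
          _ = (c : G) * ((b : G)⁻¹ * (x * (b : G) * x⁻¹)) * x * (b : G)⁻¹ := by rw [e]
          _ = ((c : G) * (b : G)⁻¹) * x := by group
      have h1 := hfix _ hd hdx
      have h2 : (c : G) = (b : G) := mul_inv_eq_one.1 h1
      exact Subtype.ext h2.symm
    have hsurj : Function.Surjective φ := Finite.injective_iff_surjective.1 hinj
    obtain ⟨b, hb⟩ := hsurj ⟨p⁻¹, A.inv_mem hpA⟩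
    have e : (b : G)⁻¹ * (x * (b : G) * x⁻¹) = p⁻¹ := congrArg Subtype.val hb
    apply hnc
    rw [isConj_iff]
    refine ⟨(b : G)⁻¹, ?_⟩
    rw [hy_eq, ← e]; group

end Grp

end Cfsg.Agent.Helper16.SSC
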