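import Mathlib
import Cfsg.Agent.Lib.Helper17.TSLDefs

/-!
# S3366 piece KAPPA (lead): the action of the complement `K` on `R / Z` is a faithful homomorphism to `SL(2,3)`

`kappa_core` takes the pieces MAT, NF (existence part), HOM (target `Multiplicative (ZMod 3)`) and CENT as
hypotheses.  Multiplicativity of `κ` is read off with two coordinate homomorphisms
`R →* Multiplicative (ZMod 3)` (the commutator dies in a commutative group); injectivity uses
`normal_closure` in `SL(2,3)`.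
-/

set_option autoImplicit false

namespace Cfsg.Agent.Helper17.TSL

section kappa

variable {X : Type*} [Group X] (S : Setup X)

/-- conjugation by `k` on `R` -/
def kappa_cj (k : X) : S.R →* S.R :=
  MonoidHom.mk' (fun r => ⟨k * r * k⁻¹, S.normal.conj_mem r r.2 k⟩)
    (fun a b => Subtype.ext (by simp [mul_assoc]))

theorem kappa_cj_coe (k : X) (r : S.R) : ((kappa_cj S k r : S.R) : X) = k * r * k⁻¹ := rfl

theorem kappa_cj_mul (k k' : X) (r : S.R) :
    kappa_cj S (k * k') r = kappa_cj S k (kappa_cj S k' r) :=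
  Subtype.ext (by simp only [kappa_cj_coe, mul_inv_rev, mul_assoc])

theorem kappa_step {A : Type*} [CommGroup A] (q : S.R →* A) (f : S.R →* S.R) (u v : S.R)
    (a b c : ℕ) :
    q (f (u ^ a * v ^ b * (u * v * u⁻¹ * v⁻¹) ^ c)) = q (f u) ^ a * q (f v) ^ b := by
  have hz : ∀ s t : A, s * t * s⁻¹ * t⁻¹ = 1 := fun s t => by
    rw [mul_comm s t, mul_inv_cancel_right, mul_inv_cancel]
  simp only [map_mul, map_pow, map_inv, hz, one_pow, mul_one]

theorem kappa_acts (u v : S.R) (k : X) (m : SL23) (h : ActsBy (u : X) (v : X) k m) :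
    kappa_cj S k u = u ^ (m.1 0 0).val * v ^ (m.1 1 0).val *
        (u * v * u⁻¹ * v⁻¹) ^ (m.1 0 0 * m.1 1 0).val ∧
    kappa_cj S k v = u ^ (m.1 0 1).val * v ^ (m.1 1 1).val *
        (u * v * u⁻¹ * v⁻¹) ^ (m.1 0 1 * m.1 1 1).val :=
  ⟨Subtype.ext h.1, Subtype.ext h.2⟩

theorem kappa_q {A : Type*} [CommGroup A] (q : S.R →* A) (u v : S.R) (k : X) (m : SL23)
    (h : ActsBy (u : X) (v : X) k m) :
    q (kappa_cj S k u) = q u ^ (m.1 0 0).val * q v ^ (m.1 1 0).val ∧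
    q (kappa_cj S k v) = q u ^ (m.1 0 1).val * q v ^ (m.1 1 1).val := by
  obtain ⟨h1, h2⟩ := kappa_acts S u v k m h
  constructor
  · rw [h1]; exact kappa_step S q (MonoidHom.id _) u v _ _ _
  · rw [h2]; exact kappa_step S q (MonoidHom.id _) u v _ _ _

theorem kappa_comp {A : Type*} [CommGroup A] (q : S.R →* A) (u v : S.R) (k k' : X)
    (m m' m'' : SL23)
    (h : ActsBy (u : X) (v : X) k m) (h' : ActsBy (u : X) (v : X) k' m')
    (h'' : ActsBy (u : X) (v : X) (k * k') m'') :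
    q u ^ (m''.1 0 0).val * q v ^ (m''.1 1 0).val =
      (q u ^ (m.1 0 0).val * q v ^ (m.1 1 0).val) ^ (m'.1 0 0).val *
      (q u ^ (m.1 0 1).val * q v ^ (m.1 1 1).val) ^ (m'.1 1 0).val ∧
    q u ^ (m''.1 0 1).val * q v ^ (m''.1 1 1).val =
      (q u ^ (m.1 0 0).val * q v ^ (m.1 1 0).val) ^ (m'.1 0 1).val *
      (q u ^ (m.1 0 1).val * q v ^ (m.1 1 1).val) ^ (m'.1 1 1).val := by
  obtain ⟨a1, a2⟩ := kappa_q S q u v k m h
  obtain ⟨c1, c2⟩ := kappa_q S q u v (k * k') m'' h''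
  obtain ⟨b1, b2⟩ := kappa_acts S u v k' m' h'
  constructor
  · rw [← c1, kappa_cj_mul, b1, kappa_step, a1, a2]
  · rw [← c2, kappa_cj_mul, b2, kappa_step, a1, a2]

theorem kappa_pow_eq : ∀ a b c d e : ZMod 3,
    (Multiplicative.ofAdd (1 : ZMod 3)) ^ e.val =
      ((Multiplicative.ofAdd (1 : ZMod 3)) ^ a.val) ^ b.val *
      ((Multiplicative.ofAdd (1 : ZMod 3)) ^ c.val) ^ d.val → e = a * b + c * d := by
  decide

theorem kappa_mul_eq (q1 q2 : S.R →* Multiplicative (ZMod 3)) (u v : S.R)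
    (h1u : q1 u = Multiplicative.ofAdd 1) (h1v : q1 v = 1)
    (h2u : q2 u = 1) (h2v : q2 v = Multiplicative.ofAdd 1)
    (k k' : X) (m m' m'' : SL23)
    (h : ActsBy (u : X) (v : X) k m) (h' : ActsBy (u : X) (v : X) k' m')
    (h'' : ActsBy (u : X) (v : X) (k * k') m'') : m'' = m * m' := by
  obtain ⟨e1, e2⟩ := kappa_comp S q1 u v k k' m m' m'' h h' h''
  obtain ⟨e3, e4⟩ := kappa_comp S q2 u v k k' m m' m'' h h' h''
  rw [h1u, h1v] at e1 e2
  rw [h2u, h2v] at e3 e4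
  simp only [one_pow, mul_one, one_mul] at e1 e2 e3 e4
  have f00 := kappa_pow_eq _ _ _ _ _ e1
  have f01 := kappa_pow_eq _ _ _ _ _ e2
  have f10 := kappa_pow_eq _ _ _ _ _ e3
  have f11 := kappa_pow_eq _ _ _ _ _ e4
  apply Subtype.ext
  ext i j
  fin_cases i <;> fin_cases j
  · simpa [Matrix.mul_apply, Fin.sum_univ_two] using f00
  · simpa [Matrix.mul_apply, Fin.sum_univ_two] using f01
  · simpa [Matrix.mul_apply, Fin.sum_univ_two] using f10
  · simpa [Matrix.mul_apply, Fin.sum_univ_two] using f11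

theorem kappa_acts_one {Y : Type*} [Group Y] (x y k : Y) (h : ActsBy x y k 1) :
    Commute k x ∧ Commute k y := by
  obtain ⟨h1, h2⟩ := h
  have e00 : ((1 : SL23).1 0 0).val = 1 := by decide
  have e10 : ((1 : SL23).1 1 0).val = 0 := by decide
  have e01 : ((1 : SL23).1 0 1).val = 0 := by decide
  have e11 : ((1 : SL23).1 1 1).val = 1 := by decide
  have ea : ((1 : SL23).1 0 0 * (1 : SL23).1 1 0).val = 0 := by decide
  have eb : ((1 : SL23).1 0 1 * (1 : SL23).1 1 1).val = 0 := by decide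
  rw [e00, e10, ea, pow_one, pow_zero, pow_zero, mul_one, mul_one] at h1
  rw [e01, e11, eb, pow_zero, pow_one, pow_zero, one_mul, mul_one] at h2
  exact ⟨mul_inv_eq_iff_eq_mul.mp h1, mul_inv_eq_iff_eq_mul.mp h2⟩

theorem kappa_core (t : X) (hπ : S.π t = negOne)
    (K : Subgroup X) (hKR : K ⊓ S.R = ⊥) (hKc : Nat.card K = 24) (htK : t ∈ K)
    (x y : X) (hx : x ∈ S.R) (hy : y ∈ S.R) (hxy : x * y * x⁻¹ * y⁻¹ ≠ 1)
    (hMAT : ∀ k ∈ K, ∃ m : SL23, ActsBy x y k m)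
    (hNF : ∀ r ∈ S.R, ∃ a b c : ℕ, r = x ^ a * y ^ b * (x * y * x⁻¹ * y⁻¹) ^ c)
    (hHOM : ∀ x' y' : Multiplicative (ZMod 3), x' ^ 3 = 1 → y' ^ 3 = 1 →
      ∃ φ : S.R →* Multiplicative (ZMod 3), φ ⟨x, hx⟩ = x' ∧ φ ⟨y, hy⟩ = y')
    (hCENT : ∀ r ∈ S.R, t * r = r * t → r ∈ S.Z) :
    ∃ κ : K →* SL23, Function.Injective κ ∧ ∀ k : K, ActsBy x y (k : X) (κ k) := by
  classical
  have hg3 : (Multiplicative.ofAdd (1 : ZMod 3)) ^ 3 = 1 := by decide
  obtain ⟨q1, h1u, h1v⟩ := hHOM (Multiplicative.ofAdd 1) 1 hg3 (one_pow 3)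
  obtain ⟨q2, h2u, h2v⟩ := hHOM 1 (Multiplicative.ofAdd 1) (one_pow 3) hg3
  choose f hf using hMAT
  let κ : K →* SL23 := MonoidHom.mk' (fun k => f k.1 k.2)
    (fun a b => kappa_mul_eq S q1 q2 ⟨x, hx⟩ ⟨y, hy⟩ h1u h1v h2u h2v a.1 b.1 _ _ _
      (hf _ a.2) (hf _ b.2) (hf _ (a * b).2))
  refine ⟨κ, ?_, fun k => hf k.1 k.2⟩
  -- `π` is injective on `K`
  have hinj : ∀ a ∈ K, ∀ b ∈ K, S.π a = S.π b → a = b := by
    intro a ha b hb hab
    have h0 : a⁻¹ * b ∈ S.R := by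
      rw [← S.ker, MonoidHom.mem_ker, map_mul, map_inv, hab, inv_mul_cancel]
    have h1 : a⁻¹ * b ∈ K ⊓ S.R := ⟨K.mul_mem (K.inv_mem ha) hb, h0⟩
    rw [hKR, Subgroup.mem_bot] at h1
    exact inv_mul_eq_one.mp h1
  -- hence bijective
  have hsurj : ∀ h : SL23, ∃ a ∈ K, S.π a = h := by
    have hb : Function.Bijective (fun a : K => S.π a) :=
      Function.Injective.bijective_of_nat_card_le
        (fun a b hab => Subtype.ext (hinj a a.2 b b.2 hab))
        (by rw [hKc, Nat.card_eq_fintype_card, card_SL23])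
    intro h
    obtain ⟨a, ha⟩ := hb.2 h
    exact ⟨a, a.2, ha⟩
  rw [injective_iff_map_eq_one]
  intro k hk
  by_contra hk1
  have hact : ActsBy x y (k : X) 1 := by
    have h0 := hf k.1 k.2
    rwa [show f k.1 k.2 = 1 from hk] at h0
  obtain ⟨hkx, hky⟩ := kappa_acts_one x y (k : X) hact
  have hcen : ∀ r ∈ S.R, (k : X) * r = r * k := by
    intro r hr
    obtain ⟨a, b, c, rfl⟩ := hNF r hr
    exact ((Commute.pow_right hkx a).mul_right (Commute.pow_right hky b)).mul_right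
      (Commute.pow_right (((hkx.mul_right hky).mul_right hkx.inv_right).mul_right
        hky.inv_right) c)
  have := S.normal
  have hCn : (Subgroup.centralizer (S.R : Set X)).Normal := inferInstance
  have hkC : (k : X) ∈ Subgroup.centralizer (S.R : Set X) := by
    rw [Subgroup.mem_centralizer_iff]
    intro r hr
    exact (hcen r hr).symm
  have hg1 : S.π k ≠ 1 := by
    intro h1
    apply hk1
    apply Subtype.ext
    exact hinj k k.2 1 K.one_mem (by rw [h1, map_one])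
  have key : ∃ k' ∈ K, k' ∈ Subgroup.centralizer (S.R : Set X) ∧ S.π k' = negOne := by
    rcases normal_closure (S.π k) hg1 with h | h | h | ⟨h0, h⟩
    · exact ⟨k, k.2, hkC, h⟩
    · exact ⟨(k : X) ^ 2, K.pow_mem k.2 2, Subgroup.pow_mem _ hkC 2, by rw [map_pow, h]⟩
    · exact ⟨(k : X) ^ 3, K.pow_mem k.2 3, Subgroup.pow_mem _ hkC 3, by rw [map_pow, h]⟩
    · obtain ⟨a, ha, rfl⟩ := hsurj h0
      refine ⟨((k : X) * a * (k : X)⁻¹ * a⁻¹) ^ 2,
        K.pow_mem (K.mul_mem (K.mul_mem (K.mul_mem k.2 ha) (K.inv_mem k.2)) (K.inv_mem ha)) 2,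
        Subgroup.pow_mem _ ?_ 2,
        by rw [map_pow, map_mul, map_mul, map_mul, map_inv, map_inv, h]⟩
      have e : (k : X) * a * (k : X)⁻¹ * a⁻¹ = (k : X) * (a * (k : X)⁻¹ * a⁻¹) := by group
      rw [e]
      exact Subgroup.mul_mem _ hkC (hCn.conj_mem _ (Subgroup.inv_mem _ hkC) a)
  obtain ⟨k', hk'K, hk'C, hk'π⟩ := key
  have hk't : k' = t := hinj k' hk'K t htK (by rw [hk'π, hπ])
  rw [hk't, Subgroup.mem_centralizer_iff] at hk'C
  have hxZ : x ∈ S.Z := hCENT x hx (hk'C x hx).symm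
  have hyx : y * x = x * y := ((S.mem_Z x).1 hxZ).2 y hy
  apply hxy
  rw [← hyx, mul_inv_cancel_right, mul_inv_cancel]

end kappa

end Cfsg.Agent.Helper17.TSL
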