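import Mathlib
import Cfsg.Agent.Lib.Lead.TwAutNorm
import Cfsg.Agent.Lib.Lead.TwReeCount
import Cfsg.Agent.Lib.Lead.TwReeBorel

/-!
# Automorphisms of the twisted groups given by class data: `U¹`, `V¹`, `B¹` and the normalisation

The analogues, for the groups described by `ClsData` (the Ree groups), of the results of `TwAutBN` and `TwAutNorm`.
-/

set_option autoImplicit false
set_option linter.unusedSectionVars false
set_option linter.unusedSimpArgs false
set_option linter.unusedVariables false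

namespace Cfsg.Agent.Lead.Tw

open Cfsg Cfsg.Lie Cfsg.Agent.Lead.Chev Cfsg.Agent.Helper6.AutAbs

variable {K : Type*} [Field K]

/-! ### roots made negative by a class word -/

namespace ChevFacts'

variable {D : ChevalleyDatum} (hF : ChevFacts D K)
include hF

/-- a positive root made negative by a word lies in the span of its letters -/
theorem inSpan_of_neg (v : List ℕ) (hv : ∀ i ∈ v, i < D.rank) (r : ℕ) (hr : D.IsPosRoot r)
    (hn : D.IsNegRoot (reflWord D v r)) : InSpan D (letters v) r := by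
  by_contra hns
  have hy : WordIn D (letters v) v := fun i hi => ⟨hv i hi, hi⟩
  exact hF.sign.not_both _ (hF.pos_of_not_inSpan (letters v) v hy r hr hns) hn

/-- a word making the fundamental roots of `v` negative makes negative the positive roots made negative by `v` -/
theorem neg_of_class_neg (hS : CorSize D) (w v : List ℕ) (hw : ∀ i ∈ w, i < D.rank) (hv : ∀ i ∈ v, i < D.rank)
    (hneg : ∀ i ∈ v, D.IsNegRoot (reflWord D w (D.simple i))) (r : ℕ) (hr : D.IsPosRoot r)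
    (hn : D.IsNegRoot (reflWord D v r)) : D.IsNegRoot (reflWord D w r) :=
  neg_of_inSpan_of_neg hF hS (letters v) w hw (fun k hk _ => hneg k hk) r hr (inSpan_of_neg hF v hv r hr hn)

/-- a word keeping the fundamental roots of `v` positive keeps positive the positive roots made negative by `v` -/
theorem pos_of_class_pos (hS : CorSize D) (w v : List ℕ) (hw : ∀ i ∈ w, i < D.rank) (hv : ∀ i ∈ v, i < D.rank)
    (hpos : ∀ i ∈ v, D.IsPosRoot (reflWord D w (D.simple i))) (r : ℕ) (hr : D.IsPosRoot r)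
    (hn : D.IsNegRoot (reflWord D v r)) : D.IsPosRoot (reflWord D w r) :=
  hF.pos_of_inSpan hS (letters v) w hw (fun k hk _ => hpos k hk) r hr (inSpan_of_neg hF v hv r hr hn)

/-- conjugation by `n_w` of `U_v⁻`, into `V` -/
theorem conj_negPart_mem_neg (w v : List ℕ) (hw : ∀ i ∈ w, i < D.rank)
    (hneg : ∀ r, D.IsPosRoot r → D.IsNegRoot (reflWord D v r) → D.IsNegRoot (reflWord D w r))
    (a : GL D.Idx K) (ha : a ∈ negPart D hF.xadd v) :
    nWordGL D hF.xadd w * a * (nWordGL D hF.xadd w)⁻¹ ∈ D.negUnipotent K := by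
  have hle : negPart D hF.xadd v ≤
      (D.negUnipotent K).comap (MulAut.conj (nWordGL D hF.xadd w)).toMonoidHom := by
    unfold Chev.negPart
    rw [Subgroup.closure_le]
    rintro g ⟨r, t, hr1, hr2, rfl⟩
    refine Subgroup.mem_comap.2 ?_
    rw [MulEquiv.coe_toMonoidHom, MulAut.conj_apply, nWordGL_conj D hF.xadd (etaOf D) hF.nsimple w hw r hr1.1]
    exact Subgroup.subset_closure ⟨_, _, hneg r hr1 hr2, xGL_val D hF.xadd _ _⟩
  have := hle ha
  rwa [Subgroup.mem_comap, MulEquiv.coe_toMonoidHom, MulAut.conj_apply] at this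

/-- conjugation by `n_w` of `U_v⁻`, into `U` -/
theorem conj_negPart_mem_pos (w v : List ℕ) (hw : ∀ i ∈ w, i < D.rank)
    (hpos : ∀ r, D.IsPosRoot r → D.IsNegRoot (reflWord D v r) → D.IsPosRoot (reflWord D w r))
    (a : GL D.Idx K) (ha : a ∈ negPart D hF.xadd v) :
    nWordGL D hF.xadd w * a * (nWordGL D hF.xadd w)⁻¹ ∈ D.posUnipotent K := by
  have hle : negPart D hF.xadd v ≤
      (D.posUnipotent K).comap (MulAut.conj (nWordGL D hF.xadd w)).toMonoidHom := by
    unfold Chev.negPart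
    rw [Subgroup.closure_le]
    rintro g ⟨r, t, hr1, hr2, rfl⟩
    refine Subgroup.mem_comap.2 ?_
    rw [MulEquiv.coe_toMonoidHom, MulAut.conj_apply, nWordGL_conj D hF.xadd (etaOf D) hF.nsimple w hw r hr1.1]
    exact xGL_mem_posUnipotent D hF.xadd _ (hpos r hr1 hr2) _
  have := hle ha
  rwa [Subgroup.mem_comap, MulEquiv.coe_toMonoidHom, MulAut.conj_apply] at this

/-- conjugation by `n_w` of `U_v⁻`, into `U_{v'}⁻` -/
theorem conj_negPart_mem_negPart (w v v' : List ℕ) (hw : ∀ i ∈ w, i < D.rank)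
    (hmap : ∀ r, D.IsPosRoot r → D.IsNegRoot (reflWord D v r) →
      D.IsPosRoot (reflWord D w r) ∧ D.IsNegRoot (reflWord D v' (reflWord D w r)))
    (a : GL D.Idx K) (ha : a ∈ negPart D hF.xadd v) :
    nWordGL D hF.xadd w * a * (nWordGL D hF.xadd w)⁻¹ ∈ negPart D hF.xadd v' := by
  have hle : negPart D hF.xadd v ≤
      (negPart D hF.xadd v').comap (MulAut.conj (nWordGL D hF.xadd w)).toMonoidHom := by
    unfold Chev.negPart
    rw [Subgroup.closure_le]
    rintro g ⟨r, t, hr1, hr2, rfl⟩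
    refine Subgroup.mem_comap.2 ?_
    rw [MulEquiv.coe_toMonoidHom, MulAut.conj_apply, nWordGL_conj D hF.xadd (etaOf D) hF.nsimple w hw r hr1.1]
    exact Subgroup.subset_closure ⟨_, _, (hmap r hr1 hr2).1, (hmap r hr1 hr2).2, rfl⟩
  have := hle ha
  rwa [Subgroup.mem_comap, MulEquiv.coe_toMonoidHom, MulAut.conj_apply] at this

end ChevFacts'

/-! ### the sign of a `ρ`-commuting word on the classes -/

namespace Twist

variable {D : ChevalleyDatum} (hF : ChevFacts D K) (T : Twist D K hF.xadd)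

theorem iterate_neg' (w : List ℕ) (hw : ∀ i ∈ w, i < D.rank) (hc : RhoComm D T.ρ w) (i : ℕ)
    (hi : i < D.rank) (hneg : D.IsNegRoot (reflWord D w (D.simple i))) (k : ℕ) :
    T.π^[k] i < D.rank ∧ D.IsNegRoot (reflWord D w (D.simple (T.π^[k] i))) := by
  induction k with
  | zero => exact ⟨hi, hneg⟩
  | succ k ih =>
    rw [Function.iterate_succ_apply']
    refine ⟨T.π_lt _ ih.1, ?_⟩
    rw [← T.ρ_simple _ ih.1, hc _ (hF.simple_lt _ ih.1)]
    exact T.ρ_negRoot hF _ ih.2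

theorem iterate_pos' (w : List ℕ) (hw : ∀ i ∈ w, i < D.rank) (hc : RhoComm D T.ρ w) (i : ℕ)
    (hi : i < D.rank) (hpos : D.IsPosRoot (reflWord D w (D.simple i))) (k : ℕ) :
    T.π^[k] i < D.rank ∧ D.IsPosRoot (reflWord D w (D.simple (T.π^[k] i))) := by
  induction k with
  | zero => exact ⟨hi, hpos⟩
  | succ k ih =>
    rw [Function.iterate_succ_apply']
    refine ⟨T.π_lt _ ih.1, ?_⟩
    rw [← T.ρ_simple _ ih.1, hc _ (hF.simple_lt _ ih.1)]
    exact T.ρ_pos _ ih.2

end Twist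

/-! ### the subgroups `U¹`, `V¹`, `B¹`, `H¹` -/

section

variable {D : ChevalleyDatum}

/-- `U¹` -/
def CU1 (D : ChevalleyDatum) (G₁ : Subgroup (GL D.Idx K)) : Subgroup ↥G₁ := (D.posUnipotent K).subgroupOf G₁

/-- `V¹` -/
def CV1 (D : ChevalleyDatum) (G₁ : Subgroup (GL D.Idx K)) : Subgroup ↥G₁ := (D.negUnipotent K).subgroupOf G₁

/-- `B¹` -/
def CB1 (D : ChevalleyDatum) (G₁ : Subgroup (GL D.Idx K)) : Subgroup ↥G₁ := (D.borelSubgroup K).subgroupOf G₁

/-- `H¹` -/
def CH1 (D : ChevalleyDatum) (G₁ : Subgroup (GL D.Idx K)) : Subgroup ↥G₁ := (D.diagonalSubgroup K).subgroupOf G₁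

variable {G₁ : Subgroup (GL D.Idx K)}

theorem mem_CU1 (x : ↥G₁) : x ∈ CU1 D G₁ ↔ (x : GL D.Idx K) ∈ D.posUnipotent K := Subgroup.mem_subgroupOf

theorem mem_CV1 (x : ↥G₁) : x ∈ CV1 D G₁ ↔ (x : GL D.Idx K) ∈ D.negUnipotent K := Subgroup.mem_subgroupOf

theorem mem_CB1 (x : ↥G₁) : x ∈ CB1 D G₁ ↔ (x : GL D.Idx K) ∈ D.borelSubgroup K := Subgroup.mem_subgroupOf

theorem mem_CH1 (x : ↥G₁) : x ∈ CH1 D G₁ ↔ (x : GL D.Idx K) ∈ D.diagonalSubgroup K := Subgroup.mem_subgroupOf

theorem CU1_inf_CV1 (hF : ChevFacts D K) : CU1 D G₁ ⊓ CV1 D G₁ = ⊥ := by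
  rw [eq_bot_iff]
  intro x hx
  obtain ⟨h1, h2⟩ := Subgroup.mem_inf.1 hx
  rw [Subgroup.mem_bot]
  apply Subtype.ext
  exact ChevFacts'.eq_one_of_mem_pos_of_mem_neg hF _ ((mem_CU1 x).1 h1) ((mem_CV1 x).1 h2)

theorem CB1_inf_CV1 (hF : ChevFacts D K) : CB1 D G₁ ⊓ CV1 D G₁ = ⊥ := by
  rw [eq_bot_iff]
  intro x hx
  obtain ⟨h1, h2⟩ := Subgroup.mem_inf.1 hx
  rw [Subgroup.mem_bot]
  apply Subtype.ext
  have : (x : GL D.Idx K) ∈ D.borelSubgroup K ⊓ D.negUnipotent K :=
    Subgroup.mem_inf.2 ⟨(mem_CB1 x).1 h1, (mem_CV1 x).1 h2⟩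
  rw [hF.borel_inf_negUnipotent, Subgroup.mem_bot] at this
  exact this

end

section

variable {D : ChevalleyDatum} {hF : ChevFacts D K} {T : Twist D K hF.xadd}
  {S l₀ : List (List ℕ)} {G₁ : Subgroup (GL D.Idx K)} (h : ClsData hF T S l₀ G₁)
include h

/-- **the normaliser of `U¹` in `G¹` is `B¹`** -/
theorem ClsData.normalizer_CU1 [Fintype K] (hS : CorSize D) (hC : CorComb D) :
    Subgroup.normalizer (CU1 D G₁ : Set ↥G₁) = CB1 D G₁ := by
  have hG := h.twGroup hS hC
  apply le_antisymm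
  · intro g hg
    rw [Subgroup.mem_normalizer_iff] at hg
    rw [mem_CB1]
    obtain ⟨l, hl, hred, b, hb, u, hu, hfix, e⟩ := h.exists_bruhat hS hC g.1 g.2
    obtain ⟨hbB, hbG⟩ := Subgroup.mem_inf.1 hb
    set w := wordOf l with hw
    have hwv : ∀ i ∈ w, i < D.rank := wordOf_valid S l h.gen.valid hl
    have hc : RhoComm D T.ρ w := T.rhoComm_wordOf hF S l h.gen.valid h.gen.comm hl
    have huU := hF.negPart_le_posUnipotent w hu
    have huG := hG.U_le u huU hfix
    have hall : ∀ j < D.rank, D.IsPosRoot (reflWord D w (D.simple j)) := by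
      intro j hj
      rcases hF.sign.pos_or_neg _ (reflWord_lt D (etaOf D) hF.facts w hwv _ (hF.simple_lt j hj)) with hp | hn
      · exact hp
      · exfalso
        obtain ⟨v, hv, hjv, hcov⟩ := h.gen.cover j hj
        have hvv := h.gen.valid v hv
        have hneg : ∀ i ∈ v, D.IsNegRoot (reflWord D w (D.simple i)) := by
          intro i hi
          obtain ⟨k, rfl⟩ := hcov i hi
          exact (T.iterate_neg' hF w hwv hc j hj hn k).2
        obtain ⟨x, hxN, hxfix, hxne⟩ := h.nontriv v hv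
        have hxU : x ∈ D.posUnipotent K := hF.negPart_le_posUnipotent v hxN
        have hxG : x ∈ G₁ := h.fix_mem v hv x hxN hxfix
        have h1 := ChevFacts'.conj_negPart_mem_neg hF w v hwv
          (fun r hr hn => ChevFacts'.neg_of_class_neg hF hS w v hwv hvv hneg r hr hn) x hxN
        -- `n x n⁻¹` also lies in `U`
        set x₁ : ↥G₁ := ⟨u⁻¹ * x * u, mul_mem (mul_mem (inv_mem huG) hxG) huG⟩ with hx₁
        have hx₁U : x₁ ∈ CU1 D G₁ := by
          rw [mem_CU1]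
          exact mul_mem (mul_mem (inv_mem huU) hxU) huU
        have h2 := (hg x₁).1 hx₁U
        rw [mem_CU1] at h2
        have h3 := ChevFacts'.borel_conj_mem hF b⁻¹ (inv_mem hbB) _ h2
        have e3 : b⁻¹ * ((g * x₁ * g⁻¹ : ↥G₁) : GL D.Idx K) * b⁻¹⁻¹ =
            nWordGL D hF.xadd w * x * (nWordGL D hF.xadd w)⁻¹ := by
          simp only [Subgroup.coe_mul, Subgroup.coe_inv, hx₁]
          rw [e]
          group
        rw [e3] at h3
        have h4 := ChevFacts'.eq_one_of_mem_pos_of_mem_neg hF _ h3 h1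
        apply hxne
        have : x = (nWordGL D hF.xadd w)⁻¹ * (nWordGL D hF.xadd w * x * (nWordGL D hF.xadd w)⁻¹) *
            nWordGL D hF.xadd w := by group
        rw [this, h4]
        group
    have hn := ChevFacts'.nWordGL_mem_diagonal_of_simple_pos hF hS w hwv hall
    rw [e]
    exact mul_mem (mul_mem hbB (diagonal_le_borel D hn)) (posUnipotent_le_borel D huU)
  · intro b hb
    rw [mem_CB1] at hb
    rw [Subgroup.mem_normalizer_iff]
    intro x
    rw [mem_CU1, mem_CU1]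
    have := (Subgroup.mem_normalizer_iff.1 (ChevFacts'.borel_le_normalizer hF hb)) (x : GL D.Idx K)
    simpa only [Subgroup.coe_mul, Subgroup.coe_inv] using this

/-- for a word making all positive roots negative, `n_w U¹ n_w⁻¹ = V¹` -/
theorem ClsData.map_conj_CU1 (w : List ℕ) (hw : ∀ i ∈ w, i < D.rank)
    (hn : nWordGL D hF.xadd w ∈ G₁)
    (h1 : ∀ s, D.IsPosRoot s → D.IsNegRoot (reflWord D w s)) :
    (CU1 D G₁).map (MulAut.conj (⟨nWordGL D hF.xadd w, hn⟩ : ↥G₁)).toMonoidHom = CV1 D G₁ := by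
  unfold CU1 CV1
  rw [subgroupOf_map_conj', map_conj_posUnipotent D hF.xadd (etaOf D) hF.nsimple w hw h1
    (ChevFacts'.neg_ex_of_pos_neg hF w hw h1)]

/-- the representative of the longest element, in `G¹` -/
noncomputable def ClsData.n₀ : ↥G₁ :=
  ⟨nWordGL D hF.xadd (wordOf l₀), h.nWordGL_wordOf_mem l₀ h.chain_mem⟩

theorem ClsData.n₀_coe : ((h.n₀ : ↥G₁) : GL D.Idx K) = nWordGL D hF.xadd (wordOf l₀) := rfl

theorem ClsData.valid_l₀ : ∀ i ∈ wordOf l₀, i < D.rank := wordOf_valid S l₀ h.gen.valid h.chain_mem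

theorem ClsData.map_n₀_CU1 : (CU1 D G₁).map (MulAut.conj h.n₀).toMonoidHom = CV1 D G₁ :=
  h.map_conj_CU1 (wordOf l₀) h.valid_l₀ _ h.chain_long

/-- `n₀² ∈ H` -/
theorem ClsData.n₀_sq_mem (hS : CorSize D) :
    nWordGL D hF.xadd (wordOf l₀) * nWordGL D hF.xadd (wordOf l₀) ∈ D.diagonalSubgroup K := by
  rw [← nWordGL_append]
  have hv := h.valid_l₀
  apply ChevFacts'.nWordGL_mem_diagonal_of_simple_pos hF hS
  · intro i hi
    rcases List.mem_append.1 hi with h1 | h1 <;> exact hv i h1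
  · intro j hj
    rw [reflWord_append]
    have h1 := h.chain_long _ (hF.simple_pos j hj)
    set s := reflWord D (wordOf l₀) (D.simple j) with hs
    have h2 := h.chain_long _ (hF.sign.pos_of_neg s h1)
    rw [reflWord_neg D (etaOf D) hF.facts (wordOf l₀) hv s h1.1] at h2
    have h3 := hF.sign.pos_of_neg _ h2
    rwa [hF.sign.neg_neg _ (reflWord_lt D (etaOf D) hF.facts (wordOf l₀) hv s h1.1)] at h3

/-- elements of `B¹` normalise `U¹` -/
theorem ClsData.map_conj_CU1_of_mem_borel (b : ↥G₁) (hb : (b : GL D.Idx K) ∈ D.borelSubgroup K) :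
    (CU1 D G₁).map (MulAut.conj b).toMonoidHom = CU1 D G₁ := by
  apply map_conj_eq_of_normalizes
  · intro x hx
    rw [mem_CU1] at hx ⊢
    simp only [Subgroup.coe_mul, Subgroup.coe_inv]
    exact ChevFacts'.borel_conj_mem hF _ hb _ hx
  · intro x hx
    rw [mem_CU1] at hx ⊢
    simp only [Subgroup.coe_mul, Subgroup.coe_inv]
    have := ChevFacts'.borel_conj_mem hF _ (inv_mem hb) _ hx
    rwa [inv_inv] at this

/-- elements of `H¹` normalise `V¹` -/
theorem ClsData.map_conj_CV1_of_mem_diagonal (d : ↥G₁) (hd : (d : GL D.Idx K) ∈ D.diagonalSubgroup K) :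
    (CV1 D G₁).map (MulAut.conj d).toMonoidHom = CV1 D G₁ := by
  apply map_conj_eq_of_normalizes
  · intro x hx
    rw [mem_CV1] at hx ⊢
    simp only [Subgroup.coe_mul, Subgroup.coe_inv]
    exact hF.diagonal_conj_mem_negUnipotent _ hd _ hx
  · intro x hx
    rw [mem_CV1] at hx ⊢
    simp only [Subgroup.coe_mul, Subgroup.coe_inv]
    exact ChevFacts'.diagonal_inv_conj_mem_negUnipotent hF _ hd _ hx

theorem ClsData.map_n₀_CV1 (hS : CorSize D) :
    (CV1 D G₁).map (MulAut.conj h.n₀).toMonoidHom = CU1 D G₁ := by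
  rw [← h.map_n₀_CU1, map_conj_mul]
  apply h.map_conj_CU1_of_mem_borel
  simp only [Subgroup.coe_mul, ClsData.n₀_coe]
  exact diagonal_le_borel D (h.n₀_sq_mem hS)

/-- a conjugate of `U¹` meeting `U¹` trivially is conjugate to `V¹` under `U¹` -/
theorem ClsData.exists_conj_CV1 [Fintype K] (hS : CorSize D) (hC : CorComb D) (g : ↥G₁)
    (hg : (CU1 D G₁).map (MulAut.conj g).toMonoidHom ⊓ CU1 D G₁ = ⊥) :
    ∃ u ∈ CU1 D G₁, (CU1 D G₁).map (MulAut.conj g).toMonoidHom =
      (CV1 D G₁).map (MulAut.conj u).toMonoidHom := by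
  have hG := h.twGroup hS hC
  obtain ⟨l, hl, hred, b, hb, u, hu, hfix, e⟩ := h.exists_bruhat hS hC g.1 g.2
  obtain ⟨hbB, hbG⟩ := Subgroup.mem_inf.1 hb
  set w := wordOf l with hw
  have hwv : ∀ i ∈ w, i < D.rank := wordOf_valid S l h.gen.valid hl
  have hc : RhoComm D T.ρ w := T.rhoComm_wordOf hF S l h.gen.valid h.gen.comm hl
  have huU := hF.negPart_le_posUnipotent w hu
  have huG := hG.U_le u huU hfix
  have hnG : nWordGL D hF.xadd w ∈ G₁ := h.nWordGL_wordOf_mem l hl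
  set bG : ↥G₁ := ⟨b, hbG⟩ with hbGdef
  set nG : ↥G₁ := ⟨nWordGL D hF.xadd w, hnG⟩ with hnGdef
  set uG : ↥G₁ := ⟨u, huG⟩ with huGdef
  have eg : g = bG * nG * uG := Subtype.ext e
  have huU1 : uG ∈ CU1 D G₁ := (mem_CU1 uG).2 huU
  have hall : ∀ j < D.rank, D.IsNegRoot (reflWord D w (D.simple j)) := by
    intro j hj
    rcases hF.sign.pos_or_neg _ (reflWord_lt D (etaOf D) hF.facts w hwv _ (hF.simple_lt j hj)) with hp | hn
    · exfalso
      obtain ⟨v, hv, hjv, hcov⟩ := h.gen.cover j hj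
      have hvv := h.gen.valid v hv
      have hpos : ∀ i ∈ v, D.IsPosRoot (reflWord D w (D.simple i)) := by
        intro i hi
        obtain ⟨k, rfl⟩ := hcov i hi
        exact (T.iterate_pos' hF w hwv hc j hj hp k).2
      obtain ⟨x, hxN, hxfix, hxne⟩ := h.nontriv v hv
      have hxU : x ∈ D.posUnipotent K := hF.negPart_le_posUnipotent v hxN
      have hxG : x ∈ G₁ := h.fix_mem v hv x hxN hxfix
      have h1 := ChevFacts'.conj_negPart_mem_pos hF w v hwv
        (fun r hr hn => ChevFacts'.pos_of_class_pos hF hS w v hwv hvv hpos r hr hn) x hxN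
      set x₁ : ↥G₁ := uG⁻¹ * ⟨x, hxG⟩ * uG with hx₁
      have hx₁U : x₁ ∈ CU1 D G₁ :=
        mul_mem (mul_mem (inv_mem huU1) ((mem_CU1 _).2 hxU)) huU1
      have hy : g * x₁ * g⁻¹ ∈ (CU1 D G₁).map (MulAut.conj g).toMonoidHom ⊓ CU1 D G₁ := by
        refine Subgroup.mem_inf.2 ⟨⟨x₁, hx₁U, rfl⟩, ?_⟩
        rw [mem_CU1]
        have e3 : ((g * x₁ * g⁻¹ : ↥G₁) : GL D.Idx K) =
            b * (nWordGL D hF.xadd w * x * (nWordGL D hF.xadd w)⁻¹) * b⁻¹ := by
          rw [eg, hx₁]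
          simp only [Subgroup.coe_mul, Subgroup.coe_inv, hbGdef, hnGdef, huGdef]
          group
        rw [e3]
        exact ChevFacts'.borel_conj_mem hF b hbB _ h1
      rw [hg, Subgroup.mem_bot] at hy
      have hx₁1 : x₁ = 1 := by
        have : x₁ = g⁻¹ * (g * x₁ * g⁻¹) * g := by group
        rw [this, hy]
        group
      apply hxne
      have h2 : (⟨x, hxG⟩ : ↥G₁) = 1 := by
        have : (⟨x, hxG⟩ : ↥G₁) = uG * x₁ * uG⁻¹ := by
          rw [hx₁]
          group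
        rw [this, hx₁1]
        group
      exact congrArg Subtype.val h2
    · exact hn
  have h1 := ChevFacts'.pos_neg_of_simple_neg hF hS w hwv hall
  have hUV := h.map_conj_CU1 w hwv hnG h1
  obtain ⟨u', hu', d, hd, ebd⟩ := h.borel_decomp hS hC b hbB hbG
  set u'G : ↥G₁ := ⟨u', hu'.2⟩ with hu'Gdef
  set dG : ↥G₁ := ⟨d, hd.2⟩ with hdGdef
  have ebG : bG = u'G * dG := Subtype.ext ebd
  refine ⟨u'G, (mem_CU1 _).2 hu'.1, ?_⟩
  rw [eg, ← map_conj_mul (CU1 D G₁) (bG * nG) uG, map_conj_of_mem _ _ huU1,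
    ← map_conj_mul (CU1 D G₁) bG nG, hUV, ebG, ← map_conj_mul (CV1 D G₁) u'G dG,
    h.map_conj_CV1_of_mem_diagonal dG hd.1]

/-- **every automorphism is, up to an inner automorphism, one preserving `U¹` and `V¹`** -/
theorem ClsData.exists_normalize [Fintype K] (hS : CorSize D) (hC : CorComb D) (p : ℕ) [Fact p.Prime]
    (hsyl : ∃ P : Sylow p ↥G₁, (P : Subgroup ↥G₁) = CU1 D G₁)
    (α : ↥G₁ ≃* ↥G₁) :
    ∃ c : ↥G₁,
      ((CU1 D G₁).map α.toMonoidHom).map (MulAut.conj c).toMonoidHom = CU1 D G₁ ∧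
      ((CV1 D G₁).map α.toMonoidHom).map (MulAut.conj c).toMonoidHom = CV1 D G₁ :=
  exists_conj_normalize p (CU1 D G₁) (CV1 D G₁) hsyl ⟨h.n₀, h.map_n₀_CU1⟩ (CU1_inf_CV1 hF)
    (fun g hg => h.exists_conj_CV1 hS hC g hg) α

end

end Cfsg.Agent.Lead.Tw
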