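import Mathlib
import Cfsg.Agent.Lib.Lead.TwClsAutBN
import Cfsg.Agent.Lib.Lead.TwAutPar

/-!
# Automorphisms of the twisted groups given by class data: the root subgroups

`V¹ ∩ P_v = X_{-v}¹` for the minimal parabolic subgroups; an automorphism preserving `U¹` and `V¹` permutes the
`X_{-v}¹` and the `X_v¹`; an automorphism fixing `H¹` and `X_v¹` elementwise fixes `X_{-v}¹` elementwise.
-/

set_option autoImplicit false
set_option linter.unusedSectionVars false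
set_option linter.unusedSimpArgs false
set_option linter.unusedVariables false

namespace Cfsg.Agent.Lead.Tw

open Cfsg Cfsg.Lie Cfsg.Agent.Lead.Chev Cfsg.Agent.Helper6.AutAbs Cfsg.Agent.Helper2.BN
  Cfsg.Agent.Helper2.WordLen

variable {K : Type*} [Field K]

section

variable {D : ChevalleyDatum} {hF : ChevFacts D K} {T : Twist D K hF.xadd}
  {S l₀ : List (List ℕ)} {G₁ : Subgroup (GL D.Idx K)} (h : ClsData hF T S l₀ G₁)

/-- the root subgroup `X_v¹` -/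
def CXp (hF : ChevFacts D K) (G₁ : Subgroup (GL D.Idx K)) (v : List ℕ) : Subgroup ↥G₁ :=
  (negPart D hF.xadd v).subgroupOf G₁

theorem mem_CXp (v : List ℕ) (g : ↥G₁) : g ∈ CXp hF G₁ v ↔ (g : GL D.Idx K) ∈ negPart D hF.xadd v :=
  Subgroup.mem_subgroupOf

theorem CXp_le_CU1 (v : List ℕ) : CXp hF G₁ v ≤ CU1 D G₁ := by
  intro g hg
  rw [mem_CXp] at hg
  rw [mem_CU1]
  exact hF.negPart_le_posUnipotent v hg

include h

/-- the representative of a twisted reflection, in `G¹` -/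
noncomputable def ClsData.sG (v : List ℕ) (hv : v ∈ S) : ↥G₁ := ⟨nWordGL D hF.xadd v, h.s_mem v hv⟩

theorem ClsData.sG_coe (v : List ℕ) (hv : v ∈ S) :
    ((h.sG v hv : ↥G₁) : GL D.Idx K) = nWordGL D hF.xadd v := rfl

/-- the root subgroup `X_{-v}¹` -/
noncomputable def ClsData.CXn (v : List ℕ) (hv : v ∈ S) : Subgroup ↥G₁ :=
  (CXp hF G₁ v).map (MulAut.conj (h.sG v hv)).toMonoidHom

theorem ClsData.mem_CXn (v : List ℕ) (hv : v ∈ S) (g : ↥G₁) :
    g ∈ h.CXn v hv ↔ (h.sG v hv)⁻¹ * g * h.sG v hv ∈ CXp hF G₁ v :=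
  mem_map_conj_iff _ _ _

theorem ClsData.card_CXn (v : List ℕ) (hv : v ∈ S) :
    Nat.card ↥(h.CXn v hv) = Nat.card ↥(CXp hF G₁ v) :=
  Subgroup.card_map_of_injective (MulAut.conj (h.sG v hv)).injective

/-- `n_v² ∈ H` -/
theorem ClsData.s_sq_mem (v : List ℕ) (hv : v ∈ S) :
    nWordGL D hF.xadd v * nWordGL D hF.xadd v ∈ D.diagonalSubgroup K := by
  have hvv := h.gen.valid v hv
  have hvv2 : ∀ i ∈ v ++ v, i < D.rank := by
    intro i hi
    rcases List.mem_append.1 hi with h1 | h1 <;> exact hvv i h1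
  have := hF.nWordGL_inv_mul_mem_diagonal [] (v ++ v) (by simp) hvv2 (by
    intro r hr
    rw [h.gen.sq v hv r hr]
    rfl)
  rwa [nWordGL_nil, inv_one, one_mul, nWordGL_append] at this

/-- `n_v⁻¹ x n_v ∈ V` for `x ∈ X_v` -/
theorem ClsData.inv_conj_mem_neg (v : List ℕ) (hv : v ∈ S) (x : GL D.Idx K) (hx : x ∈ negPart D hF.xadd v) :
    (nWordGL D hF.xadd v)⁻¹ * x * nWordGL D hF.xadd v ∈ D.negUnipotent K := by
  set n := nWordGL D hF.xadd v with hn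
  have h1 := ChevFacts'.conj_negPart_mem_negUnipotent hF v (h.gen.valid v hv) x hx
  have := ChevFacts'.diagonal_inv_conj_mem_negUnipotent hF _ (h.s_sq_mem v hv) _ h1
  have e4 : (n * n)⁻¹ * (n * x * n⁻¹) * (n * n) = n⁻¹ * x * n := by group
  rwa [e4] at this

theorem ClsData.CXn_le_CV1 (v : List ℕ) (hv : v ∈ S) : h.CXn v hv ≤ CV1 D G₁ := by
  rintro g ⟨x, hx, rfl⟩
  rw [mem_CV1]
  have hx' : x ∈ CXp hF G₁ v := hx
  rw [mem_CXp] at hx'
  show ((h.sG v hv * x * (h.sG v hv)⁻¹ : ↥G₁) : GL D.Idx K) ∈ _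
  simp only [Subgroup.coe_mul, Subgroup.coe_inv, ClsData.sG_coe]
  exact ChevFacts'.conj_negPart_mem_negUnipotent hF v (h.gen.valid v hv) _ hx'

/-- membership in the Borel subgroup of the (B,N)-pair -/
theorem ClsData.mem_bnB [Fintype K] (hS : CorSize D) (hC : CorComb D) (x : ↥G₁) :
    x ∈ ((h.twGroup hS hC).bnPair hS).B ↔ (x : GL D.Idx K) ∈ D.borelSubgroup K := by
  show x ∈ (D.borelSubgroup K ⊓ G₁).subgroupOf G₁ ↔ _
  rw [Subgroup.mem_subgroupOf, Subgroup.mem_inf]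
  exact ⟨fun hx => hx.1, fun hx => ⟨hx, x.2⟩⟩

theorem ClsData.bnB_eq [Fintype K] (hS : CorSize D) (hC : CorComb D) :
    ((h.twGroup hS hC).bnPair hS).B = CB1 D G₁ := by
  ext x
  rw [h.mem_bnB hS hC, mem_CB1]

/-- the elements of a minimal parabolic subgroup outside `B¹` -/
theorem ClsData.exists_cell [Fintype K] (hS : CorSize D) (hC : CorComb D) (v : List ℕ) (hv : v ∈ S) (g : ↥G₁)
    (hgP : g ∈ ((h.twGroup hS hC).bnPair hS).parabolic {(h.sG v hv : ↥G₁)})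
    (hgB : (g : GL D.Idx K) ∉ D.borelSubgroup K) :
    ∃ b ∈ D.borelSubgroup K, ∃ u ∈ negPart D hF.xadd v, b ∈ G₁ ∧ u ∈ G₁ ∧
      (g : GL D.Idx K) = b * (nWordGL D hF.xadd v * u) := by
  have hG := h.twGroup hS hC
  set P := hG.bnPair hS with hP
  have hsS : h.sG v hv ∈ P.S := ⟨v, hv, rfl⟩
  have hvv := h.gen.valid v hv
  set n := nWordGL D hF.xadd v with hn
  rw [mem_parabolic_singleton P ⟨_, hsS⟩] at hgP
  rcases hgP with hgB' | ⟨b, hb, b', hb', e⟩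
  · exact absurd ((h.mem_bnB hS hC g).1 hgB') hgB
  · rw [h.mem_bnB hS hC] at hb hb'
    have eGL : (g : GL D.Idx K) = (b : GL D.Idx K) * n * (b' : GL D.Idx K) := by
      rw [e]
      rfl
    obtain ⟨l, hl, hred, b₂, hb₂, u₂, hu₂, hfix, e₂⟩ := h.exists_bruhat hS hC g.1 g.2
    obtain ⟨b₁, hb₁, u₁, hu₁, e₁⟩ := ChevFacts'.borel_word_borel hF hS v hvv _ _ hb hb'
    have hw' : ∀ i ∈ wordOf l, i < D.rank := wordOf_valid S l h.gen.valid hl
    have hact : ∀ r < D.nroots, reflWord D v r = reflWord D (wordOf l) r := by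
      apply hF.cell_action v (wordOf l) hvv hw' b₁ b₂ u₁ u₂ hb₁ (Subgroup.mem_inf.1 hb₂).1 hu₁ hu₂
      rw [← e₁, ← eGL, e₂]
    rw [← negPart_congr D hF.xadd v (wordOf l) hact] at hu₂
    have hd : nWordGL D hF.xadd (wordOf l) * n⁻¹ ∈ D.diagonalSubgroup K := by
      have := monomial_mul_inv_mem_diagonal hF 1 1 (one_mem _) (one_mem _) (wordOf l) v hw' hvv
        (fun r hr => (hact r hr).symm)
      rwa [one_mul, one_mul] at this
    have hu₂G : u₂ ∈ G₁ := h.fix_mem v hv u₂ hu₂ hfix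
    have hnlG : nWordGL D hF.xadd (wordOf l) ∈ G₁ := h.nWordGL_wordOf_mem l hl
    refine ⟨b₂ * (nWordGL D hF.xadd (wordOf l) * n⁻¹),
      mul_mem (Subgroup.mem_inf.1 hb₂).1 (diagonal_le_borel D hd), u₂, hu₂,
      mul_mem (Subgroup.mem_inf.1 hb₂).2 (mul_mem hnlG (inv_mem (h.s_mem v hv))), hu₂G, ?_⟩
    rw [e₂]
    group

/-- the same, with the element of `X_v¹` on the left -/
theorem ClsData.exists_cell_left [Fintype K] (hS : CorSize D) (hC : CorComb D) (v : List ℕ) (hv : v ∈ S)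
    (g : ↥G₁) (hgP : g ∈ ((h.twGroup hS hC).bnPair hS).parabolic {(h.sG v hv : ↥G₁)})
    (hgB : (g : GL D.Idx K) ∉ D.borelSubgroup K) :
    ∃ x ∈ CXp hF G₁ v, ∃ b ∈ CB1 D G₁, g = x * h.sG v hv * b := by
  have hgB' : ((g⁻¹ : ↥G₁) : GL D.Idx K) ∉ D.borelSubgroup K := by
    intro hh
    apply hgB
    have := inv_mem hh
    rwa [Subgroup.coe_inv, inv_inv] at this
  obtain ⟨b, hb, u, hu, hbG, huG, e⟩ := h.exists_cell hS hC v hv g⁻¹ (inv_mem hgP) hgB'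
  set n := nWordGL D hF.xadd v with hn
  have hnn := h.s_sq_mem v hv
  rw [← hn] at hnn
  refine ⟨⟨u⁻¹, inv_mem huG⟩, (mem_CXp v _).2 (inv_mem hu),
    ⟨(n * n)⁻¹ * b⁻¹, mul_mem (inv_mem (mul_mem (h.s_mem v hv) (h.s_mem v hv))) (inv_mem hbG)⟩,
    (mem_CB1 _).2 (mul_mem (inv_mem (diagonal_le_borel D hnn)) (inv_mem hb)), ?_⟩
  apply Subtype.ext
  simp only [Subgroup.coe_mul, ClsData.sG_coe]
  rw [← hn]
  have e' : (g : GL D.Idx K) = (b * (n * u))⁻¹ := by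
    rw [← e, Subgroup.coe_inv, inv_inv]
  rw [e']
  group

/-- **`V¹ ∩ P_v = X_{-v}¹`** -/
theorem ClsData.neg_inf_parabolic [Fintype K] (hS : CorSize D) (hC : CorComb D) (v : List ℕ) (hv : v ∈ S) :
    CV1 D G₁ ⊓ ((h.twGroup hS hC).bnPair hS).parabolic {(h.sG v hv : ↥G₁)} = h.CXn v hv := by
  classical
  have hG := h.twGroup hS hC
  set P := hG.bnPair hS with hP
  have hsS : h.sG v hv ∈ P.S := ⟨v, hv, rfl⟩
  have hvv := h.gen.valid v hv
  set n := nWordGL D hF.xadd v with hn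
  set A := CV1 D G₁ ⊓ P.parabolic {(h.sG v hv : ↥G₁)} with hA
  have hle : h.CXn v hv ≤ A := by
    intro g hg
    refine Subgroup.mem_inf.2 ⟨h.CXn_le_CV1 v hv hg, ?_⟩
    have hs : h.sG v hv ∈ P.parabolic {(h.sG v hv : ↥G₁)} := gen_mem_parabolic P _ _ rfl
    have hB : (h.sG v hv)⁻¹ * g * h.sG v hv ∈ P.B := by
      rw [h.mem_bnB hS hC]
      have := (h.mem_CXn v hv g).1 hg
      rw [mem_CXp] at this
      exact posUnipotent_le_borel D (hF.negPart_le_posUnipotent v this)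
    have : g = h.sG v hv * ((h.sG v hv)⁻¹ * g * h.sG v hv) * (h.sG v hv)⁻¹ := by group
    rw [this]
    exact mul_mem (mul_mem hs (B_le_parabolic P _ hB)) (inv_mem hs)
  -- the elements of `A` outside `1`
  have key : ∀ g : ↥A, (g : ↥G₁) ≠ 1 → ∃ u : ↥(CXp hF G₁ v), u ≠ 1 ∧
      ∃ b ∈ D.borelSubgroup K, ((g : ↥G₁) : GL D.Idx K) = b * (n * ((u : ↥G₁) : GL D.Idx K)) := by
    rintro ⟨g, hg⟩ hg1
    obtain ⟨hgV, hgP⟩ := Subgroup.mem_inf.1 hg
    rw [mem_CV1] at hgV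
    have hgB : (g : GL D.Idx K) ∉ D.borelSubgroup K := by
      intro hgB
      have : (g : GL D.Idx K) ∈ D.borelSubgroup K ⊓ D.negUnipotent K := Subgroup.mem_inf.2 ⟨hgB, hgV⟩
      rw [hF.borel_inf_negUnipotent, Subgroup.mem_bot] at this
      exact hg1 (Subtype.ext this)
    obtain ⟨b, hb, u, hu, hbG, huG, e⟩ := h.exists_cell hS hC v hv g hgP hgB
    refine ⟨⟨⟨u, huG⟩, (mem_CXp v _).2 hu⟩, ?_, b, hb, e⟩
    intro hu1
    have hu1' : u = 1 := congrArg (fun z : ↥(CXp hF G₁ v) => ((z : ↥G₁) : GL D.Idx K)) hu1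
    rw [hu1', mul_one, ← hn] at e
    obtain ⟨x, hxN, hxfix, hxne⟩ := h.nontriv v hv
    have hxU : x ∈ D.posUnipotent K := hF.negPart_le_posUnipotent v hxN
    have h2 := h.inv_conj_mem_neg v hv x hxN
    rw [← hn] at h2
    have h3 : b * x * b⁻¹ ∈ D.negUnipotent K := by
      have e5 : b * x * b⁻¹ = (g : GL D.Idx K) * (n⁻¹ * x * n) * (g : GL D.Idx K)⁻¹ := by
        rw [e]
        group
      rw [e5]
      exact mul_mem (mul_mem hgV h2) (inv_mem hgV)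
    have h4 := ChevFacts'.eq_one_of_mem_pos_of_mem_neg hF _ (ChevFacts'.borel_conj_mem hF b hb x hxU) h3
    apply hxne
    have : x = b⁻¹ * (b * x * b⁻¹) * b := by group
    rw [this, h4]
    group
  choose! F hF1 hF2 using key
  -- the injection into `X_v¹`
  have hcard : Nat.card ↥A ≤ Nat.card ↥(CXp hF G₁ v) := by
    apply Nat.card_le_card_of_injective (fun g : ↥A => if (g : ↥G₁) = 1 then (1 : ↥(CXp hF G₁ v)) else F g)
    intro g g' hgg
    by_cases h1 : (g : ↥G₁) = 1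
    · by_cases h2 : (g' : ↥G₁) = 1
      · exact Subtype.ext (h1.trans h2.symm)
      · exfalso
        simp only [h1, h2, if_true, if_false] at hgg
        exact hF1 g' h2 hgg.symm
    · by_cases h2 : (g' : ↥G₁) = 1
      · exfalso
        simp only [h1, h2, if_true, if_false] at hgg
        exact hF1 g h1 hgg
      · simp only [h1, h2, if_false] at hgg
        obtain ⟨b, hb, e⟩ := hF2 g h1
        obtain ⟨b', hb', e'⟩ := hF2 g' h2
        rw [hgg] at e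
        have hV : ((g : ↥G₁) : GL D.Idx K) ∈ D.negUnipotent K := (mem_CV1 _).1 (Subgroup.mem_inf.1 g.2).1
        have hV' : ((g' : ↥G₁) : GL D.Idx K) ∈ D.negUnipotent K := (mem_CV1 _).1 (Subgroup.mem_inf.1 g'.2).1
        have h5 : ((g' : ↥G₁) : GL D.Idx K) * ((g : ↥G₁) : GL D.Idx K)⁻¹ ∈
            D.borelSubgroup K ⊓ D.negUnipotent K := by
          refine Subgroup.mem_inf.2 ⟨?_, mul_mem hV' (inv_mem hV)⟩
          have : ((g' : ↥G₁) : GL D.Idx K) * ((g : ↥G₁) : GL D.Idx K)⁻¹ = b' * b⁻¹ := by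
            rw [e, e']
            group
          rw [this]
          exact mul_mem hb' (inv_mem hb)
        rw [hF.borel_inf_negUnipotent, Subgroup.mem_bot] at h5
        apply Subtype.ext
        apply Subtype.ext
        exact (mul_inv_eq_one.1 h5).symm
  rw [← h.card_CXn v hv] at hcard
  exact (Subgroup.eq_of_le_of_card_ge hle hcard).symm

/-- the image of `B¹` under an automorphism preserving `U¹` -/
theorem ClsData.map_bnB [Fintype K] (hS : CorSize D) (hC : CorComb D) (θ : ↥G₁ ≃* ↥G₁)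
    (hU : (CU1 D G₁).map θ.toMonoidHom = CU1 D G₁) :
    ((h.twGroup hS hC).bnPair hS).B.map θ.toMonoidHom = ((h.twGroup hS hC).bnPair hS).B := by
  rw [h.bnB_eq hS hC, ← h.normalizer_CU1 hS hC, Subgroup.map_equiv_normalizer_eq, hU]

/-- an automorphism preserving `U¹` permutes the minimal parabolic subgroups -/
theorem ClsData.exists_map_parabolic' [Fintype K] (hS : CorSize D) (hC : CorComb D) (θ : ↥G₁ ≃* ↥G₁)
    (hU : (CU1 D G₁).map θ.toMonoidHom = CU1 D G₁) (v : List ℕ) (hv : v ∈ S) :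
    ∃ v', ∃ hv' : v' ∈ S,
      (((h.twGroup hS hC).bnPair hS).parabolic {(h.sG v hv : ↥G₁)}).map θ.toMonoidHom =
        ((h.twGroup hS hC).bnPair hS).parabolic {(h.sG v' hv' : ↥G₁)} := by
  have hG := h.twGroup hS hC
  set P := hG.bnPair hS with hP
  have hsS : h.sG v hv ∈ P.S := ⟨v, hv, rfl⟩
  obtain ⟨t, ht⟩ := exists_map_parabolic P θ (h.map_bnB hS hC θ hU) ⟨_, hsS⟩
  obtain ⟨v', hv', e⟩ := t.2
  have ht' : (t : ↥G₁) = h.sG v' hv' := Subtype.ext e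
  exact ⟨v', hv', by rw [← ht']; exact ht⟩

/-- the image of `X_{-v}¹` -/
theorem ClsData.map_CXn_of_map_parabolic [Fintype K] (hS : CorSize D) (hC : CorComb D) (θ : ↥G₁ ≃* ↥G₁)
    (hV : (CV1 D G₁).map θ.toMonoidHom = CV1 D G₁) (v v' : List ℕ) (hv : v ∈ S) (hv' : v' ∈ S)
    (hP : (((h.twGroup hS hC).bnPair hS).parabolic {(h.sG v hv : ↥G₁)}).map θ.toMonoidHom =
        ((h.twGroup hS hC).bnPair hS).parabolic {(h.sG v' hv' : ↥G₁)}) :
    (h.CXn v hv).map θ.toMonoidHom = h.CXn v' hv' := by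
  rw [← h.neg_inf_parabolic hS hC v hv, ← h.neg_inf_parabolic hS hC v' hv',
    Subgroup.map_inf_eq _ _ _ θ.injective, hV, hP]

/-- an automorphism preserving `U¹` and `V¹` permutes the `X_{-v}¹` -/
theorem ClsData.exists_map_CXn [Fintype K] (hS : CorSize D) (hC : CorComb D) (θ : ↥G₁ ≃* ↥G₁)
    (hU : (CU1 D G₁).map θ.toMonoidHom = CU1 D G₁) (hV : (CV1 D G₁).map θ.toMonoidHom = CV1 D G₁)
    (v : List ℕ) (hv : v ∈ S) :
    ∃ v', ∃ hv' : v' ∈ S, (h.CXn v hv).map θ.toMonoidHom = h.CXn v' hv' := by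
  obtain ⟨v', hv', e⟩ := h.exists_map_parabolic' hS hC θ hU v hv
  exact ⟨v', hv', h.map_CXn_of_map_parabolic hS hC θ hV v v' hv hv' e⟩

/-- an automorphism preserving `U¹` and `V¹` permutes the `X_v¹` -/
theorem ClsData.exists_map_CXp [Fintype K] (hS : CorSize D) (hC : CorComb D)
    (hopp : ∀ v, ∀ hv : v ∈ S, (h.CXn v hv).map (MulAut.conj h.n₀).toMonoidHom = CXp hF G₁ v)
    (θ : ↥G₁ ≃* ↥G₁)
    (hU : (CU1 D G₁).map θ.toMonoidHom = CU1 D G₁) (hV : (CV1 D G₁).map θ.toMonoidHom = CV1 D G₁)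
    (v : List ℕ) (hv : v ∈ S) :
    ∃ v', v' ∈ S ∧ (CXp hF G₁ v).map θ.toMonoidHom = CXp hF G₁ v' := by
  set c : ↥G₁ ≃* ↥G₁ := MulAut.conj h.n₀ with hc
  have hUc : (CU1 D G₁).map c.toMonoidHom = CV1 D G₁ := h.map_n₀_CU1
  have hVc : (CV1 D G₁).map c.toMonoidHom = CU1 D G₁ := h.map_n₀_CV1 hS
  have hUc' := map_symm_of_map' c _ _ hVc
  have hVc' := map_symm_of_map' c _ _ hUc
  set θ' : ↥G₁ ≃* ↥G₁ := c.trans (θ.trans c.symm) with hθ'
  have hmap : ∀ A : Subgroup ↥G₁, A.map θ'.toMonoidHom =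
      ((A.map c.toMonoidHom).map θ.toMonoidHom).map c.symm.toMonoidHom := by
    intro A
    rw [Subgroup.map_map, Subgroup.map_map]
    rfl
  have hU' : (CU1 D G₁).map θ'.toMonoidHom = CU1 D G₁ := by
    rw [hmap, hUc, hV, hVc']
  have hV' : (CV1 D G₁).map θ'.toMonoidHom = CV1 D G₁ := by
    rw [hmap, hVc, hU, hUc']
  obtain ⟨v', hv', e⟩ := h.exists_map_CXn hS hC θ' hU' hV' v hv
  refine ⟨v', hv', ?_⟩
  rw [hmap, hopp v hv] at e
  have h1 := map_symm_of_map' c.symm _ _ e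
  rw [MulEquiv.symm_symm, hopp v' hv'] at h1
  exact h1.symm

/-- **an automorphism fixing `H¹` and `X_v¹` elementwise fixes `X_{-v}¹` elementwise** -/
theorem ClsData.fix_CXn_of_fix [Fintype K] (hS : CorSize D) (hC : CorComb D) (θ : ↥G₁ ≃* ↥G₁)
    (hU : (CU1 D G₁).map θ.toMonoidHom = CU1 D G₁) (hV : (CV1 D G₁).map θ.toMonoidHom = CV1 D G₁)
    (v : List ℕ) (hv : v ∈ S)
    (hP : (((h.twGroup hS hC).bnPair hS).parabolic {(h.sG v hv : ↥G₁)}).map θ.toMonoidHom =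
        ((h.twGroup hS hC).bnPair hS).parabolic {(h.sG v hv : ↥G₁)})
    (hH : ∀ d ∈ CH1 D G₁, θ d = d) (hX : ∀ x ∈ CXp hF G₁ v, θ x = x)
    (hcent : ∀ x ∈ CXp hF G₁ v, (∀ d ∈ CH1 D G₁, d * x * d⁻¹ = x) → x = 1) :
    ∀ y ∈ h.CXn v hv, θ y = y := by
  have hG := h.twGroup hS hC
  set P := hG.bnPair hS with hPdef
  set s := h.sG v hv with hs
  have hsS : s ∈ P.S := ⟨v, hv, rfl⟩
  have hvv := h.gen.valid v hv
  have hB := h.map_bnB hS hC θ hU
  have hsP : s ∈ P.parabolic {(s : ↥G₁)} := gen_mem_parabolic P _ _ rfl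
  -- the image of `s`
  have hθsP : θ s ∈ P.parabolic {(s : ↥G₁)} := by
    rw [← hP]
    exact ⟨s, hsP, rfl⟩
  have hθsB : ((θ s : ↥G₁) : GL D.Idx K) ∉ D.borelSubgroup K := by
    intro hh
    have h1 : θ s ∈ P.B := (h.mem_bnB hS hC _).2 hh
    rw [← hB] at h1
    obtain ⟨z, hz, ez⟩ := h1
    have : z = s := θ.injective ez
    rw [this] at hz
    exact gen_not_mem_B P ⟨s, hsS⟩ hz
  obtain ⟨x₀, hx₀, b₃, hb₃, e₀⟩ := h.exists_cell_left hS hC v hv (θ s) hθsP hθsB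
  rw [← hs] at e₀
  -- `x₀` is centralised by `H¹`
  have hx₀1 : x₀ = 1 := by
    apply hcent x₀ hx₀
    intro d hd
    have hdH := (mem_CH1 d).1 hd
    have hd' : s⁻¹ * d * s ∈ CH1 D G₁ := by
      rw [mem_CH1]
      simp only [Subgroup.coe_mul, Subgroup.coe_inv]
      have hn : (s : GL D.Idx K)⁻¹ ∈ D.monomialSubgroup K :=
        inv_mem (nWordGL_mem_monomial D hF.xadd hF.simple_lt v hvv)
      have := hF.monomial_conj_mem_diagonal _ hn _ hdH
      rwa [inv_inv] at this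
    have e1 : d * s = s * (s⁻¹ * d * s) := by group
    have e2 := congrArg θ e1
    rw [map_mul, map_mul, hH d hd, hH _ hd', e₀] at e2
    -- `x₀⁻¹ (d x₀ d⁻¹) ∈ X_v ∩ s B s⁻¹`
    set y := x₀⁻¹ * (d * x₀ * d⁻¹) with hy
    have hyX : y ∈ CXp hF G₁ v := by
      refine mul_mem (inv_mem hx₀) ?_
      rw [mem_CXp]
      simp only [Subgroup.coe_mul, Subgroup.coe_inv]
      exact hF.diagonal_conj_negPart v _ hdH _ ((mem_CXp v _).1 hx₀)
    have hyB : s⁻¹ * y * s ∈ CB1 D G₁ := by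
      have e3 : s⁻¹ * y * s = b₃ * (s⁻¹ * d * s) * b₃⁻¹ * (s⁻¹ * d * s)⁻¹ := by
        have e4 : d * x₀ = x₀ * s * b₃ * (s⁻¹ * d * s) * b₃⁻¹ * s⁻¹ := by
          have : d * x₀ = d * (x₀ * s * b₃) * b₃⁻¹ * s⁻¹ := by group
          rw [this, e2]
        rw [hy]
        have : x₀⁻¹ * (d * x₀ * d⁻¹) = x₀⁻¹ * (d * x₀) * d⁻¹ := by group
        rw [this, e4]
        group
      rw [e3]
      have hd'B : s⁻¹ * d * s ∈ CB1 D G₁ := (mem_CB1 _).2 (diagonal_le_borel D ((mem_CH1 _).1 hd'))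
      exact mul_mem (mul_mem (mul_mem hb₃ hd'B) (inv_mem hb₃)) (inv_mem hd'B)
    have hyV : s⁻¹ * y * s ∈ CV1 D G₁ := by
      rw [mem_CV1]
      simp only [Subgroup.coe_mul, Subgroup.coe_inv]
      exact h.inv_conj_mem_neg v hv _ ((mem_CXp v _).1 hyX)
    have h1 : s⁻¹ * y * s ∈ CB1 D G₁ ⊓ CV1 D G₁ := Subgroup.mem_inf.2 ⟨hyB, hyV⟩
    rw [CB1_inf_CV1 hF, Subgroup.mem_bot] at h1
    have hy1 : y = 1 := by
      have : y = s * (s⁻¹ * y * s) * s⁻¹ := by group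
      rw [this, h1]
      group
    rw [hy] at hy1
    have : d * x₀ * d⁻¹ = x₀ * (x₀⁻¹ * (d * x₀ * d⁻¹)) := by group
    rw [this, hy1, mul_one]
  rw [hx₀1, one_mul] at e₀
  -- the elements of `X_{-v}¹`
  intro y hy
  by_cases hy1 : y = 1
  · rw [hy1, map_one]
  have hyV := h.CXn_le_CV1 v hv hy
  have hyP : y ∈ P.parabolic {(s : ↥G₁)} := by
    have := h.neg_inf_parabolic hS hC v hv
    rw [← this] at hy
    exact (Subgroup.mem_inf.1 hy).2
  have hyB : ((y : ↥G₁) : GL D.Idx K) ∉ D.borelSubgroup K := by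
    intro hh
    have h1 : y ∈ CB1 D G₁ ⊓ CV1 D G₁ := Subgroup.mem_inf.2 ⟨(mem_CB1 _).2 hh, hyV⟩
    rw [CB1_inf_CV1 hF, Subgroup.mem_bot] at h1
    exact hy1 h1
  obtain ⟨x, hx, b, hb, e⟩ := h.exists_cell_left hS hC v hv y hyP hyB
  rw [← hs] at e
  have hθb : θ b ∈ CB1 D G₁ := by
    have : θ b ∈ P.B.map θ.toMonoidHom := ⟨b, (h.bnB_eq hS hC) ▸ hb, rfl⟩
    rw [hB, h.bnB_eq hS hC] at this
    exact this
  have hθy : θ y = x * s * b₃ * θ b := by
    rw [e, map_mul, map_mul, hX x hx, e₀]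
    group
  have h2 : y⁻¹ * θ y ∈ CB1 D G₁ ⊓ CV1 D G₁ := by
    refine Subgroup.mem_inf.2 ⟨?_, ?_⟩
    · have : y⁻¹ * θ y = b⁻¹ * b₃ * θ b := by
        rw [hθy, e]
        group
      rw [this]
      exact mul_mem (mul_mem (inv_mem hb) hb₃) hθb
    · refine mul_mem (inv_mem hyV) ?_
      rw [← hV]
      exact ⟨y, hyV, rfl⟩
  rw [CB1_inf_CV1 hF, Subgroup.mem_bot] at h2
  exact (inv_mul_eq_one.1 h2).symm

end

end Cfsg.Agent.Lead.Tw
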