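import Mathlib
import Cfsg.Agent.Lib.Lead.TwF4Torus
import Cfsg.Agent.Lib.Lead.TwReePerf
import Cfsg.Agent.Lib.Lead.TwReePerfId

/-!
# `²F₄(q)` is perfect for `q > 2`
-/

set_option autoImplicit false
set_option linter.unusedSectionVars false
set_option linter.unusedSimpArgs false
set_option linter.unusedVariables false

namespace Cfsg.Agent.Lead.Tw.F4

open Cfsg Cfsg.Lie Cfsg.Agent.Lead.Chev Cfsg.Agent.Lead.ZPM
open scoped commutatorElement

section finite

variable {K : Type*} [Field K] [Fintype K] [CharP K 2] {m : ℕ} (hK : Fintype.card K = 2 ^ (2 * m + 1))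
  (hperf : ∀ x : K, ∃ y : K, y ^ 2 = x) (f : K ≃+* K) (hf : ∀ t, f t = t ^ (2 ^ m))
include hK hperf hf

omit hK hperf hf [Fintype K] [CharP K 2] in
/-- parameters of the torus element -/
def cT (m : ℕ) (μ : Kˣ) : Fin chevF4.rank → Kˣ := fun i =>
  (μ ^ 2 ^ m) ^ (([1, 0, 0, 0] : List ℤ).getD i.val 0) * μ ^ (([0, 0, 0, 1] : List ℤ).getD i.val 0)

omit hK hf in
/-- the torus element -/
noncomputable def hT (m : ℕ) (μ : Kˣ) : GL chevF4.Idx K :=
  hGLt chevF4 hF.xadd 33 ((μ : K) ^ 2 ^ m) * hGLt chevF4 hF.xadd 24 (μ : K)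

theorem hT_mem (μ : Kˣ) : hT m μ ∈ twistedF4 K (2 ^ m) := by
  have hcl := clsData hK hperf f hf
  unfold hT
  have key : ∀ u : K, (f (u ^ 2 ^ m)) ^ 2 = u := by
    intro u
    rw [← hf]
    exact ff_sq hK f hf u
  refine hcl.hGLt_pair_mem hS hC hsurj 33 24 pos_roots.2.2.1 pos_roots.2.2.2 rho_vals.2.2.1 rho_vals.2.2.2
    orth_33_24.1 orth_33_24.2.1 orth_33_24.2.2.1 orth_33_24.2.2.2
    (c_neg_one hperf f 24) (c_neg_one hperf f 33) _ _
    (pow_ne_zero _ (Units.ne_zero μ)) (Units.ne_zero μ) ?_ ?_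
  · rw [tw_c]
    show (f (μ : K)) ^ (lam 24) = _
    rw [lam_vals.2.2.2, pow_one, hf]
  · rw [tw_c]
    show (f ((μ : K) ^ 2 ^ m)) ^ (lam 33) = _
    rw [lam_vals.2.2.1, key]

omit hK hperf hf [Fintype K] [CharP K 2] in
theorem hT_eq (μ : Kˣ) : hT m μ = torusHom chevF4 K (cT m μ) := by
  unfold hT
  have e3 := hGLt_eq_torusHom hF 33 (by decide) (μ ^ 2 ^ m)
  have e4 := hGLt_eq_torusHom hF 24 (by decide) μ
  rw [Units.val_pow_eq_pow_val] at e3
  rw [e3, e4, ← map_mul]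
  congr 1
  funext i
  have hi : i.val < 4 := i.2
  simp only [Pi.mul_apply, cT]
  rw [(cor_vals i.val hi).2.2.1, (cor_vals i.val hi).2.2.2]

omit hK hperf hf [Fintype K] [CharP K 2] in
theorem hT_val (μ : Kˣ) :
    ((hT m μ : GL chevF4.Idx K) : Matrix chevF4.Idx chevF4.Idx K) = Tmat chevF4 (extC chevF4 (cT m μ)) := by
  rw [hT_eq, torusHom_val]

omit hK hperf hf [Fintype K] [CharP K 2] in
theorem chi_hT (μ : Kˣ) (r : ℕ) :
    chi chevF4 (extC chevF4 (cT m μ)) r =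
      ((μ : K) ^ 2 ^ m) ^ (chevF4.cartan 0 r) * (μ : K) ^ (chevF4.cartan 3 r) := by
  rw [← chiU_val]
  unfold chiU
  have h4 : ∏ i : Fin chevF4.rank, cT m μ i ^ chevF4.cartan i.val r =
      cT m μ ⟨0, by decide⟩ ^ chevF4.cartan 0 r * cT m μ ⟨1, by decide⟩ ^ chevF4.cartan 1 r *
        cT m μ ⟨2, by decide⟩ ^ chevF4.cartan 2 r * cT m μ ⟨3, by decide⟩ ^ chevF4.cartan 3 r :=
    Fin.prod_univ_four _
  rw [h4]
  have c0 : cT m μ ⟨0, by decide⟩ = μ ^ 2 ^ m := by simp [cT]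
  have c1 : cT m μ ⟨1, by decide⟩ = 1 := by simp [cT]
  have c2 : cT m μ ⟨2, by decide⟩ = 1 := by simp [cT]
  have c3 : cT m μ ⟨3, by decide⟩ = μ := by simp [cT]
  rw [c0, c1, c2, c3, one_zpow, one_zpow, mul_one, mul_one, Units.val_mul, Units.val_zpow_eq_zpow_val,
    Units.val_zpow_eq_zpow_val, Units.val_pow_eq_pow_val]

omit hK hperf hf [Fintype K] [CharP K 2] in
theorem cartan_vals : chevF4.cartan 0 24 = 0 ∧ chevF4.cartan 3 24 = 2 ∧ chevF4.cartan 0 25 = 0 ∧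
    chevF4.cartan 3 25 = -1 ∧ chevF4.cartan 0 28 = -1 ∧ chevF4.cartan 3 28 = -1 := by decide

omit hK hperf hf [Fintype K] in
theorem sq_eq_one_char (x : K) (h : x ^ 2 = 1) : x = 1 := by
  have h2 : (x + 1) ^ 2 = 0 := by rw [add_sq_char, h, one_pow]; exact add_self 1
  have h3 : x + 1 = 0 := (pow_eq_zero_iff two_ne_zero).1 h2
  have : x = -1 := eq_neg_of_add_eq_zero_left h3
  rw [this, neg_eq]

omit hperf hf in
theorem chi24_ne (μ : Kˣ) (hμ : μ ≠ 1) : chi chevF4 (extC chevF4 (cT m μ)) 24 - 1 ≠ 0 := by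
  rw [chi_hT, cartan_vals.1, cartan_vals.2.1, zpow_zero, one_mul, sub_ne_zero]
  intro h
  apply hμ
  apply Units.ext
  exact sq_eq_one_char (μ : K) (by exact_mod_cast h)

omit hperf hf in
theorem chi25_ne (μ : Kˣ) (hμ : μ ≠ 1) : chi chevF4 (extC chevF4 (cT m μ)) 25 - 1 ≠ 0 := by
  rw [chi_hT, cartan_vals.2.2.1, cartan_vals.2.2.2.1, zpow_zero, one_mul, sub_ne_zero]
  intro h
  apply hμ
  apply Units.ext
  have : ((μ : K))⁻¹ = 1 := by simpa using h
  rw [Units.val_one]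
  exact inv_eq_one.1 this

theorem chi28_ne (μ : Kˣ) (hμ : μ ≠ 1) : chi chevF4 (extC chevF4 (cT m μ)) 28 - 1 ≠ 0 := by
  rw [chi_hT, cartan_vals.2.2.2.2.1, cartan_vals.2.2.2.2.2, sub_ne_zero]
  intro h
  apply hμ
  apply units_pow_inj hK hperf f hf
  have h1 : ((μ : K) ^ 2 ^ m * (μ : K))⁻¹ = 1 := by
    rw [mul_inv]
    simpa using h
  have h2 : (μ : K) ^ 2 ^ m * (μ : K) = 1 := inv_eq_one.1 h1
  have h3 : μ ^ 2 ^ m * μ = 1 := by
    apply Units.ext
    rw [Units.val_mul, Units.val_pow_eq_pow_val, Units.val_one]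
    exact h2
  have h4 : μ ^ (2 * 2 ^ m) * μ ^ 2 = (μ ^ 2 ^ m * μ) ^ 2 := by
    rw [mul_pow, ← pow_mul, mul_comm 2 (2 ^ m)]
  rw [h4, h3, one_pow]

omit hK hperf hf [Fintype K] [CharP K 2] in
theorem comm_28_30 : ∀ r ∈ [28, 30], ∀ s ∈ [28, 30], r ≠ s → ∀ a b : K,
    Commute (xGL chevF4 hF.xadd r a) (xGL chevF4 hF.xadd s b) := by
  intro r hr s hs hrs a b
  simp only [List.mem_cons, List.not_mem_nil, or_false] at hr hs
  rcases hr with rfl | rfl <;> rcases hs with rfl | rfl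
  · exact absurd rfl hrs
  · exact xGL_commute hF 28 30 (by decide) (by decide) (by decide) a b
  · exact xGL_commute hF 30 28 (by decide) (by decide) (by decide) a b
  · exact absurd rfl hrs

omit hK hperf hf [Fintype K] [CharP K 2] in
theorem comm_24_33 : ∀ r ∈ [24, 33], ∀ s ∈ [24, 33], r ≠ s → ∀ a b : K,
    Commute (xGL chevF4 hF.xadd r a) (xGL chevF4 hF.xadd s b) := by
  intro r hr s hs hrs a b
  simp only [List.mem_cons, List.not_mem_nil, or_false] at hr hs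
  rcases hr with rfl | rfl <;> rcases hs with rfl | rfl
  · exact absurd rfl hrs
  · exact xGL_commute hF 24 33 (by decide) (by decide) (by decide) a b
  · exact xGL_commute hF 33 24 (by decide) (by decide) (by decide) a b
  · exact absurd rfl hrs

omit hK hperf hf [Fintype K] [CharP K 2] in
theorem xprod_pair (a1 a2 : K) :
    xprod hF [24, 33] (fun r => if r = 24 then a1 else a2) = wordGL chevF4 hF.xadd [(24, a1), (33, a2)] := by
  rw [xprod_eq_wordGL]
  simp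

omit hK hperf hf [Fintype K] [CharP K 2] in
theorem xprod_center (a3 a4 : K) :
    xprod hF [28, 30] (fun r => if r = 28 then a3 else a4) =
      wordGL chevF4 hF.xadd [(25, 0), (27, 0), (28, a3), (30, a4)] := by
  rw [xprod_eq_wordGL, wordGL_cons, wordGL_cons, xGL_zero, xGL_zero, one_mul, one_mul]
  simp

omit hK hperf hf [Fintype K] [CharP K 2] in
theorem xprod_center' (γ : ℕ → K) :
    xprod hF [28, 30] γ = wordGL chevF4 hF.xadd [(25, 0), (27, 0), (28, γ 28), (30, γ 30)] := by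
  rw [← xprod_center]
  apply xprod_congr
  intro r hr
  simp only [List.mem_cons, List.not_mem_nil, or_false] at hr
  rcases hr with rfl | rfl <;> simp

/-- the pair class lies in the derived group -/
theorem pair_mem_commutator (μ : Kˣ) (hμ : μ ≠ 1) (T : K) :
    wordGL chevF4 hF.xadd (f4PairWord (2 ^ m) f4p1 f4p4 T) ∈
      ⁅twistedF4 K (2 ^ m), twistedF4 K (2 ^ m)⁆ := by
  have hcl := clsData hK hperf f hf
  set c := extC chevF4 (cT m μ) with hc
  have hcne : ∀ i < chevF4.rank, c i ≠ 0 := fun i _ => extC_ne_zero chevF4 (cT m μ) i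
  have hX := chi24_ne hK μ hμ
  set t := (chi chevF4 c 24 - 1)⁻¹ * T with ht
  set α : ℕ → K := fun r => if r = 24 then t else t ^ 2 ^ m with hα
  have hx : xprod hF [24, 33] α = wordGL chevF4 hF.xadd (f4PairWord (2 ^ m) f4p1 f4p4 t) := by
    rw [hα, xprod_pair, pair_comm_pos]
    rfl
  have hxG : xprod hF [24, 33] α ∈ twistedF4 K (2 ^ m) := by
    rw [hx]
    exact gen_mem _ (pair_pos_mem t)
  have hy : ⁅hT m μ, xprod hF [24, 33] α⁆ ∈ ⁅twistedF4 K (2 ^ m), twistedF4 K (2 ^ m)⁆ :=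
    Subgroup.commutator_mem_commutator (hT_mem hK hperf f hf μ) hxG
  have hyG := commutator_self_le _ hy
  have hyfix := hcl.fixed _ hyG
  have e := commutator_xprod hF (hT m μ) c hcne (hT_val μ) [24, 33] (by
    intro r hr
    simp only [List.mem_cons, List.not_mem_nil, or_false] at hr
    rcases hr with rfl | rfl <;> decide) (by decide) comm_24_33 α
  have e2 : xprod hF [24, 33] (fun r => chi chevF4 c r * α r - α r) =
      wordGL chevF4 hF.xadd [(24, chi chevF4 c 24 * t - t),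
        (33, chi chevF4 c 33 * t ^ 2 ^ m - t ^ 2 ^ m)] := by
    rw [← xprod_pair]
    apply xprod_congr
    intro r hr
    simp only [List.mem_cons, List.not_mem_nil, or_false] at hr
    rcases hr with rfl | rfl <;> simp [hα]
  rw [e, e2] at hy hyfix
  obtain ⟨T', hT'⟩ := fix_pair hK hperf f hf _ (mem_negPart_pair _ _) hyfix
  have hT'' : wordGL chevF4 hF.xadd (f4PairWord (2 ^ m) f4p1 f4p4 T') =
      wordGL chevF4 hF.xadd [(24, T'), (33, T' ^ 2 ^ m)] := by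
    rw [pair_comm_pos]
    rfl
  rw [hT''] at hT'
  have h1 := (inj_pair _ _ _ _ hT').1
  have h2 : T' = T := by
    have hX' : chi chevF4 c 24 - 1 ≠ 0 := hX
    rw [← h1, ht, ← sub_one_mul, mul_inv_cancel_left₀ hX']
  rw [← h2, hT'', ← hT']
  exact hy

omit hK hperf hf [Fintype K] in
/-- the normal form of the fixed elements of the class of type `B₂` -/
theorem b2_normal (t u : K) :
    wordGL chevF4 hF.xadd (b2ClassWord (2 ^ m) f4a f4b f4ab f4aab t u) =
      wordGL chevF4 hF.xadd [(25, t), (27, t ^ 2 ^ m), (28, t ^ (2 ^ m + 1) + u + t ^ 2 ^ m * t),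
        (30, u ^ (2 * 2 ^ m) + (t ^ 2 ^ m) ^ 2 * t)] :=
  wordGL_congr_val _ _ (MCalc.f4I2p (t ^ 2 ^ m) t (t ^ (2 ^ m + 1) + u) (u ^ (2 * 2 ^ m)))

omit hK hperf hf [Fintype K] [CharP K 2] in
theorem nf_eq (a1 a2 a3 a4 : K) :
    wordGL chevF4 hF.xadd [(25, a1), (27, a2), (28, a3), (30, a4)] =
      xGL chevF4 hF.xadd 25 a1 * xGL chevF4 hF.xadd 27 a2 *
        xprod hF [28, 30] (fun r => if r = 28 then a3 else a4) := by
  rw [xprod_eq_wordGL, wordGL_cons, wordGL_cons, mul_assoc]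
  simp

/-- the centre of the class of type `B₂` lies in the derived group -/
theorem b2_center_mem_commutator (μ : Kˣ) (hμ : μ ≠ 1) (U : K) :
    wordGL chevF4 hF.xadd (b2ClassWord (2 ^ m) f4a f4b f4ab f4aab 0 U) ∈
      ⁅twistedF4 K (2 ^ m), twistedF4 K (2 ^ m)⁆ := by
  have hcl := clsData hK hperf f hf
  set c := extC chevF4 (cT m μ) with hc
  have hcne : ∀ i < chevF4.rank, c i ≠ 0 := fun i _ => extC_ne_zero chevF4 (cT m μ) i
  have hX : chi chevF4 c 28 - 1 ≠ 0 := chi28_ne hK hperf f hf μ hμ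
  set u₀ := (chi chevF4 c 28 - 1)⁻¹ * U with hu₀
  set α : ℕ → K := fun r => if r = 28 then u₀ else u₀ ^ (2 * 2 ^ m) with hα
  have h0 : (0 : K) ^ 2 ^ m = 0 := zero_pow_e
  have h0' : (0 : K) ^ (2 ^ m + 1) = 0 := zero_pow (Nat.succ_ne_zero _)
  have hx : xprod hF [28, 30] α = wordGL chevF4 hF.xadd (b2ClassWord (2 ^ m) f4a f4b f4ab f4aab 0 u₀) := by
    rw [hα, xprod_center]
    show _ = wordGL chevF4 hF.xadd [(27, (0 : K) ^ 2 ^ m), (25, 0), (28, (0 : K) ^ (2 ^ m + 1) + u₀),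
      (30, u₀ ^ (2 * 2 ^ m))]
    rw [h0, h0', zero_add]
    simp only [wordGL_cons, xGL_zero, one_mul]
  have hxG : xprod hF [28, 30] α ∈ twistedF4 K (2 ^ m) := by
    rw [hx]
    exact gen_mem _ (b2_pos_mem 0 u₀)
  have hy : ⁅hT m μ, xprod hF [28, 30] α⁆ ∈ ⁅twistedF4 K (2 ^ m), twistedF4 K (2 ^ m)⁆ :=
    Subgroup.commutator_mem_commutator (hT_mem hK hperf f hf μ) hxG
  have hyG := commutator_self_le _ hy
  have hyfix := hcl.fixed _ hyG
  have e := commutator_xprod hF (hT m μ) c hcne (hT_val μ) [28, 30] (by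
    intro r hr
    simp only [List.mem_cons, List.not_mem_nil, or_false] at hr
    rcases hr with rfl | rfl <;> decide) (by decide) comm_28_30 α
  have e2 : xprod hF [28, 30] (fun r => chi chevF4 c r * α r - α r) =
      wordGL chevF4 hF.xadd [(25, 0), (27, 0), (28, chi chevF4 c 28 * u₀ - u₀),
        (30, chi chevF4 c 30 * u₀ ^ (2 * 2 ^ m) - u₀ ^ (2 * 2 ^ m))] := by
    rw [← xprod_center]
    apply xprod_congr
    intro r hr
    simp only [List.mem_cons, List.not_mem_nil, or_false] at hr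
    rcases hr with rfl | rfl <;> simp [hα]
  rw [e, e2] at hy hyfix
  obtain ⟨t', u', hT'⟩ := fix_b2 hK hperf f hf _ (mem_negPart_b2 _ _ _ _) hyfix
  rw [b2_normal] at hT'
  obtain ⟨k1, -, k3, -⟩ := inj_b2 _ _ _ _ _ _ _ _ hT'
  have hu' : u' = U := by
    rw [← k1, h0, h0', zero_add, zero_mul, add_zero] at k3
    rw [← k3, hu₀, ← sub_one_mul, mul_inv_cancel_left₀ hX]
  rw [← hu', k1, b2_normal, ← hT']
  exact hy

/-- every first coordinate occurs in the derived group -/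
theorem b2_first_mem_commutator (μ : Kˣ) (hμ : μ ≠ 1) (T : K) :
    ∃ u₁ : K, wordGL chevF4 hF.xadd (b2ClassWord (2 ^ m) f4a f4b f4ab f4aab T u₁) ∈
      ⁅twistedF4 K (2 ^ m), twistedF4 K (2 ^ m)⁆ := by
  have hcl := clsData hK hperf f hf
  set c := extC chevF4 (cT m μ) with hc
  have hcne : ∀ i < chevF4.rank, c i ≠ 0 := fun i _ => extC_ne_zero chevF4 (cT m μ) i
  have hX : chi chevF4 c 25 - 1 ≠ 0 := chi25_ne hK μ hμ
  set t := (chi chevF4 c 25 - 1)⁻¹ * T with ht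
  set s := t ^ 2 ^ m with hs
  have h00 : (0 : K) ^ (2 * 2 ^ m) = 0 := zero_pow (by positivity)
  have hx : wordGL chevF4 hF.xadd (b2ClassWord (2 ^ m) f4a f4b f4ab f4aab t 0) =
      wordGL chevF4 hF.xadd [(27, s), (25, t), (28, s * t)] := by
    show wordGL chevF4 hF.xadd [(27, t ^ 2 ^ m), (25, t), (28, t ^ (2 ^ m + 1) + 0), (30, (0 : K) ^ (2 * 2 ^ m))] = _
    rw [h00, add_zero, pow_succ, wordGL_cons, wordGL_cons, wordGL_cons, wordGL_cons, wordGL_cons, wordGL_cons,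
      wordGL_cons, xGL_zero, one_mul]
  have hxG : wordGL chevF4 hF.xadd [(27, s), (25, t), (28, s * t)] ∈ twistedF4 K (2 ^ m) := by
    rw [← hx]
    exact gen_mem _ (b2_pos_mem t 0)
  have hy : ⁅hT m μ, wordGL chevF4 hF.xadd [(27, s), (25, t), (28, s * t)]⁆ ∈
      ⁅twistedF4 K (2 ^ m), twistedF4 K (2 ^ m)⁆ :=
    Subgroup.commutator_mem_commutator (hT_mem hK hperf f hf μ) hxG
  have hyG := commutator_self_le _ hy
  have hyfix := hcl.fixed _ hyG
  have hinv : (wordGL chevF4 hF.xadd [(27, s), (25, t), (28, s * t)])⁻¹ =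
      wordGL chevF4 hF.xadd [(28, -(s * t)), (25, -t), (27, -s)] := by
    rw [wordGL_cons, wordGL_cons, wordGL_singleton, wordGL_cons, wordGL_cons, wordGL_singleton, mul_inv_rev,
      mul_inv_rev, xGL_inv, xGL_inv, xGL_inv, mul_assoc]
  have e : ⁅hT m μ, wordGL chevF4 hF.xadd [(27, s), (25, t), (28, s * t)]⁆ =
      wordGL chevF4 hF.xadd [(25, -t + chi chevF4 c 25 * t), (27, -s + chi chevF4 c 27 * s),
        (28, -(s * t) + chi chevF4 c 28 * (s * t) + chi chevF4 c 27 * s * -t +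
          chi chevF4 c 27 * s * (chi chevF4 c 25 * t)),
        (30, (chi chevF4 c 27 * s) ^ 2 * -t + (chi chevF4 c 27 * s) ^ 2 * (chi chevF4 c 25 * t))] := by
    rw [commutatorElement_def, ChevFacts'.conj_wordGL hF (hT m μ) c hcne (hT_val μ) _ (by
      intro q hq
      simp only [List.mem_cons, List.not_mem_nil, or_false] at hq
      rcases hq with rfl | rfl | rfl <;> dsimp only <;> decide), hinv, ← wordGL_append]
    exact wordGL_congr_val _ _ (MCalc.f4P _ _ _ _ _ _)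
  rw [e] at hy hyfix
  obtain ⟨t', u', hT'⟩ := fix_b2 hK hperf f hf _ (mem_negPart_b2 _ _ _ _) hyfix
  rw [b2_normal] at hT'
  obtain ⟨k1, -, -, -⟩ := inj_b2 _ _ _ _ _ _ _ _ hT'
  have ht' : t' = T := by
    rw [← k1, ht, neg_add_eq_sub, ← sub_one_mul, mul_inv_cancel_left₀ hX]
  refine ⟨u', ?_⟩
  rw [← ht', b2_normal, ← hT']
  exact hy

/-- the class of type `B₂` lies in the derived group -/
theorem b2_mem_commutator (μ : Kˣ) (hμ : μ ≠ 1) (T U : K) :
    wordGL chevF4 hF.xadd (b2ClassWord (2 ^ m) f4a f4b f4ab f4aab T U) ∈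
      ⁅twistedF4 K (2 ^ m), twistedF4 K (2 ^ m)⁆ := by
  have hcl := clsData hK hperf f hf
  obtain ⟨u₁, h1⟩ := b2_first_mem_commutator hK hperf f hf μ hμ T
  set g₁ := wordGL chevF4 hF.xadd (b2ClassWord (2 ^ m) f4a f4b f4ab f4aab T u₁) with hg₁
  set g₂ := wordGL chevF4 hF.xadd (b2ClassWord (2 ^ m) f4a f4b f4ab f4aab T U) with hg₂
  have hg₁G : g₁ ∈ twistedF4 K (2 ^ m) := gen_mem _ (b2_pos_mem T u₁)
  have hg₂G : g₂ ∈ twistedF4 K (2 ^ m) := gen_mem _ (b2_pos_mem T U)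
  have hzG : g₁⁻¹ * g₂ ∈ twistedF4 K (2 ^ m) := mul_mem (inv_mem hg₁G) hg₂G
  have hzfix := hcl.fixed _ hzG
  have hz : ∃ a3 a4 : K, g₁⁻¹ * g₂ = wordGL chevF4 hF.xadd [(25, 0), (27, 0), (28, a3), (30, a4)] := by
    rw [hg₁, hg₂, b2_normal, b2_normal, nf_eq, nf_eq]
    rw [mul_inv_rev, mul_assoc, inv_mul_cancel_left, xprod_inv hF [28, 30] (by decide) comm_28_30,
      ← xprod_add hF [28, 30] (by decide) comm_28_30]
    exact ⟨_, _, xprod_center' _⟩
  obtain ⟨a3, a4, hz⟩ := hz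
  rw [hz] at hzfix
  obtain ⟨t', u', hT'⟩ := fix_b2 hK hperf f hf _ (mem_negPart_b2 _ _ _ _) hzfix
  have hT'' := hT'
  rw [b2_normal] at hT''
  obtain ⟨k1, -, -, -⟩ := inj_b2 _ _ _ _ _ _ _ _ hT''
  have h2 : g₁⁻¹ * g₂ ∈ ⁅twistedF4 K (2 ^ m), twistedF4 K (2 ^ m)⁆ := by
    rw [hz, hT', ← k1]
    exact b2_center_mem_commutator hK hperf f hf μ hμ u'
  have e : g₂ = g₁ * (g₁⁻¹ * g₂) := by group
  rw [e]
  exact mul_mem h1 h2

/-- the negative pair class lies in the derived group -/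
theorem pair_neg_mem_commutator (μ : Kˣ) (hμ : μ ≠ 1) (T : K) :
    wordGL chevF4 hF.xadd (f4PairWord (2 ^ m) f4m1 f4m4 T) ∈
      ⁅twistedF4 K (2 ^ m), twistedF4 K (2 ^ m)⁆ := by
  have hcl := clsData hK hperf f hf
  set n := nWordGL chevF4 (hF (K := K)).xadd [0, 3] with hn
  have hnG : n ∈ twistedF4 K (2 ^ m) := by
    rw [hn, nWord_pair (m := m)]
    exact mul_mem (mul_mem (gen_mem _ (pair_pos_mem 1)) (gen_mem _ (pair_neg_mem 1))) (gen_mem _ (pair_pos_mem 1))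
  set g := wordGL chevF4 hF.xadd (f4PairWord (2 ^ m) f4m1 f4m4 T) with hg
  have hgG : g ∈ twistedF4 K (2 ^ m) := gen_mem _ (pair_neg_mem T)
  have hcG : n * g * n⁻¹ ∈ twistedF4 K (2 ^ m) := mul_mem (mul_mem hnG hgG) (inv_mem hnG)
  have hcfix := hcl.fixed _ hcG
  have hneg : n * g * n⁻¹ ∈ negPart chevF4 hF.xadd [0, 3] := by
    rw [hn, hg]
    apply conj_wordGL_mem_negPart hF [0, 3] (by decide)
    intro q hq
    simp only [f4PairWord, f4m1, f4m4, List.mem_cons, List.not_mem_nil, or_false] at hq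
    rcases hq with rfl | rfl <;> dsimp only <;> decide +kernel
  obtain ⟨T', hT'⟩ := fix_pair hK hperf f hf _ hneg hcfix
  have h1 : n * g * n⁻¹ ∈ ⁅twistedF4 K (2 ^ m), twistedF4 K (2 ^ m)⁆ := by
    rw [hT']
    exact pair_mem_commutator hK hperf f hf μ hμ T'
  have h2 := conj_mem_commutator _ n⁻¹ _ (inv_mem hnG) h1
  have e : n⁻¹ * (n * g * n⁻¹) * n⁻¹⁻¹ = g := by group
  rw [e] at h2
  exact h2

/-- the negative class of type `B₂` lies in the derived group -/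
theorem b2_neg_mem_commutator (μ : Kˣ) (hμ : μ ≠ 1) (T U : K) :
    wordGL chevF4 hF.xadd (b2ClassWord (2 ^ m) f4ma f4mb f4mab f4maab T U) ∈
      ⁅twistedF4 K (2 ^ m), twistedF4 K (2 ^ m)⁆ := by
  have hcl := clsData hK hperf f hf
  set n := nWordGL chevF4 (hF (K := K)).xadd [1, 2, 1, 2] with hn
  have hnG : n ∈ twistedF4 K (2 ^ m) := by
    rw [hn, nWord_b2 (m := m)]
    exact mul_mem (mul_mem (gen_mem _ (b2_pos_mem 0 1)) (gen_mem _ (b2_neg_mem 1 1))) (gen_mem _ (b2_pos_mem 1 0))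
  set g := wordGL chevF4 hF.xadd (b2ClassWord (2 ^ m) f4ma f4mb f4mab f4maab T U) with hg
  have hgG : g ∈ twistedF4 K (2 ^ m) := gen_mem _ (b2_neg_mem T U)
  have hcG : n * g * n⁻¹ ∈ twistedF4 K (2 ^ m) := mul_mem (mul_mem hnG hgG) (inv_mem hnG)
  have hcfix := hcl.fixed _ hcG
  have hneg : n * g * n⁻¹ ∈ negPart chevF4 hF.xadd [1, 2, 1, 2] := by
    rw [hn, hg]
    apply conj_wordGL_mem_negPart hF [1, 2, 1, 2] (by decide)
    intro q hq
    simp only [b2ClassWord, f4ma, f4mb, f4mab, f4maab, List.mem_cons, List.not_mem_nil, or_false] at hq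
    rcases hq with rfl | rfl | rfl | rfl <;> dsimp only <;> decide +kernel
  obtain ⟨T', U', hT'⟩ := fix_b2 hK hperf f hf _ hneg hcfix
  have h1 : n * g * n⁻¹ ∈ ⁅twistedF4 K (2 ^ m), twistedF4 K (2 ^ m)⁆ := by
    rw [hT']
    exact b2_mem_commutator hK hperf f hf μ hμ T' U'
  have h2 := conj_mem_commutator _ n⁻¹ _ (inv_mem hnG) h1
  have e : n⁻¹ * (n * g * n⁻¹) * n⁻¹⁻¹ = g := by group
  rw [e] at h2
  exact h2

/-- **`²F₄(q)` is perfect for `q > 2`** -/
theorem perfect (hm : 1 ≤ m) : commutator ↥(twistedF4 K (2 ^ m)) = ⊤ := by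
  apply commutator_eq_top_of_le
  have hc3 : 3 < Fintype.card K := by
    rw [hK]
    calc 3 < 2 ^ 3 := by norm_num
      _ ≤ 2 ^ (2 * m + 1) := Nat.pow_le_pow_right (by norm_num) (by omega)
  obtain ⟨μ, hμ2⟩ := exists_unit_sq_ne_one hc3
  have hμ : μ ≠ 1 := fun h => hμ2 (by rw [h, one_pow])
  unfold twistedF4 ChevalleyDatum.genSubgroup
  rw [Subgroup.closure_le]
  rintro g ⟨w, hw, hg⟩
  have e : g = wordGL chevF4 hF.xadd w := Units.ext (by rw [hg, wordGL_val])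
  rw [e]
  rcases hw with ⟨t, rfl | rfl⟩ | ⟨t, u, rfl | rfl⟩
  · exact pair_mem_commutator hK hperf f hf μ hμ t
  · exact pair_neg_mem_commutator hK hperf f hf μ hμ t
  · exact b2_mem_commutator hK hperf f hf μ hμ t u
  · exact b2_neg_mem_commutator hK hperf f hf μ hμ t u

end finite

end Cfsg.Agent.Lead.Tw.F4
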