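import Mathlib
import Cfsg.Prelude.Def_OddOrder
import Cfsg.Prelude.Def_OddOrderLocal
import Cfsg.Agent.Lib.Helper14.BGTransA
import Cfsg.Agent.Lib.Helper7.TypeP

/-!
# Bender–Glauberman, Theorem B(3) (`M_F ≠ M_σ`), as a formal consequence of BG 15.2 and 15.8

The earlier results are taken as explicit hypotheses.
-/

set_option autoImplicit false

namespace Cfsg.Agent.Lead.BGThmB

open Cfsg Subgroup
open Cfsg.Agent.Helper10 (IsPiNum)

variable {G : Type*} [Group G] [Finite G]

/-- `M_F ≤ F(M)`. -/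
theorem fittingHallOf_le_fittingOf (M : Subgroup G) : fittingHallOf M ≤ fittingOf M := by
  unfold fittingHallOf fittingOf
  apply Subgroup.map_mono
  haveI : (fittingHall ↥M).Normal := inferInstance
  exact Cfsg.Agent.Helper7.le_fittingSubgroup _ (Cfsg.Agent.Helper7.fittingHall_isNilpotent ↥M)

/-- `M ≤ N_G(F(M))`. -/
theorem le_normalizer_fittingOf (M : Subgroup G) : M ≤ normalizer (fittingOf M : Set G) := by
  have hle : fittingOf M ≤ M := Subgroup.map_subtype_le _
  rw [← Subgroup.normal_subgroupOf_iff_le_normalizer hle]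
  have : (fittingOf M).subgroupOf M = fittingSubgroup ↥M := by
    unfold fittingOf Subgroup.subgroupOf
    exact Subgroup.comap_map_eq_self_of_injective M.subtype_injective _
  rw [this]
  exact Cfsg.Agent.Helper7.fittingSubgroup_normal'

/-- `F(M)` is nilpotent. -/
theorem fittingOf_isNilpotent (M : Subgroup G) : Group.IsNilpotent ↥(fittingOf M) := by
  haveI := Cfsg.Agent.Helper7.fittingSubgroup_isNilpotent (G := ↥M)
  unfold fittingOf
  exact Group.nilpotent_of_mulEquiv
    ((fittingSubgroup ↥M).equivMapOfInjective M.subtype M.subtype_injective)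

/-- If `M_σ` is a Hall subgroup of `M` and is equal to `F(M)`, then `M_F = M_σ`. -/
theorem fittingHallOf_eq_sigmaCore (M : Subgroup G)
    (hHall : IsPiHallOf (sigma M) (sigmaCore M) M) (hF : sigmaCore M = fittingOf M) :
    fittingHallOf M = sigmaCore M := by
  apply le_antisymm
  · rw [hF]; exact fittingHallOf_le_fittingOf M
  · apply Cfsg.Agent.Helper7.le_fittingHallOf hHall.1
    · exact Cfsg.Agent.Helper14.BGTrans.le_normalizer_piCoreOf (sigma M) M
    · rw [hF]; exact fittingOf_isNilpotent M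
    · apply Nat.Coprime.symm
      apply Nat.coprime_of_dvd
      intro k hk hk1 hk2
      exact hHall.2.2 k hk (hHall.2.1 k hk hk2) hk1

/-- Theorem B(3) from BG 15.2 (first three conclusions) and BG 15.8 (`M' = F(M)` when `F(M)` is
not TI). -/
theorem thmB3 (M K U : Subgroup G)
    (hHall : IsPiHallOf (sigma M) (sigmaCore M) M)
    (hne : fittingHallOf M ≠ sigmaCore M)
    (h152 : U = ⊥ ∧ sigmaCore M = ⁅M, M⁆ ∧ (Nat.card K).Prime)
    (h158 : ∀ g : G, g ∉ M →
      fittingOf M ⊓ (fittingOf M).map (MulAut.conj g).toMonoidHom ≠ ⊥ → ⁅M, M⁆ = fittingOf M) :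
    U = ⊥ ∧ IsTISubset (fittingOf M : Set G) ∧ (Nat.card K).Prime := by
  refine ⟨h152.1, ?_, h152.2.2⟩
  intro g hg x hx hgx
  by_contra hx1
  apply hne
  apply fittingHallOf_eq_sigmaCore M hHall
  rw [h152.2.1]
  apply h158 g (fun hgM => hg (le_normalizer_fittingOf M hgM))
  intro hbot
  have hmem : g * x * g⁻¹ ∈ fittingOf M ⊓ (fittingOf M).map (MulAut.conj g).toMonoidHom := by
    refine ⟨hgx, ?_⟩
    exact ⟨x, hx, by simp [MulAut.conj_apply]⟩
  rw [hbot, Subgroup.mem_bot] at hmem
  apply hx1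
  have : g * x * g⁻¹ = g * 1 * g⁻¹ := by rw [hmem]; group
  exact mul_left_cancel (mul_right_cancel this)

end Cfsg.Agent.Lead.BGThmB
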