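import Mathlib
import Cfsg.Agent.Lib.Lead.IsoCalc
import Cfsg.Prelude.Def_LieTwisted

/-!
Word identities in the unipotent groups (generated, verified by the calculator).
-/

set_option autoImplicit false

namespace Cfsg.Agent.Lead.MCalc

open Cfsg Cfsg.Lie

def g2N8_A : List (ℕ × LPoly) := [(8, [⟨1, 0, 0, 0, 0, 0, 0⟩]), (3, [⟨2, 0, 0, 0, 0, 0, 0⟩]), (8, [⟨1, 0, 0, 0, 0, 0, 0⟩]), (8, [⟨1, 1, 0, 0, 0, 0, 0⟩])]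

def g2N8_B : List (ℕ × LPoly) := [(3, [⟨2, 1, 0, 0, 0, 0, 0⟩]), (8, [⟨1, 0, 0, 0, 0, 0, 0⟩]), (3, [⟨2, 0, 0, 0, 0, 0, 0⟩]), (8, [⟨1, 0, 0, 0, 0, 0, 0⟩])]

theorem g2N8_chk : wordEqN 3 chevG2 g2N8_A g2N8_B = true := by decide +kernel

/-- `n_r(1) x_r(v) = x_{-r}(-v) n_r(1)` for the root `8` -/
theorem g2N8 {K : Type*} [Field K] [CharP K 3] (x1 : K) :
    chevG2.wordMat K [(8, 1), (3, 2), (8, 1), (8, x1)] =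
      chevG2.wordMat K [(3, 2 * x1), (8, 1), (3, 2), (8, 1)] := by
  have h := wordMat_eq_of_wordEqN 3 chevG2 (⟨x1, 0, 0, 0, 0, 0⟩ : Val K) g2N8_A g2N8_B g2N8_chk
  have e1 : evalWord (⟨x1, 0, 0, 0, 0, 0⟩ : Val K) g2N8_A = [(8, 1), (3, 2), (8, 1), (8, x1)] := by
    simp [evalWord, evalP, Term.eval, g2N8_A]
  have e2 : evalWord (⟨x1, 0, 0, 0, 0, 0⟩ : Val K) g2N8_B = [(3, 2 * x1), (8, 1), (3, 2), (8, 1)] := by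
    simp [evalWord, evalP, Term.eval, g2N8_B]
  rw [e1, e2] at h
  exact h

def g2N10_A : List (ℕ × LPoly) := [(10, [⟨1, 0, 0, 0, 0, 0, 0⟩]), (1, [⟨2, 0, 0, 0, 0, 0, 0⟩]), (10, [⟨1, 0, 0, 0, 0, 0, 0⟩]), (10, [⟨1, 1, 0, 0, 0, 0, 0⟩])]

def g2N10_B : List (ℕ × LPoly) := [(1, [⟨2, 1, 0, 0, 0, 0, 0⟩]), (10, [⟨1, 0, 0, 0, 0, 0, 0⟩]), (1, [⟨2, 0, 0, 0, 0, 0, 0⟩]), (10, [⟨1, 0, 0, 0, 0, 0, 0⟩])]

theorem g2N10_chk : wordEqN 3 chevG2 g2N10_A g2N10_B = true := by decide +kernel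

/-- `n_r(1) x_r(v) = x_{-r}(-v) n_r(1)` for the root `10` -/
theorem g2N10 {K : Type*} [Field K] [CharP K 3] (x1 : K) :
    chevG2.wordMat K [(10, 1), (1, 2), (10, 1), (10, x1)] =
      chevG2.wordMat K [(1, 2 * x1), (10, 1), (1, 2), (10, 1)] := by
  have h := wordMat_eq_of_wordEqN 3 chevG2 (⟨x1, 0, 0, 0, 0, 0⟩ : Val K) g2N10_A g2N10_B g2N10_chk
  have e1 : evalWord (⟨x1, 0, 0, 0, 0, 0⟩ : Val K) g2N10_A = [(10, 1), (1, 2), (10, 1), (10, x1)] := by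
    simp [evalWord, evalP, Term.eval, g2N10_A]
  have e2 : evalWord (⟨x1, 0, 0, 0, 0, 0⟩ : Val K) g2N10_B = [(1, 2 * x1), (10, 1), (1, 2), (10, 1)] := by
    simp [evalWord, evalP, Term.eval, g2N10_B]
  rw [e1, e2] at h
  exact h

def g2N3_A : List (ℕ × LPoly) := [(3, [⟨1, 0, 0, 0, 0, 0, 0⟩]), (8, [⟨2, 0, 0, 0, 0, 0, 0⟩]), (3, [⟨1, 0, 0, 0, 0, 0, 0⟩]), (3, [⟨1, 1, 0, 0, 0, 0, 0⟩])]

def g2N3_B : List (ℕ × LPoly) := [(8, [⟨2, 1, 0, 0, 0, 0, 0⟩]), (3, [⟨1, 0, 0, 0, 0, 0, 0⟩]), (8, [⟨2, 0, 0, 0, 0, 0, 0⟩]), (3, [⟨1, 0, 0, 0, 0, 0, 0⟩])]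

theorem g2N3_chk : wordEqN 3 chevG2 g2N3_A g2N3_B = true := by decide +kernel

/-- `n_r(1) x_r(v) = x_{-r}(-v) n_r(1)` for the root `3` -/
theorem g2N3 {K : Type*} [Field K] [CharP K 3] (x1 : K) :
    chevG2.wordMat K [(3, 1), (8, 2), (3, 1), (3, x1)] =
      chevG2.wordMat K [(8, 2 * x1), (3, 1), (8, 2), (3, 1)] := by
  have h := wordMat_eq_of_wordEqN 3 chevG2 (⟨x1, 0, 0, 0, 0, 0⟩ : Val K) g2N3_A g2N3_B g2N3_chk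
  have e1 : evalWord (⟨x1, 0, 0, 0, 0, 0⟩ : Val K) g2N3_A = [(3, 1), (8, 2), (3, 1), (3, x1)] := by
    simp [evalWord, evalP, Term.eval, g2N3_A]
  have e2 : evalWord (⟨x1, 0, 0, 0, 0, 0⟩ : Val K) g2N3_B = [(8, 2 * x1), (3, 1), (8, 2), (3, 1)] := by
    simp [evalWord, evalP, Term.eval, g2N3_B]
  rw [e1, e2] at h
  exact h

def g2N1_A : List (ℕ × LPoly) := [(1, [⟨1, 0, 0, 0, 0, 0, 0⟩]), (10, [⟨2, 0, 0, 0, 0, 0, 0⟩]), (1, [⟨1, 0, 0, 0, 0, 0, 0⟩]), (1, [⟨1, 1, 0, 0, 0, 0, 0⟩])]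

def g2N1_B : List (ℕ × LPoly) := [(10, [⟨2, 1, 0, 0, 0, 0, 0⟩]), (1, [⟨1, 0, 0, 0, 0, 0, 0⟩]), (10, [⟨2, 0, 0, 0, 0, 0, 0⟩]), (1, [⟨1, 0, 0, 0, 0, 0, 0⟩])]

theorem g2N1_chk : wordEqN 3 chevG2 g2N1_A g2N1_B = true := by decide +kernel

/-- `n_r(1) x_r(v) = x_{-r}(-v) n_r(1)` for the root `1` -/
theorem g2N1 {K : Type*} [Field K] [CharP K 3] (x1 : K) :
    chevG2.wordMat K [(1, 1), (10, 2), (1, 1), (1, x1)] =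
      chevG2.wordMat K [(10, 2 * x1), (1, 1), (10, 2), (1, 1)] := by
  have h := wordMat_eq_of_wordEqN 3 chevG2 (⟨x1, 0, 0, 0, 0, 0⟩ : Val K) g2N1_A g2N1_B g2N1_chk
  have e1 : evalWord (⟨x1, 0, 0, 0, 0, 0⟩ : Val K) g2N1_A = [(1, 1), (10, 2), (1, 1), (1, x1)] := by
    simp [evalWord, evalP, Term.eval, g2N1_A]
  have e2 : evalWord (⟨x1, 0, 0, 0, 0, 0⟩ : Val K) g2N1_B = [(10, 2 * x1), (1, 1), (10, 2), (1, 1)] := by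
    simp [evalWord, evalP, Term.eval, g2N1_B]
  rw [e1, e2] at h
  exact h

end Cfsg.Agent.Lead.MCalc
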