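import Mathlib

/-!
# A simplicity criterion for a normal subgroup

If `N` is normal in the finite group `G`, every non-trivial normal subgroup of `G` inside `N` is `N`,
and some prime divides `|N|` exactly once, then `N` is a simple group.
-/

set_option autoImplicit false

namespace Cfsg.Agent.Lead.SimpIdx

open Subgroup

variable {G : Type*} [Group G]

theorem not_dvd_card_sup (p : ℕ) (hp : p.Prime) (A B : Subgroup G) [B.Normal]
    (hA : ¬ p ∣ Nat.card A) (hB : ¬ p ∣ Nat.card B) : ¬ p ∣ Nat.card ↥(A ⊔ B) := by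
  have h1 : B.relIndex (A ⊔ B) = B.relIndex A := relIndex_sup_right A B
  have h2 : Nat.card B * B.relIndex (A ⊔ B) = Nat.card ↥(A ⊔ B) := by
    have := relIndex_mul_relIndex (⊥ : Subgroup G) B (A ⊔ B) bot_le le_sup_right
    rwa [relIndex_bot_left, relIndex_bot_left] at this
  rw [← h2, h1, hp.dvd_mul]
  rintro (h | h)
  · exact hB h
  · exact hA (h.trans (relIndex_dvd_card B A))

theorem normal_and_not_dvd_card_iSup {ι : Type*} [Finite ι] (p : ℕ) (hp : p.Prime) (A : ι → Subgroup G)
    (hn : ∀ i, (A i).Normal) (hA : ∀ i, ¬ p ∣ Nat.card (A i)) :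
    (⨆ i, A i).Normal ∧ ¬ p ∣ Nat.card ↥(⨆ i, A i) := by
  classical
  haveI := Fintype.ofFinite ι
  rw [← Finset.sup_univ_eq_iSup]
  refine Finset.sup_induction (p := fun S : Subgroup G => S.Normal ∧ ¬ p ∣ Nat.card S) ?_ ?_ ?_
  · refine ⟨inferInstance, ?_⟩
    rw [Subgroup.card_bot]
    intro h
    exact hp.one_lt.ne' (Nat.dvd_one.1 h)
  · rintro S ⟨hSn, hS⟩ T ⟨hTn, hT⟩
    haveI := hSn
    haveI := hTn
    exact ⟨inferInstance, not_dvd_card_sup p hp S T hS hT⟩
  · intro i _
    exact ⟨hn i, hA i⟩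

/-- a subgroup of the normal subgroup `N` invariant under conjugation by `G` is trivial or `N`, if `N` is a
minimal normal subgroup of `G` -/
theorem eq_bot_or_top_of_invariant (N : Subgroup G) [N.Normal]
    (hmin : ∀ M : Subgroup G, M.Normal → M ≤ N → M ≠ ⊥ → M = N)
    (S : Subgroup N) (hS : ∀ g : G, ∀ x ∈ S, MulAut.conjNormal g x ∈ S) : S = ⊥ ∨ S = ⊤ := by
  by_cases hb : S = ⊥
  · exact Or.inl hb
  · right
    have hnorm : (S.map N.subtype).Normal := by
      refine ⟨fun n hn g => ?_⟩
      obtain ⟨x, hx, rfl⟩ := hn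
      exact ⟨MulAut.conjNormal g x, hS g x hx, MulAut.conjNormal_apply g x⟩
    have hle : S.map N.subtype ≤ N := by
      rintro _ ⟨x, -, rfl⟩
      exact x.2
    have hne : S.map N.subtype ≠ ⊥ := by
      intro h
      apply hb
      exact (Subgroup.map_eq_bot_iff_of_injective S N.subtype_injective).1 h
    have heq := hmin _ hnorm hle hne
    rw [eq_top_iff]
    intro y _
    have hy : (y : G) ∈ S.map N.subtype := by
      rw [heq]
      exact y.2
    obtain ⟨x, hx, hxy⟩ := hy
    have : x = y := Subtype.ext hxy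
    rwa [← this]

/-- **simplicity criterion** -/
theorem isSimpleGroup_of_minimal [Finite G] (N : Subgroup G) [hN : N.Normal] (p : ℕ) (hp : p.Prime)
    (hpN : p ∣ Nat.card N) (hp2 : ¬ p ^ 2 ∣ Nat.card N)
    (hmin : ∀ M : Subgroup G, M.Normal → M ≤ N → M ≠ ⊥ → M = N) : IsSimpleGroup N := by
  haveI : Fact p.Prime := ⟨hp⟩
  obtain ⟨c, hc⟩ := exists_prime_orderOf_dvd_card' p hpN
  have hc1 : c ≠ 1 := by
    rintro rfl
    rw [orderOf_one] at hc
    exact hp.ne_one hc.symm
  refine { exists_pair_ne := ⟨c, 1, hc1⟩, eq_bot_or_eq_top_of_normal := ?_ }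
  intro M hM
  by_contra hcon
  push_neg at hcon
  obtain ⟨hMbot, hMtop⟩ := hcon
  -- the conjugates of `M`
  set A : G → Subgroup N := fun g => M.map (MulAut.conjNormal g : MulAut N).toMonoidHom with hAdef
  have hAn : ∀ g, (A g).Normal := fun g => hM.map _ (MulEquiv.surjective _)
  have hAc : ∀ g, Nat.card (A g) = Nat.card M := fun g =>
    Subgroup.card_map_of_injective (MulEquiv.injective _)
  have hA1 : A 1 = M := by
    rw [hAdef]
    simp only [map_one]
    ext x
    simp
  have hAmul : ∀ g g' : G, ∀ x ∈ A g', MulAut.conjNormal g x ∈ A (g * g') := by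
    rintro g g' _ ⟨y, hy, rfl⟩
    refine ⟨y, hy, ?_⟩
    simp [map_mul]
  by_cases hpM : p ∣ Nat.card M
  · -- the core
    have hmem : ∀ g : G, ∀ d : N, orderOf d = p → d ∈ A g := by
      intro g d hd
      haveI := hAn g
      have hq : ¬ p ∣ Nat.card (N ⧸ A g) := by
        intro hq
        apply hp2
        rw [← Subgroup.card_mul_index (A g), hAc g, pow_two]
        exact Nat.mul_dvd_mul hpM hq
      have h1 : (QuotientGroup.mk d : N ⧸ A g) ^ p = 1 := by
        rw [← QuotientGroup.mk_pow, ← hd, pow_orderOf_eq_one, QuotientGroup.mk_one]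
      have h2 : orderOf (QuotientGroup.mk d : N ⧸ A g) ∣ p := orderOf_dvd_of_pow_eq_one h1
      have h3 : orderOf (QuotientGroup.mk d : N ⧸ A g) ∣ Nat.card (N ⧸ A g) := orderOf_dvd_natCard _
      rcases (Nat.dvd_prime hp).1 h2 with h4 | h4
      · rw [orderOf_eq_one_iff, QuotientGroup.eq_one_iff] at h4
        exact h4
      · rw [h4] at h3
        exact absurd h3 hq
    have hK := eq_bot_or_top_of_invariant N hmin (⨅ g, A g) (by
      intro g x hx
      rw [Subgroup.mem_iInf] at hx ⊢
      intro g'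
      have := hAmul g (g⁻¹ * g') x (hx _)
      rwa [mul_inv_cancel_left] at this)
    rcases hK with hK | hK
    · have : c ∈ (⨅ g, A g) := by
        rw [Subgroup.mem_iInf]
        intro g
        exact hmem g c hc
      rw [hK, Subgroup.mem_bot] at this
      exact hc1 this
    · apply hMtop
      rw [eq_top_iff, ← hK, ← hA1]
      exact iInf_le _ 1
  · -- the join
    obtain ⟨hRn, hRp⟩ := normal_and_not_dvd_card_iSup p hp A hAn (fun g => by rw [hAc g]; exact hpM)
    have hR := eq_bot_or_top_of_invariant N hmin (⨆ g, A g) (by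
      intro g x hx
      have hle : (⨆ g', A g').map (MulAut.conjNormal g : MulAut N).toMonoidHom ≤ ⨆ g', A g' := by
        rw [Subgroup.map_iSup]
        apply iSup_le
        intro g'
        rintro _ ⟨y, hy, rfl⟩
        exact le_iSup A (g * g') (hAmul g g' y hy)
      exact hle ⟨x, hx, rfl⟩)
    rcases hR with hR | hR
    · apply hMbot
      rw [eq_bot_iff, ← hR, ← hA1]
      exact le_iSup A 1
    · apply hRp
      rw [hR, Subgroup.card_top]
      exact hpN

end Cfsg.Agent.Lead.SimpIdx
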