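import Mathlib
import Cfsg.Agent.Lib.Lead.TwG2Mul
import Cfsg.Agent.Lib.Lead.TwReeOrder
import Cfsg.Agent.Lib.Lead.TwG2TI
import Cfsg.Agent.Lib.Lead.TwReeBorel

/-!
# The group `²G₂(3)`: the homomorphism from its Sylow `3`-subgroup
-/

set_option autoImplicit false
set_option linter.unusedSectionVars false
set_option linter.unusedSimpArgs false
set_option linter.unusedVariables false

namespace Cfsg.Agent.Lead.Tw.G2

open Cfsg Cfsg.Lie Cfsg.Agent.Lead.Chev Cfsg.Agent.Lead.ZPM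

section three

variable {K : Type*} [Field K] [Fintype K] [CharP K 3] (hK : Fintype.card K = 3 ^ (2 * 0 + 1))
  (hperf : ∀ x : K, ∃ y : K, y ^ 3 = x) (f : K ≃+* K) (hf : ∀ t, f t = t ^ (3 ^ 0))
include hK hperf hf

omit hperf hf [CharP K 3] in
theorem cube_self (t : K) : t ^ 3 = t := by
  have := FiniteField.pow_card t
  rwa [hK] at this

omit hK hperf hf [Fintype K] [CharP K 3] in
theorem pow_e0 (t : K) : t ^ 3 ^ 0 = t := by rw [pow_zero, pow_one]

/-- the multiplication in `U¹` for `q = 3` -/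
theorem mul3 (t u v t' u' v' : K) : ∃ v'' : K,
    wordGL chevG2 hF.xadd (reeWordU (3 ^ 0) t u v) * wordGL chevG2 hF.xadd (reeWordU (3 ^ 0) t' u' v') =
      wordGL chevG2 hF.xadd (reeWordU (3 ^ 0) (t + t') (u + u' - t * t') v'') := by
  obtain ⟨v'', e⟩ := mul_form hK hperf f hf t u v t' u' v'
  refine ⟨v'', ?_⟩
  rw [e, pow_e0, cube_self hK]

/-- the coordinates of an element of `U¹` -/
noncomputable def crd (g : GL chevG2.Idx K) : K × K × K :=
  Classical.epsilon (fun c : K × K × K =>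
    g = wordGL chevG2 hF.xadd (reeWordU (3 ^ 0) c.1 c.2.1 c.2.2))

omit hK hperf hf [Fintype K] in
theorem crd_x (t u v : K) : crd (wordGL chevG2 hF.xadd (reeWordU (3 ^ 0) t u v)) = (t, u, v) := by
  have h := Classical.epsilon_spec (p := fun c : K × K × K =>
    wordGL chevG2 hF.xadd (reeWordU (3 ^ 0) t u v) =
      wordGL chevG2 hF.xadd (reeWordU (3 ^ 0) c.1 c.2.1 c.2.2)) ⟨(t, u, v), rfl⟩
  obtain ⟨h1, h2, h3⟩ := u_inj (m := 0) _ _ _ _ _ _ h
  unfold crd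
  exact Prod.ext h1.symm (Prod.ext h2.symm h3.symm)

/-- the value of the homomorphism -/
noncomputable def phiv (g : GL chevG2.Idx K) : K := (crd g).2.1 - (crd g).1 ^ 2

omit hK hperf hf [Fintype K] in
theorem phiv_x (t u v : K) : phiv (wordGL chevG2 hF.xadd (reeWordU (3 ^ 0) t u v)) = u - t ^ 2 := by
  unfold phiv
  rw [crd_x]

theorem phiv_mul (a b : GL chevG2.Idx K) (ha : a ∈ chevG2.posUnipotent K ⊓ twistedG2 K (3 ^ 0))
    (hb : b ∈ chevG2.posUnipotent K ⊓ twistedG2 K (3 ^ 0)) : phiv (a * b) = phiv a + phiv b := by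
  have h3 := three_eq_zero (K := K)
  obtain ⟨t, u, v, rfl⟩ := exists_coords hK hperf f hf a ha
  obtain ⟨t', u', v', rfl⟩ := exists_coords hK hperf f hf b hb
  obtain ⟨v'', e⟩ := mul3 hK hperf f hf t u v t' u' v'
  rw [e, phiv_x, phiv_x, phiv_x]
  linear_combination (-(t * t')) * h3

omit hperf hf [CharP K 3] in
theorem unit_sq (y : Kˣ) : (y : K) ^ 2 = 1 := by
  classical
  have h : y ^ Fintype.card Kˣ = 1 := pow_card_eq_one
  rw [Fintype.card_units, hK] at h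
  have h' : y ^ 2 = 1 := h
  rw [← Units.val_pow_eq_pow_val, h', Units.val_one]

omit hperf hf in
theorem chi6_sq (y : Kˣ) : (chi chevG2 (extC chevG2 (pc 0 y)) 6) ^ 2 = 1 := by
  have hy := unit_sq hK y
  have hy0 : (y : K) ≠ 0 := Units.ne_zero y
  rw [chi_p, cartan_vals.1, cartan_vals.2.1, pow_e0, zpow_neg, zpow_ofNat, zpow_ofNat, hy, mul_one, inv_pow,
    ← pow_mul]
  have : (y : K) ^ (3 * 2) = 1 := by rw [mul_comm, pow_mul, hy, one_pow]
  rw [this, inv_one]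

omit hperf hf in
theorem chi10_eq (y : Kˣ) : chi chevG2 (extC chevG2 (pc 0 y)) 10 = 1 := by
  have hy := unit_sq hK y
  have hy0 : (y : K) ≠ 0 := Units.ne_zero y
  rw [chi_p, cartan_vals.2.2.1, cartan_vals.2.2.2.1, pow_e0, zpow_neg, zpow_one, zpow_ofNat]
  have : (y : K) ^ 3 = y := by rw [pow_succ, hy, one_mul]
  rw [this, mul_inv_cancel₀ hy0]

/-- invariance under `H¹` -/
theorem phiv_conjH (y : Kˣ) (a : GL chevG2.Idx K) (ha : a ∈ chevG2.posUnipotent K ⊓ twistedG2 K (3 ^ 0)) :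
    phiv (pHom (m := 0) y * a * (pHom (m := 0) y)⁻¹) = phiv a := by
  obtain ⟨t, u, v, rfl⟩ := exists_coords hK hperf f hf a ha
  obtain ⟨t', u', v', e, ht', hu'⟩ := conj_coords2 hK hperf f hf y t u v
  rw [e, phiv_x, phiv_x]
  have h6 := chi6_sq hK y
  rw [chi10_eq hK y, one_mul, pow_e0, pow_e0] at hu'
  set χ := chi chevG2 (extC chevG2 (pc 0 y)) 6 with hχ
  have e1 : t' ^ 2 = t ^ 2 := by rw [ht', mul_pow, h6, one_mul]
  have e2 : t' ^ 3 * t' = t ^ 3 * t := by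
    have : t' ^ 3 * t' = (t' ^ 2) ^ 2 := by ring
    rw [this, e1]
    ring
  rw [e2] at hu'
  have e3 : u' = u := add_right_cancel hu'
  rw [e1, e3]

/-- conjugates of elements of `U¹` by elements of `H¹` -/
theorem conjH_mem (y : Kˣ) (a : GL chevG2.Idx K) (ha : a ∈ chevG2.posUnipotent K ⊓ twistedG2 K (3 ^ 0)) :
    pHom (m := 0) y * a * (pHom (m := 0) y)⁻¹ ∈ chevG2.posUnipotent K ⊓ twistedG2 K (3 ^ 0) := by
  have hG := (pHom_mem hK hperf f hf y).2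
  have hD := (pHom_mem hK hperf f hf y).1
  exact Subgroup.mem_inf.2 ⟨conj_mem_posUnipotent chevG2 (hF (K := K)).hall (hF (K := K)).hconj _ hD _ ha.1,
    mul_mem (mul_mem hG ha.2) (inv_mem hG)⟩

/-- invariance under `B¹` -/
theorem phiv_conjB (c : GL chevG2.Idx K) (hc : c ∈ chevG2.borelSubgroup K) (hc₁ : c ∈ twistedG2 K (3 ^ 0))
    (a : GL chevG2.Idx K) (ha : a ∈ chevG2.posUnipotent K ⊓ twistedG2 K (3 ^ 0)) :
    phiv (c * a * c⁻¹) = phiv a := by
  obtain ⟨u₀, hu₀, d, hd, rfl⟩ := (clsData hK hperf f hf).borel_decomp hS hC c hc hc₁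
  obtain ⟨y, rfl⟩ := exists_param hK hperf f hf d hd
  have hz := conjH_mem hK hperf f hf y a ha
  set z := pHom (m := 0) y * a * (pHom (m := 0) y)⁻¹ with hzdef
  have e : u₀ * pHom (m := 0) y * a * (u₀ * pHom (m := 0) y)⁻¹ = u₀ * z * u₀⁻¹ := by
    rw [hzdef]
    group
  rw [e]
  have hw : u₀ * z * u₀⁻¹ ∈ chevG2.posUnipotent K ⊓ twistedG2 K (3 ^ 0) :=
    mul_mem (mul_mem hu₀ hz) (inv_mem hu₀)
  have h1 := phiv_mul hK hperf f hf (u₀ * z * u₀⁻¹) u₀ hw hu₀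
  have h2 := phiv_mul hK hperf f hf u₀ z hu₀ hz
  have e2 : u₀ * z * u₀⁻¹ * u₀ = u₀ * z := by group
  rw [e2, h2] at h1
  rw [← phiv_conjH hK hperf f hf y a ha]
  linear_combination (-1 : K) * h1

end three

/-- `U¹` as a subgroup of `G¹` -/
abbrev U1 (K : Type*) [Field K] : Subgroup ↥(twistedG2 K (3 ^ 0)) :=
  (chevG2.posUnipotent K ⊓ twistedG2 K (3 ^ 0)).subgroupOf (twistedG2 K (3 ^ 0))

theorem transfer_eq_pow_of_ctrl {G : Type*} [Group G] {H : Subgroup G} [H.FiniteIndex]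
    {A : Type*} [CommGroup A] (ϕ : H →* A) (x : H)
    (key : ∀ (k : ℕ) (g₀ : G) (hk : g₀⁻¹ * (x : G) ^ k * g₀ ∈ H),
      ϕ ⟨g₀⁻¹ * (x : G) ^ k * g₀, hk⟩ = ϕ (x ^ k)) :
    MonoidHom.transfer ϕ (x : G) = ϕ x ^ H.index := by
  classical
  haveI : Fintype (Quotient (MulAction.orbitRel (Subgroup.zpowers (x : G)) (G ⧸ H))) :=
    Fintype.ofFinite _
  rw [Subgroup.index_eq_sum_minimalPeriod H (x : G), ← Finset.prod_pow_eq_pow_sum,
    MonoidHom.transfer_eq_prod_quotient_orbitRel_zpowers_quot]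
  apply Finset.prod_congr rfl
  intro q _
  rw [key, map_pow]

section three

variable {K : Type*} [Field K] [Fintype K] [CharP K 3] (hK : Fintype.card K = 3 ^ (2 * 0 + 1))
  (hperf : ∀ x : K, ∃ y : K, y ^ 3 = x) (f : K ≃+* K) (hf : ∀ t, f t = t ^ (3 ^ 0))
include hK hperf hf

/-- the homomorphism from `U¹` -/
noncomputable def phi : ↥(U1 K) →* Multiplicative K where
  toFun x := Multiplicative.ofAdd (phiv ((x : ↥(twistedG2 K (3 ^ 0))) : GL chevG2.Idx K))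
  map_one' := by
    have h := phiv_mul hK hperf f hf 1 1 (one_mem _) (one_mem _)
    rw [mul_one] at h
    have h0 : phiv (1 : GL chevG2.Idx K) = 0 := by
      have := congrArg (fun z => z - phiv (1 : GL chevG2.Idx K)) h
      simpa using this.symm
    show Multiplicative.ofAdd (phiv (1 : GL chevG2.Idx K)) = 1
    rw [h0]
    rfl
  map_mul' a b := by
    show Multiplicative.ofAdd (phiv (((a : ↥(twistedG2 K (3 ^ 0))) : GL chevG2.Idx K) *
      ((b : ↥(twistedG2 K (3 ^ 0))) : GL chevG2.Idx K))) = _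
    rw [phiv_mul hK hperf f hf _ _ (Subgroup.mem_subgroupOf.1 a.2) (Subgroup.mem_subgroupOf.1 b.2)]
    rfl

theorem phi_apply (x : ↥(U1 K)) : phi hK hperf f hf x =
    Multiplicative.ofAdd (phiv ((x : ↥(twistedG2 K (3 ^ 0))) : GL chevG2.Idx K)) := rfl

/-- control of fusion -/
theorem phi_key (x : ↥(U1 K)) (k : ℕ) (g₀ : ↥(twistedG2 K (3 ^ 0)))
    (hk : g₀⁻¹ * (x : ↥(twistedG2 K (3 ^ 0))) ^ k * g₀ ∈ U1 K) :
    phi hK hperf f hf ⟨g₀⁻¹ * (x : ↥(twistedG2 K (3 ^ 0))) ^ k * g₀, hk⟩ = phi hK hperf f hf (x ^ k) := by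
  rw [phi_apply, phi_apply]
  congr 1
  set y : GL chevG2.Idx K := ((x : ↥(twistedG2 K (3 ^ 0))) : GL chevG2.Idx K) ^ k with hy
  have hyU : y ∈ chevG2.posUnipotent K ⊓ twistedG2 K (3 ^ 0) :=
    pow_mem (Subgroup.mem_subgroupOf.1 x.2) k
  have e1 : (((⟨g₀⁻¹ * (x : ↥(twistedG2 K (3 ^ 0))) ^ k * g₀, hk⟩ : ↥(U1 K)) : ↥(twistedG2 K (3 ^ 0))) :
      GL chevG2.Idx K) = (g₀ : GL chevG2.Idx K)⁻¹ * y * (g₀ : GL chevG2.Idx K) := by
    simp [hy]
  have e2 : (((x ^ k : ↥(U1 K)) : ↥(twistedG2 K (3 ^ 0))) : GL chevG2.Idx K) = y := by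
    simp [hy]
  rw [e1, e2]
  by_cases h1 : y = 1
  · rw [h1]
    congr 1
    group
  · have hcu : (g₀ : GL chevG2.Idx K)⁻¹ * y * ((g₀ : GL chevG2.Idx K)⁻¹)⁻¹ ∈ chevG2.posUnipotent K := by
      rw [inv_inv, ← e1]
      exact (Subgroup.mem_subgroupOf.1 hk).1
    have hcB := mem_borel_of_conj hK hperf f hf _ (inv_mem g₀.2) y hyU.1 h1 hcu
    have := phiv_conjB hK hperf f hf _ hcB (inv_mem g₀.2) y hyU
    rwa [inv_inv] at this

end three

end Cfsg.Agent.Lead.Tw.G2
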