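import Mathlib
import Cfsg.Agent.Lib.Lead.TwG2Three
import Cfsg.Agent.Lib.Lead.SimpleIndex

/-!
# The group `²G₂(3)`: its normal subgroups and its derived group
-/

set_option autoImplicit false
set_option linter.unusedSectionVars false
set_option linter.unusedSimpArgs false
set_option linter.unusedVariables false

namespace Cfsg.Agent.Lead.Tw.G2

open Cfsg Cfsg.Lie Cfsg.Agent.Lead.Chev Cfsg.Agent.Lead.ZPM
open scoped commutatorElement Pointwise

section general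

variable {K : Type*} [Field K] [Fintype K] [CharP K 3] {m : ℕ} (hK : Fintype.card K = 3 ^ (2 * m + 1))
  (hperf : ∀ x : K, ∃ y : K, y ^ 3 = x) (f : K ≃+* K) (hf : ∀ t, f t = t ^ (3 ^ m))
include hK hperf hf

/-- the negative generators are conjugates of positive ones -/
theorem neg_conj (T U V : K) : ∃ T' U' V' : K,
    n₀ K * wordGL chevG2 hF.xadd (reeWordV (3 ^ m) T U V) * (n₀ K)⁻¹ =
      wordGL chevG2 hF.xadd (reeWordU (3 ^ m) T' U' V') := by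
  have hcl := clsData hK hperf f hf
  have hnG : n₀ K ∈ twistedG2 K (3 ^ m) := n₀_mem hK hperf f hf
  set g := wordGL chevG2 hF.xadd (reeWordV (3 ^ m) T U V) with hg
  have hgG : g ∈ twistedG2 K (3 ^ m) := gen_mem _ (neg_mem T U V)
  have hcG : n₀ K * g * (n₀ K)⁻¹ ∈ twistedG2 K (3 ^ m) := mul_mem (mul_mem hnG hgG) (inv_mem hnG)
  have hcfix := hcl.fixed _ hcG
  have hneg : n₀ K * g * (n₀ K)⁻¹ ∈ negPart chevG2 hF.xadd [0, 1, 0, 1, 0, 1] := by
    rw [hg, reeWordV_eq]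
    apply conj_wordGL_mem_negPart hF [0, 1, 0, 1, 0, 1] (by decide)
    intro q hq
    simp only [List.mem_cons, List.not_mem_nil, or_false] at hq
    rcases hq with rfl | rfl | rfl | rfl | rfl | rfl <;> dsimp only <;> decide +kernel
  exact fix_u hK hperf f hf _ hneg hcfix

/-- a subgroup of `G¹` containing the generators is everything -/
theorem eq_top_of_gens (P : Subgroup ↥(twistedG2 K (3 ^ m)))
    (hpos : ∀ (t u v : K) (hx : wordGL chevG2 hF.xadd (reeWordU (3 ^ m) t u v) ∈ twistedG2 K (3 ^ m)),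
      (⟨_, hx⟩ : ↥(twistedG2 K (3 ^ m))) ∈ P)
    (hneg : ∀ (t u v : K) (hx : wordGL chevG2 hF.xadd (reeWordV (3 ^ m) t u v) ∈ twistedG2 K (3 ^ m)),
      (⟨_, hx⟩ : ↥(twistedG2 K (3 ^ m))) ∈ P) : P = ⊤ := by
  set L := P.map (twistedG2 K (3 ^ m)).subtype with hL
  have hle : twistedG2 K (3 ^ m) ≤ L := by
    unfold twistedG2 ChevalleyDatum.genSubgroup
    rw [Subgroup.closure_le]
    rintro g ⟨w, hw, hg⟩
    have e : g = wordGL chevG2 hF.xadd w := Units.ext (by rw [hg, wordGL_val])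
    rw [e]
    obtain ⟨t, u, v, rfl | rfl⟩ := hw
    · exact ⟨⟨_, gen_mem _ (pos_mem t u v)⟩, hpos t u v _, rfl⟩
    · exact ⟨⟨_, gen_mem _ (neg_mem t u v)⟩, hneg t u v _, rfl⟩
  rw [eq_top_iff]
  rintro ⟨g, hg⟩ -
  obtain ⟨c, hc, hcg⟩ := hle hg
  have : c = ⟨g, hg⟩ := Subtype.ext hcg
  rw [← this]
  exact hc

end general

section three

variable {K : Type*} [Field K] [Fintype K] [CharP K 3] (hK : Fintype.card K = 3 ^ (2 * 0 + 1))
  (hperf : ∀ x : K, ∃ y : K, y ^ 3 = x) (f : K ≃+* K) (hf : ∀ t, f t = t ^ (3 ^ 0))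
include hK hperf hf

/-- `B¹` as a subgroup of `G¹` -/
abbrev B1 (K : Type*) [Field K] : Subgroup ↥(twistedG2 K (3 ^ 0)) :=
  (chevG2.borelSubgroup K ⊓ twistedG2 K (3 ^ 0)).subgroupOf (twistedG2 K (3 ^ 0))

theorem xG_mem (t u v : K) : wordGL chevG2 hF.xadd (reeWordU (3 ^ 0) t u v) ∈ twistedG2 K (3 ^ 0) :=
  (xU_mem hK hperf f hf t u v).2

omit hK hperf hf [Fintype K] [CharP K 3] in
theorem mem_U1_iff (g : ↥(twistedG2 K (3 ^ 0))) :
    g ∈ U1 K ↔ (g : GL chevG2.Idx K) ∈ chevG2.posUnipotent K := by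
  rw [Subgroup.mem_subgroupOf, Subgroup.mem_inf]
  exact ⟨fun h => h.1, fun h => ⟨h, g.2⟩⟩

omit hK hperf hf [Fintype K] [CharP K 3] in
theorem U1_le_B1 : U1 K ≤ B1 K := by
  intro g hg
  rw [mem_U1_iff] at hg
  rw [mem_B1_iff (m := 0)]
  exact posUnipotent_le_borel _ hg

/-- a non-trivial normal subgroup is not contained in `B¹` -/
theorem exists_not_borel (M : Subgroup ↥(twistedG2 K (3 ^ 0))) [M.Normal] (hM : M ≠ ⊥) :
    ∃ g ∈ M, (g : GL chevG2.Idx K) ∉ chevG2.borelSubgroup K := by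
  by_contra hcon
  push_neg at hcon
  apply hM
  have hle : M ≤ B1 K := by
    intro g hg
    rw [mem_B1_iff (m := 0)]
    exact hcon g hg
  have := Subgroup.normal_le_normalCore.2 hle
  rwa [normalCore_borel hK hperf f hf, le_bot_iff] at this

/-- `G¹ = M B¹` for a non-trivial normal subgroup `M` -/
theorem sup_borel_eq_top (M : Subgroup ↥(twistedG2 K (3 ^ 0))) [M.Normal] (hM : M ≠ ⊥) :
    M ⊔ B1 K = ⊤ := by
  obtain ⟨g, hgM, hgB⟩ := exists_not_borel hK hperf f hf M hM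
  obtain ⟨u, hu, β, hβ, e⟩ := bruhat_inv hK hperf f hf g g.2 hgB
  have hnG : n₀ K ∈ twistedG2 K (3 ^ 0) := n₀_mem hK hperf f hf
  have hn : (⟨n₀ K, hnG⟩ : ↥(twistedG2 K (3 ^ 0))) ∈ M ⊔ B1 K := by
    have huB : (⟨u, hu.2⟩ : ↥(twistedG2 K (3 ^ 0))) ∈ M ⊔ B1 K :=
      Subgroup.mem_sup_right ((mem_B1_iff (m := 0) _).2 (posUnipotent_le_borel _ hu.1))
    have hβB : (⟨β, hβ.2⟩ : ↥(twistedG2 K (3 ^ 0))) ∈ M ⊔ B1 K :=
      Subgroup.mem_sup_right ((mem_B1_iff (m := 0) _).2 hβ.1)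
    have hgS : g ∈ M ⊔ B1 K := Subgroup.mem_sup_left hgM
    have e' : (⟨n₀ K, hnG⟩ : ↥(twistedG2 K (3 ^ 0))) =
        (⟨β, hβ.2⟩ : ↥(twistedG2 K (3 ^ 0))) * g⁻¹ * ⟨u, hu.2⟩ := by
      apply Subtype.ext
      show n₀ K = β * (g : GL chevG2.Idx K)⁻¹ * u
      rw [e]
      group
    rw [e']
    exact mul_mem (mul_mem hβB (inv_mem hgS)) huB
  apply eq_top_of_gens hK hperf f hf
  · intro t u v hx
    exact Subgroup.mem_sup_right ((mem_B1_iff (m := 0) _).2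
      (posUnipotent_le_borel _ (xU_mem hK hperf f hf t u v).1))
  · intro T U V hx
    obtain ⟨T', U', V', e⟩ := neg_conj hK hperf f hf T U V
    have hx' : (⟨_, xG_mem hK hperf f hf T' U' V'⟩ : ↥(twistedG2 K (3 ^ 0))) ∈ M ⊔ B1 K :=
      Subgroup.mem_sup_right ((mem_B1_iff (m := 0) _).2
        (posUnipotent_le_borel _ (xU_mem hK hperf f hf T' U' V').1))
    have e' : (⟨_, hx⟩ : ↥(twistedG2 K (3 ^ 0))) =
        (⟨n₀ K, hnG⟩ : ↥(twistedG2 K (3 ^ 0)))⁻¹ * ⟨_, xG_mem hK hperf f hf T' U' V'⟩ * ⟨n₀ K, hnG⟩ := by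
      apply Subtype.ext
      show wordGL chevG2 hF.xadd (reeWordV (3 ^ 0) T U V) =
        (n₀ K)⁻¹ * wordGL chevG2 hF.xadd (reeWordU (3 ^ 0) T' U' V') * n₀ K
      rw [← e]
      group
    rw [e']
    exact mul_mem (mul_mem (inv_mem hn) hx') hn

/-- `G¹ = M U¹` for a non-trivial normal subgroup `M` -/
theorem sup_U_eq_top (M : Subgroup ↥(twistedG2 K (3 ^ 0))) [M.Normal] (hM : M ≠ ⊥) :
    M ⊔ U1 K = ⊤ := by
  have hnG : n₀ K ∈ twistedG2 K (3 ^ 0) := n₀_mem hK hperf f hf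
  have htop := sup_borel_eq_top hK hperf f hf M hM
  apply eq_top_of_gens hK hperf f hf
  · intro t u v hx
    exact Subgroup.mem_sup_right ((mem_U1_iff _).2 (xU_mem hK hperf f hf t u v).1)
  · intro T U V hx
    obtain ⟨T', U', V', e⟩ := neg_conj hK hperf f hf T U V
    have hninv : (⟨n₀ K, hnG⟩ : ↥(twistedG2 K (3 ^ 0)))⁻¹ ∈ M ⊔ B1 K := by
      rw [htop]
      exact Subgroup.mem_top _
    have hset : (⟨n₀ K, hnG⟩ : ↥(twistedG2 K (3 ^ 0)))⁻¹ ∈
        ((M : Set ↥(twistedG2 K (3 ^ 0))) * (B1 K : Set ↥(twistedG2 K (3 ^ 0)))) := by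
      rw [← Subgroup.normal_mul]
      exact hninv
    obtain ⟨a, ha, b, hb, hab⟩ := hset
    have hbB : (b : GL chevG2.Idx K) ∈ chevG2.borelSubgroup K := (mem_B1_iff (m := 0) b).1 hb
    have hconj : b * (⟨_, xG_mem hK hperf f hf T' U' V'⟩ : ↥(twistedG2 K (3 ^ 0))) * b⁻¹ ∈ U1 K := by
      rw [mem_U1_iff]
      have hN := borel_le_normalizer (K := K) hbB
      exact (Subgroup.mem_normalizer_iff.1 hN _).1 (xU_mem hK hperf f hf T' U' V').1
    have e' : (⟨_, hx⟩ : ↥(twistedG2 K (3 ^ 0))) =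
        a * (b * (⟨_, xG_mem hK hperf f hf T' U' V'⟩ : ↥(twistedG2 K (3 ^ 0))) * b⁻¹) * a⁻¹ := by
      have e1 : (⟨_, hx⟩ : ↥(twistedG2 K (3 ^ 0))) =
          (⟨n₀ K, hnG⟩ : ↥(twistedG2 K (3 ^ 0)))⁻¹ * ⟨_, xG_mem hK hperf f hf T' U' V'⟩ *
            ((⟨n₀ K, hnG⟩ : ↥(twistedG2 K (3 ^ 0)))⁻¹)⁻¹ := by
        apply Subtype.ext
        show wordGL chevG2 hF.xadd (reeWordV (3 ^ 0) T U V) =
          (n₀ K)⁻¹ * wordGL chevG2 hF.xadd (reeWordU (3 ^ 0) T' U' V') * ((n₀ K)⁻¹)⁻¹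
        rw [← e]
        group
      rw [e1, ← hab]
      group
    rw [e']
    exact mul_mem (mul_mem (Subgroup.mem_sup_left ha) (Subgroup.mem_sup_right hconj))
      (inv_mem (Subgroup.mem_sup_left ha))

end three

section three

variable {K : Type*} [Field K] [Fintype K] [CharP K 3] (hK : Fintype.card K = 3 ^ (2 * 0 + 1))
  (hperf : ∀ x : K, ∃ y : K, y ^ 3 = x) (f : K ≃+* K) (hf : ∀ t, f t = t ^ (3 ^ 0))
include hK hperf hf

/-- the involution of `H¹` -/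
noncomputable def h₀ (K : Type*) [Field K] : GL chevG2.Idx K := pHom (m := 0) (-1 : Kˣ)

theorem h₀_mem : h₀ K ∈ twistedG2 K (3 ^ 0) := (pHom_mem hK hperf f hf (-1 : Kˣ)).2

omit hK hperf hf [Fintype K] [CharP K 3] in
theorem h₀_sq : h₀ K * h₀ K = 1 := by
  unfold h₀
  rw [← map_mul, neg_mul_neg, one_mul, map_one]

omit hK hperf hf [Fintype K] [CharP K 3] in
theorem chi6_h₀ : chi chevG2 (extC chevG2 (pc 0 (-1 : Kˣ))) 6 = (-1 : K) := by
  rw [chi_p, cartan_vals.1, cartan_vals.2.1, pow_e0, Units.val_neg, Units.val_one, zpow_neg, zpow_ofNat,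
    zpow_ofNat]
  norm_num

theorem card_G : Nat.card ↥(twistedG2 K (3 ^ 0)) = 1512 := by
  rw [card_group hK hperf f hf]
  norm_num

theorem card_U1 : Nat.card ↥(U1 K) = 27 := by
  have h1 : Nat.card ↥(U1 K) = Nat.card ↥(chevG2.posUnipotent K ⊓ twistedG2 K (3 ^ 0)) :=
    Nat.card_congr (Subgroup.subgroupOfEquivOfLe inf_le_right).toEquiv
  rw [h1, card_U hK hperf f hf]
  norm_num

theorem index_U1 : (U1 K).index = 56 := by
  have h := Subgroup.card_mul_index (U1 K)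
  rw [card_U1 hK hperf f hf, card_G hK hperf f hf] at h
  omega

/-- the involution of `H¹` lies in every non-trivial normal subgroup -/
theorem h₀_mem_normal (M : Subgroup ↥(twistedG2 K (3 ^ 0))) [M.Normal] (hM : M ≠ ⊥) :
    (⟨h₀ K, h₀_mem hK hperf f hf⟩ : ↥(twistedG2 K (3 ^ 0))) ∈ M := by
  have htop := sup_U_eq_top hK hperf f hf M hM
  have hmem : (⟨h₀ K, h₀_mem hK hperf f hf⟩ : ↥(twistedG2 K (3 ^ 0))) ∈
      ((M : Set ↥(twistedG2 K (3 ^ 0))) * (U1 K : Set ↥(twistedG2 K (3 ^ 0)))) := by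
    rw [← Subgroup.normal_mul, htop]
    exact Subgroup.mem_top _
  obtain ⟨a, ha, u, hu, hau⟩ := hmem
  have hu27 : u ^ 27 = 1 := by
    have h1 : (⟨u, hu⟩ : ↥(U1 K)) ^ Nat.card ↥(U1 K) = 1 := pow_card_eq_one'
    rw [card_U1 hK hperf f hf] at h1
    have := congrArg (fun z : ↥(U1 K) => (z : ↥(twistedG2 K (3 ^ 0)))) h1
    simpa using this
  set π := QuotientGroup.mk' M with hπ
  have h1 : π ⟨h₀ K, h₀_mem hK hperf f hf⟩ = π u := by
    rw [← hau, map_mul]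
    have : π a = 1 := (QuotientGroup.eq_one_iff a).2 ha
    rw [this, one_mul]
  have h2 : π ⟨h₀ K, h₀_mem hK hperf f hf⟩ ^ 27 = 1 := by
    rw [h1, ← map_pow, hu27, map_one]
  have h3 : π ⟨h₀ K, h₀_mem hK hperf f hf⟩ ^ 2 = 1 := by
    rw [← map_pow]
    have : (⟨h₀ K, h₀_mem hK hperf f hf⟩ : ↥(twistedG2 K (3 ^ 0))) ^ 2 = 1 := by
      apply Subtype.ext
      show h₀ K ^ 2 = 1
      rw [pow_two, h₀_sq]
    rw [this, map_one]
  have h4 : orderOf (π ⟨h₀ K, h₀_mem hK hperf f hf⟩) ∣ Nat.gcd 27 2 :=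
    Nat.dvd_gcd (orderOf_dvd_of_pow_eq_one h2) (orderOf_dvd_of_pow_eq_one h3)
  have h5 : orderOf (π ⟨h₀ K, h₀_mem hK hperf f hf⟩) = 1 := by
    have : Nat.gcd 27 2 = 1 := by norm_num
    rw [this] at h4
    exact Nat.dvd_one.1 h4
  rw [orderOf_eq_one_iff] at h5
  exact (QuotientGroup.eq_one_iff _).1 h5

/-- the commutator of the involution with `x(t₀, 0, 0)` -/
theorem comm_h₀_form (t₀ : K) : ∃ b c : K,
    h₀ K * wordGL chevG2 hF.xadd (reeWordU (3 ^ 0) t₀ 0 0) * (h₀ K)⁻¹ *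
        (wordGL chevG2 hF.xadd (reeWordU (3 ^ 0) t₀ 0 0))⁻¹ =
      wordGL chevG2 hF.xadd (reeWordU (3 ^ 0) t₀ b c) := by
  have h3 := three_eq_zero (K := K)
  obtain ⟨t', u', v', e, ht', -⟩ := conj_coords2 hK hperf f hf (-1 : Kˣ) t₀ 0 0
  rw [chi6_h₀] at ht'
  have hX := xU_mem hK hperf f hf t₀ 0 0
  have hmem : h₀ K * wordGL chevG2 hF.xadd (reeWordU (3 ^ 0) t₀ 0 0) * (h₀ K)⁻¹ *
      (wordGL chevG2 hF.xadd (reeWordU (3 ^ 0) t₀ 0 0))⁻¹ ∈
        chevG2.posUnipotent K ⊓ twistedG2 K (3 ^ 0) :=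
    mul_mem (conjH_mem hK hperf f hf (-1 : Kˣ) _ hX) (inv_mem hX)
  obtain ⟨a, b, c, eabc⟩ := exists_coords hK hperf f hf _ hmem
  refine ⟨b, c, ?_⟩
  rw [eabc]
  have e2 : wordGL chevG2 hF.xadd (reeWordU (3 ^ 0) a b c) *
      wordGL chevG2 hF.xadd (reeWordU (3 ^ 0) t₀ 0 0) =
        wordGL chevG2 hF.xadd (reeWordU (3 ^ 0) t' u' v') := by
    rw [← eabc, ← e]
    unfold h₀
    group
  obtain ⟨v'', e3⟩ := mul3 hK hperf f hf a b c t₀ 0 0
  rw [e3] at e2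
  obtain ⟨k1, -, -⟩ := u_inj (m := 0) _ _ _ _ _ _ e2
  have ha : a = t₀ := by
    rw [ht'] at k1
    linear_combination k1 - t₀ * h3
  rw [ha]

/-- every first coordinate occurs in a non-trivial normal subgroup -/
theorem first_normal (M : Subgroup ↥(twistedG2 K (3 ^ 0))) [hMn : M.Normal] (hM : M ≠ ⊥) (t₀ : K) :
    ∃ b c : K, (⟨_, xG_mem hK hperf f hf t₀ b c⟩ : ↥(twistedG2 K (3 ^ 0))) ∈ M := by
  obtain ⟨b, c, e⟩ := comm_h₀_form hK hperf f hf t₀
  refine ⟨b, c, ?_⟩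
  have hh := h₀_mem_normal hK hperf f hf M hM
  set X : ↥(twistedG2 K (3 ^ 0)) := ⟨_, xG_mem hK hperf f hf t₀ 0 0⟩ with hX
  have h1 : X * (⟨h₀ K, h₀_mem hK hperf f hf⟩ : ↥(twistedG2 K (3 ^ 0)))⁻¹ * X⁻¹ ∈ M :=
    hMn.conj_mem _ (inv_mem hh) X
  have h2 := mul_mem hh h1
  have e' : (⟨_, xG_mem hK hperf f hf t₀ b c⟩ : ↥(twistedG2 K (3 ^ 0))) =
      (⟨h₀ K, h₀_mem hK hperf f hf⟩ : ↥(twistedG2 K (3 ^ 0))) *
        (X * (⟨h₀ K, h₀_mem hK hperf f hf⟩ : ↥(twistedG2 K (3 ^ 0)))⁻¹ * X⁻¹) := by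
    apply Subtype.ext
    show wordGL chevG2 hF.xadd (reeWordU (3 ^ 0) t₀ b c) =
      h₀ K * (wordGL chevG2 hF.xadd (reeWordU (3 ^ 0) t₀ 0 0) * (h₀ K)⁻¹ *
        (wordGL chevG2 hF.xadd (reeWordU (3 ^ 0) t₀ 0 0))⁻¹)
    rw [← e]
    group
  rw [e']
  exact h2

/-- the centre of `U¹` lies in every non-trivial normal subgroup -/
theorem center_normal (M : Subgroup ↥(twistedG2 K (3 ^ 0))) [M.Normal] (hM : M ≠ ⊥) (w : K) :
    (⟨_, xG_mem hK hperf f hf 0 0 w⟩ : ↥(twistedG2 K (3 ^ 0))) ∈ M := by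
  have h3 := three_eq_zero (K := K)
  obtain ⟨b, c, hbc⟩ := first_normal hK hperf f hf M hM (-w)
  have hcube := pow_mem hbc 3
  have e : (⟨_, xG_mem hK hperf f hf 0 0 w⟩ : ↥(twistedG2 K (3 ^ 0))) =
      (⟨_, xG_mem hK hperf f hf (-w) b c⟩ : ↥(twistedG2 K (3 ^ 0))) ^ 3 := by
    apply Subtype.ext
    show wordGL chevG2 hF.xadd (reeWordU (3 ^ 0) 0 0 w) =
      (wordGL chevG2 hF.xadd (reeWordU (3 ^ 0) (-w) b c)) ^ 3
    rw [cube_form hK f hf, pow_e0]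
    have hw3 := cube_self hK w
    have : 2 * (-w) ^ 2 * (-w) ^ 3 = w := by
      have e5 : (-w) ^ 3 = -w := cube_self hK (-w)
      rw [e5]
      have : 2 * (-w) ^ 2 * -w = -2 * w ^ 3 := by ring
      rw [this, hw3]
      linear_combination (-w) * h3
    rw [this]
  rw [e]
  exact hcube

/-- representatives of the cosets of a non-trivial normal subgroup -/
theorem exists_rep (M : Subgroup ↥(twistedG2 K (3 ^ 0))) [hMn : M.Normal] (hM : M ≠ ⊥)
    (g : ↥(twistedG2 K (3 ^ 0))) :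
    ∃ u : K, (QuotientGroup.mk g : ↥(twistedG2 K (3 ^ 0)) ⧸ M) =
      QuotientGroup.mk (⟨_, xG_mem hK hperf f hf 0 u 0⟩ : ↥(twistedG2 K (3 ^ 0))) := by
  have htop := sup_U_eq_top hK hperf f hf M hM
  have hmem : g ∈ ((M : Set ↥(twistedG2 K (3 ^ 0))) * (U1 K : Set ↥(twistedG2 K (3 ^ 0)))) := by
    rw [← Subgroup.normal_mul, htop]
    exact Subgroup.mem_top _
  obtain ⟨a, ha, X, hXU, haX⟩ := hmem
  obtain ⟨t, u, v, eX⟩ := exists_coords hK hperf f hf (X : GL chevG2.Idx K) (Subgroup.mem_subgroupOf.1 hXU)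
  obtain ⟨b, c, hbc⟩ := first_normal hK hperf f hf M hM t
  have hz := center_normal hK hperf f hf M hM (v - c)
  refine ⟨u - b, ?_⟩
  rw [QuotientGroup.eq]
  -- `g = a * A * Y * Z` with `a, A, Z ∈ M`
  have eg : g = a * (⟨_, xG_mem hK hperf f hf t b c⟩ : ↥(twistedG2 K (3 ^ 0))) *
      (⟨_, xG_mem hK hperf f hf 0 (u - b) 0⟩ : ↥(twistedG2 K (3 ^ 0))) *
        (⟨_, xG_mem hK hperf f hf 0 0 (v - c)⟩ : ↥(twistedG2 K (3 ^ 0))) := by
    rw [← haX]
    apply Subtype.ext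
    show (a : GL chevG2.Idx K) * (X : GL chevG2.Idx K) = (a : GL chevG2.Idx K) *
      wordGL chevG2 hF.xadd (reeWordU (3 ^ 0) t b c) *
        wordGL chevG2 hF.xadd (reeWordU (3 ^ 0) 0 (u - b) 0) *
          wordGL chevG2 hF.xadd (reeWordU (3 ^ 0) 0 0 (v - c))
    rw [mul_assoc, mul_assoc, u1_mul, u_mul_u1, eX]
    congr 3 <;> ring
  set Y : ↥(twistedG2 K (3 ^ 0)) := ⟨_, xG_mem hK hperf f hf 0 (u - b) 0⟩ with hY
  have hgoal : g⁻¹ * Y = (Y⁻¹ * ((a * (⟨_, xG_mem hK hperf f hf t b c⟩ : ↥(twistedG2 K (3 ^ 0)))) * (Y *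
      (⟨_, xG_mem hK hperf f hf 0 0 (v - c)⟩ : ↥(twistedG2 K (3 ^ 0))) * Y⁻¹)) * Y⁻¹⁻¹)⁻¹ := by
    rw [eg]
    group
  rw [hgoal]
  apply inv_mem
  apply hMn.conj_mem
  exact mul_mem (mul_mem ha hbc) (hMn.conj_mem _ hz Y)

/-- **a non-trivial normal subgroup of `²G₂(3)` has index at most `3`** -/
theorem index_le_three (M : Subgroup ↥(twistedG2 K (3 ^ 0))) [M.Normal] (hM : M ≠ ⊥) : M.index ≤ 3 := by
  have hsurj : Function.Surjective (fun u : K =>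
      (QuotientGroup.mk (⟨_, xG_mem hK hperf f hf 0 u 0⟩ : ↥(twistedG2 K (3 ^ 0))) :
        ↥(twistedG2 K (3 ^ 0)) ⧸ M)) := by
    intro q
    obtain ⟨g, rfl⟩ := QuotientGroup.mk_surjective q
    obtain ⟨u, hu⟩ := exists_rep hK hperf f hf M hM g
    exact ⟨u, hu.symm⟩
  have := Nat.card_le_card_of_surjective _ hsurj
  rw [Nat.card_eq_fintype_card (α := K), hK] at this
  have h3 : (3 : ℕ) ^ (2 * 0 + 1) = 3 := by norm_num
  rw [h3] at this
  exact this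

end three

section three

variable {K : Type*} [Field K] [Fintype K] [CharP K 3] (hK : Fintype.card K = 3 ^ (2 * 0 + 1))
  (hperf : ∀ x : K, ∃ y : K, y ^ 3 = x) (f : K ≃+* K) (hf : ∀ t, f t = t ^ (3 ^ 0))
include hK hperf hf

/-- the transfer homomorphism into the additive group of the field -/
noncomputable def tau : ↥(twistedG2 K (3 ^ 0)) →* Multiplicative K :=
  MonoidHom.transfer (phi hK hperf f hf)

theorem tau_U1 (x : ↥(U1 K)) :
    tau hK hperf f hf (x : ↥(twistedG2 K (3 ^ 0))) = phi hK hperf f hf x ^ 56 := by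
  unfold tau
  rw [transfer_eq_pow_of_ctrl (phi hK hperf f hf) x (phi_key hK hperf f hf x), index_U1 hK hperf f hf]

theorem tau_ne_one : ∃ g : ↥(twistedG2 K (3 ^ 0)), tau hK hperf f hf g ≠ 1 := by
  have h3 := three_eq_zero (K := K)
  have hx := xU_mem hK hperf f hf 0 1 0
  refine ⟨((⟨⟨_, hx.2⟩, (mem_U1_iff _).2 hx.1⟩ : ↥(U1 K)) : ↥(twistedG2 K (3 ^ 0))), ?_⟩
  rw [tau_U1, phi_apply, phiv_x, ← ofAdd_nsmul, Ne, ofAdd_eq_one, nsmul_eq_mul]
  intro h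
  apply two_ne_zero' (K := K)
  have h' : (56 : K) * (1 - 0 ^ 2) = 0 := by exact_mod_cast h
  linear_combination h' - 18 * h3

theorem index_ker_tau : (tau hK hperf f hf).ker.index = 3 := by
  rw [Subgroup.index_ker]
  have hcard : Nat.card (Multiplicative K) = 3 := by
    rw [Nat.card_eq_fintype_card, Fintype.card_multiplicative, hK]
    norm_num
  have hdvd : Nat.card (tau hK hperf f hf).range ∣ 3 := by
    rw [← hcard]
    exact Subgroup.card_subgroup_dvd_card _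
  rcases (Nat.dvd_prime Nat.prime_three).1 hdvd with h1 | h3
  · exfalso
    obtain ⟨g, hg⟩ := tau_ne_one hK hperf f hf
    have hb : (tau hK hperf f hf).range = ⊥ := Subgroup.card_eq_one.1 h1
    have hmem : tau hK hperf f hf g ∈ (tau hK hperf f hf).range := ⟨g, rfl⟩
    rw [hb, Subgroup.mem_bot] at hmem
    exact hg hmem
  · exact h3

/-- **the derived group of `²G₂(3)`** has order `504` and is simple -/
theorem derived_three :
    Nat.card ↥(commutator ↥(twistedG2 K (3 ^ 0))) = 504 ∧ IsSimpleGroup ↥(commutator ↥(twistedG2 K (3 ^ 0))) := by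
  set C := commutator ↥(twistedG2 K (3 ^ 0)) with hC
  have hCN : C ≤ (tau hK hperf f hf).ker := Abelianization.commutator_subset_ker _
  have hCne : C ≠ ⊥ := by
    intro hbot
    obtain ⟨b, c, e⟩ := comm_h₀_form hK hperf f hf 1
    have hmem : ⁅(⟨h₀ K, h₀_mem hK hperf f hf⟩ : ↥(twistedG2 K (3 ^ 0))),
        (⟨_, xG_mem hK hperf f hf 1 0 0⟩ : ↥(twistedG2 K (3 ^ 0)))⁆ ∈ C := by
      rw [hC, commutator_def]
      exact Subgroup.commutator_mem_commutator (Subgroup.mem_top _) (Subgroup.mem_top _)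
    rw [hbot, Subgroup.mem_bot, commutatorElement_def] at hmem
    have h1 := congrArg (fun z : ↥(twistedG2 K (3 ^ 0)) => (z : GL chevG2.Idx K)) hmem
    have h2 : h₀ K * wordGL chevG2 hF.xadd (reeWordU (3 ^ 0) 1 0 0) * (h₀ K)⁻¹ *
        (wordGL chevG2 hF.xadd (reeWordU (3 ^ 0) 1 0 0))⁻¹ = 1 := h1
    rw [e, u_eq_one_iff] at h2
    exact one_ne_zero h2.1
  have hidx := index_le_three hK hperf f hf C hCne
  have h3dvd : 3 ∣ C.index := by
    rw [← index_ker_tau hK hperf f hf]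
    exact Subgroup.index_dvd_of_le hCN
  have hidx0 : C.index ≠ 0 := Subgroup.index_ne_zero_of_finite
  have hidx3 : C.index = 3 := by
    obtain ⟨k, hk⟩ := h3dvd
    rw [hk] at hidx hidx0 ⊢
    have : k = 1 := by omega
    rw [this]
  have hcard : Nat.card ↥C = 504 := by
    have h := Subgroup.card_mul_index C
    rw [hidx3, card_G hK hperf f hf] at h
    omega
  refine ⟨hcard, ?_⟩
  apply Cfsg.Agent.Lead.SimpIdx.isSimpleGroup_of_minimal C 7 (by norm_num)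
  · rw [hcard]
    norm_num
  · rw [hcard]
    norm_num
  · intro M hMn hle hne
    haveI := hMn
    have h1 := index_le_three hK hperf f hf M hne
    have h2 := Subgroup.card_mul_index M
    rw [card_G hK hperf f hf] at h2
    have h0 : M.index ≠ 0 := Subgroup.index_ne_zero_of_finite
    apply Subgroup.eq_of_le_of_card_ge hle
    rw [hcard]
    by_contra hlt
    push_neg at hlt
    have h5 : Nat.card ↥M * M.index ≤ 503 * 3 := Nat.mul_le_mul (by omega) h1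
    rw [h2] at h5
    omega

end three

end Cfsg.Agent.Lead.Tw.G2
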