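import Mathlib
import Cfsg.Agent.Lib.Lead.TwG2ThreeB
import Cfsg.Agent.Lib.Lead.TwG2SL2Id
import Cfsg.Agent.Lib.Helper15.StSL2g

/-!
# The subgroup `SL₂(q)` of `²G₂(q)` generated by the root groups of `a+b`, `3a+b`: the homomorphism
-/

set_option autoImplicit false
set_option linter.unusedSectionVars false
set_option linter.unusedSimpArgs false
set_option linter.unusedVariables false
set_option linter.style.haveILetI false

namespace Cfsg.Agent.Lead.Tw.G2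

open Cfsg Cfsg.Lie Cfsg.Agent.Lead.Chev Cfsg.Agent.Lead.ZPM

section rankone

variable {K : Type*} [Field K] [CharP K 3]

theorem orth4 : Orth chevG2 8 10 ∧ Orth chevG2 8 1 ∧ Orth chevG2 3 10 ∧ Orth chevG2 3 1 := by decide +kernel

theorem neg_vals : chevG2.neg 8 = 3 ∧ chevG2.neg 10 = 1 ∧ chevG2.neg 3 = 8 ∧ chevG2.neg 1 = 10 := by decide

/-- `n_r(1) x_r(v) = x_{-r}(-v) n_r(1)` from the matrix identity -/
theorem n_one_conj (r r' : ℕ) (hneg : chevG2.neg r = r')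
    (hid : ∀ v : K, chevG2.wordMat K [(r, 1), (r', 2), (r, 1), (r, v)] =
      chevG2.wordMat K [(r', 2 * v), (r, 1), (r', 2), (r, 1)]) (v : K) :
    nGLt chevG2 hF.xadd r 1 * xGL chevG2 hF.xadd r v =
      xGL chevG2 hF.xadd r' (-v) * nGLt chevG2 hF.xadd r 1 := by
  have h3 := three_eq_zero (K := K)
  have h2 : (-(1 : K)⁻¹) = 2 := by rw [inv_one]; linear_combination -h3
  have e : nGLt chevG2 hF.xadd r (1 : K) = wordGL chevG2 hF.xadd [(r, 1), (r', 2), (r, 1)] := by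
    unfold nGLt ChevalleyDatum.nWord
    rw [hneg, h2]
  have hv : (2 : K) * v = -v := by linear_combination v * h3
  rw [e, ← wordGL_singleton chevG2 hF.xadd (r, v), ← wordGL_append, ← hv,
    ← wordGL_singleton chevG2 hF.xadd (r', 2 * v), ← wordGL_append]
  exact wordGL_congr_val _ _ (hid v)

/-- the rank one relation `n_r(c) x_r(v) n_r(c)⁻¹ = x_{-r}(-c⁻² v)` -/
theorem n_conj (r r' : ℕ) (hr : r < chevG2.nroots) (hr' : r' < chevG2.nroots) (hneg : chevG2.neg r = r')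
    (hid : ∀ v : K, chevG2.wordMat K [(r, 1), (r', 2), (r, 1), (r, v)] =
      chevG2.wordMat K [(r', 2 * v), (r, 1), (r', 2), (r, 1)])
    (hchi : ∀ c : K, c ≠ 0 →
      chi chevG2 (fun i => c ^ ((chevG2.coroot.getD r #[]).getD i 0)) r' = (c ^ 2)⁻¹)
    (c v : K) (hc : c ≠ 0) :
    nGLt chevG2 hF.xadd r c * xGL chevG2 hF.xadd r v * (nGLt chevG2 hF.xadd r c)⁻¹ =
      xGL chevG2 hF.xadd r' (-((c ^ 2)⁻¹ * v)) := by
  have h1 := n_one_conj r r' hneg hid v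
  have hh : ((hGLt chevG2 hF.xadd r c : GL chevG2.Idx K) : Matrix chevG2.Idx chevG2.Idx K) =
      Tmat chevG2 (fun i => c ^ ((chevG2.coroot.getD r #[]).getD i 0)) := by
    rw [hGLt_val, hMat_eq_Tmat chevG2 (hF (K := K)).hall r hr c hc]
  have h2 := (hF (K := K)).Tmat_conj_xGL (hGLt chevG2 hF.xadd r c) _ (fun i _ => zpow_ne_zero _ hc) hh r' hr' (-v)
  rw [hchi c hc] at h2
  rw [nGLt_eq_hGLt_mul]
  have e : hGLt chevG2 hF.xadd r c * nGLt chevG2 hF.xadd r 1 * xGL chevG2 hF.xadd r v *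
      (hGLt chevG2 hF.xadd r c * nGLt chevG2 hF.xadd r 1)⁻¹ =
      hGLt chevG2 hF.xadd r c * (nGLt chevG2 hF.xadd r 1 * xGL chevG2 hF.xadd r v) *
        (nGLt chevG2 hF.xadd r 1)⁻¹ * (hGLt chevG2 hF.xadd r c)⁻¹ := by group
  rw [e, h1]
  have e2 : hGLt chevG2 hF.xadd r c * (xGL chevG2 hF.xadd r' (-v) * nGLt chevG2 hF.xadd r 1) *
      (nGLt chevG2 hF.xadd r 1)⁻¹ * (hGLt chevG2 hF.xadd r c)⁻¹ =
      hGLt chevG2 hF.xadd r c * xGL chevG2 hF.xadd r' (-v) * (hGLt chevG2 hF.xadd r c)⁻¹ := by group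
  rw [e2, h2]
  congr 1
  ring

theorem cor_vals4 : ∀ i < 2,
    (chevG2.coroot.getD 8 #[]).getD i 0 = ([1, 3] : List ℤ).getD i 0 ∧
    (chevG2.coroot.getD 10 #[]).getD i 0 = ([1, 1] : List ℤ).getD i 0 ∧
    (chevG2.coroot.getD 3 #[]).getD i 0 = ([-1, -3] : List ℤ).getD i 0 ∧
    (chevG2.coroot.getD 1 #[]).getD i 0 = ([-1, -1] : List ℤ).getD i 0 := by decide +kernel

theorem cartan_vals4 : chevG2.cartan 0 3 = 1 ∧ chevG2.cartan 1 3 = -1 ∧ chevG2.cartan 0 1 = -3 ∧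
    chevG2.cartan 1 1 = 1 ∧ chevG2.cartan 0 8 = -1 ∧ chevG2.cartan 1 8 = 1 ∧ chevG2.cartan 0 10 = 3 ∧
    chevG2.cartan 1 10 = -1 := by decide

theorem chi_two (c : ℕ → K) (v : ℕ) :
    chi chevG2 c v = c 0 ^ (chevG2.cartan 0 v) * c 1 ^ (chevG2.cartan 1 v) := by
  unfold chi
  have : chevG2.rank = 2 := rfl
  rw [this]
  simp [List.range_succ]

theorem hchi8 (c : K) (hc : c ≠ 0) :
    chi chevG2 (fun i => c ^ ((chevG2.coroot.getD 8 #[]).getD i 0)) 3 = (c ^ 2)⁻¹ := by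
  rw [chi_two, (cor_vals4 0 (by norm_num)).1, (cor_vals4 1 (by norm_num)).1, cartan_vals4.1,
    cartan_vals4.2.1]
  simp only [List.getD_cons_zero, List.getD_cons_succ]
  rw [← zpow_mul, ← zpow_mul, ← zpow_add₀ hc, ← zpow_natCast, ← zpow_neg]
  norm_num

theorem hchi10 (c : K) (hc : c ≠ 0) :
    chi chevG2 (fun i => c ^ ((chevG2.coroot.getD 10 #[]).getD i 0)) 1 = (c ^ 2)⁻¹ := by
  rw [chi_two, (cor_vals4 0 (by norm_num)).2.1, (cor_vals4 1 (by norm_num)).2.1, cartan_vals4.2.2.1,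
    cartan_vals4.2.2.2.1]
  simp only [List.getD_cons_zero, List.getD_cons_succ]
  rw [← zpow_mul, ← zpow_mul, ← zpow_add₀ hc, ← zpow_natCast, ← zpow_neg]
  norm_num

theorem hchi3 (c : K) (hc : c ≠ 0) :
    chi chevG2 (fun i => c ^ ((chevG2.coroot.getD 3 #[]).getD i 0)) 8 = (c ^ 2)⁻¹ := by
  rw [chi_two, (cor_vals4 0 (by norm_num)).2.2.1, (cor_vals4 1 (by norm_num)).2.2.1, cartan_vals4.2.2.2.2.1,
    cartan_vals4.2.2.2.2.2.1]
  simp only [List.getD_cons_zero, List.getD_cons_succ]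
  rw [← zpow_mul, ← zpow_mul, ← zpow_add₀ hc, ← zpow_natCast, ← zpow_neg]
  norm_num

theorem hchi1 (c : K) (hc : c ≠ 0) :
    chi chevG2 (fun i => c ^ ((chevG2.coroot.getD 1 #[]).getD i 0)) 10 = (c ^ 2)⁻¹ := by
  rw [chi_two, (cor_vals4 0 (by norm_num)).2.2.2, (cor_vals4 1 (by norm_num)).2.2.2, cartan_vals4.2.2.2.2.2.2.1,
    cartan_vals4.2.2.2.2.2.2.2]
  simp only [List.getD_cons_zero, List.getD_cons_succ]
  rw [← zpow_mul, ← zpow_mul, ← zpow_add₀ hc, ← zpow_natCast, ← zpow_neg]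
  norm_num

theorem n_conj8 (c v : K) (hc : c ≠ 0) :
    nGLt chevG2 hF.xadd 8 c * xGL chevG2 hF.xadd 8 v * (nGLt chevG2 hF.xadd 8 c)⁻¹ =
      xGL chevG2 hF.xadd 3 (-((c ^ 2)⁻¹ * v)) :=
  n_conj 8 3 (by decide) (by decide) neg_vals.1 MCalc.g2N8 hchi8 c v hc

theorem n_conj10 (c v : K) (hc : c ≠ 0) :
    nGLt chevG2 hF.xadd 10 c * xGL chevG2 hF.xadd 10 v * (nGLt chevG2 hF.xadd 10 c)⁻¹ =
      xGL chevG2 hF.xadd 1 (-((c ^ 2)⁻¹ * v)) :=
  n_conj 10 1 (by decide) (by decide) neg_vals.2.1 MCalc.g2N10 hchi10 c v hc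

theorem n_conj3 (c v : K) (hc : c ≠ 0) :
    nGLt chevG2 hF.xadd 3 c * xGL chevG2 hF.xadd 3 v * (nGLt chevG2 hF.xadd 3 c)⁻¹ =
      xGL chevG2 hF.xadd 8 (-((c ^ 2)⁻¹ * v)) :=
  n_conj 3 8 (by decide) (by decide) neg_vals.2.2.1 MCalc.g2N3 hchi3 c v hc

theorem n_conj1 (c v : K) (hc : c ≠ 0) :
    nGLt chevG2 hF.xadd 1 c * xGL chevG2 hF.xadd 1 v * (nGLt chevG2 hF.xadd 1 c)⁻¹ =
      xGL chevG2 hF.xadd 10 (-((c ^ 2)⁻¹ * v)) :=
  n_conj 1 10 (by decide) (by decide) neg_vals.2.2.2 MCalc.g2N1 hchi1 c v hc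

end rankone

section hom

variable {K : Type*} [Field K] [CharP K 3] (m : ℕ)

/-- `X(t) = x_{a+b}(t^θ) x_{3a+b}(t)` -/
noncomputable def sX (t : K) : GL chevG2.Idx K :=
  xGL chevG2 hF.xadd 8 (t ^ 3 ^ m) * xGL chevG2 hF.xadd 10 t

/-- `Y(t) = x_{-a-b}(t^θ) x_{-3a-b}(t)` -/
noncomputable def sY (t : K) : GL chevG2.Idx K :=
  xGL chevG2 hF.xadd 3 (t ^ 3 ^ m) * xGL chevG2 hF.xadd 1 t

omit [CharP K 3] in
theorem c810 (a b : K) : Commute (xGL chevG2 hF.xadd 8 a) (xGL chevG2 hF.xadd 10 b) :=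
  xGL_commute hF 8 10 (by decide) (by decide) orth4.1 a b

omit [CharP K 3] in
theorem c81 (a b : K) : Commute (xGL chevG2 hF.xadd 8 a) (xGL chevG2 hF.xadd 1 b) :=
  xGL_commute hF 8 1 (by decide) (by decide) orth4.2.1 a b

omit [CharP K 3] in
theorem c310 (a b : K) : Commute (xGL chevG2 hF.xadd 3 a) (xGL chevG2 hF.xadd 10 b) :=
  xGL_commute hF 3 10 (by decide) (by decide) orth4.2.2.1 a b

omit [CharP K 3] in
theorem c31 (a b : K) : Commute (xGL chevG2 hF.xadd 3 a) (xGL chevG2 hF.xadd 1 b) :=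
  xGL_commute hF 3 1 (by decide) (by decide) orth4.2.2.2 a b

theorem sX_add (t u : K) : sX m (t + u) = sX m t * sX m u := by
  unfold sX
  rw [pow_e_add, ← xGL_mul, ← xGL_mul]
  exact Commute.mul_mul_mul_comm (c810 _ _) _ _

theorem sY_add (t u : K) : sY m (t + u) = sY m t * sY m u := by
  unfold sY
  rw [pow_e_add, ← xGL_mul, ← xGL_mul]
  exact Commute.mul_mul_mul_comm (c31 _ _) _ _

omit [CharP K 3] in
theorem sX_zero : sX m (0 : K) = 1 := by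
  unfold sX
  rw [zero_pow_e, xGL_zero, xGL_zero, one_mul]

omit [CharP K 3] in
theorem sY_zero : sY m (0 : K) = 1 := by
  unfold sY
  rw [zero_pow_e, xGL_zero, xGL_zero, one_mul]

theorem sX_inv (t : K) : (sX m t)⁻¹ = sX m (-t) := by
  rw [inv_eq_iff_mul_eq_one, ← sX_add, add_neg_cancel, sX_zero]

theorem sY_inv (t : K) : (sY m t)⁻¹ = sY m (-t) := by
  rw [inv_eq_iff_mul_eq_one, ← sY_add, add_neg_cancel, sY_zero]

theorem pair_reorg {G : Type*} [Group G] (A1 A2 B1 B2 : G) (k1 : Commute A1 B1) (k2 : Commute A1 B2)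
    (k3 : Commute A2 B1) :
    (A1 * B1) * (A2 * B2) * (A1 * B1) = (A1 * A2 * A1) * (B1 * B2 * B1) := by
  have e1 : A1 * B1 * (A2 * B2) = A1 * A2 * (B1 * B2) := Commute.mul_mul_mul_comm k3.symm _ _
  have e2 : A1 * A2 * (B1 * B2) * (A1 * B1) = A1 * A2 * A1 * (B1 * B2 * B1) :=
    Commute.mul_mul_mul_comm (Commute.mul_left k1.symm k2.symm) _ _
  rw [e1, e2]

theorem pow_e_inv_neg (t : K) : (-t⁻¹) ^ 3 ^ m = -(t ^ 3 ^ m)⁻¹ := by
  rw [pow_e_neg, inv_pow]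

/-- `X(t) Y(-t⁻¹) X(t) = n_{a+b}(t^θ) n_{3a+b}(t)` -/
theorem sW_eq (t : K) : sX m t * sY m (-t⁻¹) * sX m t =
    nGLt chevG2 hF.xadd 8 (t ^ 3 ^ m) * nGLt chevG2 hF.xadd 10 t := by
  unfold sX sY
  rw [pow_e_inv_neg, nGLt_eq, nGLt_eq, neg_vals.1, neg_vals.2.1]
  exact pair_reorg _ _ _ _ (c810 _ _) (c81 _ _) (c310 _ _)

/-- `Y(t) X(-t⁻¹) Y(t) = n_{-a-b}(t^θ) n_{-3a-b}(t)` -/
theorem sW'_eq (t : K) : sY m t * sX m (-t⁻¹) * sY m t =
    nGLt chevG2 hF.xadd 3 (t ^ 3 ^ m) * nGLt chevG2 hF.xadd 1 t := by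
  unfold sX sY
  rw [pow_e_inv_neg, nGLt_eq, nGLt_eq, neg_vals.2.2.1, neg_vals.2.2.2]
  exact pair_reorg _ _ _ _ (c31 _ _) (c310 _ _) (c81 _ _)

omit [CharP K 3] in
theorem cN8 (c b : K) : Commute (nGLt chevG2 hF.xadd 8 c) (xGL chevG2 hF.xadd 10 b) ∧
    Commute (nGLt chevG2 hF.xadd 8 c) (xGL chevG2 hF.xadd 1 b) := by
  rw [nGLt_eq, neg_vals.1]
  exact ⟨((c810 _ _).mul_left (c310 _ _)).mul_left (c810 _ _),
    ((c81 _ _).mul_left (c31 _ _)).mul_left (c81 _ _)⟩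

omit [CharP K 3] in
theorem cN10 (c b : K) : Commute (nGLt chevG2 hF.xadd 10 c) (xGL chevG2 hF.xadd 8 b) ∧
    Commute (nGLt chevG2 hF.xadd 10 c) (xGL chevG2 hF.xadd 3 b) := by
  rw [nGLt_eq, neg_vals.2.1]
  exact ⟨((c810 _ _).symm.mul_left (c81 _ _).symm).mul_left (c810 _ _).symm,
    ((c310 _ _).symm.mul_left (c31 _ _).symm).mul_left (c310 _ _).symm⟩

omit [CharP K 3] in
theorem cN3 (c b : K) : Commute (nGLt chevG2 hF.xadd 3 c) (xGL chevG2 hF.xadd 10 b) ∧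
    Commute (nGLt chevG2 hF.xadd 3 c) (xGL chevG2 hF.xadd 1 b) := by
  rw [nGLt_eq, neg_vals.2.2.1]
  exact ⟨((c310 _ _).mul_left (c810 _ _)).mul_left (c310 _ _),
    ((c31 _ _).mul_left (c81 _ _)).mul_left (c31 _ _)⟩

omit [CharP K 3] in
theorem cN1 (c b : K) : Commute (nGLt chevG2 hF.xadd 1 c) (xGL chevG2 hF.xadd 8 b) ∧
    Commute (nGLt chevG2 hF.xadd 1 c) (xGL chevG2 hF.xadd 3 b) := by
  rw [nGLt_eq, neg_vals.2.2.2]
  exact ⟨((c81 _ _).symm.mul_left (c810 _ _).symm).mul_left (c81 _ _).symm,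
    ((c31 _ _).symm.mul_left (c310 _ _).symm).mul_left (c31 _ _).symm⟩

/-- conjugating a product of two commuting families -/
theorem conj_pair {G : Type*} [Group G] (N1 N2 a b a' b' : G) (h1 : N1 * a * N1⁻¹ = a') (h2 : N2 * b * N2⁻¹ = b')
    (k1 : Commute N2 a) (k2 : Commute N1 b') :
    (N1 * N2) * (a * b) * (N1 * N2)⁻¹ = a' * b' := by
  have e : (N1 * N2) * (a * b) * (N1 * N2)⁻¹ = N1 * (N2 * a) * b * N2⁻¹ * N1⁻¹ := by group
  rw [e, k1.eq]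
  have e2 : N1 * (a * N2) * b * N2⁻¹ * N1⁻¹ = (N1 * a * N1⁻¹) * (N1 * (N2 * b * N2⁻¹) * N1⁻¹) := by group
  rw [e2, h1, h2, k2.eq, mul_inv_cancel_right]

theorem pow_e_aux (t u : K) : (-(t⁻¹ ^ 2 * u)) ^ 3 ^ m = -(((t ^ 3 ^ m) ^ 2)⁻¹ * u ^ 3 ^ m) := by
  rw [pow_e_neg, mul_pow]
  congr 2
  rw [inv_pow, inv_pow, ← pow_mul, ← pow_mul, mul_comm]

/-- the relation `w(t) x(u) w(t)⁻¹ = y(-t⁻² u)` -/
theorem sW_conj (t u : K) (ht : t ≠ 0) :
    (sX m t * sY m (-t⁻¹) * sX m t) * sX m u * (sX m t * sY m (-t⁻¹) * sX m t)⁻¹ =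
      sY m (-(t⁻¹ ^ 2 * u)) := by
  rw [sW_eq]
  have hte : t ^ 3 ^ m ≠ 0 := pow_ne_zero _ ht
  have h1 := n_conj8 (t ^ 3 ^ m) (u ^ 3 ^ m) hte
  have h2 := n_conj10 t u ht
  have h := conj_pair _ _ _ _ _ _ h1 h2 (cN10 _ _).1 (cN8 _ _).2
  unfold sX sY at *
  rw [h, pow_e_aux, inv_pow]

/-- the relation `w'(t) y(u) w'(t)⁻¹ = x(-t⁻² u)` -/
theorem sW'_conj (t u : K) (ht : t ≠ 0) :
    (sY m t * sX m (-t⁻¹) * sY m t) * sY m u * (sY m t * sX m (-t⁻¹) * sY m t)⁻¹ =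
      sX m (-(t⁻¹ ^ 2 * u)) := by
  rw [sW'_eq]
  have hte : t ^ 3 ^ m ≠ 0 := pow_ne_zero _ ht
  have h1 := n_conj3 (t ^ 3 ^ m) (u ^ 3 ^ m) hte
  have h2 := n_conj1 t u ht
  have h := conj_pair _ _ _ _ _ _ h1 h2 (cN1 _ _).2 (cN3 _ _).1
  unfold sX sY at *
  rw [h, pow_e_aux, inv_pow]

/-- the images of the generators -/
noncomputable def genFun (p : Bool × K) : GL chevG2.Idx K := if p.1 then sX m p.2 else sY m p.2

/-- **the homomorphism `SL₂(K) → GL₁₄(K)`** -/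
theorem exists_hom [Finite K] : ∃ φ : Matrix.SpecialLinearGroup (Fin 2) K →* GL chevG2.Idx K,
    (∀ (A : Matrix.SpecialLinearGroup (Fin 2) K) (t : K),
      (A : Matrix (Fin 2) (Fin 2) K) = !![1, t; 0, 1] → φ A = sX m t) ∧
    (∀ (A : Matrix.SpecialLinearGroup (Fin 2) K) (t : K),
      (A : Matrix (Fin 2) (Fin 2) K) = !![1, 0; t, 1] → φ A = sY m t) := by
  obtain ⟨e, he1, he2⟩ := Cfsg.Agent.Helper15.StSL2.main K
  have hrels : ∀ r ∈ Cfsg.Agent.Helper15.StSL2.rels K,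
      FreeGroup.lift (genFun m) r = 1 := by
    intro r hr
    unfold Cfsg.Agent.Helper15.StSL2.rels at hr
    rcases hr with ⟨b, t, u, rfl⟩ | ⟨b, t, u, ht, rfl⟩
    · simp only [map_mul, map_inv, FreeGroup.lift_apply_of, genFun]
      cases b
      · simp only [Bool.false_eq_true, if_false]
        rw [sY_add, mul_inv_cancel]
      · simp only [if_true]
        rw [sX_add, mul_inv_cancel]
    · simp only [map_mul, map_inv, FreeGroup.lift_apply_of, genFun]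
      cases b
      · simp only [Bool.false_eq_true, if_false, Bool.not_false, if_true]
        rw [sW'_conj m t u ht, mul_inv_cancel]
      · simp only [if_true, Bool.not_true, Bool.false_eq_true, if_false]
        rw [sW_conj m t u ht, mul_inv_cancel]
  refine ⟨(PresentedGroup.toGroup hrels).comp e.symm.toMonoidHom, ?_, ?_⟩
  · intro A t hA
    have : A = e (PresentedGroup.of (true, t)) := Subtype.ext (by rw [hA, he1])
    rw [this]
    simp only [MonoidHom.comp_apply, MulEquiv.coe_toMonoidHom, MulEquiv.symm_apply_apply,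
      PresentedGroup.toGroup.of, genFun, if_true]
  · intro A t hA
    have : A = e (PresentedGroup.of (false, t)) := Subtype.ext (by rw [hA, he2])
    rw [this]
    simp only [MonoidHom.comp_apply, MulEquiv.coe_toMonoidHom, MulEquiv.symm_apply_apply,
      PresentedGroup.toGroup.of, genFun, Bool.false_eq_true, if_false]

end hom

end Cfsg.Agent.Lead.Tw.G2
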