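import Mathlib
import Cfsg.Agent.Lib.Lead.TwG2SL2a
import Cfsg.Agent.Lib.Lead.TwReeOrder

/-!
# The subgroup `SL₂(q)` of `²G₂(q)`: its image lies in the centraliser of the involution of `H¹`
-/

set_option autoImplicit false
set_option linter.unusedSectionVars false
set_option linter.unusedSimpArgs false
set_option linter.unusedVariables false
set_option linter.style.haveILetI false

namespace Cfsg.Agent.Lead.Tw.G2

open Cfsg Cfsg.Lie Cfsg.Agent.Lead.Chev Cfsg.Agent.Lead.ZPM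

section general

variable {K : Type*} [Field K] [Fintype K] [CharP K 3] {m : ℕ}

theorem sX_eq_word (t : K) : sX m t = wordGL chevG2 hF.xadd (reeWordU (3 ^ m) 0 t 0) := by
  rw [u1_word]
  unfold sX
  simp only [wordGL_cons, wordGL_nil, zero_pow_e, xGL_zero, one_mul, mul_one]

theorem sY_eq_word (t : K) : sY m t = wordGL chevG2 hF.xadd (reeWordV (3 ^ m) 0 (-t) 0) := by
  rw [reeWordV_eq]
  unfold sY
  have h0 : (0 : K) ^ (3 ^ m + 1) = 0 := zero_pow (Nat.succ_ne_zero _)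
  have h0' : (0 : K) ^ (2 * 3 ^ m + 1) = 0 := zero_pow (Nat.succ_ne_zero _)
  simp only [wordGL_cons, wordGL_nil, zero_pow_e, h0, h0', neg_zero, xGL_zero, one_mul, mul_one, zero_add,
    add_zero, pow_e_neg, neg_neg]

theorem sX_mem (t : K) : sX m t ∈ twistedG2 K (3 ^ m) := by
  rw [sX_eq_word]
  exact gen_mem _ (pos_mem _ _ _)

theorem sY_mem (t : K) : sY m t ∈ twistedG2 K (3 ^ m) := by
  rw [sY_eq_word]
  exact gen_mem _ (neg_mem _ _ _)

theorem sX_mem_U (t : K) : sX m t ∈ chevG2.posUnipotent K := by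
  unfold sX
  exact mul_mem (xGL_mem_posUnipotent chevG2 hF.xadd 8 (by decide) _) (xGL_mem_posUnipotent chevG2 hF.xadd 10 (by decide) _)

theorem sX_eq_one_iff (t : K) : sX m t = 1 ↔ t = 0 := by
  constructor
  · intro h
    rw [sX_eq_word] at h
    exact ((u_eq_one_iff (m := m) (0 : K) t 0).1 h).2.1
  · rintro rfl
    exact sX_zero m

theorem sX_injective : Function.Injective (sX (K := K) m) := by
  intro t u h
  have h1 : sX m (t - u) = 1 := by
    rw [sub_eq_add_neg, sX_add, ← sX_inv, h, mul_inv_cancel]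
  have := (sX_eq_one_iff _).1 h1
  exact sub_eq_zero.1 this

theorem sY_eq_one_iff (t : K) : sY m t = 1 ↔ t = 0 := by
  constructor
  · intro h
    have h1 := sW'_conj m (1 : K) t one_ne_zero
    rw [h, mul_one, mul_inv_cancel] at h1
    have h2 := (sX_eq_one_iff _).1 h1.symm
    simpa using h2
  · rintro rfl
    exact sY_zero m

/-- the characters of the involution of `H¹` -/
theorem chi_z (r : ℕ) : chi chevG2 (extC chevG2 (pc m (-1 : Kˣ))) r =
    (-1 : K) ^ (chevG2.cartan 0 r) * (-1 : K) ^ (chevG2.cartan 1 r) := by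
  rw [chi_p, Units.val_neg, Units.val_one, neg_one_pow_e]

theorem cartan_vals6 : chevG2.cartan 0 6 = -3 ∧ chevG2.cartan 1 6 = 2 ∧ chevG2.cartan 0 11 = 0 ∧
    chevG2.cartan 1 11 = 1 ∧ chevG2.cartan 0 7 = 2 ∧ chevG2.cartan 1 7 = -1 := by decide

theorem chi_z_vals : chi chevG2 (extC chevG2 (pc m (-1 : Kˣ))) 8 = (1 : K) ∧
    chi chevG2 (extC chevG2 (pc m (-1 : Kˣ))) 10 = (1 : K) ∧
    chi chevG2 (extC chevG2 (pc m (-1 : Kˣ))) 3 = (1 : K) ∧
    chi chevG2 (extC chevG2 (pc m (-1 : Kˣ))) 1 = (1 : K) ∧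
    chi chevG2 (extC chevG2 (pc m (-1 : Kˣ))) 6 = (-1 : K) ∧
    chi chevG2 (extC chevG2 (pc m (-1 : Kˣ))) 11 = (-1 : K) := by
  refine ⟨?_, ?_, ?_, ?_, ?_, ?_⟩
  · rw [chi_z, cartan_vals4.2.2.2.2.1, cartan_vals4.2.2.2.2.2.1]; norm_num
  · rw [chi_z, cartan_vals4.2.2.2.2.2.2.1, cartan_vals4.2.2.2.2.2.2.2]; norm_num
  · rw [chi_z, cartan_vals4.1, cartan_vals4.2.1]; norm_num
  · rw [chi_z, cartan_vals4.2.2.1, cartan_vals4.2.2.2.1]; norm_num
  · rw [chi_z, cartan_vals6.1, cartan_vals6.2.1]; norm_num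
  · rw [chi_z, cartan_vals6.2.2.1, cartan_vals6.2.2.2.1]; norm_num

/-- the involution of `H¹` centralises `X(t)` -/
theorem z_conj_sX (t : K) : pHom (m := m) (-1 : Kˣ) * sX m t * (pHom (m := m) (-1 : Kˣ))⁻¹ = sX m t := by
  have hcne : ∀ i < chevG2.rank, extC chevG2 (pc m (-1 : Kˣ)) i ≠ 0 :=
    fun i _ => extC_ne_zero chevG2 (pc m (-1 : Kˣ)) i
  have e : sX m t = wordGL chevG2 hF.xadd [(8, t ^ 3 ^ m), (10, t)] := by
    unfold sX
    rw [wordGL_cons, wordGL_singleton]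
  rw [e, ChevFacts'.conj_wordGL hF (pHom (m := m) (-1 : Kˣ)) _ hcne (pHom_val _) _ (by
      intro q hq
      simp only [List.mem_cons, List.not_mem_nil, or_false] at hq
      rcases hq with rfl | rfl <;> dsimp only <;> decide)]
  simp only [List.map_cons, List.map_nil, chi_z_vals.1, chi_z_vals.2.1, one_mul]

/-- the involution of `H¹` centralises `Y(t)` -/
theorem z_conj_sY (t : K) : pHom (m := m) (-1 : Kˣ) * sY m t * (pHom (m := m) (-1 : Kˣ))⁻¹ = sY m t := by
  have hcne : ∀ i < chevG2.rank, extC chevG2 (pc m (-1 : Kˣ)) i ≠ 0 :=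
    fun i _ => extC_ne_zero chevG2 (pc m (-1 : Kˣ)) i
  have e : sY m t = wordGL chevG2 hF.xadd [(3, t ^ 3 ^ m), (1, t)] := by
    unfold sY
    rw [wordGL_cons, wordGL_singleton]
  rw [e, ChevFacts'.conj_wordGL hF (pHom (m := m) (-1 : Kˣ)) _ hcne (pHom_val _) _ (by
      intro q hq
      simp only [List.mem_cons, List.not_mem_nil, or_false] at hq
      rcases hq with rfl | rfl <;> dsimp only <;> decide)]
  simp only [List.map_cons, List.map_nil, chi_z_vals.2.2.1, chi_z_vals.2.2.2.1, one_mul]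

theorem z_comm_sX (t : K) : Commute (pHom (m := m) (-1 : Kˣ)) (sX m t) := by
  have h := z_conj_sX (m := m) t
  rw [mul_inv_eq_iff_eq_mul] at h
  exact h

theorem z_comm_sY (t : K) : Commute (pHom (m := m) (-1 : Kˣ)) (sY m t) := by
  have h := z_conj_sY (m := m) t
  rw [mul_inv_eq_iff_eq_mul] at h
  exact h

/-- the centraliser of the involution in `U`: the fixed elements -/
theorem centralizer_z_U (t u v : K)
    (hcomm : pHom (m := m) (-1 : Kˣ) * wordGL chevG2 hF.xadd (reeWordU (3 ^ m) t u v) =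
      wordGL chevG2 hF.xadd (reeWordU (3 ^ m) t u v) * pHom (m := m) (-1 : Kˣ)) :
    t = 0 ∧ v = 0 := by
  have hcne : ∀ i < chevG2.rank, extC chevG2 (pc m (-1 : Kˣ)) i ≠ 0 :=
    fun i _ => extC_ne_zero chevG2 (pc m (-1 : Kˣ)) i
  have hconj : pHom (m := m) (-1 : Kˣ) * wordGL chevG2 hF.xadd (reeWordU (3 ^ m) t u v) *
      (pHom (m := m) (-1 : Kˣ))⁻¹ = wordGL chevG2 hF.xadd (reeWordU (3 ^ m) t u v) := by
    rw [hcomm]; group
  rw [u_normal, ChevFacts'.conj_wordGL hF (pHom (m := m) (-1 : Kˣ)) _ hcne (pHom_val _) _ (by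
    intro q hq
    simp only [List.mem_cons, List.not_mem_nil, or_false] at hq
    rcases hq with rfl | rfl | rfl | rfl | rfl | rfl <;> dsimp only <;> decide)] at hconj
  obtain ⟨k1, -, -, -, -, k6⟩ := inj_u _ _ _ _ _ _ _ _ _ _ _ _ hconj
  rw [chi_z_vals.2.2.2.2.1] at k1
  rw [chi_z_vals.2.2.2.2.2] at k6
  have h3 := three_eq_zero (K := K)
  dsimp only at k1 k6
  have ht : t = 0 := by linear_combination k1 + t * h3
  subst ht
  refine ⟨rfl, ?_⟩
  rw [zero_pow_e, zero_pow (by norm_num : 3 ≠ 0), zero_mul, add_zero] at k6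
  linear_combination k6 + v * h3

end general

/-! ### the Bruhat decomposition of `SL₂` -/

section sl2

variable {F : Type*} [Field F]

open Cfsg.Agent.Helper15 in
theorem sl2_cases (A : Matrix.SpecialLinearGroup (Fin 2) F) :
    (∃ p s r : F, s ≠ 0 ∧ A = StSL2.X p * (StSL2.X s * StSL2.Y (-s⁻¹) * StSL2.X s) * StSL2.X r) ∨
    (∃ p a : F, a ≠ 0 ∧ A = StSL2.X p * ((StSL2.X a * StSL2.Y (-a⁻¹) * StSL2.X a) *
        (StSL2.X (-1) * StSL2.Y (-(-1 : F)⁻¹) * StSL2.X (-1)))) := by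
  have hdet : A.1 0 0 * A.1 1 1 - A.1 0 1 * A.1 1 0 = 1 := by
    have := A.2
    rw [Matrix.det_fin_two] at this
    exact this
  by_cases hc : A.1 1 0 = 0
  · right
    have ha : A.1 0 0 ≠ 0 := by
      intro h
      rw [hc, h] at hdet
      simp at hdet
    refine ⟨A.1 0 0 * A.1 0 1, A.1 0 0, ha, ?_⟩
    apply Subtype.ext
    rw [Matrix.SpecialLinearGroup.coe_mul, Matrix.SpecialLinearGroup.coe_mul, StSL2.coe_WX _ ha,
      StSL2.coe_WX _ (by simp), StSL2.coe_X]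
    rw [hc, mul_zero, sub_zero] at hdet
    ext i j; fin_cases i <;> fin_cases j <;> simp [Matrix.mul_apply, Fin.sum_univ_two, hc] <;>
      field_simp <;> first | ring1 | linear_combination hdet | linear_combination -hdet
  · left
    have hs : -(A.1 1 0)⁻¹ ≠ 0 := neg_ne_zero.2 (inv_ne_zero hc)
    refine ⟨A.1 0 0 / A.1 1 0, -(A.1 1 0)⁻¹, A.1 1 1 / A.1 1 0, hs, ?_⟩
    apply Subtype.ext
    rw [Matrix.SpecialLinearGroup.coe_mul, Matrix.SpecialLinearGroup.coe_mul, StSL2.coe_WX _ hs,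
      StSL2.coe_X, StSL2.coe_X]
    ext i j; fin_cases i <;> fin_cases j <;> simp [Matrix.mul_apply, Fin.sum_univ_two] <;>
      field_simp <;> first | ring1 | linear_combination hdet | linear_combination -hdet

end sl2

/-! ### the image of `SL₂` -/

section image

variable {K : Type*} [Field K] [Fintype K] [CharP K 3] {m : ℕ} (hK : Fintype.card K = 3 ^ (2 * m + 1))
  (hperf : ∀ x : K, ∃ y : K, y ^ 3 = x) (f : K ≃+* K) (hf : ∀ t, f t = t ^ (3 ^ m))

omit [Fintype K] [CharP K 3] in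
theorem nn_comm (c d : K) : Commute (nGLt chevG2 hF.xadd 10 c) (nGLt chevG2 hF.xadd 8 d) := by
  have h := cN8 d
  rw [nGLt_eq chevG2 hF.xadd 10, neg_vals.2.1]
  exact (((h c).1.mul_right ((h (-c⁻¹)).2)).mul_right (h c).1).symm

/-- `w(a) w(-1) = h(a)` -/
theorem ww_eq_hElt (a : Kˣ) :
    (nGLt chevG2 hF.xadd 8 ((a : K) ^ 3 ^ m) * nGLt chevG2 hF.xadd 10 (a : K)) *
      (nGLt chevG2 hF.xadd 8 ((-1 : K) ^ 3 ^ m) * nGLt chevG2 hF.xadd 10 (-1 : K)) = hElt (m := m) a := by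
  unfold hElt
  rw [hGLt_eq, hGLt_eq, neg_one_pow_e]
  exact Commute.mul_mul_mul_comm (nn_comm _ _) _ _

omit [Fintype K] [CharP K 3] in
theorem sY_mem_neg (t : K) : sY m t ∈ chevG2.negUnipotent K := by
  unfold sY
  exact mul_mem (Subgroup.subset_closure ⟨3, _, by decide, rfl⟩) (Subgroup.subset_closure ⟨1, _, by decide, rfl⟩)

/-- the big cell -/
theorem w_not_borel (s p r : K) (hs : s ≠ 0) :
    sX m p * (nGLt chevG2 hF.xadd 8 (s ^ 3 ^ m) * nGLt chevG2 hF.xadd 10 s) * sX m r ∉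
      chevG2.borelSubgroup K := by
  intro hb
  set w := nGLt chevG2 hF.xadd 8 (s ^ 3 ^ m) * nGLt chevG2 hF.xadd 10 s with hw
  have hU : ∀ t : K, sX m t ∈ chevG2.borelSubgroup K := fun t => posUnipotent_le_borel _ (sX_mem_U t)
  have hwB : w ∈ chevG2.borelSubgroup K := by
    have e : w = (sX m p)⁻¹ * (sX m p * w * sX m r) * (sX m r)⁻¹ := by group
    rw [e]
    exact mul_mem (mul_mem (inv_mem (hU p)) hb) (inv_mem (hU r))
  have hc := sW_conj m s (1 : K) hs
  rw [sW_eq, ← hw] at hc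
  have hyB : sY m (-(s⁻¹ ^ 2 * 1)) ∈ chevG2.borelSubgroup K := by
    rw [← hc]
    exact mul_mem (mul_mem hwB (hU 1)) (inv_mem hwB)
  have h1 := hF.eq_one_of_neg_mul_diag_mem_borel _ (sY_mem_neg _) 1 (one_mem _) (by
    rw [mul_one]
    exact hyB)
  have h2 := (sY_eq_one_iff _).1 h1
  rw [mul_one, neg_eq_zero] at h2
  exact pow_ne_zero 2 (inv_ne_zero hs) h2

/-- separating the unipotent and the diagonal part -/
theorem split_UH (p : K) (a : Kˣ) (d : GL chevG2.Idx K) (hd : d ∈ chevG2.diagonalSubgroup K)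
    (h : sX m p * hElt (m := m) a = d) : p = 0 ∧ hElt (m := m) a = d := by
  have h1 : sX m p ∈ chevG2.posUnipotent K ⊓ chevG2.diagonalSubgroup K := by
    refine Subgroup.mem_inf.2 ⟨sX_mem_U p, ?_⟩
    have e : sX m p = d * (hElt (m := m) a)⁻¹ := by rw [← h]; group
    rw [e]
    exact mul_mem hd (inv_mem (hElt_mem_diagonal a))
  rw [posUnipotent_inf_diagonalSubgroup chevG2 (hF (K := K)).hall (hF (K := K)).posok, Subgroup.mem_bot] at h1
  refine ⟨(sX_eq_one_iff p).1 h1, ?_⟩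
  rw [h1, one_mul] at h
  exact h

include hK hf in
theorem theta_inj_one (t : K) (h : t ^ 3 ^ m = 1) : t = 1 := by
  have := frob_key hK f hf t
  rw [h, one_pow, one_pow] at this
  exact this.symm

include hK hf in
theorem unit_sq_theta (u : Kˣ) (h : (u ^ 3 ^ m) ^ 2 = 1) : u = 1 ∨ u = -1 := by
  have h1 : ((u : K) ^ 2) ^ 3 ^ m = 1 := by
    have := congrArg (fun x : Kˣ => (x : K)) h
    simp only [Units.val_pow_eq_pow_val, Units.val_one] at this
    rw [← pow_mul, mul_comm, pow_mul]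
    exact this
  have h2 := theta_inj_one hK f hf _ h1
  rw [pow_two] at h2
  rcases mul_self_eq_one_iff.1 h2 with h3 | h3
  · left
    exact Units.ext h3
  · right
    apply Units.ext
    rw [Units.val_neg, Units.val_one]
    exact h3

end image

/-! ### the homomorphism from `SL₂` -/

section hom

open Cfsg.Agent.Helper15

variable {K : Type*} [Field K] [Fintype K] [CharP K 3] {m : ℕ} (hK : Fintype.card K = 3 ^ (2 * m + 1))
  (hperf : ∀ x : K, ∃ y : K, y ^ 3 = x) (f : K ≃+* K) (hf : ∀ t, f t = t ^ (3 ^ m))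
  (φ : Matrix.SpecialLinearGroup (Fin 2) K →* GL chevG2.Idx K)
  (hφX : ∀ t : K, φ (StSL2.X t) = sX m t) (hφY : ∀ t : K, φ (StSL2.Y t) = sY m t)
include hφX hφY

theorem phi_W (s : K) : φ (StSL2.X s * StSL2.Y (-s⁻¹) * StSL2.X s) =
    nGLt chevG2 hF.xadd 8 (s ^ 3 ^ m) * nGLt chevG2 hF.xadd 10 s := by
  rw [map_mul, map_mul, hφX, hφY, sW_eq]

theorem phi_big (p s r : K) :
    φ (StSL2.X p * (StSL2.X s * StSL2.Y (-s⁻¹) * StSL2.X s) * StSL2.X r) =
      sX m p * (nGLt chevG2 hF.xadd 8 (s ^ 3 ^ m) * nGLt chevG2 hF.xadd 10 s) * sX m r := by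
  rw [map_mul, map_mul, phi_W φ hφX hφY, hφX, hφX]

theorem phi_small (p a : K) (ha : a ≠ 0) :
    φ (StSL2.X p * ((StSL2.X a * StSL2.Y (-a⁻¹) * StSL2.X a) *
        (StSL2.X (-1) * StSL2.Y (-(-1 : K)⁻¹) * StSL2.X (-1)))) =
      sX m p * hElt (m := m) (Units.mk0 a ha) := by
  rw [map_mul, map_mul, phi_W φ hφX hφY, phi_W φ hφX hφY, hφX, ← ww_eq_hElt]
  rfl

/-- the image lies in every subgroup containing the root elements -/
theorem phi_mem (H : Subgroup (GL chevG2.Idx K)) (hX : ∀ t : K, sX m t ∈ H) (hY : ∀ t : K, sY m t ∈ H)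
    (A : Matrix.SpecialLinearGroup (Fin 2) K) : φ A ∈ H := by
  have hW : ∀ s : K, φ (StSL2.X s * StSL2.Y (-s⁻¹) * StSL2.X s) ∈ H := by
    intro s
    rw [map_mul, map_mul, hφX, hφY]
    exact mul_mem (mul_mem (hX _) (hY _)) (hX _)
  rcases sl2_cases A with ⟨p, s, r, hs, rfl⟩ | ⟨p, a, ha, rfl⟩
  · rw [map_mul, map_mul, hφX, hφX]
    exact mul_mem (mul_mem (hX _) (hW _)) (hX _)
  · rw [map_mul, map_mul, hφX]
    exact mul_mem (hX _) (mul_mem (hW _) (hW _))

omit hφX hφY in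
theorem diag_one : StSL2.X (0 : K) * ((StSL2.X 1 * StSL2.Y (-(1 : K)⁻¹) * StSL2.X 1) *
    (StSL2.X (-1) * StSL2.Y (-(-1 : K)⁻¹) * StSL2.X (-1))) = 1 := by
  apply Subtype.ext
  rw [Matrix.SpecialLinearGroup.coe_mul, Matrix.SpecialLinearGroup.coe_mul, StSL2.coe_WX _ one_ne_zero,
    StSL2.coe_WX _ (by simp), StSL2.coe_X]
  ext i j; fin_cases i <;> fin_cases j <;> simp [Matrix.mul_apply, Fin.sum_univ_two]

omit hφX hφY in
theorem diag_neg_one : StSL2.X (0 : K) * ((StSL2.X (-1) * StSL2.Y (-(-1 : K)⁻¹) * StSL2.X (-1)) *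
    (StSL2.X (-1) * StSL2.Y (-(-1 : K)⁻¹) * StSL2.X (-1))) = -1 := by
  apply Subtype.ext
  rw [Matrix.SpecialLinearGroup.coe_mul, Matrix.SpecialLinearGroup.coe_mul,
    StSL2.coe_WX _ (by simp), StSL2.coe_X]
  ext i j; fin_cases i <;> fin_cases j <;> simp [Matrix.mul_apply, Fin.sum_univ_two]

include hK hf in
/-- the kernel -/
theorem phi_eq_one (A : Matrix.SpecialLinearGroup (Fin 2) K) (h : φ A = 1) : A = 1 ∨ A = -1 := by
  rcases sl2_cases A with ⟨p, s, r, hs, rfl⟩ | ⟨p, a, ha, rfl⟩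
  · exfalso
    rw [phi_big φ hφX hφY] at h
    exact w_not_borel s p r hs (by rw [h]; exact one_mem _)
  · rw [phi_small φ hφX hφY p a ha] at h
    obtain ⟨hp, hh⟩ := split_UH p _ 1 (one_mem _) h
    obtain ⟨e1, e2⟩ := hElt_param (Units.mk0 a ha) 1 (by rw [hh, map_one])
    rw [Pi.one_apply] at e1 e2
    have e3 : ((Units.mk0 a ha) ^ 3 ^ m) ^ 2 = 1 := by
      have : ((Units.mk0 a ha) ^ 3 ^ m) ^ 2 =
          (((Units.mk0 a ha) ^ 3 ^ m) ^ 3 * Units.mk0 a ha) * ((Units.mk0 a ha) ^ 3 ^ m * Units.mk0 a ha)⁻¹ := by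
        group
      rw [this, e1, e2, inv_one, mul_one]
    subst hp
    rcases unit_sq_theta hK f hf _ e3 with h1 | h1
    · left
      have ha1 : a = 1 := by
        have := congrArg (fun x : Kˣ => (x : K)) h1
        simpa using this
      subst ha1
      exact diag_one
    · right
      have ha1 : a = -1 := by
        have := congrArg (fun x : Kˣ => (x : K)) h1
        simpa using this
      subst ha1
      exact diag_neg_one

omit hφX hφY in
theorem hElt_neg_one : hElt (m := m) (-1 : Kˣ) = 1 := by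
  rw [hElt_eq]
  have hodd : (-1 : Kˣ) ^ 3 ^ m = -1 := Odd.neg_one_pow (Odd.pow (by decide))
  have : (fun i : Fin chevG2.rank => ((-1 : Kˣ) ^ 3 ^ m) ^ (([1, 3] : List ℤ).getD i.val 0) *
      (-1 : Kˣ) ^ (([1, 1] : List ℤ).getD i.val 0)) = 1 := by
    funext i
    have hi : i = ⟨0, by decide⟩ ∨ i = ⟨1, by decide⟩ := by
      rcases i with ⟨i, hi'⟩
      have hi2 : i < 2 := hi'
      interval_cases i <;> simp
    rcases hi with rfl | rfl
    · simp [hodd]
    · simp [hodd]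
      norm_num [zpow_ofNat]
  rw [this, map_one]

theorem phi_neg_one : φ (-1) = 1 := by
  rw [← diag_neg_one, phi_small φ hφX hφY 0 (-1) (by simp), sX_zero, one_mul]
  have : Units.mk0 (-1 : K) (by simp) = (-1 : Kˣ) := by
    apply Units.ext
    simp
  rw [this, hElt_neg_one]

include hK hf in
/-- the involution of `H¹` is not in the image -/
theorem phi_ne_z (A : Matrix.SpecialLinearGroup (Fin 2) K) : φ A ≠ pHom (m := m) (-1 : Kˣ) := by
  intro h
  have hzd : pHom (m := m) (-1 : Kˣ) ∈ chevG2.diagonalSubgroup K := by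
    rw [← zElt_eq_pHom]
    exact zElt_mem_diagonal
  rcases sl2_cases A with ⟨p, s, r, hs, rfl⟩ | ⟨p, a, ha, rfl⟩
  · rw [phi_big φ hφX hφY] at h
    exact w_not_borel s p r hs (by rw [h]; exact diagonal_le_borel chevG2 hzd)
  · rw [phi_small φ hφX hφY p a ha] at h
    obtain ⟨hp, hh⟩ := split_UH p _ _ hzd h
    obtain ⟨e1, e2⟩ := hElt_param (Units.mk0 a ha) (pc m (-1 : Kˣ)) (by rw [hh, pHom_apply])
    have hodd : (-1 : Kˣ) ^ 3 ^ m = -1 := Odd.neg_one_pow (Odd.pow (by decide))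
    have c0 : pc m (-1 : Kˣ) ⟨0, by decide⟩ = -1 := by simp [pc, hodd]
    have c1 : pc m (-1 : Kˣ) ⟨1, by decide⟩ = -1 := by simp [pc]
    rw [c0] at e1
    rw [c1] at e2
    have e3 : ((Units.mk0 a ha) ^ 3 ^ m) ^ 2 = 1 := by
      have : ((Units.mk0 a ha) ^ 3 ^ m) ^ 2 =
          (((Units.mk0 a ha) ^ 3 ^ m) ^ 3 * Units.mk0 a ha) * ((Units.mk0 a ha) ^ 3 ^ m * Units.mk0 a ha)⁻¹ := by
        group
      rw [this, e1, e2, mul_inv_cancel]
    rcases unit_sq_theta hK f hf _ e3 with h1 | h1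
    · rw [h1, one_pow, one_mul] at e1
      exact neg_one_ne_one e1.symm
    · rw [h1, hodd] at e1
      have : (-1 : Kˣ) * -1 = 1 := by simp
      rw [this] at e1
      exact neg_one_ne_one e1.symm

end hom

/-! ### the centraliser of the involution: the upper bound -/

section cent

variable {K : Type*} [Field K] [Fintype K] [CharP K 3] {m : ℕ} (hK : Fintype.card K = 3 ^ (2 * m + 1))
  (hperf : ∀ x : K, ∃ y : K, y ^ 3 = x) (f : K ≃+* K) (hf : ∀ t, f t = t ^ (3 ^ m))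
include hK hperf hf

omit hK hperf hf [Fintype K] [CharP K 3] in
theorem pHom_comm (x y : Kˣ) : pHom (m := m) x * pHom (m := m) y = pHom (m := m) y * pHom (m := m) x := by
  rw [← map_mul, ← map_mul, mul_comm]

omit hK hperf hf [Fintype K] in
theorem z_mul_self : pHom (m := m) (-1 : Kˣ) * pHom (m := m) (-1 : Kˣ) = 1 := by
  rw [← map_mul]
  have : (-1 : Kˣ) * -1 = 1 := by simp
  rw [this, map_one]

omit hK hperf hf [Fintype K] in
theorem z_ne_one : pHom (m := m) (-1 : Kˣ) ≠ 1 := by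
  intro h
  have h2 : pHom (m := m) (-1 : Kˣ) = pHom (m := m) (1 : Kˣ) := by rw [h, map_one]
  exact neg_one_ne_one (pHom_injective h2)

/-- an involution of `H¹` is the element `z` -/
theorem eq_z_of_sq (d : GL chevG2.Idx K) (hd : d ∈ chevG2.diagonalSubgroup K ⊓ twistedG2 K (3 ^ m))
    (hd1 : d ≠ 1) (hd2 : d * d = 1) : d = pHom (m := m) (-1 : Kˣ) := by
  obtain ⟨y, rfl⟩ := exists_param hK hperf f hf d hd
  rw [← map_mul] at hd2
  have h1 : y * y = 1 := pHom_injective (by rw [hd2, map_one])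
  have h2 : (y : K) * (y : K) = 1 := by
    have := congrArg (fun x : Kˣ => (x : K)) h1
    simpa using this
  rcases mul_self_eq_one_iff.1 h2 with h3 | h3
  · exfalso
    apply hd1
    have : y = 1 := Units.ext h3
    rw [this, map_one]
  · have : y = -1 := by
      apply Units.ext
      rw [Units.val_neg, Units.val_one]
      exact h3
    rw [this]

/-- the Weyl element centralises the involution -/
theorem n0_conj_z : n₀ K * pHom (m := m) (-1 : Kˣ) * (n₀ K)⁻¹ = pHom (m := m) (-1 : Kˣ) := by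
  have hz := pHom_mem hK hperf f hf (-1 : Kˣ)
  have hn := n₀_mem hK hperf f hf
  apply eq_z_of_sq hK hperf f hf
  · exact Subgroup.mem_inf.2 ⟨hF.monomial_conj_mem_diagonal _ (n₀_mem_monomial (K := K)) _ hz.1,
      mul_mem (mul_mem hn hz.2) (inv_mem hn)⟩
  · intro h
    apply z_ne_one (K := K) (m := m)
    have : pHom (m := m) (-1 : Kˣ) = (n₀ K)⁻¹ * (n₀ K * pHom (m := m) (-1 : Kˣ) * (n₀ K)⁻¹) * n₀ K := by group
    rw [this, h]
    group
  · have : n₀ K * pHom (m := m) (-1 : Kˣ) * (n₀ K)⁻¹ * (n₀ K * pHom (m := m) (-1 : Kˣ) * (n₀ K)⁻¹) =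
        n₀ K * (pHom (m := m) (-1 : Kˣ) * pHom (m := m) (-1 : Kˣ)) * (n₀ K)⁻¹ := by group
    rw [this, z_mul_self]
    group

/-- the centraliser of the involution in `U¹` -/
theorem cent_U (u : GL chevG2.Idx K) (hu : u ∈ chevG2.posUnipotent K ⊓ twistedG2 K (3 ^ m))
    (hc : pHom (m := m) (-1 : Kˣ) * u = u * pHom (m := m) (-1 : Kˣ)) : ∃ s : K, u = sX m s := by
  obtain ⟨t, u', v, rfl⟩ := exists_coords hK hperf f hf u hu
  obtain ⟨rfl, rfl⟩ := centralizer_z_U t u' v hc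
  exact ⟨u', (sX_eq_word u').symm⟩

/-- the centraliser of the involution in `B¹` -/
theorem cent_borel (g : GL chevG2.Idx K) (hgB : g ∈ chevG2.borelSubgroup K) (hgG : g ∈ twistedG2 K (3 ^ m))
    (hc : pHom (m := m) (-1 : Kˣ) * g = g * pHom (m := m) (-1 : Kˣ)) :
    ∃ s : K, ∃ h ∈ chevG2.diagonalSubgroup K ⊓ twistedG2 K (3 ^ m), g = sX m s * h := by
  obtain ⟨u, hu, d, hd, rfl⟩ := (clsData hK hperf f hf).borel_decomp hS hC g hgB hgG
  obtain ⟨y, rfl⟩ := exists_param hK hperf f hf d hd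
  have hcu : pHom (m := m) (-1 : Kˣ) * u = u * pHom (m := m) (-1 : Kˣ) := by
    have h1 : pHom (m := m) (-1 : Kˣ) * u * pHom (m := m) y = u * pHom (m := m) (-1 : Kˣ) * pHom (m := m) y := by
      rw [mul_assoc, hc, mul_assoc, mul_assoc, pHom_comm]
    exact mul_right_cancel h1
  obtain ⟨s, rfl⟩ := cent_U hK hperf f hf u hu hcu
  exact ⟨s, _, hd, rfl⟩

/-- the centraliser of the involution in the big cell -/
theorem cent_big (g : GL chevG2.Idx K) (hgB : g ∉ chevG2.borelSubgroup K) (hgG : g ∈ twistedG2 K (3 ^ m))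
    (hc : pHom (m := m) (-1 : Kˣ) * g = g * pHom (m := m) (-1 : Kˣ)) :
    ∃ r s : K, ∃ h ∈ chevG2.diagonalSubgroup K ⊓ twistedG2 K (3 ^ m),
      g = sX m r * (n₀ K)⁻¹ * (sX m s * h) := by
  obtain ⟨u, hu, β, hβ, rfl⟩ := bruhat_inv hK hperf f hf g hgG hgB
  set z := pHom (m := m) (-1 : Kˣ) with hz
  have hzm := pHom_mem hK hperf f hf (-1 : Kˣ)
  have hN : z * n₀ K * z⁻¹ = n₀ K := by
    have h1 := n0_conj_z hK hperf f hf
    rw [← hz] at h1
    have h2 : n₀ K * z = z * n₀ K := by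
      rw [mul_inv_eq_iff_eq_mul] at h1
      exact h1
    rw [← h2]
    group
  have hE : z * (u * (n₀ K)⁻¹ * β) * z⁻¹ = u * (n₀ K)⁻¹ * β := by
    rw [hc]
    group
  have e1 : z * u * z⁻¹ = (z * (u * (n₀ K)⁻¹ * β) * z⁻¹) * (z * β * z⁻¹)⁻¹ * (z * n₀ K * z⁻¹) := by group
  rw [hE, hN] at e1
  have key : n₀ K * (u⁻¹ * (z * u * z⁻¹)) * (n₀ K)⁻¹ = β * (z * β * z⁻¹)⁻¹ := by
    rw [e1]
    group
  have hzB : z ∈ chevG2.borelSubgroup K := diagonal_le_borel chevG2 hzm.1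
  have hmemU : u⁻¹ * (z * u * z⁻¹) ∈ chevG2.posUnipotent K :=
    mul_mem (inv_mem hu.1) (conj_mem_posUnipotent chevG2 (hF (K := K)).hall (hF (K := K)).hconj z hzm.1 u hu.1)
  have h1 := conj_eq_one hK hperf f hf _ hmemU (by
    rw [key]
    exact mul_mem hβ.1 (inv_mem (mul_mem (mul_mem hzB hβ.1) (inv_mem hzB))))
  have hcu : z * u = u * z := by
    have : z * u * z⁻¹ = u := by
      have h2 : z * u * z⁻¹ = u * (u⁻¹ * (z * u * z⁻¹)) := by group
      rw [h2, h1, mul_one]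
    rw [mul_inv_eq_iff_eq_mul] at this
    exact this
  have hcβ : z * β = β * z := by
    rw [h1, mul_one, mul_inv_cancel] at key
    have h2 : z * β * z⁻¹ = β := by
      have h3 : β = (β * (z * β * z⁻¹)⁻¹) * (z * β * z⁻¹) := by group
      rw [← key, one_mul] at h3
      exact h3.symm
    rw [mul_inv_eq_iff_eq_mul] at h2
    exact h2
  obtain ⟨r, rfl⟩ := cent_U hK hperf f hf u hu hcu
  obtain ⟨s, h, hh, rfl⟩ := cent_borel hK hperf f hf β hβ.1 hβ.2 hcβ
  exact ⟨r, s, h, hh, rfl⟩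

end cent

end Cfsg.Agent.Lead.Tw.G2
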