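import Mathlib
import Cfsg.Agent.Lib.Lead.TwG2SL2b
import Cfsg.Agent.Lib.Helper2.CardSL

/-!
# The centraliser of an involution of `²G₂(q)` is `Z₂ × PSL₂(q)`
-/

set_option autoImplicit false
set_option linter.unusedSectionVars false
set_option linter.unusedSimpArgs false
set_option linter.unusedVariables false
set_option linter.style.haveILetI false

namespace Cfsg.Agent.Lead.Tw.G2

open Cfsg Cfsg.Lie Cfsg.Agent.Lead.Chev Cfsg.Agent.Lead.ZPM

/-! ### generalities -/

section gen

/-- the homomorphism from `Z₂` defined by an involution -/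
def zmod2Hom {G : Type*} [Group G] (g : G) (hg : g ^ 2 = 1) : Multiplicative (ZMod 2) →* G :=
  MonoidHom.mk' (fun x => g ^ (Multiplicative.toAdd x).val) (by
    intro x y
    rw [toAdd_mul, ZMod.val_add, ← pow_add, ← pow_eq_pow_mod _ hg])

theorem zmod2Hom_apply {G : Type*} [Group G] (g : G) (hg : g ^ 2 = 1) (x : Multiplicative (ZMod 2)) :
    zmod2Hom g hg x = g ^ (Multiplicative.toAdd x).val := rfl

theorem zmod2_cases (x : Multiplicative (ZMod 2)) : x = 1 ∨ x = Multiplicative.ofAdd 1 := by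
  have h : ∀ y : ZMod 2, y = 0 ∨ y = 1 := by decide
  rcases h (Multiplicative.toAdd x) with h0 | h1
  · left
    exact Multiplicative.toAdd.injective h0
  · right
    exact Multiplicative.toAdd.injective h1

theorem zmod2Hom_one' {G : Type*} [Group G] (g : G) (hg : g ^ 2 = 1) :
    zmod2Hom g hg (Multiplicative.ofAdd 1) = g := by
  rw [zmod2Hom_apply, toAdd_ofAdd, ZMod.val_one, pow_one]

theorem sl2_mem_center {F : Type*} [Field F] (A : Matrix.SpecialLinearGroup (Fin 2) F) :
    A ∈ Subgroup.center (Matrix.SpecialLinearGroup (Fin 2) F) ↔ A = 1 ∨ A = -1 := by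
  rw [Matrix.SpecialLinearGroup.mem_center_iff]
  constructor
  · rintro ⟨r, hr, hA⟩
    rw [Fintype.card_fin, pow_two] at hr
    rcases mul_self_eq_one_iff.1 hr with h | h
    · left
      apply Subtype.ext
      rw [← hA, h]
      simp
    · right
      apply Subtype.ext
      rw [← hA, h]
      ext i j
      fin_cases i <;> fin_cases j <;> simp
  · rintro (rfl | rfl)
    · exact ⟨1, one_pow _, by simp⟩
    · refine ⟨-1, by simp, ?_⟩
      ext i j
      fin_cases i <;> fin_cases j <;> simp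

end gen

/-! ### an elementary abelian subgroup of order `8` of `Z₂ × PSL₂(F)` -/

section klein

variable {F : Type*} [Field F]

/-- the Weyl element of `SL₂` -/
def wM (F : Type*) [Field F] : Matrix.SpecialLinearGroup (Fin 2) F :=
  ⟨!![0, 1; -1, 0], by simp [Matrix.det_fin_two]⟩

/-- a second element of order `4` -/
def sM (α β : F) (h : α ^ 2 + β ^ 2 = -1) : Matrix.SpecialLinearGroup (Fin 2) F :=
  ⟨!![α, β; β, -α], by
    rw [Matrix.det_fin_two]
    simp only [Matrix.of_apply, Matrix.cons_val', Matrix.cons_val_zero, Matrix.cons_val_one,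
      Matrix.cons_val_fin_one]
    linear_combination -h⟩

theorem wM_sq : wM F * wM F = -1 := by
  apply Subtype.ext
  rw [Matrix.SpecialLinearGroup.coe_mul]
  ext i j
  fin_cases i <;> fin_cases j <;> simp [wM, Matrix.mul_apply, Fin.sum_univ_two]

theorem sM_sq (α β : F) (h : α ^ 2 + β ^ 2 = -1) : sM α β h * sM α β h = -1 := by
  apply Subtype.ext
  rw [Matrix.SpecialLinearGroup.coe_mul]
  ext i j
  fin_cases i <;> fin_cases j <;> simp [sM, Matrix.mul_apply, Fin.sum_univ_two] <;>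
    first | linear_combination h | ring1

theorem wM_sM (α β : F) (h : α ^ 2 + β ^ 2 = -1) : wM F * sM α β h = -(sM α β h * wM F) := by
  apply Subtype.ext
  rw [Matrix.SpecialLinearGroup.coe_neg, Matrix.SpecialLinearGroup.coe_mul, Matrix.SpecialLinearGroup.coe_mul]
  ext i j
  fin_cases i <;> fin_cases j <;> simp [wM, sM, Matrix.mul_apply, Fin.sum_univ_two]

theorem wsM_sq (α β : F) (h : α ^ 2 + β ^ 2 = -1) :
    (wM F * sM α β h) * (wM F * sM α β h) = -1 := by
  have e : (wM F * sM α β h) * (wM F * sM α β h) = wM F * (sM α β h * wM F) * sM α β h := by group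
  have e2 : sM α β h * wM F = -(wM F * sM α β h) := by rw [wM_sM, neg_neg]
  rw [e, e2, mul_neg, neg_mul, ← mul_assoc, wM_sq, mul_assoc, sM_sq]
  simp

theorem neg_one_ne_one_sl2 (h2 : (2 : F) ≠ 0) : (-1 : Matrix.SpecialLinearGroup (Fin 2) F) ≠ 1 := by
  intro h
  have h1 := congrArg (fun A : Matrix.SpecialLinearGroup (Fin 2) F => (A : Matrix (Fin 2) (Fin 2) F) 0 0) h
  simp only [Matrix.SpecialLinearGroup.coe_neg, Matrix.SpecialLinearGroup.coe_one, Matrix.neg_apply,
    Matrix.one_apply_eq] at h1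
  apply h2
  linear_combination -h1

/-- an element of `SL₂` with square `-1` is not central -/
theorem not_center_of_sq (h2 : (2 : F) ≠ 0) (A : Matrix.SpecialLinearGroup (Fin 2) F) (hA : A * A = -1) :
    (QuotientGroup.mk A : Matrix.ProjectiveSpecialLinearGroup (Fin 2) F) ≠ 1 := by
  intro h
  have h1 := (QuotientGroup.eq_one_iff A).1 h
  rcases (sl2_mem_center A).1 h1 with rfl | rfl
  · rw [mul_one] at hA
    exact neg_one_ne_one_sl2 h2 hA.symm
  · rw [neg_mul_neg, mul_one] at hA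
    exact neg_one_ne_one_sl2 h2 hA.symm

theorem mk_neg_one : (QuotientGroup.mk (-1 : Matrix.SpecialLinearGroup (Fin 2) F) :
    Matrix.ProjectiveSpecialLinearGroup (Fin 2) F) = 1 :=
  (QuotientGroup.eq_one_iff _).2 ((sl2_mem_center _).2 (Or.inr rfl))

theorem mk_neg (A : Matrix.SpecialLinearGroup (Fin 2) F) :
    (QuotientGroup.mk (-A) : Matrix.ProjectiveSpecialLinearGroup (Fin 2) F) = QuotientGroup.mk A := by
  have : -A = (-1) * A := by rw [neg_one_mul]
  rw [this, QuotientGroup.mk_mul, mk_neg_one, one_mul]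

/-- **an elementary abelian subgroup of order `8`** -/
theorem exists_elementary8 (h2 : (2 : F) ≠ 0) (α β : F) (h : α ^ 2 + β ^ 2 = -1) :
    ∃ V : Subgroup (Multiplicative (ZMod 2) × Matrix.ProjectiveSpecialLinearGroup (Fin 2) F),
      Nat.card V = 8 ∧ ∀ x ∈ V, x * x = 1 := by
  set wb : Matrix.ProjectiveSpecialLinearGroup (Fin 2) F := QuotientGroup.mk (wM F) with hwb
  set sb : Matrix.ProjectiveSpecialLinearGroup (Fin 2) F := QuotientGroup.mk (sM α β h) with hsb
  have hw2 : wb ^ 2 = 1 := by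
    rw [pow_two, hwb, ← QuotientGroup.mk_mul, wM_sq, mk_neg_one]
  have hs2 : sb ^ 2 = 1 := by
    rw [pow_two, hsb, ← QuotientGroup.mk_mul, sM_sq, mk_neg_one]
  have hws : Commute wb sb := by
    show wb * sb = sb * wb
    rw [hwb, hsb, ← QuotientGroup.mk_mul, ← QuotientGroup.mk_mul, wM_sM, mk_neg]
  have hw1 : wb ≠ 1 := not_center_of_sq h2 _ wM_sq
  have hs1 : sb ≠ 1 := not_center_of_sq h2 _ (sM_sq α β h)
  have hws1 : wb * sb ≠ 1 := by
    rw [hwb, hsb, ← QuotientGroup.mk_mul]
    exact not_center_of_sq h2 _ (wsM_sq α β h)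
  let κ : Multiplicative (ZMod 2) × Multiplicative (ZMod 2) →* Matrix.ProjectiveSpecialLinearGroup (Fin 2) F :=
    MonoidHom.noncommCoprod (zmod2Hom wb hw2) (zmod2Hom sb hs2) (fun x y => by
      rw [zmod2Hom_apply, zmod2Hom_apply]
      exact (hws.pow_left _).pow_right _)
  have hκ : Function.Injective κ := by
    rw [injective_iff_map_eq_one]
    rintro ⟨x, y⟩ hxy
    rw [MonoidHom.noncommCoprod_apply] at hxy
    dsimp only at hxy
    rcases zmod2_cases x with rfl | rfl <;> rcases zmod2_cases y with rfl | rfl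
    · rfl
    · exfalso
      rw [zmod2Hom_one', map_one, one_mul] at hxy
      exact hs1 hxy
    · exfalso
      rw [zmod2Hom_one', map_one, mul_one] at hxy
      exact hw1 hxy
    · exfalso
      rw [zmod2Hom_one', zmod2Hom_one'] at hxy
      exact hws1 hxy
  let ι : Multiplicative (ZMod 2) × (Multiplicative (ZMod 2) × Multiplicative (ZMod 2)) →*
      Multiplicative (ZMod 2) × Matrix.ProjectiveSpecialLinearGroup (Fin 2) F :=
    MonoidHom.prodMap (MonoidHom.id _) κ
  have hι : Function.Injective ι := Function.Injective.prodMap Function.injective_id hκ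
  refine ⟨ι.range, ?_, ?_⟩
  · rw [Nat.card_congr (MonoidHom.ofInjective hι).toEquiv.symm, Nat.card_prod, Nat.card_prod,
      Nat.card_eq_fintype_card, Fintype.card_multiplicative, ZMod.card]
  · rintro x ⟨y, rfl⟩
    rw [← map_mul]
    have hy : y * y = 1 := by
      have hz : ∀ t : Multiplicative (ZMod 2), t * t = 1 := by
        intro t
        rcases zmod2_cases t with rfl | rfl
        · rfl
        · rfl
      obtain ⟨y1, y2, y3⟩ := y
      simp only [Prod.mk_mul_mk, hz]
      rfl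
    rw [hy, map_one]

end klein

section finite

open Cfsg.Agent.Helper15

variable {K : Type*} [Field K] [Fintype K] [CharP K 3] {m : ℕ} (hK : Fintype.card K = 3 ^ (2 * m + 1))
  (hperf : ∀ x : K, ∃ y : K, y ^ 3 = x) (f : K ≃+* K) (hf : ∀ t, f t = t ^ (3 ^ m))
include hK hperf hf

/-- the upper bound for the centraliser of the involution -/
theorem card_centralizer_le (a : ↥(twistedG2 K (3 ^ m)))
    (ha : (a : GL chevG2.Idx K) = pHom (m := m) (-1 : Kˣ)) :
    Nat.card ↥(Subgroup.centralizer {a}) ≤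
      (3 ^ (2 * m + 1) + 1) * 3 ^ (2 * m + 1) * (3 ^ (2 * m + 1) - 1) := by
  classical
  let F : (Option K × K) × ↥(chevG2.diagonalSubgroup K ⊓ twistedG2 K (3 ^ m)) → GL chevG2.Idx K := fun x =>
    match x.1.1 with
    | none => sX m x.1.2 * (x.2 : GL chevG2.Idx K)
    | some r => sX m r * (n₀ K)⁻¹ * (sX m x.1.2 * (x.2 : GL chevG2.Idx K))
  have hsurj : ∀ g : ↥(Subgroup.centralizer {a}),
      ∃ x, F x = ((g : ↥(twistedG2 K (3 ^ m))) : GL chevG2.Idx K) := by
    intro g
    have hc : pHom (m := m) (-1 : Kˣ) * ((g : ↥(twistedG2 K (3 ^ m))) : GL chevG2.Idx K) =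
        ((g : ↥(twistedG2 K (3 ^ m))) : GL chevG2.Idx K) * pHom (m := m) (-1 : Kˣ) := by
      have h1 := (Subgroup.mem_centralizer_iff.1 g.2) a (Set.mem_singleton a)
      have h2 := congrArg Subtype.val h1
      rw [Subgroup.coe_mul, Subgroup.coe_mul, ha] at h2
      exact h2
    by_cases hB : ((g : ↥(twistedG2 K (3 ^ m))) : GL chevG2.Idx K) ∈ chevG2.borelSubgroup K
    · obtain ⟨s, h, hh, e⟩ := cent_borel hK hperf f hf _ hB g.1.2 hc
      exact ⟨((none, s), ⟨h, hh⟩), e.symm⟩
    · obtain ⟨r, s, h, hh, e⟩ := cent_big hK hperf f hf _ hB g.1.2 hc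
      exact ⟨((some r, s), ⟨h, hh⟩), e.symm⟩
  choose c hc using hsurj
  have hinj : Function.Injective c := by
    intro g g' h
    have h1 : F (c g) = F (c g') := by rw [h]
    rw [hc, hc] at h1
    exact Subtype.ext (Subtype.ext h1)
  have h1 := Nat.card_le_card_of_injective c hinj
  have h2 : Nat.card ((Option K × K) × ↥(chevG2.diagonalSubgroup K ⊓ twistedG2 K (3 ^ m))) =
      (3 ^ (2 * m + 1) + 1) * 3 ^ (2 * m + 1) * (3 ^ (2 * m + 1) - 1) := by
    rw [Nat.card_prod, Nat.card_prod, Finite.card_option, Nat.card_eq_fintype_card, hK,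
      card_H hK hperf f hf]
  rw [h2] at h1
  exact h1

omit hperf hf in
theorem two_mul_card_psl : 2 * Nat.card (Matrix.ProjectiveSpecialLinearGroup (Fin 2) K) =
    (3 ^ (2 * m + 1) + 1) * 3 ^ (2 * m + 1) * (3 ^ (2 * m + 1) - 1) := by
  have h := Cfsg.Agent.Helper2.card_PSL_mul (F := K) 2 (by norm_num)
  rw [Fin.prod_univ_two, hK] at h
  have hodd : Odd (3 ^ (2 * m + 1)) := Odd.pow (by decide)
  obtain ⟨k, hk⟩ := hodd
  set N := Nat.card (Matrix.ProjectiveSpecialLinearGroup (Fin 2) K) with hN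
  rw [hk] at h ⊢
  have e1 : 2 * k + 1 - 1 = 2 * k := by omega
  have hg : Nat.gcd 2 (2 * k) = 2 := Nat.gcd_eq_left (dvd_mul_right 2 k)
  have e2 : (2 * k + 1) ^ 2 - (2 * k + 1) ^ ((0 : Fin 2) : ℕ) = 2 * k * (2 * k + 1 + 1) := by
    have : (2 * k + 1) ^ 2 = 2 * k * (2 * k + 1 + 1) + 1 := by ring
    rw [this]
    simp
  have e3 : (2 * k + 1) ^ 2 - (2 * k + 1) ^ ((1 : Fin 2) : ℕ) = (2 * k + 1) * (2 * k) := by
    have : (2 * k + 1) ^ 2 = (2 * k + 1) * (2 * k) + (2 * k + 1) := by ring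
    rw [this]
    simp
  rw [e1, hg, e2, e3] at h
  rw [e1]
  have hk0 : 0 < 2 * k := by
    rcases Nat.eq_zero_or_pos k with h0 | h0
    · exfalso
      rw [h0] at hk
      have : 3 ≤ 3 ^ (2 * m + 1) := by
        calc 3 = 3 ^ 1 := by norm_num
          _ ≤ 3 ^ (2 * m + 1) := Nat.pow_le_pow_right (by norm_num) (by omega)
      omega
    · omega
  have h3 : 2 * k * (2 * N) = 2 * k * ((2 * k + 1 + 1) * (2 * k + 1) * (2 * k)) := by
    rw [← mul_assoc 2, mul_comm 2 (2 * k), mul_assoc (2 * k)] at h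
    rw [mul_comm (2 * k) (2 * N)]
    linarith
  exact Nat.eq_of_mul_eq_mul_left hk0 h3

/-- **the centraliser of the involution of `H¹` is `Z₂ × PSL₂(q)`** -/
theorem exists_centralizer_equiv (a : ↥(twistedG2 K (3 ^ m)))
    (ha : (a : GL chevG2.Idx K) = pHom (m := m) (-1 : Kˣ)) :
    ∃ e : ↥(Subgroup.centralizer {a}) ≃*
        Multiplicative (ZMod 2) × Matrix.ProjectiveSpecialLinearGroup (Fin 2) K,
      ∀ h : a ∈ Subgroup.centralizer {a}, e ⟨a, h⟩ = (Multiplicative.ofAdd 1, 1) := by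
  classical
  obtain ⟨φ, hX, hY⟩ := exists_hom (K := K) m
  have hφX : ∀ t : K, φ (StSL2.X t) = sX m t := fun t => hX _ t (StSL2.coe_X t)
  have hφY : ∀ t : K, φ (StSL2.Y t) = sY m t := fun t => hY _ t (StSL2.coe_Y t)
  set z := pHom (m := m) (-1 : Kˣ) with hz
  have hmem : ∀ A, φ A ∈ twistedG2 K (3 ^ m) ⊓ Subgroup.centralizer {z} := by
    intro A
    apply phi_mem φ hφX hφY
    · intro t
      refine Subgroup.mem_inf.2 ⟨sX_mem t, ?_⟩
      rw [Subgroup.mem_centralizer_iff]
      intro h hh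
      rw [Set.mem_singleton_iff] at hh
      subst hh
      exact (z_comm_sX t).eq
    · intro t
      refine Subgroup.mem_inf.2 ⟨sY_mem t, ?_⟩
      rw [Subgroup.mem_centralizer_iff]
      intro h hh
      rw [Set.mem_singleton_iff] at hh
      subst hh
      exact (z_comm_sY t).eq
  let φG : Matrix.SpecialLinearGroup (Fin 2) K →* ↥(twistedG2 K (3 ^ m)) :=
    φ.codRestrict _ (fun A => (hmem A).1)
  have hφG : ∀ A, ((φG A : ↥(twistedG2 K (3 ^ m))) : GL chevG2.Idx K) = φ A := fun A => rfl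
  have hcent : ∀ A, φG A ∈ Subgroup.centralizer {a} := by
    intro A
    rw [Subgroup.mem_centralizer_iff]
    intro h hh
    rw [Set.mem_singleton_iff] at hh
    subst hh
    apply Subtype.ext
    rw [Subgroup.coe_mul, Subgroup.coe_mul, ha, hφG]
    exact (Subgroup.mem_centralizer_iff.1 (hmem A).2) z (Set.mem_singleton z)
  let φC : Matrix.SpecialLinearGroup (Fin 2) K →* ↥(Subgroup.centralizer {a}) :=
    φG.codRestrict _ hcent
  have hφC : ∀ A, (((φC A : ↥(Subgroup.centralizer {a})) : ↥(twistedG2 K (3 ^ m))) :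
      GL chevG2.Idx K) = φ A := fun A => rfl
  have hker : Subgroup.center (Matrix.SpecialLinearGroup (Fin 2) K) ≤ φC.ker := by
    intro A hA
    rw [MonoidHom.mem_ker]
    apply Subtype.ext
    apply Subtype.ext
    rw [hφC]
    rcases (sl2_mem_center A).1 hA with rfl | rfl
    · rw [map_one]
      rfl
    · rw [phi_neg_one φ hφX hφY]
      rfl
  let φbar : Matrix.ProjectiveSpecialLinearGroup (Fin 2) K →* ↥(Subgroup.centralizer {a}) :=
    QuotientGroup.lift _ φC hker
  have haC : a ∈ Subgroup.centralizer {a} := by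
    rw [Subgroup.mem_centralizer_iff]
    intro h hh
    rw [Set.mem_singleton_iff] at hh
    rw [hh]
  let a' : ↥(Subgroup.centralizer {a}) := ⟨a, haC⟩
  have ha'2 : a' ^ 2 = 1 := by
    apply Subtype.ext
    apply Subtype.ext
    show (a : GL chevG2.Idx K) ^ 2 = 1
    rw [ha, pow_two, z_mul_self]
  have hcomm : ∀ c : ↥(Subgroup.centralizer {a}), Commute a' c := by
    intro c
    apply Subtype.ext
    exact (Subgroup.mem_centralizer_iff.1 c.2) a (Set.mem_singleton a)
  let Ψ : Multiplicative (ZMod 2) × Matrix.ProjectiveSpecialLinearGroup (Fin 2) K →*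
      ↥(Subgroup.centralizer {a}) :=
    MonoidHom.noncommCoprod (zmod2Hom a' ha'2) φbar (fun x y => by
      rw [zmod2Hom_apply]
      exact (hcomm _).pow_left _)
  have hinj : Function.Injective Ψ := by
    rw [injective_iff_map_eq_one]
    rintro ⟨x, y⟩ hxy
    rw [MonoidHom.noncommCoprod_apply] at hxy
    obtain ⟨A, rfl⟩ := QuotientGroup.mk_surjective y
    have hl : φbar (QuotientGroup.mk A) = φC A := rfl
    rw [hl] at hxy
    rcases zmod2_cases x with rfl | rfl
    · rw [map_one, one_mul] at hxy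
      have h1 : φ A = 1 := by
        rw [← hφC, hxy]
        rfl
      have h2 := phi_eq_one hK f hf φ hφX hφY A h1
      have h3 : A ∈ Subgroup.center (Matrix.SpecialLinearGroup (Fin 2) K) := (sl2_mem_center A).2 h2
      have h4 : (QuotientGroup.mk A : Matrix.ProjectiveSpecialLinearGroup (Fin 2) K) = 1 :=
        (QuotientGroup.eq_one_iff A).2 h3
      rw [h4]
      rfl
    · exfalso
      rw [zmod2Hom_one'] at hxy
      have h1 : z * φ A = 1 := by
        rw [← hφC, ← ha]
        have := congrArg (fun c : ↥(Subgroup.centralizer {a}) =>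
          ((c : ↥(twistedG2 K (3 ^ m))) : GL chevG2.Idx K)) hxy
        exact this
      have h2 : φ A = z := by
        have h3 : φ A = z⁻¹ := eq_inv_of_mul_eq_one_right h1
        rw [h3, inv_eq_iff_mul_eq_one]
        exact z_mul_self
      exact phi_ne_z hK f hf φ hφX hφY A h2
  have hcard : Nat.card ↥(Subgroup.centralizer {a}) ≤
      Nat.card (Multiplicative (ZMod 2) × Matrix.ProjectiveSpecialLinearGroup (Fin 2) K) := by
    rw [Nat.card_prod, Nat.card_eq_fintype_card (α := Multiplicative (ZMod 2)),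
      Fintype.card_multiplicative, ZMod.card, two_mul_card_psl hK]
    exact card_centralizer_le hK hperf f hf a ha
  have hbij := hinj.bijective_of_nat_card_le hcard
  refine ⟨(MulEquiv.ofBijective Ψ hbij).symm, ?_⟩
  intro h
  rw [MulEquiv.symm_apply_eq]
  show (⟨a, h⟩ : ↥(Subgroup.centralizer {a})) = Ψ (Multiplicative.ofAdd 1, 1)
  rw [MonoidHom.noncommCoprod_apply, zmod2Hom_one', map_one, mul_one]

omit hperf hf in
theorem exists_sq_add_sq' : ∃ α β : K, α ^ 2 + β ^ 2 = -1 := by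
  have hf : Polynomial.degree (Polynomial.X ^ 2 : Polynomial K) = 2 := Polynomial.degree_X_pow 2
  have hg : Polynomial.degree (Polynomial.X ^ 2 + Polynomial.C 1 : Polynomial K) = 2 := by
    rw [Polynomial.degree_add_eq_left_of_degree_lt, Polynomial.degree_X_pow]
    · rfl
    · rw [Polynomial.degree_X_pow]
      exact lt_of_le_of_lt Polynomial.degree_C_le (by norm_num)
  have hodd : Fintype.card K % 2 = 1 := by
    rw [hK]
    exact Nat.odd_iff.1 (Odd.pow (by decide))
  obtain ⟨a, b, h⟩ := FiniteField.exists_root_sum_quadratic hf hg hodd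
  refine ⟨a, b, ?_⟩
  simp only [Polynomial.eval_pow, Polynomial.eval_X, Polynomial.eval_add, Polynomial.eval_C] at h
  linear_combination h

omit hK hperf hf [Fintype K] [CharP K 3] in
theorem card_mod_eight : 3 ^ (2 * m + 1) % 8 = 3 := by
  have h9 : 9 ^ m % 8 = 1 := by
    rw [Nat.pow_mod]
    norm_num
  have e : 3 ^ (2 * m + 1) = 9 ^ m * 3 := by
    rw [pow_succ, pow_mul]
    norm_num
  rw [e, Nat.mul_mod, h9]

/-- **the Sylow `2`-subgroups of `²G₂(q)` are elementary abelian of order `8`** -/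
theorem sylow_two (S : Sylow 2 ↥(twistedG2 K (3 ^ m))) : Nat.card S = 8 ∧ ∀ x ∈ S, x * x = 1 := by
  classical
  have : Fact (Nat.Prime 2) := ⟨Nat.prime_two⟩
  let a : ↥(twistedG2 K (3 ^ m)) := ⟨pHom (m := m) (-1 : Kˣ), (pHom_mem hK hperf f hf (-1 : Kˣ)).2⟩
  obtain ⟨e, -⟩ := exists_centralizer_equiv hK hperf f hf a rfl
  obtain ⟨α, β, hαβ⟩ := exists_sq_add_sq' hK
  obtain ⟨V, hV8, hV2⟩ := exists_elementary8 (two_ne_zero' (K := K)) α β hαβ
  let ι : Multiplicative (ZMod 2) × Matrix.ProjectiveSpecialLinearGroup (Fin 2) K →* ↥(twistedG2 K (3 ^ m)) :=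
    (Subgroup.centralizer {a}).subtype.comp e.symm.toMonoidHom
  have hι : Function.Injective ι :=
    (Subgroup.subtype_injective _).comp e.symm.injective
  set E : Subgroup ↥(twistedG2 K (3 ^ m)) := V.map ι with hE
  have hE8 : Nat.card ↥E = 2 ^ 3 := by
    rw [hE, Subgroup.card_map_of_injective hι, hV8]
    norm_num
  have hE2 : ∀ x ∈ E, x * x = 1 := by
    rintro x ⟨y, hy, rfl⟩
    rw [← map_mul, hV2 y hy, map_one]
  have hp : IsPGroup 2 ↥E := IsPGroup.of_card hE8
  have hidx : ¬ 2 ∣ E.index := by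
    have h1 := Subgroup.card_mul_index E
    rw [hE8, card_group hK hperf f hf] at h1
    have h8 := card_mod_eight (m := m)
    obtain ⟨k, hk⟩ : ∃ k, 3 ^ (2 * m + 1) = 8 * k + 3 := ⟨3 ^ (2 * m + 1) / 8, by omega⟩
    rw [hk] at h1
    have e1 : 8 * k + 3 - 1 = 2 * (4 * k + 1) := by omega
    have e2 : (8 * k + 3) ^ 3 + 1 = 4 * ((2 * k + 1) * ((8 * k + 3) * (8 * k + 2) + 1)) := by ring
    rw [e1, e2] at h1
    have h2 : 2 ^ 3 * E.index = 2 ^ 3 * ((8 * k + 3) ^ 3 * (4 * k + 1) * ((2 * k + 1) * ((8 * k + 3) * (8 * k + 2) + 1))) := by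
      rw [h1]
      ring
    have h3 := Nat.eq_of_mul_eq_mul_left (by norm_num) h2
    rw [h3]
    intro hd
    have f1 : ¬ 2 ∣ (8 * k + 3) ^ 3 := by
      intro h
      have := Nat.Prime.dvd_of_dvd_pow Nat.prime_two h
      omega
    have f2 : ¬ 2 ∣ 4 * k + 1 := by omega
    have f3 : ¬ 2 ∣ 2 * k + 1 := by omega
    have f4 : ¬ 2 ∣ (8 * k + 3) * (8 * k + 2) + 1 := by
      intro h
      have : 2 ∣ (8 * k + 3) * (8 * k + 2) := Dvd.dvd.mul_left (by omega) _
      omega
    rcases (Nat.Prime.dvd_mul Nat.prime_two).1 hd with h4 | h4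
    · rcases (Nat.Prime.dvd_mul Nat.prime_two).1 h4 with h5 | h5
      · exact f1 h5
      · exact f2 h5
    · rcases (Nat.Prime.dvd_mul Nat.prime_two).1 h4 with h5 | h5
      · exact f3 h5
      · exact f4 h5
  set S₀ : Sylow 2 ↥(twistedG2 K (3 ^ m)) := hp.toSylow hidx with hS₀
  have hS₀c : (S₀ : Subgroup ↥(twistedG2 K (3 ^ m))) = E := rfl
  refine ⟨?_, ?_⟩
  · rw [Nat.card_congr (Sylow.equiv S S₀).toEquiv]
    show Nat.card ↥(S₀ : Subgroup ↥(twistedG2 K (3 ^ m))) = 8
    rw [hS₀c, hE8]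
    norm_num
  · intro x hxS
    obtain ⟨g, hg⟩ := MulAction.exists_smul_eq ↥(twistedG2 K (3 ^ m)) S₀ S
    have hxS' : x ∈ (S : Subgroup ↥(twistedG2 K (3 ^ m))) := hxS
    rw [← hg, Sylow.coe_subgroup_smul, Subgroup.mem_pointwise_smul_iff_inv_smul_mem, hS₀c] at hxS'
    simp only [MulAut.smul_def, MulAut.conj_apply, MulAut.conj_inv_apply, inv_inv] at hxS'
    have h2 := hE2 _ hxS'
    have h3 : x * x = g * ((g⁻¹ * x * g) * (g⁻¹ * x * g)) * g⁻¹ := by group
    rw [h3, h2]
    group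

end finite

end Cfsg.Agent.Lead.Tw.G2
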