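import Mathlib

/-!
# The automorphism group of an elementary abelian group of order `8` embeds in `GL₃(2)`
-/

set_option autoImplicit false
set_option linter.unusedSectionVars false
set_option linter.unusedVariables false
set_option linter.style.haveILetI false

namespace Cfsg.Agent.Lead.Aut8

open Module

theorem card_GL3_two : Nat.card (GL (Fin 3) (ZMod 2)) = 168 := by
  rw [Matrix.card_GL_field, ZMod.card, Fin.prod_univ_three]
  norm_num

/-- **the order of the automorphism group of an elementary abelian group of order `8` divides `168`** -/
theorem card_mulAut_dvd {S : Type*} [CommGroup S] [Finite S] (h8 : Nat.card S = 8) (h2 : ∀ x : S, x * x = 1) :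
    Nat.card (MulAut S) ∣ 168 := by
  classical
  haveI : Fintype S := Fintype.ofFinite S
  letI : Module (ZMod 2) (Additive S) := AddCommGroup.zmodModule (n := 2) (by
    intro x
    rw [two_nsmul]
    exact congrArg Additive.ofMul (h2 (Additive.toMul x)))
  have hfr : finrank (ZMod 2) (Additive S) = 3 := by
    have h1 := Module.card_eq_pow_finrank (K := ZMod 2) (V := Additive S)
    have h3 : Fintype.card (Additive S) = 8 := by
      rw [← Nat.card_eq_fintype_card]
      exact h8
    rw [h3, ZMod.card] at h1
    have : (2 : ℕ) ^ 3 = 2 ^ finrank (ZMod 2) (Additive S) := by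
      rw [← h1]
      norm_num
    exact (Nat.pow_right_injective (le_refl 2) this).symm
  let b : Basis (Fin 3) (ZMod 2) (Additive S) := Module.finBasisOfFinrankEq (ZMod 2) (Additive S) hfr
  let Φ : MulAut S →* Matrix (Fin 3) (Fin 3) (ZMod 2) :=
    { toFun := fun f => LinearMap.toMatrix b b ((MonoidHom.toAdditive f.toMonoidHom).toZModLinearMap 2)
      map_one' := by
        rw [← LinearMap.toMatrix_id b]
        congr 1
      map_mul' := by
        intro f g
        rw [← LinearMap.toMatrix_comp b b b]
        congr 1 }
  have hΦ : Function.Injective Φ := by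
    intro f g hfg
    have h1 : (MonoidHom.toAdditive f.toMonoidHom).toZModLinearMap 2 =
        (MonoidHom.toAdditive g.toMonoidHom).toZModLinearMap 2 := (LinearMap.toMatrix b b).injective hfg
    have h3 := AddMonoidHom.toZModLinearMap_injective 2 h1
    have h4 := MonoidHom.toAdditive.injective h3
    ext x
    exact DFunLike.congr_fun h4 x
  let Ψ : MulAut S →* (Matrix (Fin 3) (Fin 3) (ZMod 2))ˣ := (Units.map Φ).comp toUnits.toMonoidHom
  have hΨ : Function.Injective Ψ := by
    intro f g hfg
    apply hΦ
    have := congrArg Units.val hfg
    exact this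
  have := Subgroup.card_dvd_of_injective Ψ hΨ
  rw [show Nat.card (Matrix (Fin 3) (Fin 3) (ZMod 2))ˣ = 168 from card_GL3_two] at this
  exact this

end Cfsg.Agent.Lead.Aut8
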