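import Mathlib
import Cfsg.Agent.Lib.Lead.TwG2Cent

/-!
# The Klein four-subgroup of `PSL₂(F)` generated by two quaternion units: centraliser, normaliser
-/

set_option autoImplicit false
set_option linter.unusedSectionVars false
set_option linter.unusedSimpArgs false
set_option linter.unusedVariables false
set_option linter.style.haveILetI false

namespace Cfsg.Agent.Lead.Tw.G2

section klein2

variable {F : Type*} [Field F]

theorem sl2_ext (A B : Matrix.SpecialLinearGroup (Fin 2) F) (h00 : A.1 0 0 = B.1 0 0) (h01 : A.1 0 1 = B.1 0 1)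
    (h10 : A.1 1 0 = B.1 1 0) (h11 : A.1 1 1 = B.1 1 1) : A = B := by
  apply Subtype.ext
  ext i j
  fin_cases i <;> fin_cases j
  · exact h00
  · exact h01
  · exact h10
  · exact h11

theorem mk_eq_mk_iff (A B : Matrix.SpecialLinearGroup (Fin 2) F) :
    (QuotientGroup.mk A : Matrix.ProjectiveSpecialLinearGroup (Fin 2) F) = QuotientGroup.mk B ↔
      B = A ∨ B = -A := by
  rw [QuotientGroup.eq, sl2_mem_center]
  constructor
  · rintro (h | h)
    · left
      have : B = A * (A⁻¹ * B) := by group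
      rw [this, h, mul_one]
    · right
      have : B = A * (A⁻¹ * B) := by group
      rw [this, h, mul_neg, mul_one]
  · rintro (h | h)
    · left
      rw [h, inv_mul_cancel]
    · right
      rw [h, mul_neg, inv_mul_cancel]

theorem wM_entries : (wM F).1 0 0 = 0 ∧ (wM F).1 0 1 = 1 ∧ (wM F).1 1 0 = -1 ∧ (wM F).1 1 1 = 0 := by
  simp [wM]

theorem sM_entries (α β : F) (h : α ^ 2 + β ^ 2 = -1) :
    (sM α β h).1 0 0 = α ∧ (sM α β h).1 0 1 = β ∧ (sM α β h).1 1 0 = β ∧ (sM α β h).1 1 1 = -α := by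
  simp [sM]

theorem wsM_entries (α β : F) (h : α ^ 2 + β ^ 2 = -1) :
    (wM F * sM α β h).1 0 0 = β ∧ (wM F * sM α β h).1 0 1 = -α ∧ (wM F * sM α β h).1 1 0 = -α ∧
      (wM F * sM α β h).1 1 1 = -β := by
  rw [Matrix.SpecialLinearGroup.coe_mul]
  simp [wM, sM, Matrix.mul_apply, Fin.sum_univ_two]

theorem neg_entry (A : Matrix.SpecialLinearGroup (Fin 2) F) (i j : Fin 2) : (-A).1 i j = -(A.1 i j) := by
  show (↑(-A) : Matrix (Fin 2) (Fin 2) F) i j = _
  rw [Matrix.SpecialLinearGroup.coe_neg, Matrix.neg_apply]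

/-- the relation `w A = ε A w` in coordinates -/
theorem w_rel (A : Matrix.SpecialLinearGroup (Fin 2) F) :
    (wM F * A = A * wM F → A.1 1 0 = -(A.1 0 1) ∧ A.1 1 1 = A.1 0 0) ∧
    (wM F * A = -(A * wM F) → A.1 1 0 = A.1 0 1 ∧ A.1 1 1 = -(A.1 0 0)) := by
  constructor
  · intro h
    have h1 := congrArg (fun M : Matrix.SpecialLinearGroup (Fin 2) F => M.1 0 0) h
    have h2 := congrArg (fun M : Matrix.SpecialLinearGroup (Fin 2) F => M.1 0 1) h
    simp only [Matrix.SpecialLinearGroup.coe_mul] at h1 h2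
    simp [wM, Matrix.mul_apply, Fin.sum_univ_two] at h1 h2
    exact ⟨h1, h2⟩
  · intro h
    have h1 := congrArg (fun M : Matrix.SpecialLinearGroup (Fin 2) F => M.1 0 0) h
    have h2 := congrArg (fun M : Matrix.SpecialLinearGroup (Fin 2) F => M.1 0 1) h
    simp only [neg_entry, Matrix.SpecialLinearGroup.coe_mul] at h1 h2
    simp [wM, Matrix.mul_apply, Fin.sum_univ_two] at h1 h2
    exact ⟨h1, h2⟩

/-- the relation `s A = δ A s` in coordinates -/
theorem s_rel (α β : F) (h : α ^ 2 + β ^ 2 = -1) (A : Matrix.SpecialLinearGroup (Fin 2) F) :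
    (sM α β h * A = A * sM α β h →
      α * A.1 0 0 + β * A.1 1 0 = A.1 0 0 * α + A.1 0 1 * β ∧
      α * A.1 0 1 + β * A.1 1 1 = A.1 0 0 * β - A.1 0 1 * α) ∧
    (sM α β h * A = -(A * sM α β h) →
      α * A.1 0 0 + β * A.1 1 0 = -(A.1 0 0 * α + A.1 0 1 * β) ∧
      α * A.1 0 1 + β * A.1 1 1 = -(A.1 0 0 * β - A.1 0 1 * α)) := by
  constructor
  · intro h'
    have h1 := congrArg (fun M : Matrix.SpecialLinearGroup (Fin 2) F => M.1 0 0) h'
    have h2 := congrArg (fun M : Matrix.SpecialLinearGroup (Fin 2) F => M.1 0 1) h'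
    simp only [Matrix.SpecialLinearGroup.coe_mul] at h1 h2
    simp [sM, Matrix.mul_apply, Fin.sum_univ_two] at h1 h2
    exact ⟨h1, by linear_combination h2⟩
  · intro h'
    have h1 := congrArg (fun M : Matrix.SpecialLinearGroup (Fin 2) F => M.1 0 0) h'
    have h2 := congrArg (fun M : Matrix.SpecialLinearGroup (Fin 2) F => M.1 0 1) h'
    simp only [neg_entry, Matrix.SpecialLinearGroup.coe_mul] at h1 h2
    simp [sM, Matrix.mul_apply, Fin.sum_univ_two] at h1 h2
    exact ⟨by linear_combination h1, by linear_combination h2⟩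

theorem sl2_det (A : Matrix.SpecialLinearGroup (Fin 2) F) :
    A.1 0 0 * A.1 1 1 - A.1 0 1 * A.1 1 0 = 1 := by
  have := A.2
  rw [Matrix.det_fin_two] at this
  exact this

theorem solve_pp (h2 : (2 : F) ≠ 0) (α β : F) (h : α ^ 2 + β ^ 2 = -1) (a b : F)
    (hdet : a * a - b * -b = 1)
    (e3 : α * a + β * -b = a * α + b * β) (e4 : α * b + β * a = a * β - b * α) :
    b = 0 ∧ (a = 1 ∨ a = -1) := by
  have hb0 : b = 0 := by
    have k1 : 2 * (b * β) = 0 := by linear_combination -e3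
    have k2 : 2 * (b * α) = 0 := by linear_combination e4
    have k1' := (mul_eq_zero.1 k1).resolve_left h2
    have k2' := (mul_eq_zero.1 k2).resolve_left h2
    linear_combination b * h - α * k2' - β * k1'
  rw [hb0] at hdet
  have ha2 : a * a = 1 := by linear_combination hdet
  exact ⟨hb0, mul_self_eq_one_iff.1 ha2⟩

theorem solve_pm (h2 : (2 : F) ≠ 0) (α β : F) (h : α ^ 2 + β ^ 2 = -1) (a b : F)
    (hdet : a * a - b * -b = 1)
    (e3 : α * a + β * -b = -(a * α + b * β)) (e4 : α * b + β * a = -(a * β - b * α)) :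
    a = 0 ∧ (b = 1 ∨ b = -1) := by
  have ha0 : a = 0 := by
    have k1 : 2 * (a * α) = 0 := by linear_combination e3
    have k2 : 2 * (a * β) = 0 := by linear_combination e4
    have k1' := (mul_eq_zero.1 k1).resolve_left h2
    have k2' := (mul_eq_zero.1 k2).resolve_left h2
    linear_combination a * h - α * k1' - β * k2'
  rw [ha0] at hdet
  have hb2 : b * b = 1 := by linear_combination hdet
  exact ⟨ha0, mul_self_eq_one_iff.1 hb2⟩

theorem solve_mp (h2 : (2 : F) ≠ 0) (α β : F) (h : α ^ 2 + β ^ 2 = -1) (a b : F)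
    (hdet : a * -a - b * b = 1)
    (e4 : α * b + β * -a = a * β - b * α) :
    (a = α ∧ b = β) ∨ (a = -α ∧ b = -β) := by
  have k0 : 2 * (a * β - b * α) = 0 := by linear_combination -e4
  have k : a * β - b * α = 0 := (mul_eq_zero.1 k0).resolve_left h2
  have hμ2 : (-(a * α + b * β)) * (-(a * α + b * β)) = 1 := by
    linear_combination (a * a + b * b) * h + hdet - (a * β - b * α) * k
  have haμ : a = (-(a * α + b * β)) * α := by
    linear_combination a * h - β * k
  have hbμ : b = (-(a * α + b * β)) * β := by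
    linear_combination b * h + α * k
  rcases mul_self_eq_one_iff.1 hμ2 with h1 | h1
  · left
    rw [h1, one_mul] at haμ hbμ
    exact ⟨haμ, hbμ⟩
  · right
    rw [h1, neg_one_mul] at haμ hbμ
    exact ⟨haμ, hbμ⟩

theorem solve_mm (h2 : (2 : F) ≠ 0) (α β : F) (h : α ^ 2 + β ^ 2 = -1) (a b : F)
    (hdet : a * -a - b * b = 1)
    (e3 : α * a + β * b = -(a * α + b * β)) :
    (a = β ∧ b = -α) ∨ (a = -β ∧ b = α) := by
  have k0 : 2 * (a * α + b * β) = 0 := by linear_combination e3
  have k : a * α + b * β = 0 := (mul_eq_zero.1 k0).resolve_left h2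
  have hν2 : (a * β - b * α) * (a * β - b * α) = 1 := by
    linear_combination (a * a + b * b) * h + hdet - (a * α + b * β) * k
  have haν : a = -(β * (a * β - b * α)) := by
    linear_combination a * h - α * k
  have hbν : b = α * (a * β - b * α) := by
    linear_combination b * h - β * k
  rcases mul_self_eq_one_iff.1 hν2 with h1 | h1
  · right
    rw [h1, mul_one] at haν hbν
    exact ⟨haν, hbν⟩
  · left
    rw [h1] at haν hbν
    exact ⟨by rw [haν]; ring, by rw [hbν]; ring⟩

/-- **the centraliser of the four-group** -/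
theorem klein_centralizer (h2 : (2 : F) ≠ 0) (α β : F) (h : α ^ 2 + β ^ 2 = -1)
    (x : Matrix.ProjectiveSpecialLinearGroup (Fin 2) F)
    (hw : x * QuotientGroup.mk (wM F) = QuotientGroup.mk (wM F) * x)
    (hs : x * QuotientGroup.mk (sM α β h) = QuotientGroup.mk (sM α β h) * x) :
    x = 1 ∨ x = QuotientGroup.mk (wM F) ∨ x = QuotientGroup.mk (sM α β h) ∨
      x = QuotientGroup.mk (wM F) * QuotientGroup.mk (sM α β h) := by
  obtain ⟨A, rfl⟩ := QuotientGroup.mk_surjective x
  rw [← QuotientGroup.mk_mul, ← QuotientGroup.mk_mul, mk_eq_mk_iff] at hw hs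
  have hdet := sl2_det A
  rcases hw with hw | hw <;> rcases hs with hs | hs
  · obtain ⟨e1, e2⟩ := (w_rel A).1 hw
    obtain ⟨e3, e4⟩ := (s_rel α β h A).1 hs
    rw [e1] at e3
    rw [e2] at e4
    rw [e1, e2] at hdet
    obtain ⟨k1, k4⟩ := solve_pp h2 α β h _ _ hdet e3 e4
    left
    rw [QuotientGroup.eq_one_iff, sl2_mem_center]
    rcases k4 with k4 | k4
    · left
      apply sl2_ext
      · rw [k4]; simp
      · rw [k1]; simp
      · rw [e1, k1]; simp
      · rw [e2, k4]; simp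
    · right
      apply sl2_ext
      · rw [neg_entry, k4]; simp
      · rw [neg_entry, k1]; simp
      · rw [neg_entry, e1, k1]; simp
      · rw [neg_entry, e2, k4]; simp
  · obtain ⟨e1, e2⟩ := (w_rel A).1 hw
    obtain ⟨e3, e4⟩ := (s_rel α β h A).2 hs
    rw [e1] at e3
    rw [e2] at e4
    rw [e1, e2] at hdet
    obtain ⟨k1, k4⟩ := solve_pm h2 α β h _ _ hdet e3 e4
    right; left
    rw [mk_eq_mk_iff]
    rcases k4 with k4 | k4
    · left
      apply sl2_ext
      · rw [wM_entries.1, k1]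
      · rw [wM_entries.2.1, k4]
      · rw [wM_entries.2.2.1, e1, k4]
      · rw [wM_entries.2.2.2, e2, k1]
    · right
      apply sl2_ext
      · rw [wM_entries.1, neg_entry, k1]; simp
      · rw [wM_entries.2.1, neg_entry, k4]; simp
      · rw [wM_entries.2.2.1, neg_entry, e1, k4]; simp
      · rw [wM_entries.2.2.2, neg_entry, e2, k1]; simp
  · obtain ⟨e1, e2⟩ := (w_rel A).2 hw
    obtain ⟨e3, e4⟩ := (s_rel α β h A).1 hs
    right; right; left
    rw [mk_eq_mk_iff]
    rw [e2] at e4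
    rw [e1, e2] at hdet
    rcases solve_mp h2 α β h _ _ hdet e4 with ⟨k1, k2⟩ | ⟨k1, k2⟩
    · left
      apply sl2_ext
      · rw [(sM_entries α β h).1, k1]
      · rw [(sM_entries α β h).2.1, k2]
      · rw [(sM_entries α β h).2.2.1, e1, k2]
      · rw [(sM_entries α β h).2.2.2, e2, k1]
    · right
      apply sl2_ext
      · rw [(sM_entries α β h).1, neg_entry, k1]; simp
      · rw [(sM_entries α β h).2.1, neg_entry, k2]; simp
      · rw [(sM_entries α β h).2.2.1, neg_entry, e1, k2]; simp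
      · rw [(sM_entries α β h).2.2.2, neg_entry, e2, k1]; simp
  · obtain ⟨e1, e2⟩ := (w_rel A).2 hw
    obtain ⟨e3, e4⟩ := (s_rel α β h A).2 hs
    right; right; right
    rw [← QuotientGroup.mk_mul, mk_eq_mk_iff]
    rw [e1] at e3
    rw [e1, e2] at hdet
    rcases solve_mm h2 α β h _ _ hdet e3 with ⟨k1, k2⟩ | ⟨k1, k2⟩
    · left
      apply sl2_ext
      · rw [(wsM_entries α β h).1, k1]
      · rw [(wsM_entries α β h).2.1, k2]
      · rw [(wsM_entries α β h).2.2.1, e1, k2]
      · rw [(wsM_entries α β h).2.2.2, e2, k1]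
    · right
      apply sl2_ext
      · rw [(wsM_entries α β h).1, neg_entry, k1]; simp
      · rw [(wsM_entries α β h).2.1, neg_entry, k2]
      · rw [(wsM_entries α β h).2.2.1, neg_entry, e1, k2]
      · rw [(wsM_entries α β h).2.2.2, neg_entry, e2, k1]; simp

/-- the Hurwitz unit `(1 + w + s + ws)/2` -/
def hM (α β : F) (h : α ^ 2 + β ^ 2 = -1) (γ : F) (hγ : 2 * γ = 1) : Matrix.SpecialLinearGroup (Fin 2) F :=
  ⟨!![γ * (1 + α + β), γ * (1 + β - α); γ * (-1 + β - α), γ * (1 - α - β)], by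
    rw [Matrix.det_fin_two]
    simp only [Matrix.of_apply, Matrix.cons_val', Matrix.cons_val_zero, Matrix.cons_val_one,
      Matrix.cons_val_fin_one]
    linear_combination (-2 * γ ^ 2) * h + (2 * γ + 1) * hγ⟩

theorem hM_wM (α β : F) (h : α ^ 2 + β ^ 2 = -1) (γ : F) (hγ : 2 * γ = 1) :
    hM α β h γ hγ * wM F = sM α β h * hM α β h γ hγ := by
  apply Subtype.ext
  rw [Matrix.SpecialLinearGroup.coe_mul, Matrix.SpecialLinearGroup.coe_mul]
  ext i j
  fin_cases i <;> fin_cases j <;> simp [hM, wM, sM, Matrix.mul_apply, Fin.sum_univ_two] <;>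
    first | linear_combination (γ) * h | linear_combination (-γ) * h | ring1

theorem hM_sM (α β : F) (h : α ^ 2 + β ^ 2 = -1) (γ : F) (hγ : 2 * γ = 1) :
    hM α β h γ hγ * sM α β h = (wM F * sM α β h) * hM α β h γ hγ := by
  apply Subtype.ext
  rw [Matrix.SpecialLinearGroup.coe_mul, Matrix.SpecialLinearGroup.coe_mul, Matrix.SpecialLinearGroup.coe_mul]
  ext i j
  fin_cases i <;> fin_cases j <;> simp [hM, wM, sM, Matrix.mul_apply, Fin.sum_univ_two] <;>
    first | linear_combination (γ) * h | linear_combination (-γ) * h | ring1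

/-- the element of order `3` normalising the four-group -/
theorem exists_three (h2 : (2 : F) ≠ 0) (α β : F) (h : α ^ 2 + β ^ 2 = -1) :
    ∃ t : Matrix.ProjectiveSpecialLinearGroup (Fin 2) F,
      t * QuotientGroup.mk (wM F) * t⁻¹ = QuotientGroup.mk (sM α β h) ∧
      t * QuotientGroup.mk (sM α β h) * t⁻¹ = QuotientGroup.mk (wM F) * QuotientGroup.mk (sM α β h) := by
  have hγ : 2 * (2 : F)⁻¹ = 1 := mul_inv_cancel₀ h2
  refine ⟨QuotientGroup.mk (hM α β h _ hγ), ?_, ?_⟩
  · rw [mul_inv_eq_iff_eq_mul, ← QuotientGroup.mk_mul, ← QuotientGroup.mk_mul, hM_wM]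
  · rw [mul_inv_eq_iff_eq_mul, ← QuotientGroup.mk_mul, ← QuotientGroup.mk_mul, ← QuotientGroup.mk_mul, hM_sM]

/-! ### the elementary abelian subgroup of order `8` of `Z₂ × PSL₂(F)`, explicitly -/

/-- the image of `w` -/
def wbar (F : Type*) [Field F] : Matrix.ProjectiveSpecialLinearGroup (Fin 2) F := QuotientGroup.mk (wM F)

/-- the image of `s` -/
def sbar (α β : F) (h : α ^ 2 + β ^ 2 = -1) : Matrix.ProjectiveSpecialLinearGroup (Fin 2) F :=
  QuotientGroup.mk (sM α β h)

theorem wbar_sq : wbar F ^ 2 = 1 := by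
  rw [pow_two, wbar, ← QuotientGroup.mk_mul, wM_sq, mk_neg_one]

theorem sbar_sq (α β : F) (h : α ^ 2 + β ^ 2 = -1) : sbar α β h ^ 2 = 1 := by
  rw [pow_two, sbar, ← QuotientGroup.mk_mul, sM_sq, mk_neg_one]

theorem wbar_sbar_comm (α β : F) (h : α ^ 2 + β ^ 2 = -1) : Commute (wbar F) (sbar α β h) := by
  show wbar F * sbar α β h = sbar α β h * wbar F
  rw [wbar, sbar, ← QuotientGroup.mk_mul, ← QuotientGroup.mk_mul, wM_sM, mk_neg]

theorem wbar_ne_one (h2 : (2 : F) ≠ 0) : wbar F ≠ 1 := not_center_of_sq h2 _ wM_sq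

theorem sbar_ne_one (h2 : (2 : F) ≠ 0) (α β : F) (h : α ^ 2 + β ^ 2 = -1) : sbar α β h ≠ 1 :=
  not_center_of_sq h2 _ (sM_sq α β h)

theorem wbar_sbar_ne_one (h2 : (2 : F) ≠ 0) (α β : F) (h : α ^ 2 + β ^ 2 = -1) :
    wbar F * sbar α β h ≠ 1 := by
  rw [wbar, sbar, ← QuotientGroup.mk_mul]
  exact not_center_of_sq h2 _ (wsM_sq α β h)

theorem wbar_ne_sbar (h2 : (2 : F) ≠ 0) (α β : F) (h : α ^ 2 + β ^ 2 = -1) : wbar F ≠ sbar α β h := by
  intro he
  apply wbar_sbar_ne_one h2 α β h
  rw [he, ← pow_two, sbar_sq]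

/-- the four-group as the image of `Z₂ × Z₂` -/
def kappa (α β : F) (h : α ^ 2 + β ^ 2 = -1) :
    Multiplicative (ZMod 2) × Multiplicative (ZMod 2) →* Matrix.ProjectiveSpecialLinearGroup (Fin 2) F :=
  MonoidHom.noncommCoprod (zmod2Hom (wbar F) wbar_sq) (zmod2Hom (sbar α β h) (sbar_sq α β h)) (fun x y => by
    rw [zmod2Hom_apply, zmod2Hom_apply]
    exact ((wbar_sbar_comm α β h).pow_left _).pow_right _)

theorem kappa_apply (α β : F) (h : α ^ 2 + β ^ 2 = -1) (x y : Multiplicative (ZMod 2)) :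
    kappa α β h (x, y) = zmod2Hom (wbar F) wbar_sq x * zmod2Hom (sbar α β h) (sbar_sq α β h) y := rfl

theorem range_kappa (α β : F) (h : α ^ 2 + β ^ 2 = -1) (v : Matrix.ProjectiveSpecialLinearGroup (Fin 2) F) :
    v ∈ (kappa α β h).range ↔ v = 1 ∨ v = wbar F ∨ v = sbar α β h ∨ v = wbar F * sbar α β h := by
  constructor
  · rintro ⟨⟨x, y⟩, rfl⟩
    rw [kappa_apply]
    rcases zmod2_cases x with rfl | rfl <;> rcases zmod2_cases y with rfl | rfl
    · left
      rw [map_one, map_one, one_mul]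
    · right; right; left
      rw [zmod2Hom_one', map_one, one_mul]
    · right; left
      rw [zmod2Hom_one', map_one, mul_one]
    · right; right; right
      rw [zmod2Hom_one', zmod2Hom_one']
  · rintro (rfl | rfl | rfl | rfl)
    · exact one_mem _
    · refine ⟨(Multiplicative.ofAdd 1, 1), ?_⟩
      rw [kappa_apply, zmod2Hom_one', map_one, mul_one]
    · refine ⟨(1, Multiplicative.ofAdd 1), ?_⟩
      rw [kappa_apply, zmod2Hom_one', map_one, one_mul]
    · refine ⟨(Multiplicative.ofAdd 1, Multiplicative.ofAdd 1), ?_⟩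
      rw [kappa_apply, zmod2Hom_one', zmod2Hom_one']

theorem kappa_injective (h2 : (2 : F) ≠ 0) (α β : F) (h : α ^ 2 + β ^ 2 = -1) :
    Function.Injective (kappa α β h) := by
  rw [injective_iff_map_eq_one]
  rintro ⟨x, y⟩ hxy
  rw [kappa_apply] at hxy
  rcases zmod2_cases x with rfl | rfl <;> rcases zmod2_cases y with rfl | rfl
  · rfl
  · exfalso
    rw [zmod2Hom_one', map_one, one_mul] at hxy
    exact sbar_ne_one h2 α β h hxy
  · exfalso
    rw [zmod2Hom_one', map_one, mul_one] at hxy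
    exact wbar_ne_one h2 hxy
  · exfalso
    rw [zmod2Hom_one', zmod2Hom_one'] at hxy
    exact wbar_sbar_ne_one h2 α β h hxy

/-- the elementary abelian subgroup of order `8` -/
def T8 (α β : F) (h : α ^ 2 + β ^ 2 = -1) :
    Subgroup (Multiplicative (ZMod 2) × Matrix.ProjectiveSpecialLinearGroup (Fin 2) F) :=
  (MonoidHom.prodMap (MonoidHom.id (Multiplicative (ZMod 2))) (kappa α β h)).range

theorem mem_T8_iff (α β : F) (h : α ^ 2 + β ^ 2 = -1)
    (p : Multiplicative (ZMod 2) × Matrix.ProjectiveSpecialLinearGroup (Fin 2) F) :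
    p ∈ T8 α β h ↔ p.2 = 1 ∨ p.2 = wbar F ∨ p.2 = sbar α β h ∨ p.2 = wbar F * sbar α β h := by
  rw [← range_kappa]
  constructor
  · rintro ⟨⟨x, y⟩, rfl⟩
    exact ⟨y, rfl⟩
  · rintro ⟨y, hy⟩
    exact ⟨(p.1, y), Prod.ext rfl hy⟩

theorem card_T8 (h2 : (2 : F) ≠ 0) (α β : F) (h : α ^ 2 + β ^ 2 = -1) : Nat.card (T8 α β h) = 8 := by
  have hι : Function.Injective (MonoidHom.prodMap (MonoidHom.id (Multiplicative (ZMod 2))) (kappa α β h)) :=
    Function.Injective.prodMap Function.injective_id (kappa_injective h2 α β h)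
  unfold T8
  rw [Nat.card_congr (MonoidHom.ofInjective hι).toEquiv.symm, Nat.card_prod, Nat.card_prod,
    Nat.card_eq_fintype_card, Fintype.card_multiplicative, ZMod.card]

theorem T8_sq (α β : F) (h : α ^ 2 + β ^ 2 = -1)
    (p : Multiplicative (ZMod 2) × Matrix.ProjectiveSpecialLinearGroup (Fin 2) F) (hp : p ∈ T8 α β h) :
    p * p = 1 := by
  have hz : ∀ t : Multiplicative (ZMod 2), t * t = 1 := by
    intro t
    rcases zmod2_cases t with rfl | rfl
    · rfl
    · rfl
  have hw := wbar_sq (F := F)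
  have hs := sbar_sq α β h
  have hc := (wbar_sbar_comm α β h).eq
  rw [pow_two] at hw hs
  apply Prod.ext
  · exact hz p.1
  · show p.2 * p.2 = 1
    rcases (mem_T8_iff α β h p).1 hp with h1 | h1 | h1 | h1 <;> rw [h1]
    · rw [one_mul]
    · exact hw
    · exact hs
    · rw [mul_assoc, ← mul_assoc (sbar α β h), ← hc, mul_assoc, hs, mul_one, hw]

end klein2

end Cfsg.Agent.Lead.Tw.G2
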