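import Mathlib
import Cfsg.Agent.Lib.Lead.TwG2Klein
import Cfsg.Agent.Lib.Lead.AutElem8

/-!
# A perfect group with an involution centraliser `Z₂ × PSL₂(F)` and Sylow `2`-subgroups of order `8`:
the Sylow `2`-subgroup is self-centralising with normaliser of order `168`
-/

set_option autoImplicit false
set_option linter.unusedSectionVars false
set_option linter.unusedSimpArgs false
set_option linter.unusedVariables false
set_option linter.style.haveILetI false

namespace Cfsg.Agent.Lead.Tw.G2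

section abstract

theorem mem_normalizer_of_finite {G : Type*} [Group G] (H : Subgroup G) [Finite H] (g : G)
    (h : ∀ k ∈ H, g * k * g⁻¹ ∈ H) : g ∈ Subgroup.normalizer (H : Set G) := by
  rw [Subgroup.mem_normalizer_iff_map_conj_eq]
  apply Subgroup.eq_of_le_of_card_ge
  · rintro _ ⟨k, hk, rfl⟩
    exact h k hk
  · rw [Subgroup.card_map_of_injective (MulAut.conj g).injective]

set_option maxRecDepth 100000 in
theorem odd_divisors_168 : ∀ k : ℕ, k ≤ 168 → k ∣ 168 → ¬ 2 ∣ k → k = 1 ∨ k = 3 ∨ k = 7 ∨ k = 21 := by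
  decide

theorem ofAdd_one_sq : (Multiplicative.ofAdd (1 : ZMod 2)) ^ 2 = 1 := by decide

theorem ofAdd_one_ne : (Multiplicative.ofAdd (1 : ZMod 2)) ≠ 1 := by decide

variable {G : Type*} [Group G] [Finite G] {F : Type*} [Field F]

/-- **the abstract statement** -/
theorem syl168 (hperf : commutator G = ⊤) (h2 : (2 : F) ≠ 0) (α β : F) (h : α ^ 2 + β ^ 2 = -1)
    (ι : Multiplicative (ZMod 2) × Matrix.ProjectiveSpecialLinearGroup (Fin 2) F →* G)
    (hι : Function.Injective ι)
    (hrange : ∀ g : G, g * ι (Multiplicative.ofAdd 1, 1) = ι (Multiplicative.ofAdd 1, 1) * g → g ∈ ι.range)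
    (Q : Sylow 2 G) (hQ : (Q : Subgroup G) = (T8 α β h).map ι) :
    Subgroup.centralizer ((Q : Subgroup G) : Set G) = Q ∧
      Nat.card (Subgroup.normalizer ((Q : Subgroup G) : Set G)) = 168 := by
  classical
  haveI : Fact (Nat.Prime 2) := ⟨Nat.prime_two⟩
  set a : G := ι (Multiplicative.ofAdd 1, 1) with ha
  set b : G := ι (1, wbar F) with hb
  set c : G := ι (1, sbar α β h) with hc
  have hmemQ : ∀ p, p ∈ T8 α β h → ι p ∈ (Q : Subgroup G) := fun p hp => by
    rw [hQ]
    exact Subgroup.mem_map_of_mem ι hp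
  have haQ : a ∈ (Q : Subgroup G) := hmemQ _ ((mem_T8_iff α β h _).2 (Or.inl rfl))
  have hbQ : b ∈ (Q : Subgroup G) := hmemQ _ ((mem_T8_iff α β h _).2 (Or.inr (Or.inl rfl)))
  have hcQ : c ∈ (Q : Subgroup G) := hmemQ _ ((mem_T8_iff α β h _).2 (Or.inr (Or.inr (Or.inl rfl))))
  have hQ2 : ∀ x ∈ (Q : Subgroup G), x * x = 1 := by
    intro x hx
    rw [hQ] at hx
    obtain ⟨p, hp, rfl⟩ := hx
    rw [← map_mul, T8_sq α β h p hp, map_one]
  have hQcomm : ∀ x ∈ (Q : Subgroup G), ∀ y ∈ (Q : Subgroup G), x * y = y * x := by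
    intro x hx y hy
    have hxy := hQ2 (x * y) (mul_mem hx hy)
    have hx' : x⁻¹ = x := inv_eq_of_mul_eq_one_right (hQ2 x hx)
    have hy' : y⁻¹ = y := inv_eq_of_mul_eq_one_right (hQ2 y hy)
    have h3 : (x * y)⁻¹ = x * y := inv_eq_of_mul_eq_one_right hxy
    rw [mul_inv_rev, hx', hy'] at h3
    exact h3.symm
  have hcardQ : Nat.card (Q : Subgroup G) = 8 := by
    rw [hQ, Subgroup.card_map_of_injective hι, card_T8 h2]
  -- the centraliser
  have hcent : Subgroup.centralizer ((Q : Subgroup G) : Set G) = Q := by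
    apply le_antisymm
    · intro g hg
      rw [Subgroup.mem_centralizer_iff] at hg
      have h1 := hg a haQ
      obtain ⟨p, rfl⟩ := hrange g h1.symm
      have k2 := hg b hbQ
      have k3 := hg c hcQ
      rw [hb, ← map_mul, ← map_mul] at k2
      rw [hc, ← map_mul, ← map_mul] at k3
      have hw : p.2 * wbar F = wbar F * p.2 := by
        have := congrArg Prod.snd (hι k2)
        simpa using this.symm
      have hs : p.2 * sbar α β h = sbar α β h * p.2 := by
        have := congrArg Prod.snd (hι k3)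
        simpa using this.symm
      have := klein_centralizer h2 α β h p.2 hw hs
      rw [hQ]
      exact Subgroup.mem_map_of_mem ι ((mem_T8_iff α β h p).2 this)
    · intro g hg
      rw [Subgroup.mem_centralizer_iff]
      intro x hx
      exact hQcomm x hx g hg
  refine ⟨hcent, ?_⟩
  -- the element of order three
  obtain ⟨tb, ht1', ht2'⟩ := exists_three h2 α β h
  have ht1 : tb * wbar F * tb⁻¹ = sbar α β h := ht1'
  have ht2 : tb * sbar α β h * tb⁻¹ = wbar F * sbar α β h := ht2'
  set t : G := ι (1, tb) with ht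
  have hta : t * a = a * t := by
    rw [ht, ha, ← map_mul, ← map_mul]
    congr 1
    apply Prod.ext <;> simp
  have htb : t * b * t⁻¹ = c := by
    rw [ht, hb, hc, ← map_inv, ← map_mul, ← map_mul]
    congr 1
    apply Prod.ext
    · simp
    · simpa using ht1
  have hbc : b ≠ c := by
    intro hbc
    rw [hb, hc] at hbc
    have := congrArg Prod.snd (hι hbc)
    exact wbar_ne_sbar h2 α β h this
  have htN : t ∈ Subgroup.normalizer ((Q : Subgroup G) : Set G) := by
    apply mem_normalizer_of_finite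
    intro k hk
    rw [hQ] at hk ⊢
    obtain ⟨p, hp', rfl⟩ := hk
    have hp : p ∈ T8 α β h := hp'
    rw [ht, ← map_inv, ← map_mul, ← map_mul]
    apply Subgroup.mem_map_of_mem
    rw [mem_T8_iff] at hp ⊢
    have e : ((1, tb) * p * ((1 : Multiplicative (ZMod 2)), tb)⁻¹).2 = tb * p.2 * tb⁻¹ := by simp
    rw [e]
    rcases hp with h1 | h1 | h1 | h1 <;> rw [h1]
    · left
      group
    · right; right; left
      exact ht1
    · right; right; right
      exact ht2
    · right; left
      have e2 : tb * (wbar F * sbar α β h) * tb⁻¹ = (tb * wbar F * tb⁻¹) * (tb * sbar α β h * tb⁻¹) := by group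
      have hs := sbar_sq α β h
      rw [pow_two] at hs
      rw [e2, ht1, ht2, ← mul_assoc, ← (wbar_sbar_comm α β h).eq, mul_assoc, hs, mul_one]
  have htQ : t ∉ (Q : Subgroup G) := by
    intro htQ
    apply hbc
    have := hQcomm t htQ b hbQ
    rw [← htb, this, mul_inv_cancel_right]
  -- the subgroups
  set N : Subgroup G := Subgroup.normalizer ((Q : Subgroup G) : Set G) with hN
  set Na : Subgroup G := N ⊓ Subgroup.centralizer {a} with hNa
  have hQN : (Q : Subgroup G) ≤ N := Subgroup.le_normalizer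
  have hQNa : (Q : Subgroup G) ≤ Na := by
    intro x hx
    refine Subgroup.mem_inf.2 ⟨hQN hx, ?_⟩
    rw [Subgroup.mem_centralizer_iff]
    intro y hy
    rw [Set.mem_singleton_iff] at hy
    rw [hy]
    exact hQcomm a haQ x hx
  have htNa : t ∈ Na := by
    refine Subgroup.mem_inf.2 ⟨htN, ?_⟩
    rw [Subgroup.mem_centralizer_iff]
    intro y hy
    rw [Set.mem_singleton_iff] at hy
    rw [hy]
    exact hta.symm
  have hNaN : Na ≤ N := inf_le_left
  -- the transfer argument
  have hNaN_ne : Na ≠ N := by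
    intro heq
    have hNC : ∀ n ∈ N, n * a = a * n := by
      intro n hn
      rw [← heq] at hn
      have := (Subgroup.mem_inf.1 hn).2
      rw [Subgroup.mem_centralizer_iff] at this
      exact (this a (Set.mem_singleton a)).symm
    have hQle : (Q : Subgroup G) ≤ ι.range := by
      rw [hQ]
      rintro _ ⟨p, hp, rfl⟩
      exact ⟨p, rfl⟩
    let ϕ : ↥(Q : Subgroup G) →* Multiplicative (ZMod 2) :=
      (MonoidHom.fst _ _).comp ((MonoidHom.ofInjective hι).symm.toMonoidHom.comp (Subgroup.inclusion hQle))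
    have hϕ : ∀ (p : Multiplicative (ZMod 2) × Matrix.ProjectiveSpecialLinearGroup (Fin 2) F)
        (hp : ι p ∈ (Q : Subgroup G)), ϕ ⟨ι p, hp⟩ = p.1 := by
      intro p hp
      show ((MonoidHom.ofInjective hι).symm ⟨ι p, _⟩).1 = p.1
      have : (MonoidHom.ofInjective hι).symm ⟨ι p, hQle hp⟩ = p := by
        rw [MulEquiv.symm_apply_eq]
        exact Subtype.ext (MonoidHom.ofInjective_apply hι).symm
      rw [this]
    haveI : IsMulCommutative ↥(Q : Subgroup G) := ⟨⟨fun x y => Subtype.ext (hQcomm x.1 x.2 y.1 y.2)⟩⟩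
    have key : ∀ (k : ℕ) (g₀ : G) (hk : g₀⁻¹ * ((⟨a, haQ⟩ : ↥(Q : Subgroup G)) : G) ^ k * g₀ ∈ (Q : Subgroup G)),
        ϕ ⟨g₀⁻¹ * ((⟨a, haQ⟩ : ↥(Q : Subgroup G)) : G) ^ k * g₀, hk⟩ = ϕ ((⟨a, haQ⟩ : ↥(Q : Subgroup G)) ^ k) := by
      intro k g₀ hk
      obtain ⟨n, hn, e⟩ := Q.conj_eq_normalizer_conj_of_mem (a ^ k) g₀ (pow_mem haQ k) hk
      have hc' : Commute n a := hNC n hn
      have hcomm : n * a ^ k = a ^ k * n := (hc'.pow_right k).eq
      have e2 : n⁻¹ * a ^ k * n = a ^ k := by
        rw [mul_assoc, ← hcomm, inv_mul_cancel_left]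
      congr 1
      apply Subtype.ext
      show g₀⁻¹ * a ^ k * g₀ = ((⟨a, haQ⟩ : ↥(Q : Subgroup G)) ^ k : ↥(Q : Subgroup G))
      rw [Subgroup.coe_pow, e, e2]
    have htr := transfer_eq_pow_of_ctrl ϕ ⟨a, haQ⟩ key
    have htriv : MonoidHom.transfer ϕ a = 1 := by
      have hk : a ∈ (MonoidHom.transfer ϕ).ker := by
        apply Abelianization.commutator_subset_ker
        rw [hperf]
        exact Subgroup.mem_top a
      exact hk
    have hval : ϕ ⟨a, haQ⟩ = Multiplicative.ofAdd 1 := hϕ (Multiplicative.ofAdd 1, 1) haQ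
    rw [show ((⟨a, haQ⟩ : ↥(Q : Subgroup G)) : G) = a from rfl, htriv, hval] at htr
    have hodd : ¬ 2 ∣ (Q : Subgroup G).index := Q.not_dvd_index
    obtain ⟨j, hj⟩ : ∃ j, (Q : Subgroup G).index = 2 * j + 1 := ⟨(Q : Subgroup G).index / 2, by omega⟩
    rw [hj, pow_succ, pow_mul] at htr
    rw [ofAdd_one_sq, one_pow, one_mul] at htr
    exact ofAdd_one_ne htr.symm
  -- the cardinalities
  have hNaQ_ne : Na ≠ (Q : Subgroup G) := by
    intro heq
    rw [heq] at htNa
    exact htQ htNa
  have hk168 : (Q : Subgroup G).relIndex N ∣ 168 := by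
    have key := Subgroup.card_dvd_of_injective _ (QuotientGroup.kerLift_injective (Q : Subgroup G).normalizerMonoidHom)
    rw [Subgroup.normalizerMonoidHom_ker, ← Subgroup.index, ← Subgroup.relIndex, hcent] at key
    letI : CommGroup ↥(Q : Subgroup G) :=
      { (inferInstance : Group ↥(Q : Subgroup G)) with
        mul_comm := fun x y => Subtype.ext (hQcomm x.1 x.2 y.1 y.2) }
    have h168 := Cfsg.Agent.Lead.Aut8.card_mulAut_dvd (S := ↥(Q : Subgroup G)) hcardQ (by
      intro x
      exact Subtype.ext (hQ2 x.1 x.2))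
    exact key.trans h168
  have hkodd : ¬ 2 ∣ (Q : Subgroup G).relIndex N := by
    intro hd
    exact Q.not_dvd_index (hd.trans (Subgroup.relIndex_dvd_index_of_le hQN))
  have hcardN : Nat.card N = 8 * (Q : Subgroup G).relIndex N := by
    have h1 := Subgroup.card_mul_index N
    have h3 := Subgroup.card_mul_index (Q : Subgroup G)
    have h4 := Subgroup.relIndex_mul_index hQN
    rw [← h3, ← h4, hcardQ, ← mul_assoc] at h1
    have hidx : N.index ≠ 0 := Subgroup.index_ne_zero_of_finite
    exact Nat.eq_of_mul_eq_mul_right (Nat.pos_of_ne_zero hidx) h1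
  have hd1 : 8 ∣ Nat.card Na := by
    rw [← hcardQ]
    exact Subgroup.card_dvd_of_le hQNa
  have hd2 : Nat.card Na ∣ Nat.card N := Subgroup.card_dvd_of_le hNaN
  have hne1 : Nat.card Na ≠ 8 := by
    intro he
    apply hNaQ_ne
    exact (Subgroup.eq_of_le_of_card_ge hQNa (by rw [he, hcardQ])).symm
  have hne2 : Nat.card Na ≠ Nat.card N := by
    intro he
    apply hNaN_ne
    exact Subgroup.eq_of_le_of_card_ge hNaN (by rw [he])
  set k := (Q : Subgroup G).relIndex N with hk
  have hkle : k ≤ 168 := Nat.le_of_dvd (by norm_num) hk168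
  obtain ⟨j, hj⟩ := hd1
  rw [hcardN, hj] at hd2 hne2
  have hjk : j ∣ k := Nat.dvd_of_mul_dvd_mul_left (by norm_num) hd2
  have hj1 : j ≠ 1 := by
    intro h1
    apply hne1
    rw [hj, h1]
  have hjk' : j ≠ k := by
    intro h1
    apply hne2
    rw [h1]
  rw [hcardN]
  rcases odd_divisors_168 k hkle hk168 hkodd with h1 | h1 | h1 | h1
  · exfalso
    rw [h1] at hjk
    exact hj1 (Nat.dvd_one.1 hjk)
  · exfalso
    rw [h1] at hjk hjk'
    rcases (Nat.dvd_prime Nat.prime_three).1 hjk with h3 | h3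
    · exact hj1 h3
    · exact hjk' h3
  · exfalso
    rw [h1] at hjk hjk'
    rcases (Nat.dvd_prime (by norm_num : Nat.Prime 7)).1 hjk with h3 | h3
    · exact hj1 h3
    · exact hjk' h3
  · rw [h1]

end abstract

end Cfsg.Agent.Lead.Tw.G2
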