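import Mathlib
import Cfsg.Agent.Lib.Lead.Syl168

/-!
# The normaliser of a Sylow `2`-subgroup of `²G₂(q)`, `q > 3`, has order `168`
-/

set_option autoImplicit false
set_option linter.unusedSectionVars false
set_option linter.unusedSimpArgs false
set_option linter.unusedVariables false
set_option linter.style.haveILetI false

namespace Cfsg.Agent.Lead.Tw.G2

open Cfsg Cfsg.Lie Cfsg.Agent.Lead.Chev Cfsg.Agent.Lead.ZPM

section finite

variable {K : Type*} [Field K] [Fintype K] [CharP K 3] {m : ℕ} (hK : Fintype.card K = 3 ^ (2 * m + 1))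
  (hperf : ∀ x : K, ∃ y : K, y ^ 3 = x) (f : K ≃+* K) (hf : ∀ t, f t = t ^ (3 ^ m))
include hK hperf hf

/-- subgroups of order `8` have odd index -/
theorem index_odd_of_card_eight (E : Subgroup ↥(twistedG2 K (3 ^ m))) (hE8 : Nat.card ↥E = 2 ^ 3) :
    ¬ 2 ∣ E.index := by
  have h1 := Subgroup.card_mul_index E
  rw [hE8, card_group hK hperf f hf] at h1
  have h8 := card_mod_eight (m := m)
  obtain ⟨k, hk⟩ : ∃ k, 3 ^ (2 * m + 1) = 8 * k + 3 := ⟨3 ^ (2 * m + 1) / 8, by omega⟩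
  rw [hk] at h1
  have e1 : 8 * k + 3 - 1 = 2 * (4 * k + 1) := by omega
  have e2 : (8 * k + 3) ^ 3 + 1 = 4 * ((2 * k + 1) * ((8 * k + 3) * (8 * k + 2) + 1)) := by ring
  rw [e1, e2] at h1
  have h2 : 2 ^ 3 * E.index = 2 ^ 3 * ((8 * k + 3) ^ 3 * (4 * k + 1) * ((2 * k + 1) * ((8 * k + 3) * (8 * k + 2) + 1))) := by
    rw [h1]
    ring
  have h3 := Nat.eq_of_mul_eq_mul_left (by norm_num) h2
  rw [h3]
  intro hd
  have f1 : ¬ 2 ∣ (8 * k + 3) ^ 3 := by
    intro h
    have := Nat.Prime.dvd_of_dvd_pow Nat.prime_two h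
    omega
  have f2 : ¬ 2 ∣ 4 * k + 1 := by omega
  have f3 : ¬ 2 ∣ 2 * k + 1 := by omega
  have f4 : ¬ 2 ∣ (8 * k + 3) * (8 * k + 2) + 1 := by
    intro h
    have : 2 ∣ (8 * k + 3) * (8 * k + 2) := Dvd.dvd.mul_left (by omega) _
    omega
  rcases (Nat.Prime.dvd_mul Nat.prime_two).1 hd with h4 | h4
  · rcases (Nat.Prime.dvd_mul Nat.prime_two).1 h4 with h5 | h5
    · exact f1 h5
    · exact f2 h5
  · rcases (Nat.Prime.dvd_mul Nat.prime_two).1 h4 with h5 | h5
    · exact f3 h5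
    · exact f4 h5

/-- **a Sylow `2`-subgroup of `²G₂(q)`, `q > 3`, is self-centralising with normaliser of order `168`** -/
theorem sylow_two_normalizer (hm : 1 ≤ m) (S : Sylow 2 ↥(twistedG2 K (3 ^ m))) :
    Subgroup.centralizer ((S : Subgroup ↥(twistedG2 K (3 ^ m))) : Set ↥(twistedG2 K (3 ^ m))) = S ∧
      Nat.card (Subgroup.normalizer ((S : Subgroup ↥(twistedG2 K (3 ^ m))) : Set ↥(twistedG2 K (3 ^ m)))) = 168 := by
  classical
  have : Fact (Nat.Prime 2) := ⟨Nat.prime_two⟩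
  let a : ↥(twistedG2 K (3 ^ m)) := ⟨pHom (m := m) (-1 : Kˣ), (pHom_mem hK hperf f hf (-1 : Kˣ)).2⟩
  obtain ⟨e, he⟩ := exists_centralizer_equiv hK hperf f hf a rfl
  obtain ⟨α, β, hαβ⟩ := exists_sq_add_sq' hK
  have h2 : (2 : K) ≠ 0 := two_ne_zero' (K := K)
  let ι : Multiplicative (ZMod 2) × Matrix.ProjectiveSpecialLinearGroup (Fin 2) K →* ↥(twistedG2 K (3 ^ m)) :=
    (Subgroup.centralizer {a}).subtype.comp e.symm.toMonoidHom
  have hι : Function.Injective ι :=
    (Subgroup.subtype_injective _).comp e.symm.injective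
  have haC : a ∈ Subgroup.centralizer {a} := by
    rw [Subgroup.mem_centralizer_iff]
    intro h hh
    rw [Set.mem_singleton_iff] at hh
    rw [hh]
  have hιa : ι (Multiplicative.ofAdd 1, 1) = a := by
    show ((e.symm (Multiplicative.ofAdd 1, 1) : ↥(Subgroup.centralizer {a})) : ↥(twistedG2 K (3 ^ m))) = a
    rw [← he haC, MulEquiv.symm_apply_apply]
  have hrange : ∀ g : ↥(twistedG2 K (3 ^ m)),
      g * ι (Multiplicative.ofAdd 1, 1) = ι (Multiplicative.ofAdd 1, 1) * g → g ∈ ι.range := by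
    intro g hg
    rw [hιa] at hg
    have hgC : g ∈ Subgroup.centralizer {a} := by
      rw [Subgroup.mem_centralizer_iff]
      intro h hh
      rw [Set.mem_singleton_iff] at hh
      rw [hh]
      exact hg.symm
    refine ⟨e ⟨g, hgC⟩, ?_⟩
    show ((e.symm (e ⟨g, hgC⟩) : ↥(Subgroup.centralizer {a})) : ↥(twistedG2 K (3 ^ m))) = g
    rw [MulEquiv.symm_apply_apply]
  set E : Subgroup ↥(twistedG2 K (3 ^ m)) := (T8 α β hαβ).map ι with hE
  have hE8 : Nat.card ↥E = 2 ^ 3 := by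
    rw [hE, Subgroup.card_map_of_injective hι, card_T8 h2]
    norm_num
  have hp : IsPGroup 2 ↥E := IsPGroup.of_card hE8
  have hidx : ¬ 2 ∣ E.index := index_odd_of_card_eight hK hperf f hf E hE8
  set Q : Sylow 2 ↥(twistedG2 K (3 ^ m)) := hp.toSylow hidx with hQdef
  have hQ : (Q : Subgroup ↥(twistedG2 K (3 ^ m))) = (T8 α β hαβ).map ι := rfl
  obtain ⟨hcQ, hnQ⟩ := syl168 (perfect hK hperf f hf hm) h2 α β hαβ ι hι hrange Q hQ
  obtain ⟨hS8, hS2⟩ := sylow_two hK hperf f hf S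
  constructor
  · -- the centraliser
    obtain ⟨g, hg⟩ := MulAction.exists_smul_eq ↥(twistedG2 K (3 ^ m)) Q S
    have hScomm : ∀ x ∈ (S : Subgroup ↥(twistedG2 K (3 ^ m))), ∀ y ∈ (S : Subgroup ↥(twistedG2 K (3 ^ m))),
        x * y = y * x := by
      intro x hx y hy
      have hxy := hS2 (x * y) (mul_mem hx hy)
      have hx' : x⁻¹ = x := inv_eq_of_mul_eq_one_right (hS2 x hx)
      have hy' : y⁻¹ = y := inv_eq_of_mul_eq_one_right (hS2 y hy)
      have h3 : (x * y)⁻¹ = x * y := inv_eq_of_mul_eq_one_right hxy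
      rw [mul_inv_rev, hx', hy'] at h3
      exact h3.symm
    have hmemS : ∀ x : ↥(twistedG2 K (3 ^ m)), x ∈ (S : Subgroup ↥(twistedG2 K (3 ^ m))) ↔
        g⁻¹ * x * g ∈ (Q : Subgroup ↥(twistedG2 K (3 ^ m))) := by
      intro x
      rw [← hg, Sylow.coe_subgroup_smul, Subgroup.mem_pointwise_smul_iff_inv_smul_mem]
      simp only [MulAut.smul_def, MulAut.conj_apply, MulAut.conj_inv_apply, inv_inv]
    apply le_antisymm
    · intro x hx
      rw [Subgroup.mem_centralizer_iff] at hx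
      rw [hmemS, ← hcQ, Subgroup.mem_centralizer_iff]
      intro y hy
      have hyS : g * y * g⁻¹ ∈ (S : Subgroup ↥(twistedG2 K (3 ^ m))) := by
        rw [hmemS]
        have : g⁻¹ * (g * y * g⁻¹) * g = y := by group
        rw [this]
        exact hy
      have h1 := hx _ hyS
      have e1 : y * (g⁻¹ * x * g) = g⁻¹ * (g * y * g⁻¹ * x) * g := by group
      have e2 : g⁻¹ * x * g * y = g⁻¹ * (x * (g * y * g⁻¹)) * g := by group
      rw [e1, e2, h1]
    · intro x hx
      rw [Subgroup.mem_centralizer_iff]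
      intro y hy
      exact hScomm y hy x hx
  · -- the normaliser
    have h1 : Nat.card (Sylow 2 ↥(twistedG2 K (3 ^ m))) = (Subgroup.normalizer
        ((S : Subgroup ↥(twistedG2 K (3 ^ m))) : Set ↥(twistedG2 K (3 ^ m)))).index :=
      Sylow.card_eq_index_normalizer S
    have h2' : Nat.card (Sylow 2 ↥(twistedG2 K (3 ^ m))) = (Subgroup.normalizer
        ((Q : Subgroup ↥(twistedG2 K (3 ^ m))) : Set ↥(twistedG2 K (3 ^ m)))).index :=
      Sylow.card_eq_index_normalizer Q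
    have h3 := Subgroup.card_mul_index (Subgroup.normalizer ((S : Subgroup ↥(twistedG2 K (3 ^ m))) : Set ↥(twistedG2 K (3 ^ m))))
    have h4 := Subgroup.card_mul_index (Subgroup.normalizer ((Q : Subgroup ↥(twistedG2 K (3 ^ m))) : Set ↥(twistedG2 K (3 ^ m))))
    rw [← h1] at h3
    rw [← h2', ← h3, hnQ] at h4
    have hpos : 0 < Nat.card (Sylow 2 ↥(twistedG2 K (3 ^ m))) := Nat.card_pos
    exact (Nat.eq_of_mul_eq_mul_right hpos h4).symm

end finite

end Cfsg.Agent.Lead.Tw.G2
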