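import Mathlib
import Cfsg.Agent.Lib.Lead.TwReeCore
import Cfsg.Agent.Lib.Lead.TwF4Perf
import Cfsg.Agent.Lib.Lead.TwG2Perf
import Cfsg.Agent.S0319
import Cfsg.Agent.S1050

/-!
# Simplicity of the groups of Ree type, from the `(B, N)`-pair
-/

set_option autoImplicit false
set_option linter.unusedSectionVars false
set_option linter.unusedSimpArgs false
set_option linter.unusedVariables false

namespace Cfsg.Agent.Lead.Tw

open Cfsg Cfsg.Lie Cfsg.Agent.Lead.Chev

section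

variable {K : Type*} [Field K]

variable {D : ChevalleyDatum} {hF : ChevFacts D K} {T : Twist D K hF.xadd}
  {S l₀ : List (List ℕ)} {G₁ : Subgroup (GL D.Idx K)} (h : ClsData hF T S l₀ G₁)
include h

/-- two twisted reflections whose representatives commute modulo `B` have commuting actions -/
theorem ClsData.comm_action (hS : CorSize D) (v w : List ℕ) (hv : v ∈ S) (hw : w ∈ S)
    (hb : nWordGL D hF.xadd v * nWordGL D hF.xadd w * (nWordGL D hF.xadd v)⁻¹ * (nWordGL D hF.xadd w)⁻¹ ∈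
      D.borelSubgroup K) :
    ∀ r < D.nroots, reflWord D (v ++ w) r = reflWord D (w ++ v) r := by
  have hvv := h.gen.valid v hv
  have hwv := h.gen.valid w hw
  have hvw : ∀ i ∈ v ++ w, i < D.rank := by
    intro i hi
    rcases List.mem_append.1 hi with h1 | h1
    · exact hvv i h1
    · exact hwv i h1
  have hwv' : ∀ i ∈ w ++ v, i < D.rank := by
    intro i hi
    rcases List.mem_append.1 hi with h1 | h1
    · exact hwv i h1
    · exact hvv i h1
  apply ChevFacts'.double_coset_action hF hS (v ++ w) (w ++ v) hvw hwv' 1 1 _ 1 (one_mem _) (one_mem _) hb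
    (one_mem _)
  rw [nWordGL_append, nWordGL_append]
  group

/-- **Simplicity of the twisted group of a class datum** -/
theorem ClsData.simple [Fintype K] (hS : CorSize D) (hC : CorComb D)
    (hsolvB : Group.IsSolvable ↥(D.borelSubgroup K))
    (hperf : commutator ↥G₁ = ⊤)
    (hcore : ((D.borelSubgroup K ⊓ G₁).subgroupOf G₁).normalCore = ⊥)
    (v₀ : List ℕ) (hv₀ : v₀ ∈ S)
    (edges : List (List ℕ × List ℕ))
    (hedge : ∀ e ∈ edges, e.1 ∈ S ∧ e.2 ∈ S ∧
      ∃ r < D.nroots, reflWord D (e.1 ++ e.2) r ≠ reflWord D (e.2 ++ e.1) r)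
    (hconn : ∀ I : List ℕ → Prop, (∃ v ∈ S, I v) → (∃ w ∈ S, ¬ I w) →
      ∃ e ∈ edges, (I e.1 ∧ ¬ I e.2) ∨ (I e.2 ∧ ¬ I e.1)) :
    IsSimpleGroup ↥G₁ ∧ ¬ IsMulCommutative ↥G₁ := by
  have hG := h.twGroup hS hC
  set P := hG.bnPair hS with hP
  -- the group is not trivial
  have hnt : Nontrivial ↥G₁ := by
    obtain ⟨u, hu, hfix, hne⟩ := h.nontriv v₀ hv₀
    have hmem : u ∈ G₁ := h.fix_mem v₀ hv₀ u hu hfix
    refine ⟨⟨⟨u, hmem⟩, 1, ?_⟩⟩
    intro he
    exact hne (congrArg Subtype.val he)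
  have hsolv : Group.IsSolvable P.B := by
    have hle : ∀ x : ↥((D.borelSubgroup K ⊓ G₁).subgroupOf G₁),
        ((x : ↥G₁) : GL D.Idx K) ∈ D.borelSubgroup K :=
      fun x => (Subgroup.mem_subgroupOf.1 x.2).1
    exact Group.isSolvable_of_isSolvable_injective (f := (G₁.subtype.comp
      ((D.borelSubgroup K ⊓ G₁).subgroupOf G₁).subtype).codRestrict
        (D.borelSubgroup K) hle) (by
          intro x y hxy
          apply Subtype.ext
          apply Subtype.ext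
          have := congrArg Subtype.val hxy
          exact this)
  have hirr : P.Irreducible := by
    intro J hJS hJ hJc
    set I : List ℕ → Prop := fun v => ∃ n ∈ J, (n : GL D.Idx K) = nWordGL D hF.xadd v with hI
    have h1 : ∃ v ∈ S, I v := by
      obtain ⟨s, hs⟩ := hJ
      obtain ⟨w, hw, e⟩ := hJS hs
      exact ⟨w, hw, s, hs, e⟩
    have h2 : ∃ w ∈ S, ¬ I w := by
      obtain ⟨s', hs'S, hs'J⟩ := hJc
      obtain ⟨w, hw, e⟩ := hs'S
      refine ⟨w, hw, ?_⟩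
      rintro ⟨n, hn, e'⟩
      apply hs'J
      have : n = s' := Subtype.ext (e'.trans e.symm)
      rwa [← this]
    obtain ⟨e, he, hcase⟩ := hconn I h1 h2
    obtain ⟨he1, he2, r, hr, hne⟩ := hedge e he
    have key : ∀ v w : List ℕ, v ∈ S → w ∈ S → I v → ¬ I w →
        (∃ r < D.nroots, reflWord D (v ++ w) r ≠ reflWord D (w ++ v) r) →
        ∃ s ∈ J, ∃ s' ∈ P.S \ J, s * s' * s⁻¹ * s'⁻¹ ∉ P.B := by
      rintro v w hv hw ⟨n, hn, en⟩ hIw ⟨r, hr, hne⟩
      have hwS : (⟨nWordGL D hF.xadd w, h.s_mem w hw⟩ : ↥G₁) ∈ P.S := ⟨w, hw, rfl⟩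
      refine ⟨n, hn, ⟨nWordGL D hF.xadd w, h.s_mem w hw⟩, ⟨hwS, ?_⟩, ?_⟩
      · intro hJw
        exact hIw ⟨_, hJw, rfl⟩
      · intro hB
        have hB' : ((n * ⟨nWordGL D hF.xadd w, h.s_mem w hw⟩ * n⁻¹ *
            (⟨nWordGL D hF.xadd w, h.s_mem w hw⟩ : ↥G₁)⁻¹ : ↥G₁) :
              GL D.Idx K) ∈ D.borelSubgroup K := (Subgroup.mem_subgroupOf.1 hB).1
        simp only [Subgroup.coe_mul, Subgroup.coe_inv] at hB'
        rw [en] at hB'
        exact hne (h.comm_action hS v w hv hw hB' r hr)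
    rcases hcase with ⟨hI1, hI2⟩ | ⟨hI2, hI1⟩
    · exact key e.1 e.2 he1 he2 hI1 hI2 ⟨r, hr, hne⟩
    · exact key e.2 e.1 he2 he1 hI2 hI1 ⟨r, hr, fun hh => hne hh.symm⟩
  have hsimple : IsSimpleGroup ↥G₁ :=
    Cfsg.Agent.S0319.result P hirr hsolv hperf hcore
  refine ⟨hsimple, ?_⟩
  intro hc
  have : commutator ↥G₁ = ⊥ := by
    rw [commutator_def, Subgroup.commutator_eq_bot_iff_le_centralizer]
    intro x _
    rw [Subgroup.mem_centralizer_iff]
    intro y _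
    exact hc.is_comm.comm y x
  rw [hperf] at this
  exact top_ne_bot this

end

namespace F4

/-- the edges of the twisted diagram -/
def edges : List (List ℕ × List ℕ) := [([0, 3], [1, 2, 1, 2])]

theorem hedge : ∀ e ∈ edges, e.1 ∈ S ∧ e.2 ∈ S ∧
    ∃ r < chevF4.nroots, reflWord chevF4 (e.1 ++ e.2) r ≠ reflWord chevF4 (e.2 ++ e.1) r := by
  decide +kernel

theorem hconn : ∀ I : List ℕ → Prop, (∃ v ∈ S, I v) → (∃ w ∈ S, ¬ I w) →
    ∃ e ∈ edges, (I e.1 ∧ ¬ I e.2) ∨ (I e.2 ∧ ¬ I e.1) := by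
  intro I h1 h2
  simp only [S, edges, List.mem_cons, List.not_mem_nil, or_false, exists_eq_or_imp, exists_eq_left] at h1 h2 ⊢
  by_cases a : I [0, 3] <;> by_cases b : I [1, 2, 1, 2] <;> simp_all

variable {K : Type*} [Field K] [Fintype K] [CharP K 2] {m : ℕ} (hK : Fintype.card K = 2 ^ (2 * m + 1))
  (hperf : ∀ x : K, ∃ y : K, y ^ 2 = x) (f : K ≃+* K) (hf : ∀ t, f t = t ^ (2 ^ m))
include hK hperf hf

/-- **`²F₄(q)` is simple for `q > 2`** -/
theorem simple (hm : 1 ≤ m) :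
    IsSimpleGroup ↥(twistedF4 K (2 ^ m)) ∧ ¬ IsMulCommutative ↥(twistedF4 K (2 ^ m)) :=
  (clsData hK hperf f hf).simple hS hC (Cfsg.Agent.S1050.result chevF4 hmem) (perfect hK hperf f hf hm)
    (normalCore_borel hK hperf f hf) [0, 3] (by decide) edges hedge hconn

end F4

namespace G2

theorem hconn : ∀ I : List ℕ → Prop, (∃ v ∈ S, I v) → (∃ w ∈ S, ¬ I w) →
    ∃ e ∈ ([] : List (List ℕ × List ℕ)), (I e.1 ∧ ¬ I e.2) ∨ (I e.2 ∧ ¬ I e.1) := by
  intro I h1 h2
  simp only [S, List.mem_cons, List.not_mem_nil, or_false, exists_eq_left] at h1 h2 ⊢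
  exact absurd h1 h2

variable {K : Type*} [Field K] [Fintype K] [CharP K 3] {m : ℕ} (hK : Fintype.card K = 3 ^ (2 * m + 1))
  (hperf : ∀ x : K, ∃ y : K, y ^ 3 = x) (f : K ≃+* K) (hf : ∀ t, f t = t ^ (3 ^ m))
include hK hperf hf

/-- **`²G₂(q)` is simple for `q > 3`** -/
theorem simple (hm : 1 ≤ m) :
    IsSimpleGroup ↥(twistedG2 K (3 ^ m)) ∧ ¬ IsMulCommutative ↥(twistedG2 K (3 ^ m)) :=
  (clsData hK hperf f hf).simple hS hC (Cfsg.Agent.S1050.result chevG2 hmem) (perfect hK hperf f hf hm)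
    (normalCore_borel hK hperf f hf) [0, 1, 0, 1, 0, 1] (by decide) [] (by simp) hconn

end G2

end Cfsg.Agent.Lead.Tw
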