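import Mathlib
import Cfsg.Agent.Lib.Helper8.ABDefs

/-!
# S3301 piece AB-MINY (lead): an element `y` with `φ y ^ 2 ≠ 1` of minimal order has 2-power order.
-/

set_option autoImplicit false

namespace Cfsg.Agent.Helper8.AB

/-- PIECE AB-MINY -/
theorem exists_min {G : Type*} [Group G] [Finite G] {A : Type*} [CommGroup A] (H : Subgroup G)
    (φ : ↥H →* A) (h4 : ∀ a : A, a ^ 4 = 1) (hne : ∃ h : ↥H, φ h ^ 2 ≠ 1) :
    ∃ y : ↥H, φ y ^ 2 ≠ 1 ∧ (∃ k : ℕ, 1 ≤ k ∧ orderOf (y : G) = 2 ^ k) ∧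
      ∀ w : ↥H, orderOf (w : G) < orderOf (y : G) → φ w ^ 2 = 1 := by
  classical
  obtain ⟨y, hyS, hymin⟩ := Set.exists_min_image {h : ↥H | φ h ^ 2 ≠ 1} (fun h => orderOf (h : G))
    (Set.toFinite _) hne
  have hmin : ∀ w : ↥H, orderOf (w : G) < orderOf (y : G) → φ w ^ 2 = 1 := by
    intro w hw
    by_contra hcon
    exact absurd (hymin w hcon) (not_le.2 hw)
  refine ⟨y, hyS, ?_, hmin⟩
  have hn0 : orderOf (y : G) ≠ 0 := (orderOf_pos (y : G)).ne'
  obtain ⟨k, s, hs_odd, hn⟩ := Nat.exists_eq_two_pow_mul_odd hn0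
  have hs1 : s = 1 := by
    by_contra hs1
    have hs_pos : 0 < s := hs_odd.pos
    have hs2 : 2 ≤ s := by omega
    have hsdvd : s ∣ orderOf (y : G) := ⟨2 ^ k, by rw [hn, mul_comm]⟩
    have hord : orderOf ((y ^ s : ↥H) : G) = orderOf (y : G) / s := by
      rw [Subgroup.coe_pow]
      exact orderOf_pow_of_dvd hs_pos.ne' hsdvd
    have hlt : orderOf ((y ^ s : ↥H) : G) < orderOf (y : G) := by
      rw [hord]
      exact Nat.div_lt_self (orderOf_pos _) (by omega)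
    have h1 := hmin (y ^ s) hlt
    obtain ⟨j, hj⟩ := hs_odd
    have hsq : (φ y ^ 2) ^ 2 = 1 := by rw [← pow_mul]; exact h4 _
    have h2 : φ (y ^ s) ^ 2 = φ y ^ 2 := by
      rw [map_pow, ← pow_mul, mul_comm, pow_mul, hj, pow_succ, pow_mul, hsq, one_pow, one_mul]
    rw [h2] at h1
    exact hyS h1
  refine ⟨k, ?_, by rw [hn, hs1, mul_one]⟩
  by_contra hk
  have hk0 : k = 0 := by omega
  have h1 : orderOf (y : G) = 1 := by rw [hn, hs1, hk0]; norm_num
  have hy1 : (y : G) = 1 := orderOf_eq_one_iff.1 h1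
  have hy1' : y = 1 := Subtype.ext hy1
  apply hyS
  rw [hy1', map_one, one_pow]

end Cfsg.Agent.Helper8.AB
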