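import Mathlib
import Cfsg.Agent.Lib.Helper20.GL4SubDefs

set_option autoImplicit false

/-! Piece ID168 of S2553 (designer helper20): a subgroup of the alternating group of degree 8
normalizing a nonabelian simple subgroup `S` of order 168 and containing it equals `S`. -/

namespace Cfsg.Agent.Helper20.GL4Sub

open scoped Pointwise

namespace ID168

/-- a subgroup of order 7 of a subgroup `S` of order 168 gives a Sylow 7-subgroup of `S` -/
theorem sylow_of_card [Fact (Nat.Prime 7)] (S : Subgroup A8) (hS : Nat.card S = 168)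
    (R : Subgroup A8) (hRS : R ≤ S) (hR : Nat.card R = 7) :
    ∃ Q : Sylow 7 S, (Q : Subgroup S) = R.subgroupOf S := by
  have hR'card : Nat.card (R.subgroupOf S) = 7 := by
    rw [← hR]
    exact Nat.card_congr (Subgroup.subgroupOfEquivOfLe hRS).toEquiv
  have hR'p : IsPGroup 7 (R.subgroupOf S) := IsPGroup.of_card (n := 1) (by rw [hR'card, pow_one])
  obtain ⟨Q, hQ⟩ := hR'p.exists_le_sylow
  obtain ⟨n, hn⟩ := IsPGroup.iff_card.1 Q.isPGroup'
  have hQdvd : Nat.card (Q : Subgroup S) ∣ 168 := by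
    have := Subgroup.card_subgroup_dvd_card (Q : Subgroup S)
    rwa [hS] at this
  have h7Q : 7 ∣ Nat.card (Q : Subgroup S) := by
    have := Subgroup.card_dvd_of_le hQ
    rwa [hR'card] at this
  have hn1 : n = 1 := by
    rcases Nat.lt_or_ge n 2 with hlt | hge
    · interval_cases n
      · rw [hn] at h7Q; norm_num at h7Q
      · rfl
    · exfalso
      have h49 : 7 ^ 2 ∣ 7 ^ n := pow_dvd_pow 7 hge
      rw [← hn] at h49
      have := h49.trans hQdvd
      norm_num at this
  have hQ7 : Nat.card (Q : Subgroup S) = 7 := by rw [hn, hn1, pow_one]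
  exact ⟨Q, (Subgroup.eq_of_le_of_card_ge hQ (by rw [hQ7, hR'card])).symm⟩

end ID168

/-- ID168 -/
theorem id168 (h7 : N7) (hs : N7S) (S K : Subgroup A8) (hSK : S ≤ K)
    (hN : K ≤ Subgroup.normalizer (S : Set A8)) (hS : IsSimpleGroup S)
    (hna : ¬ IsMulCommutative S) (h : Nat.card S = 168) : K = S := by
  have hp7 : Fact (Nat.Prime 7) := ⟨by norm_num⟩
  -- an element of order 7 of `S`
  obtain ⟨x, hx⟩ := exists_prime_orderOf_dvd_card' (G := S) 7 (by rw [h]; norm_num)
  have hx' : orderOf (x : A8) = 7 := by rw [Subgroup.orderOf_coe]; exact hx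
  set P : Subgroup A8 := Subgroup.zpowers (x : A8) with hPdef
  have hP7 : Nat.card P = 7 := by rw [hPdef, Nat.card_zpowers, hx']
  have hPS : P ≤ S := by
    rw [hPdef, Subgroup.zpowers_le]; exact x.2
  have h21 := hs S hS hna P hPS hP7
  have hN21 := h7 P hP7
  have hNS : Subgroup.normalizer (P : Set A8) ≤ S := by
    have : S ⊓ Subgroup.normalizer (P : Set A8) = Subgroup.normalizer (P : Set A8) :=
      Subgroup.eq_of_le_of_card_ge inf_le_right (by rw [h21, hN21])
    rw [← this]
    exact inf_le_left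
  apply le_antisymm _ hSK
  intro k hk
  -- the conjugate of `P` by `k`
  have hkS : S.map (MulAut.conj k).toMonoidHom = S :=
    Subgroup.mem_normalizer_iff_map_conj_eq.1 (hN hk)
  set R : Subgroup A8 := P.map (MulAut.conj k).toMonoidHom with hRdef
  have hRS : R ≤ S := by
    calc R ≤ S.map (MulAut.conj k).toMonoidHom := Subgroup.map_mono hPS
      _ = S := hkS
  have hR7 : Nat.card R = 7 := by
    rw [← hP7]
    exact Nat.card_congr (P.equivMapOfInjective _ (MulAut.conj k).injective).toEquiv.symm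
  obtain ⟨Q1, hQ1⟩ := ID168.sylow_of_card S h P hPS hP7
  obtain ⟨Q2, hQ2⟩ := ID168.sylow_of_card S h R hRS hR7
  obtain ⟨s, hs12⟩ := MulAction.exists_smul_eq S Q1 Q2
  -- `k⁻¹ * s` normalizes `P`
  have hg : k⁻¹ * (s : A8) ∈ Subgroup.normalizer (P : Set A8) := by
    rw [Subgroup.mem_normalizer_iff_map_conj_eq]
    have hle : P.map (MulAut.conj (k⁻¹ * (s : A8))).toMonoidHom ≤ P := by
      rintro _ ⟨y, hy, rfl⟩
      -- `s y s⁻¹` lies in `R`
      have hyQ1 : (⟨y, hPS hy⟩ : S) ∈ (Q1 : Subgroup S) := by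
        rw [hQ1, Subgroup.mem_subgroupOf]; exact hy
      have hmem : s * (⟨y, hPS hy⟩ : S) * s⁻¹ ∈ ((s • Q1 : Sylow 7 S) : Subgroup S) := by
        rw [Sylow.coe_subgroup_smul]
        exact ⟨⟨y, hPS hy⟩, hyQ1, by simp [MulAut.conj_apply]⟩
      rw [hs12, hQ2, Subgroup.mem_subgroupOf] at hmem
      obtain ⟨z, hz, hzeq⟩ := hmem
      have hzeq' : k * z * k⁻¹ = (s : A8) * y * (s : A8)⁻¹ := by
        simpa [MulAut.conj_apply] using hzeq
      have : (MulAut.conj (k⁻¹ * (s : A8))).toMonoidHom y = z := by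
        simp only [MulEquiv.coe_toMonoidHom, MulAut.conj_apply]
        have : (s : A8) * y * (s : A8)⁻¹ = k * z * k⁻¹ := hzeq'.symm
        calc k⁻¹ * (s : A8) * y * (k⁻¹ * (s : A8))⁻¹
            = k⁻¹ * ((s : A8) * y * (s : A8)⁻¹) * k := by group
          _ = k⁻¹ * (k * z * k⁻¹) * k := by rw [this]
          _ = z := by group
      rw [this]
      exact hz
    refine Subgroup.eq_of_le_of_card_ge hle ?_
    apply le_of_eq
    exact Nat.card_congr
      (P.equivMapOfInjective _ (MulAut.conj (k⁻¹ * (s : A8))).injective).toEquiv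
  have hgS : k⁻¹ * (s : A8) ∈ S := hNS hg
  have hkinv : k⁻¹ ∈ S := by
    have := S.mul_mem hgS (S.inv_mem s.2)
    simpa using this
  simpa using S.inv_mem hkinv

end Cfsg.Agent.Helper20.GL4Sub
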