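import Mathlib
import Cfsg.Agent.Lib.Helper20.GL4SubDefs

set_option autoImplicit false

/-! Piece INHERIT of S2553 (designer helper20): core-freeness passes to normal subgroups. -/

namespace Cfsg.Agent.Helper20.GL4Sub

namespace INHERIT

variable {G : Type*} [Group G]

/-- if `Y` normalizes `X` then the order of `X ⊔ Y` divides the product of the orders -/
theorem card_sup_dvd [Finite G] (X Y : Subgroup G) (h : Y ≤ Subgroup.normalizer (X : Set G)) :
    Nat.card (X ⊔ Y : Subgroup G) ∣ Nat.card X * Nat.card Y := by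
  have hXL : X ≤ X ⊔ Y := le_sup_left
  have hYL : Y ≤ X ⊔ Y := le_sup_right
  have hLN : X ⊔ Y ≤ Subgroup.normalizer (X : Set G) := sup_le Subgroup.le_normalizer h
  have hn : (X.subgroupOf (X ⊔ Y)).Normal :=
    (Subgroup.normal_subgroupOf_iff_le_normalizer hXL).2 hLN
  have htop : Y.subgroupOf (X ⊔ Y) ⊔ X.subgroupOf (X ⊔ Y) = ⊤ := by
    rw [← Subgroup.subgroupOf_sup hYL hXL, sup_comm, Subgroup.subgroupOf_self]
  have h1 : (X.subgroupOf (X ⊔ Y)).relIndex (Y.subgroupOf (X ⊔ Y) ⊔ X.subgroupOf (X ⊔ Y)) =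
      (X.subgroupOf (X ⊔ Y)).relIndex (Y.subgroupOf (X ⊔ Y)) := Subgroup.relIndex_sup_right _ _
  rw [htop, Subgroup.relIndex_top_right] at h1
  have h2 : (X.subgroupOf (X ⊔ Y)).relIndex (Y.subgroupOf (X ⊔ Y)) ∣
      Nat.card (Y.subgroupOf (X ⊔ Y)) := by
    unfold Subgroup.relIndex
    exact Subgroup.index_dvd_card _
  have h3 : Nat.card (X.subgroupOf (X ⊔ Y)) * (X.subgroupOf (X ⊔ Y)).index =
      Nat.card (X ⊔ Y : Subgroup G) := Subgroup.card_mul_index _
  have h4 : Nat.card (X.subgroupOf (X ⊔ Y)) = Nat.card X :=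
    Nat.card_congr (Subgroup.subgroupOfEquivOfLe hXL).toEquiv
  have h5 : Nat.card (Y.subgroupOf (X ⊔ Y)) = Nat.card Y :=
    Nat.card_congr (Subgroup.subgroupOfEquivOfLe hYL).toEquiv
  rw [← h3, h4, h1]
  rw [h5] at h2
  exact Nat.mul_dvd_mul_left _ h2

/-- the normalizers of `X` and `Y` normalize `X ⊔ Y` -/
theorem le_normalizer_sup (B X Y : Subgroup G) (hX : B ≤ Subgroup.normalizer (X : Set G))
    (hY : B ≤ Subgroup.normalizer (Y : Set G)) :
    B ≤ Subgroup.normalizer ((X ⊔ Y : Subgroup G) : Set G) := by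
  intro b hb
  rw [Subgroup.mem_normalizer_iff_map_conj_eq, Subgroup.map_sup,
    Subgroup.mem_normalizer_iff_map_conj_eq.1 (hX hb),
    Subgroup.mem_normalizer_iff_map_conj_eq.1 (hY hb)]

/-- the abstract statement, for a property `P` of orders closed under divisors of products -/
theorem aux [Finite G] (P : ℕ → Prop) (hP : ∀ a b c : ℕ, P a → P b → c ∣ a * b → P c)
    (A B : Subgroup G)
    (hA : ∀ M : Subgroup G, M ≤ A → A ≤ Subgroup.normalizer (M : Set G) → P (Nat.card M) → M = ⊥)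
    (hBA : B ≤ A) (hN : A ≤ Subgroup.normalizer (B : Set G))
    (M : Subgroup G) (hMB : M ≤ B) (hBM : B ≤ Subgroup.normalizer (M : Set G))
    (hPM : P (Nat.card M)) : M = ⊥ := by
  classical
  let 𝒮 : Set (Subgroup G) :=
    {X | X ≤ B ∧ B ≤ Subgroup.normalizer (X : Set G) ∧ P (Nat.card X)}
  have hM𝒮 : M ∈ 𝒮 := ⟨hMB, hBM, hPM⟩
  obtain ⟨X, hX𝒮, hmax⟩ := Set.exists_max_image 𝒮 (fun X : Subgroup G => Nat.card X)
    (Set.toFinite 𝒮) ⟨M, hM𝒮⟩
  obtain ⟨hXB, hBX, hPX⟩ := hX𝒮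
  -- every member lies in `X`
  have hle : ∀ Y : Subgroup G, Y ∈ 𝒮 → Y ≤ X := by
    rintro Y ⟨hYB, hBY, hPY⟩
    have hmem : (X ⊔ Y : Subgroup G) ∈ 𝒮 :=
      ⟨sup_le hXB hYB, le_normalizer_sup B X Y hBX hBY,
        hP _ _ _ hPX hPY (card_sup_dvd X Y (hYB.trans hBX))⟩
    have hc : Nat.card (X ⊔ Y : Subgroup G) ≤ Nat.card X := hmax _ hmem
    have heq : X = X ⊔ Y := Subgroup.eq_of_le_of_card_ge le_sup_left hc
    rw [heq]
    exact le_sup_right
  -- the conjugates of `X` under `A` are members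
  have hconj : ∀ a ∈ A, X.map (MulAut.conj a).toMonoidHom ≤ X := by
    intro a ha
    apply hle
    have haB : B.map (MulAut.conj a).toMonoidHom = B :=
      Subgroup.mem_normalizer_iff_map_conj_eq.1 (hN ha)
    refine ⟨?_, ?_, ?_⟩
    · calc X.map (MulAut.conj a).toMonoidHom ≤ B.map (MulAut.conj a).toMonoidHom :=
            Subgroup.map_mono hXB
        _ = B := haB
    · rw [Subgroup.le_normalizer_iff]
      rintro b hb k ⟨x, hx, rfl⟩
      have hb' : a⁻¹ * b * a ∈ B := by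
        have : a⁻¹ ∈ Subgroup.normalizer (B : Set G) := (Subgroup.normalizer (B : Set G)).inv_mem (hN ha)
        have h := (Subgroup.le_normalizer_iff.1 (le_refl (Subgroup.normalizer (B : Set G)))) a⁻¹ this b hb
        simpa using h
      have hx' : (a⁻¹ * b * a) * x * (a⁻¹ * b * a)⁻¹ ∈ X :=
        Subgroup.le_normalizer_iff.1 hBX _ hb' x hx
      refine ⟨(a⁻¹ * b * a) * x * (a⁻¹ * b * a)⁻¹, hx', ?_⟩
      simp only [MulEquiv.coe_toMonoidHom, MulAut.conj_apply]
      group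
    · have : Nat.card (X.map (MulAut.conj a).toMonoidHom) = Nat.card X :=
        Nat.card_congr (X.equivMapOfInjective _ (MulAut.conj a).injective).toEquiv.symm
      rw [this]
      exact hPX
  -- so `A` normalizes `X`
  have hAX : A ≤ Subgroup.normalizer (X : Set G) := by
    rw [Subgroup.le_normalizer_iff]
    intro a ha x hx
    have : a * x * a⁻¹ ∈ X.map (MulAut.conj a).toMonoidHom := ⟨x, hx, by simp [MulAut.conj_apply]⟩
    exact hconj a ha this
  have hX0 : X = ⊥ := hA X (hXB.trans hBA) hAX hPX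
  have : M ≤ X := hle M hM𝒮
  rw [hX0] at this
  exact le_bot_iff.1 this

end INHERIT

/-- INHERIT -/
theorem inherit {G : Type*} [Group G] [Finite G] : Inherit G := by
  intro A B hA hBA hN M hMB hBM hkind
  rcases hkind with h2 | hodd
  · -- 2-groups: the order is a power of 2
    refine INHERIT.aux (fun n => ∃ k : ℕ, n = 2 ^ k) ?_ A B ?_ hBA hN M hMB hBM
      (IsPGroup.iff_card.1 h2)
    · rintro a b c ⟨i, rfl⟩ ⟨j, rfl⟩ hc
      rw [← pow_add] at hc
      obtain ⟨k, _, hk⟩ := (Nat.dvd_prime_pow Nat.prime_two).1 hc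
      exact ⟨k, hk⟩
    · intro M' h1 h2' h3
      exact hA M' h1 h2' (Or.inl (IsPGroup.iff_card.2 h3))
  · refine INHERIT.aux (fun n => n.Coprime 2) ?_ A B ?_ hBA hN M hMB hBM hodd
    · intro a b c ha hb hc
      exact Nat.Coprime.coprime_dvd_left hc (Nat.Coprime.mul_left ha hb)
    · intro M' h1 h2' h3
      exact hA M' h1 h2' (Or.inr h3)

end Cfsg.Agent.Helper20.GL4Sub
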