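import Mathlib
import Cfsg.Agent.Lib.Helper20.GL4SubDefs

set_option autoImplicit false

/-! Piece N7S of S2553 (designer helper20): inside a nonabelian simple subgroup of the
alternating group of degree 8, the normalizer of a subgroup of order 7 has order 21. -/

namespace Cfsg.Agent.Helper20.GL4Sub

namespace N7S

/-- a nonabelian simple group has no self-normalizing Sylow subgroup of prime order
(Burnside's transfer theorem) -/
theorem no_self_normalizing {H : Type*} [Group H] [Finite H] [IsSimpleGroup H]
    (hna : ¬ IsMulCommutative H) (p : ℕ) [hp : Fact p.Prime] (Q : Sylow p H)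
    (hQ : Nat.card (Q : Subgroup H) = p)
    (hN : Subgroup.normalizer ((Q : Subgroup H) : Set H) ≤ (Q : Subgroup H)) : False := by
  have hcyc : IsCyclic (Q : Subgroup H) := isCyclic_of_prime_card hQ
  have hcomm : IsMulCommutative (Q : Subgroup H) := IsCyclic.isMulCommutative
  have hQC : (Q : Subgroup H) ≤ Subgroup.centralizer ((Q : Subgroup H) : Set H) := by
    intro x hx y hy
    have := hcomm.is_comm.comm (⟨y, hy⟩ : (Q : Subgroup H)) ⟨x, hx⟩
    exact congrArg Subtype.val this
  have hP : Subgroup.normalizer ((Q : Subgroup H) : Set H) ≤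
      Subgroup.centralizer ((Q : Subgroup H) : Set H) := hN.trans hQC
  have hcompl := MonoidHom.ker_transferSylow_isComplement' Q hP
  have hcard := hcompl.card_mul_card
  rcases (MonoidHom.transferSylow Q hP).normal_ker.eq_bot_or_eq_top with h | h
  · rw [h, Subgroup.card_bot, one_mul, hQ] at hcard
    have hcycH : IsCyclic H := isCyclic_of_prime_card hcard.symm
    exact hna IsCyclic.isMulCommutative
  · rw [h, Subgroup.card_top, hQ] at hcard
    have hpos : 0 < Nat.card H := Nat.card_pos
    have : p = 1 := by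
      have h1 : Nat.card H * p = Nat.card H * 1 := by rw [hcard, mul_one]
      exact Nat.eq_of_mul_eq_mul_left hpos h1
    exact hp.out.one_lt.ne' this

end N7S

/-- N7S -/
theorem n7s (h7 : N7) : N7S := by
  intro S hS hna P hPS hP7
  have hN21 := h7 P hP7
  have hPN : P ≤ S ⊓ Subgroup.normalizer (P : Set A8) := le_inf hPS Subgroup.le_normalizer
  have h7dvd : 7 ∣ Nat.card (S ⊓ Subgroup.normalizer (P : Set A8) : Subgroup A8) := by
    have := Subgroup.card_dvd_of_le hPN
    rwa [hP7] at this
  have hdvd21 : Nat.card (S ⊓ Subgroup.normalizer (P : Set A8) : Subgroup A8) ∣ 21 := by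
    have := Subgroup.card_dvd_of_le
      (inf_le_right : S ⊓ Subgroup.normalizer (P : Set A8) ≤ Subgroup.normalizer (P : Set A8))
    rwa [hN21] at this
  obtain ⟨k, hk⟩ := h7dvd
  have hk3 : k ∣ 3 := by
    rw [hk, show (21 : ℕ) = 7 * 3 by norm_num] at hdvd21
    exact Nat.dvd_of_mul_dvd_mul_left (by norm_num) hdvd21
  rcases (Nat.dvd_prime Nat.prime_three).1 hk3 with h1 | h3
  · -- the bad case: `S ⊓ N(P) = P`
    exfalso
    have hcard7 : Nat.card (S ⊓ Subgroup.normalizer (P : Set A8) : Subgroup A8) = 7 := by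
      rw [hk, h1]
    have hEq : P = S ⊓ Subgroup.normalizer (P : Set A8) :=
      Subgroup.eq_of_le_of_card_ge hPN (by rw [hcard7, hP7])
    have : Fact (Nat.Prime 7) := ⟨by norm_num⟩
    have hP'card : Nat.card (P.subgroupOf S) = 7 := by
      rw [← hP7]
      exact Nat.card_congr (Subgroup.subgroupOfEquivOfLe hPS).toEquiv
    have hP'p : IsPGroup 7 (P.subgroupOf S) := IsPGroup.of_card (n := 1) (by rw [hP'card, pow_one])
    obtain ⟨Q, hQ⟩ := hP'p.exists_le_sylow
    obtain ⟨n, hn⟩ := IsPGroup.iff_card.1 Q.isPGroup'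
    have hSdvd : Nat.card S ∣ 20160 := by
      have := Subgroup.card_subgroup_dvd_card S
      rwa [card_A8] at this
    have hQdvd : Nat.card (Q : Subgroup S) ∣ 20160 :=
      (Subgroup.card_subgroup_dvd_card (Q : Subgroup S)).trans hSdvd
    have h7Q : 7 ∣ Nat.card (Q : Subgroup S) := by
      have := Subgroup.card_dvd_of_le hQ
      rwa [hP'card] at this
    have hn1 : n = 1 := by
      rcases Nat.lt_or_ge n 2 with hlt | hge
      · interval_cases n
        · rw [hn] at h7Q; norm_num at h7Q
        · rfl
      · exfalso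
        have h49 : 7 ^ 2 ∣ 7 ^ n := pow_dvd_pow 7 hge
        rw [← hn] at h49
        have := h49.trans hQdvd
        norm_num at this
    have hQ7 : Nat.card (Q : Subgroup S) = 7 := by rw [hn, hn1, pow_one]
    have hQeq : P.subgroupOf S = (Q : Subgroup S) :=
      Subgroup.eq_of_le_of_card_ge hQ (by rw [hQ7, hP'card])
    have : IsSimpleGroup S := hS
    refine N7S.no_self_normalizing (H := S) hna 7 Q hQ7 ?_
    rw [← hQeq, ← Subgroup.subgroupOf_normalizer_eq hPS]
    intro x hx
    rw [Subgroup.mem_subgroupOf] at hx ⊢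
    have : (x : A8) ∈ S ⊓ Subgroup.normalizer (P : Set A8) := ⟨x.2, hx⟩
    rw [← hEq] at this
    exact this
  · rw [hk, h3]

end Cfsg.Agent.Helper20.GL4Sub
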