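import Mathlib
import Cfsg.Agent.Lib.Helper20.GL4SubDefs

set_option autoImplicit false

/-! Piece STAB7 of S2553 (designer helper20): the stabilizer of the last point in the
alternating group of degree 8 is isomorphic to the alternating group of degree 7. -/

namespace Cfsg.Agent.Helper20.GL4Sub

namespace STAB7

/-- the embedding of the alternating group of degree 7 -/
def toA8 : alternatingGroup (Fin 7) →* A8 :=
  MonoidHom.codRestrict
    ((Equiv.Perm.extendDomainHom (finSuccAboveEquiv (Fin.last 7))).comp
      (alternatingGroup (Fin 7)).subtype) (alternatingGroup (Fin 8)) (by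
    intro x
    rw [Equiv.Perm.mem_alternatingGroup]
    change Equiv.Perm.sign (Equiv.Perm.extendDomain (x : Equiv.Perm (Fin 7)) _) = 1
    rw [Equiv.Perm.sign_extendDomain]
    exact Equiv.Perm.mem_alternatingGroup.1 x.2)

theorem toA8_injective : Function.Injective toA8 := by
  intro x y h
  have h' := congrArg Subtype.val h
  change Equiv.Perm.extendDomainHom (finSuccAboveEquiv (Fin.last 7)) (x : Equiv.Perm (Fin 7)) =
    Equiv.Perm.extendDomainHom (finSuccAboveEquiv (Fin.last 7)) (y : Equiv.Perm (Fin 7)) at h'
  exact Subtype.ext (Equiv.Perm.extendDomainHom_injective _ h')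

theorem toA8_mem (x : alternatingGroup (Fin 7)) : toA8 x ∈ stabLast := by
  unfold stabLast
  rw [Subgroup.mem_subgroupOf, MulAction.mem_stabilizer_iff]
  change Equiv.Perm.extendDomain (x : Equiv.Perm (Fin 7)) (finSuccAboveEquiv (Fin.last 7))
    (Fin.last 7) = Fin.last 7
  exact Equiv.Perm.extendDomain_apply_not_subtype _ _ (by simp)

theorem card_A7' : Nat.card (alternatingGroup (Fin 7)) = 2520 := by
  have h := two_mul_card_alternatingGroup (α := Fin 7)
  rw [Fintype.card_perm, Fintype.card_fin] at h
  rw [Nat.card_eq_fintype_card]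
  have : Nat.factorial 7 = 5040 := by decide
  omega

theorem stabLast_eq : stabLast = MulAction.stabilizer A8 (Fin.last 7) := by
  ext g
  unfold stabLast
  rw [Subgroup.mem_subgroupOf, MulAction.mem_stabilizer_iff, MulAction.mem_stabilizer_iff]
  rfl

theorem card_stabLast : Nat.card stabLast = 2520 := by
  have : MulAction.IsPretransitive (alternatingGroup (Fin 8)) (Fin 8) :=
    alternatingGroup.isPretransitive_of_three_le_card (Fin 8) (by simp)
  have hidx : (MulAction.stabilizer A8 (Fin.last 7)).index = Nat.card (Fin 8) :=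
    MulAction.index_stabilizer_of_transitive A8 (Fin.last 7)
  have hmul := Subgroup.card_mul_index (MulAction.stabilizer A8 (Fin.last 7))
  rw [hidx, card_A8, Nat.card_eq_fintype_card (α := Fin 8), Fintype.card_fin] at hmul
  rw [stabLast_eq]
  omega

end STAB7

/-- STAB7 -/
theorem stab_iso_A7 : Nonempty (stabLast ≃* alternatingGroup (Fin 7)) := by
  have hle : STAB7.toA8.range ≤ stabLast := by
    rintro _ ⟨x, rfl⟩
    exact STAB7.toA8_mem x
  have hcard : Nat.card STAB7.toA8.range = 2520 := by
    rw [← STAB7.card_A7']
    exact Nat.card_congr (MonoidHom.ofInjective STAB7.toA8_injective).toEquiv.symm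
  have heq : STAB7.toA8.range = stabLast :=
    Subgroup.eq_of_le_of_card_ge hle (by rw [hcard, STAB7.card_stabLast])
  exact ⟨((MonoidHom.ofInjective STAB7.toA8_injective).trans
    (MulEquiv.subgroupCongr heq)).symm⟩

end Cfsg.Agent.Helper20.GL4Sub
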