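import Mathlib
import Cfsg.Prelude.Def_Transfer
import Cfsg.Agent.Lib.Helper20.SchDefs

/-!
S4395 piece SCH-G0CARD: the order of `G0 = Heis β ⋊ C_n`.
-/

set_option autoImplicit false

namespace Cfsg.Agent.Helper20.Sch

universe u

variable {p q : ℕ} [Fact p.Prime] [Fact q.Prime]

section G0

variable {V C : Type*} [AddCommGroup V] [AddCommGroup C] [Finite V] [Finite C]
  (β : V →+ V →+ C) (m : V ≃+ V) (hm : ∀ x y, β (m x) (m y) = β x y)

/-- `Heis β` is `V × C` as a type -/
def sch_g0card_equiv : Heis β ≃ V × C where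
  toFun a := (a.fst, a.snd)
  invFun x := ⟨x.1, x.2⟩
  left_inv _ := rfl
  right_inv _ := rfl

/-- SCH-G0CARD -/
theorem card_G0 (n : ℕ) [NeZero n] (hn : Heis.aut β m hm ^ n = 1) :
    Nat.card (G0 β m hm n hn) = Nat.card V * Nat.card C * n := by
  rw [Nat.card_congr (SemidirectProduct.equivProd), Nat.card_prod,
    Nat.card_congr (sch_g0card_equiv β), Nat.card_prod]
  congr 1
  rw [Nat.card_congr (Multiplicative.toAdd : Multiplicative (ZMod n) ≃ ZMod n), Nat.card_zmod]

end G0

end Cfsg.Agent.Helper20.Sch
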