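import Mathlib
import Cfsg.Agent.Lib.Helper20.W3Defs

/-! # S3300 piece W3-F2 (lead): an edge has an odd number of common neighbours (core version, with
`star_count` and `arc_symm` as hypotheses). -/

set_option autoImplicit false

namespace Cfsg.Agent.Helper20.W3

open Cfsg.Agent.Helper8.XS Cfsg.Agent.Helper8.AB

section ctx

variable {G : Type*} [Group G] [Finite G] {z : G} {H E K : Subgroup G} {n : ℕ}

/-- transport of the two `Tset` conditions to the conjugate `k = r z r⁻¹` -/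
theorem w3f2_key (χ : ↥H →* ℤˣ)
    (hF1 : ∀ r : G, valH χ (r * z * r⁻¹) = valH χ (r⁻¹ * z * r)) (s r : G) :
    valH χ (r * z * r⁻¹) = valH χ (r⁻¹ * z * r) ∧
    valH χ (s⁻¹ * (r * z * r⁻¹) * s) = valH χ (r⁻¹ * (s * z * s⁻¹) * r) := by
  refine ⟨hF1 r, ?_⟩
  have h := hF1 (s⁻¹ * r)
  have e1 : s⁻¹ * r * z * (s⁻¹ * r)⁻¹ = s⁻¹ * (r * z * r⁻¹) * s := by group
  have e2 : (s⁻¹ * r)⁻¹ * z * (s⁻¹ * r) = r⁻¹ * (s * z * s⁻¹) * r := by group
  rw [e1, e2] at h
  exact h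

theorem w3f2_neg_one_pow {m : ℕ} (h : (-1 : ℤˣ) = (-1) ^ m) : Odd m := by
  rcases Nat.even_or_odd m with he | ho
  · rw [he.neg_one_pow] at h
    exact absurd h (by decide)
  · exact ho

/-- core of W3-F2 -/
theorem odd_N_core (c : Ctx3 z H E K n) (χ : ↥H →* ℤˣ)
    (hCOUNT : ∀ [Fintype (G ⧸ H)] (y : G), y ∈ H → y * y = 1 → y ≠ 1 →
      valH χ y = (-1) ^ (Tset χ z y).card)
    (hF1 : ∀ r : G, valH χ (r * z * r⁻¹) = valH χ (r⁻¹ * z * r))
    (s : G) (hs : valH χ (s * z * s⁻¹) = -1) :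
    Odd (Set.ncard (Nset χ z s)) := by
  classical
  have : Fintype (G ⧸ H) := Fintype.ofFinite _
  have huH : s * z * s⁻¹ ∈ H := val_neg_mem χ hs
  have huu : (s * z * s⁻¹) * (s * z * s⁻¹) = 1 := by
    have : (s * z * s⁻¹) * (s * z * s⁻¹) = s * (z * z) * s⁻¹ := by group
    rw [this, c.hzz]; group
  have hu1 : s * z * s⁻¹ ≠ 1 := by
    intro h
    apply c.hz1
    have : z = s⁻¹ * (s * z * s⁻¹) * s := by group
    rw [this, h]; group
  have hcount := hCOUNT (s * z * s⁻¹) huH huu hu1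
  rw [hs] at hcount
  have hodd : Odd (Tset χ z (s * z * s⁻¹)).card := w3f2_neg_one_pow hcount
  -- the bijection
  have himg : Nset χ z s =
      (fun x : G ⧸ H => x.out * z * x.out⁻¹) '' (↑(Tset χ z (s * z * s⁻¹)) : Set (G ⧸ H)) := by
    ext k
    constructor
    · rintro ⟨⟨r, rfl⟩, h1, h2⟩
      obtain ⟨h, hh⟩ := QuotientGroup.mk_out_eq_mul H r
      have hhz : (h : G) * z = z * (h : G) := (c.hH _).1 h.2
      have hk : ((r : G ⧸ H).out) * z * ((r : G ⧸ H).out)⁻¹ = r * z * r⁻¹ := by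
        rw [hh]
        calc r * (h : G) * z * (r * (h : G))⁻¹ = r * ((h : G) * z) * (h : G)⁻¹ * r⁻¹ := by group
          _ = r * (z * (h : G)) * (h : G)⁻¹ * r⁻¹ := by rw [hhz]
          _ = r * z * r⁻¹ := by group
      refine ⟨(r : G ⧸ H), ?_, hk⟩
      rw [Finset.mem_coe, mem_Tset]
      obtain ⟨k1, k2⟩ := w3f2_key χ hF1 s ((r : G ⧸ H).out)
      rw [hk] at k1 k2
      exact ⟨k1 ▸ h1, k2 ▸ h2⟩
    · rintro ⟨x, hx, rfl⟩
      rw [Finset.mem_coe, mem_Tset] at hx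
      obtain ⟨k1, k2⟩ := w3f2_key χ hF1 s x.out
      refine ⟨⟨x.out, rfl⟩, ?_, ?_⟩
      · rw [k1]; exact hx.1
      · show valH χ (s⁻¹ * (x.out * z * x.out⁻¹) * s) = -1
        rw [k2]; exact hx.2
  have hinj : Set.InjOn (fun x : G ⧸ H => x.out * z * x.out⁻¹)
      (↑(Tset χ z (s * z * s⁻¹)) : Set (G ⧸ H)) := by
    intro x _ x' _ hxx
    simp only at hxx
    have hmem : x.out⁻¹ * x'.out ∈ H := by
      rw [c.hH]
      calc x.out⁻¹ * x'.out * z = x.out⁻¹ * (x'.out * z * x'.out⁻¹) * x'.out := by group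
        _ = x.out⁻¹ * (x.out * z * x.out⁻¹) * x'.out := by rw [hxx]
        _ = z * (x.out⁻¹ * x'.out) := by group
    have := (QuotientGroup.eq (s := H) (a := x.out) (b := x'.out)).2 hmem
    rwa [QuotientGroup.out_eq', QuotientGroup.out_eq'] at this
  rw [himg, Set.InjOn.ncard_image hinj, Set.ncard_coe_finset]
  exact hodd

end ctx

end Cfsg.Agent.Helper20.W3
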