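import Mathlib
import Cfsg.Prelude.Def_Blocks
import Cfsg.Agent.Lib.Helper24.CharLinear
import Cfsg.Agent.Lib.Helper24.CharInduced
import Cfsg.Agent.Lib.Helper24.CharComplete
import Cfsg.Agent.Lib.Helper10.BR996Defs
import Cfsg.Agent.Lib.Helper21.BTDefs
import Cfsg.Agent.Lib.Helper21.BHDefs

/-!
# S4504 (helper21's farm-out), piece FIBER: the class multiplication constants of `G` and of `G / Z(G)`
-/

set_option autoImplicit false
set_option linter.unusedSectionVars false
set_option linter.unusedVariables false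

namespace Cfsg.Agent.Helper21.BH

open scoped ComplexConjugate
open Cfsg Cfsg.Agent.Helper24 Cfsg.Agent.Helper10.BR996 Cfsg.Agent.Helper21.BT

universe u

namespace FIBER

variable {G : Type u} [Group G] {H : Type u} [Group H] (π : G →* H)

/-- a fibre of `π` is a coset of the kernel -/
def fibEquiv (g₀ : G) : {g : G // π g = π g₀} ≃ π.ker where
  toFun g := ⟨g₀⁻¹ * g.1, by rw [MonoidHom.mem_ker, map_mul, map_inv, g.2, inv_mul_cancel]⟩
  invFun k := ⟨g₀ * k.1, by rw [map_mul, MonoidHom.mem_ker.mp k.2, mul_one]⟩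
  left_inv g := by apply Subtype.ext; simp
  right_inv k := by apply Subtype.ext; simp

theorem card_fib [Finite G] (hπ : Function.Surjective π) (h : H) :
    Nat.card {g : G // π g = h} = Nat.card π.ker := by
  obtain ⟨g₀, rfl⟩ := hπ h
  exact Nat.card_congr (fibEquiv π g₀)

/-- the product of the two conjugates -/
def prodConj {K : Type u} [Group K] (a b : K) (c : K × K) : K :=
  (c.1 * a * c.1⁻¹) * (c.2 * b * c.2⁻¹)

theorem map_prodConj (a b : G) (c : G × G) :
    π (prodConj a b c) = prodConj (π a) (π b) (π c.1, π c.2) := by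
  simp [prodConj, map_mul, map_inv]

/-- the pairs over `x Z` -/
def sigmaEquiv (hker : π.ker = Subgroup.center G) (a b x : G) :
    (Σ z : Subgroup.center G, {c : G × G // prodConj a b c = x * (z : G)}) ≃
      {c : G × G // π (prodConj a b c) = π x} where
  toFun s := ⟨s.2.1, by
    have hz : (s.1 : G) ∈ π.ker := by rw [hker]; exact s.1.2
    rw [s.2.2, map_mul, MonoidHom.mem_ker.mp hz, mul_one]⟩
  invFun c := ⟨⟨x⁻¹ * prodConj a b c.1, by
    rw [← hker, MonoidHom.mem_ker, map_mul, map_inv, c.2, inv_mul_cancel]⟩, ⟨c.1, by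
    simp⟩⟩
  left_inv s := by
    obtain ⟨⟨z, hz⟩, ⟨c, hc⟩⟩ := s
    simp only at hc
    have : x⁻¹ * prodConj a b c = z := by rw [hc]; group
    subst this
    rfl
  right_inv c := by
    apply Subtype.ext
    rfl

/-- the pairs over a pair of `H` -/
def pairEquiv (a b x : G) :
    {c : G × G // π (prodConj a b c) = π x} ≃
      Σ d : {d : H × H // prodConj (π a) (π b) d = π x},
        {g : G // π g = d.1.1} × {g : G // π g = d.1.2} where
  toFun c := ⟨⟨(π c.1.1, π c.1.2), by rw [← map_prodConj]; exact c.2⟩, ⟨c.1.1, rfl⟩, ⟨c.1.2, rfl⟩⟩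
  invFun s := ⟨(s.2.1.1, s.2.2.1), by
    rw [map_prodConj]
    simp only
    rw [s.2.1.2, s.2.2.2]
    exact s.1.2⟩
  left_inv c := by
    apply Subtype.ext
    rfl
  right_inv s := by
    obtain ⟨⟨⟨d1, d2⟩, hd⟩, ⟨g1, h1⟩, ⟨g2, h2⟩⟩ := s
    simp only at h1 h2
    subst h1 h2
    rfl

end FIBER

section GH

variable {G : Type u} [Group G] [Fintype G] [Fintype (IrrCharacter G)]
  [Fintype (Subgroup.center G)]
variable {H : Type u} [Group H] [Fintype H] [Fintype (IrrCharacter H)]
variable {p : ℕ} [Fact p.Prime] {P : Sylow p G} {w : ℕ} {ζ ζ' : IrrCharacter G} {z₁ z₂ : G}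
variable (π : G →* H)

/-- PIECE FIBER (pure counting; valid for any normal subgroup in place of the centre): the fibres of
`G × G → H × H` have `|Z|²` elements. -/
theorem fiber (hπ : Function.Surjective π) (hker : π.ker = Subgroup.center G) (a b x : G) :
    ∑ c : Subgroup.center G, NC a b (x * (c : G)) =
      Nat.card (Subgroup.center G) ^ 2 * NC (π a) (π b) (π x) := by
  classical
  have h1 : ∑ c : Subgroup.center G, NC a b (x * (c : G)) =
      Nat.card {c : G × G // π (FIBER.prodConj a b c) = π x} := by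
    rw [← Nat.card_congr (FIBER.sigmaEquiv π hker a b x), Nat.card_sigma]
    rfl
  rw [h1, Nat.card_congr (FIBER.pairEquiv π a b x), Nat.card_sigma]
  have h2 : ∀ d : {d : H × H // FIBER.prodConj (π a) (π b) d = π x},
      Nat.card ({g : G // π g = d.1.1} × {g : G // π g = d.1.2}) =
        Nat.card (Subgroup.center G) ^ 2 := by
    intro d
    rw [Nat.card_prod, FIBER.card_fib π hπ, FIBER.card_fib π hπ, hker, sq]
  simp only [h2]
  rw [Finset.sum_const, Finset.card_univ, smul_eq_mul, ← Nat.card_eq_fintype_card, mul_comm]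
  rfl

end GH

end Cfsg.Agent.Helper21.BH
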