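import Mathlib
import Cfsg.Agent.Lib.Lead.TwE6Grp
import Cfsg.Agent.Lib.Lead.TwCard

/-!
# `|U¹| = q^36` for `²E₆(q)`
-/

set_option autoImplicit false
set_option linter.unusedSectionVars false
set_option linter.unusedSimpArgs false
set_option linter.unusedVariables false

namespace Cfsg.Agent.Lead.Tw.E6

open Cfsg Cfsg.Lie Cfsg.Agent.Lead.Chev Cfsg.Agent.Helper6.ChevC

variable {K : Type*} [Field K] [Fintype K] {q : ℕ} (hq : 1 < q) (hK : Fintype.card K = q ^ 2)
  (f : K ≃+* K) (hf : ∀ t, f t = t ^ q)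
include hq hK hf

theorem card_fixed_single (i : ℕ) (hi : i < 6) (hiS : [i] ∈ S) (h1 : πs i = i) :
    Nat.card (FixedIn (tw f) (negPart chevE6 (hF (K := K)).xadd [i])) = q ^ 1 := by
  have hd := orthData f
  rw [(tw f).card_fixed_class hF (hd.cls _ hiS) (hd.perm _ hiS) (hd.neg_simple _ hiS) i (by simp)
    {t : K | t ^ q = t}, pow_one]
  · exact card_fixed_pow hq (by norm_num : 0 < 2) hK
  · intro t
    constructor
    · intro ht
      exact ⟨fun _ => t, fixPos_single hK f hf i hi h1 t ht, rfl⟩
    · rintro ⟨φ, hφ, rfl⟩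
      have := hφ i (by simp)
      rw [c_simple f i hi, hf] at this
      have h2 : φ (πs i) = φ i ^ q := this
      rw [h1] at h2
      exact h2.symm
  · intro φ ψ _ _ h0 k hk
    rw [List.mem_singleton] at hk
    rw [hk, h0]

theorem card_fixed_pair (i j : ℕ) (hi : i < 6) (hj : j < 6) (hij : j ≠ i) (hiS : [i, j] ∈ S) (h1 : πs i = j)
    (h2 : πs j = i) :
    Nat.card (FixedIn (tw f) (negPart chevE6 (hF (K := K)).xadd [i, j])) = q ^ 2 := by
  have hd := orthData f
  rw [(tw f).card_fixed_class hF (hd.cls _ hiS) (hd.perm _ hiS) (hd.neg_simple _ hiS) i (by simp)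
    (Set.univ : Set K)]
  · rw [Nat.card_congr (Equiv.Set.univ K), Nat.card_eq_fintype_card, hK]
  · intro t
    simp only [Set.mem_univ, true_iff]
    exact ⟨_, fixPos_pair hK f hf i j hi hj hij h1 h2 t, by simp⟩
  · intro φ ψ hφ hψ h0 k hk
    simp only [List.mem_cons, List.not_mem_nil, or_false] at hk
    rcases hk with rfl | rfl
    · exact h0
    · have e1 := hφ i (by simp)
      have e2 := hψ i (by simp)
      rw [c_simple f i hi] at e1 e2
      have e1' : φ (πs i) = f (φ i) := e1
      have e2' : ψ (πs i) = f (ψ i) := e2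
      rw [h1] at e1' e2'
      rw [e1', e2', h0]

/-- **`|G¹ ∩ U| = q^36`** -/
theorem card_U : Nat.card ↥(chevE6.posUnipotent K ⊓ twistedE6 K q) = q ^ 36 := by
  rw [twisted_eq hK f hf, (orthData f).card_posUnipotent_inf (corSize_of_mem _ hmem) (corComb_of_mem _ hmem),
    prod_map_pow q]
  · rfl
  · intro v hv
    have hvS : v ∈ S := chk.chain_mem v hv
    simp only [S, List.mem_cons, List.not_mem_nil, or_false] at hvS
    rcases hvS with rfl | rfl | rfl | rfl
    · exact card_fixed_single hq hK f hf 1 (by norm_num) (by decide) rfl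
    · exact card_fixed_single hq hK f hf 3 (by norm_num) (by decide) rfl
    · exact card_fixed_pair hq hK f hf 0 5 (by norm_num) (by norm_num) (by norm_num) (by decide) rfl rfl
    · exact card_fixed_pair hq hK f hf 2 4 (by norm_num) (by norm_num) (by norm_num) (by decide) rfl rfl

end Cfsg.Agent.Lead.Tw.E6
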