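import Mathlib
import Cfsg.Agent.Lib.Lead.TwSum
import Cfsg.Agent.Lib.Lead.TwE6
import Cfsg.Agent.Lib.Lead.PolyList
import Cfsg.Agent.Lib.Lead.TwE6SumData

/-!
# The Poincaré sum of the twisted Weyl group of `²E₆`
-/

set_option autoImplicit false

namespace Cfsg.Agent.Lead.Tw.E6

open Cfsg Cfsg.Lie Cfsg.Agent.Lead.Chev Cfsg.Agent.Lead.PolyL

set_option maxRecDepth 1000000 in
theorem twChk_0 : twReps_0.all (repChkT chevE6 (wsOf chevE6) S twReps) = true := by
  decide +kernel

set_option maxRecDepth 1000000 in
theorem twChk_1 : twReps_1.all (repChkT chevE6 (wsOf chevE6) S twReps) = true := by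
  decide +kernel

set_option maxRecDepth 1000000 in
theorem twChk_2 : twReps_2.all (repChkT chevE6 (wsOf chevE6) S twReps) = true := by
  decide +kernel

set_option maxRecDepth 1000000 in
theorem twChk_3 : twReps_3.all (repChkT chevE6 (wsOf chevE6) S twReps) = true := by
  decide +kernel

set_option maxRecDepth 1000000 in
theorem twChk_4 : twReps_4.all (repChkT chevE6 (wsOf chevE6) S twReps) = true := by
  decide +kernel

set_option maxRecDepth 1000000 in
theorem twChk_5 : twReps_5.all (repChkT chevE6 (wsOf chevE6) S twReps) = true := by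
  decide +kernel

set_option maxRecDepth 1000000 in
theorem twChk_6 : twReps_6.all (repChkT chevE6 (wsOf chevE6) S twReps) = true := by
  decide +kernel

set_option maxRecDepth 1000000 in
theorem twChk_7 : twReps_7.all (repChkT chevE6 (wsOf chevE6) S twReps) = true := by
  decide +kernel

set_option maxRecDepth 1000000 in
theorem twChk_8 : twReps_8.all (repChkT chevE6 (wsOf chevE6) S twReps) = true := by
  decide +kernel

set_option maxRecDepth 1000000 in
theorem twChk_9 : twReps_9.all (repChkT chevE6 (wsOf chevE6) S twReps) = true := by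
  decide +kernel

set_option maxRecDepth 1000000 in
theorem twChk_10 : twReps_10.all (repChkT chevE6 (wsOf chevE6) S twReps) = true := by
  decide +kernel

set_option maxRecDepth 1000000 in
theorem twChk_11 : twReps_11.all (repChkT chevE6 (wsOf chevE6) S twReps) = true := by
  decide +kernel

theorem twChk : ∀ e ∈ twReps, repChkT chevE6 (wsOf chevE6) S twReps e = true := by
  intro e he
  unfold twReps at he
  simp only [List.mem_append, or_assoc] at he
  rcases he with he | he | he | he | he | he | he | he | he | he | he | he
  · exact List.all_eq_true.1 twChk_0 e he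
  · exact List.all_eq_true.1 twChk_1 e he
  · exact List.all_eq_true.1 twChk_2 e he
  · exact List.all_eq_true.1 twChk_3 e he
  · exact List.all_eq_true.1 twChk_4 e he
  · exact List.all_eq_true.1 twChk_5 e he
  · exact List.all_eq_true.1 twChk_6 e he
  · exact List.all_eq_true.1 twChk_7 e he
  · exact List.all_eq_true.1 twChk_8 e he
  · exact List.all_eq_true.1 twChk_9 e he
  · exact List.all_eq_true.1 twChk_10 e he
  · exact List.all_eq_true.1 twChk_11 e he

set_option maxRecDepth 1000000 in
theorem twSorted : incChk (twReps.map fun e => packL e.img) = true := by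
  decide +kernel

set_option maxRecDepth 1000000 in
theorem twHead : (twReps.any fun e => e.cl == []) = true := by
  decide +kernel

set_option maxRecDepth 1000000 in
theorem twPoly : mulL (prodP [pm1L 1, pm1L 1, pm1L 1, pm1L 1, pp1L 1, pp1L 1]) (powSumL (twReps.map RepT.N)) =
    prodP [pm1L 2, pp1L 5, pm1L 6, pm1L 8, pp1L 9, pm1L 12] := by
  decide +kernel

set_option maxRecDepth 1000000 in
theorem hlen : ∀ v ∈ S, (negSet chevE6 v).card = v.length := by
  decide +kernel

end Cfsg.Agent.Lead.Tw.E6
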