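import Mathlib
import Cfsg.Agent.Lib.Lead.TwE6Sum
import Cfsg.Agent.Lib.Lead.TwE6Card
import Cfsg.Agent.Lib.Lead.TwE6Torus
import Cfsg.Agent.Lib.Lead.TwCount
import Cfsg.Agent.Lib.Lead.TwGenFlat

/-!
# The order of `²E₆(q)`
-/

set_option autoImplicit false
set_option linter.unusedSectionVars false
set_option linter.unusedSimpArgs false
set_option linter.unusedVariables false

namespace Cfsg.Agent.Lead.Tw

open Cfsg Cfsg.Lie Cfsg.Agent.Lead.Chev Cfsg.Agent.Lead.PolyL

namespace E6

variable {K : Type*} [Field K] [Fintype K] {q : ℕ} (hq : 1 < q) (hK : Fintype.card K = q ^ 2)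
  (f : K ≃+* K) (hf : ∀ t, f t = t ^ q)
include hq hK hf

theorem sum_weyl : ∑ g ∈ weylSetσ chevE6 (tw f).ρ, q ^ nNeg chevE6 g = (twReps.map fun e => q ^ e.N).sum := by
  have hd := orthData f
  exact sum_weylSetσ_of_chk (hF (K := K)) (corSize_of_mem _ hmem) (corInj_of_mem _ hmem) (wsOf chevE6)
    (wsTab_of_mem _ hmem) (tw f).ρ S hd.gen.valid hd.gen.comm
    (fun w hw hwc => hd.gen_flatten (corSize_of_mem _ hmem) w hw hwc) twReps (by decide) twHead twSorted twChk q

theorem card_group :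
    Nat.gcd 3 (q + 1) * Nat.card ↥(twistedE6 K q) =
      q ^ 36 * (q ^ 2 - 1) * (q ^ 5 + 1) * (q ^ 6 - 1) * (q ^ 8 - 1) * (q ^ 9 + 1) * (q ^ 12 - 1) := by
  have hd := orthData f
  have hS := corSize_of_mem _ hmem
  have hC := corComb_of_mem _ hmem
  have hcard := hd.card_group hS hC q (by
    intro v hvS
    simp only [S, List.mem_cons, List.not_mem_nil, or_false] at hvS
    rcases hvS with rfl | rfl | rfl | rfl
    · exact card_fixed_single hq hK f hf 1 (by norm_num) (by decide) rfl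
    · exact card_fixed_single hq hK f hf 3 (by norm_num) (by decide) rfl
    · exact card_fixed_pair hq hK f hf 0 5 (by norm_num) (by norm_num) (by norm_num) (by decide) rfl rfl
    · exact card_fixed_pair hq hK f hf 2 4 (by norm_num) (by norm_num) (by norm_num) (by decide) rfl rfl) hlen
  rw [hd.card_borel_inf hS hC, sum_weyl hq hK f hf, ← twisted_eq hK f hf, card_U hq hK f hf] at hcard
  have hH := card_H hq hK f hf
  rw [hcard]
  have e1 : Nat.gcd 3 (q + 1) * (q ^ 36 * Nat.card ↥(chevE6.diagonalSubgroup K ⊓ twistedE6 K q) *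
      (twReps.map fun e => q ^ e.N).sum) = q ^ 36 * ((q - 1) ^ 4 * (q + 1) ^ 2 *
      (twReps.map fun e => q ^ e.N).sum) := by
    rw [← hH]; ring
  rw [e1]
  have hq1 : 1 ≤ q := hq.le
  have hp : ∀ n, 1 ≤ q ^ n := fun n => Nat.one_le_pow _ _ hq1
  -- the polynomial identity over the integers
  have hZ : (((q - 1) ^ 4 * (q + 1) ^ 2 * (twReps.map fun e => q ^ e.N).sum : ℕ) : ℤ) =
      (((q ^ 2 - 1) * (q ^ 5 + 1) * (q ^ 6 - 1) * (q ^ 8 - 1) * (q ^ 9 + 1) * (q ^ 12 - 1) : ℕ) : ℤ) := by
    have e2 := congrArg (fun P => evalL P (q : ℤ)) twPoly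
    simp only [evalL_mulL, evalL_prodP, List.map_cons, List.map_nil, List.prod_cons, List.prod_nil,
      evalL_pm1L, evalL_pp1L, evalL_powSumL, mul_one] at e2
    push_cast [Nat.cast_sub hq1, Nat.cast_sub (hp 2), Nat.cast_sub (hp 6), Nat.cast_sub (hp 8),
      Nat.cast_sub (hp 12)]
    have e3 : ((twReps.map RepT.N).map fun n => (q : ℤ) ^ n).sum =
        ((twReps.map fun e => ((q : ℤ) ^ e.N)).sum) := by
      rw [List.map_map]
      try rfl
    rw [e3] at e2
    have e4 : (List.map (Nat.cast : ℕ → ℤ) (List.map (fun e => q ^ e.N) twReps)).sum =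
        (twReps.map fun e => ((q : ℤ) ^ e.N)).sum := by
      rw [List.map_map]
      apply congrArg
      apply List.map_congr_left
      intro e _
      simp
    rw [e4]
    linear_combination e2
  have hN := Nat.cast_injective (R := ℤ) hZ
  rw [hN]
  ring

end E6

end Cfsg.Agent.Lead.Tw
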