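import Mathlib
import Cfsg.Agent.Lib.Helper21.N9KDefs

/-!
# S3702 GROUP piece LOCTR (lead), part 1: the definition `loc` and the transport core
(no dependency on the `K0` enumeration pieces).
-/

set_option autoImplicit false
set_option linter.unusedSectionVars false
set_option linter.unusedVariables false

namespace Cfsg.Agent.Helper21.N9

open Cfsg Cfsg.Agent.Helper16

universe u

section Transport

variable {G : Type u} [Group G] [Finite G] {H J : Subgroup G}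

/-- the number of `(x', y')` in the `H`-classes of `x`, `y` with `x' y' = z` -/
noncomputable def loc (H : Subgroup G) (x y z : G) : ℕ :=
  Nat.card {q : G × G // (∃ h ∈ H, q.1 = h * x * h⁻¹) ∧ (∃ h ∈ H, q.2 = h * y * h⁻¹) ∧ q.1 * q.2 = z}

theorem loctr_ι_injective (c : Cfg H J) : Function.Injective c.ι := by
  intro a b hab
  have h1 : (c.e.symm a : ↥H) = c.e.symm b := Subtype.ext (by simpa [Cfg.ι_apply] using hab)
  exact c.e.symm.injective h1

theorem loctr_ι_mem (c : Cfg H J) (x : ↥K0) : c.ι x ∈ H := by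
  rw [Cfg.ι_apply]; exact (c.e.symm x).2

theorem loctr_exists_ι (c : Cfg H J) {g : G} (hg : g ∈ H) : ∃ x : ↥K0, c.ι x = g := by
  refine ⟨c.e ⟨g, hg⟩, ?_⟩
  rw [Cfg.ι_apply]; simp

/-- core of PIECE S3702-GR-LOCTR: the bijection `q ↦ (ι q.1, ι q.2)`; the right-hand side is `locK x y z` unfolded -/
theorem loctr_core (c : Cfg H J) (x y z : ↥K0) : loc H (c.ι x) (c.ι y) (c.ι z) =
    Nat.card {q : ↥K0 × ↥K0 //
      (∃ h : ↥K0, q.1 = h * x * h⁻¹) ∧ (∃ h : ↥K0, q.2 = h * y * h⁻¹) ∧ q.1 * q.2 = z} := by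
  unfold loc
  symm
  refine Nat.card_congr (Equiv.ofBijective
    (fun q => ⟨(c.ι q.1.1, c.ι q.1.2), ?_, ?_, ?_⟩) ⟨?_, ?_⟩)
  · obtain ⟨h, hh⟩ := q.2.1
    refine ⟨c.ι h, loctr_ι_mem c h, ?_⟩
    show c.ι q.1.1 = _
    rw [hh]; simp
  · obtain ⟨h, hh⟩ := q.2.2.1
    refine ⟨c.ι h, loctr_ι_mem c h, ?_⟩
    show c.ι q.1.2 = _
    rw [hh]; simp
  · show c.ι q.1.1 * c.ι q.1.2 = c.ι z
    rw [← map_mul, q.2.2.2]
  · intro q q' hqq
    have h := congrArg Subtype.val hqq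
    have h1 : c.ι q.1.1 = c.ι q'.1.1 := congrArg Prod.fst h
    have h2 : c.ι q.1.2 = c.ι q'.1.2 := congrArg Prod.snd h
    exact Subtype.ext (Prod.ext (loctr_ι_injective c h1) (loctr_ι_injective c h2))
  · rintro ⟨⟨g1, g2⟩, ⟨h1, hh1, e1⟩, ⟨h2, hh2, e2⟩, e3⟩
    obtain ⟨k1, hk1⟩ := loctr_exists_ι c hh1
    obtain ⟨k2, hk2⟩ := loctr_exists_ι c hh2
    have e1' : g1 = c.ι (k1 * x * k1⁻¹) := by
      have : g1 = h1 * c.ι x * h1⁻¹ := e1
      rw [this, ← hk1]; simp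
    have e2' : g2 = c.ι (k2 * y * k2⁻¹) := by
      have : g2 = h2 * c.ι y * h2⁻¹ := e2
      rw [this, ← hk2]; simp
    have e3' : g1 * g2 = c.ι z := e3
    refine ⟨⟨(k1 * x * k1⁻¹, k2 * y * k2⁻¹), ⟨k1, rfl⟩, ⟨k2, rfl⟩, ?_⟩, ?_⟩
    · apply loctr_ι_injective c
      rw [map_mul, ← e1', ← e2', e3']
    · exact Subtype.ext (Prod.ext e1'.symm e2'.symm)

end Transport

end Cfsg.Agent.Helper21.N9
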