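import Mathlib
import Cfsg.Agent.Lib.Helper23.SlhDefs

/-!
S3050 piece SLH-GSUB: restriction of a `Γ`-group to an invariant central subgroup.
-/

set_option autoImplicit false
set_option linter.unusedSectionVars false
set_option linter.unusedVariables false

namespace Cfsg.Agent.Helper23.Slh

open Cfsg.Agent.Helper12.NatMod

local notation "SL2" => Matrix.SpecialLinearGroup (Fin 2)

section PartG

variable {Γ : Type*} [Group Γ] {F : Type*} [Field F] {S : Sys Γ F}

/-- the restricted automorphism -/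
noncomputable def slh_gsub_equiv {Q : Type*} [Group Q] (A : GGrp S Q) (H : Subgroup Q)
    (hinv : ∀ g y, y ∈ H → A.φ g y ∈ H) (g : Γ) : ↥H ≃* ↥H where
  toFun z := ⟨A.φ g (z : Q), hinv g _ z.2⟩
  invFun z := ⟨A.φ g⁻¹ (z : Q), hinv g⁻¹ _ z.2⟩
  left_inv z := by
    apply Subtype.ext
    show A.φ g⁻¹ (A.φ g (z : Q)) = (z : Q)
    rw [← MulAut.mul_apply, ← map_mul, inv_mul_cancel, map_one]
    rfl
  right_inv z := by
    apply Subtype.ext
    show A.φ g (A.φ g⁻¹ (z : Q)) = (z : Q)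
    rw [← MulAut.mul_apply, ← map_mul, mul_inv_cancel, map_one]
    rfl
  map_mul' a b := by
    apply Subtype.ext
    show A.φ g ((a : Q) * (b : Q)) = A.φ g (a : Q) * A.φ g (b : Q)
    exact map_mul _ _ _

theorem slh_gsub_equiv_coe {Q : Type*} [Group Q] (A : GGrp S Q) (H : Subgroup Q)
    (hinv : ∀ g y, y ∈ H → A.φ g y ∈ H) (g : Γ) (z : ↥H) :
    ((slh_gsub_equiv A H hinv g z : ↥H) : Q) = A.φ g (z : Q) := rfl

/-- the restricted action as a monoid hom -/
noncomputable def slh_gsub_hom {Q : Type*} [Group Q] (A : GGrp S Q) (H : Subgroup Q)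
    (hinv : ∀ g y, y ∈ H → A.φ g y ∈ H) : Γ →* MulAut ↥H where
  toFun g := slh_gsub_equiv A H hinv g
  map_one' := by
    apply MulEquiv.ext
    intro z
    apply Subtype.ext
    rw [slh_gsub_equiv_coe, map_one]
    rfl
  map_mul' a b := by
    apply MulEquiv.ext
    intro z
    apply Subtype.ext
    rw [slh_gsub_equiv_coe, map_mul, MulAut.mul_apply, MulAut.mul_apply, slh_gsub_equiv_coe,
      slh_gsub_equiv_coe]

/-- PIECE SLH-GSUB.  Restriction to an invariant central subgroup. -/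
theorem exists_sub {Q : Type*} [Group Q] (A : GGrp S Q) (H : Subgroup Q)
    (hinv : ∀ g y, y ∈ H → A.φ g y ∈ H) (hc : H ≤ Subgroup.center Q) :
    ∃ B : GGrp S ↥H, ∀ (g : Γ) (z : ↥H), ((B.φ g z : ↥H) : Q) = A.φ g (z : Q) := by
  refine ⟨⟨slh_gsub_hom A H hinv, ?_, ?_⟩, ?_⟩
  · intro g hg
    obtain ⟨q, hq⟩ := A.inner g hg
    refine ⟨1, ?_⟩
    intro y
    apply Subtype.ext
    show A.φ g (y : Q) = ((1 * y * (1 : ↥H)⁻¹ : ↥H) : Q)
    rw [hq]
    have hy : (y : Q) ∈ Subgroup.center Q := hc y.2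
    have := Subgroup.mem_center_iff.mp hy q
    rw [this]
    simp
  · intro y hy
    apply Subtype.ext
    have h1 : A.φ S.x (y : Q) = (y : Q) := by
      have := congrArg (fun z : ↥H => (z : Q)) hy
      exact this
    exact A.fpf _ h1
  · intro g z
    rfl

end PartG

end Cfsg.Agent.Helper23.Slh
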