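import Mathlib
import Cfsg.Agent.Lib.Helper26.CG3Defs

/-!
# S3412 pieces G8A + G8F (lead)
-/

set_option autoImplicit false

namespace Cfsg.Agent.Helper26.CG3

universe u

section G

variable {H : Type u} [Group H] [Finite H] {t : H}

/-- G8a -/
theorem order_of_cc13 (hcard : Nat.card H = 5616) (x : H) (hc : cc x = 13) : orderOf x = 13 := by
  have hx : x ∈ Subgroup.centralizer ({x} : Set H) := Subgroup.mem_centralizer_singleton_iff.2 rfl
  have hdvd : orderOf x ∣ 13 := by
    rw [← hc]; exact Subgroup.orderOf_dvd_natCard _ hx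
  rcases (Nat.dvd_prime (by norm_num : Nat.Prime 13)).1 hdvd with h | h
  · exfalso
    have hx1 : x = 1 := orderOf_eq_one_iff.1 h
    have h1 : Subgroup.centralizer ({x} : Set H) = ⊤ := by
      rw [hx1]; ext y; simp [Subgroup.mem_centralizer_singleton_iff]
    have h2 : cc x = Nat.card H := by
      show Nat.card (Subgroup.centralizer ({x} : Set H)) = Nat.card H
      rw [h1]; exact Subgroup.card_top
    omega
  · exact h

/-- G8f (generic) -/
theorem mem_normal_of_coprime (N : Subgroup H) (hN : N.Normal) (g : H)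
    (hco : Nat.Coprime (orderOf g) N.index) : g ∈ N := by
  have h1 : orderOf (QuotientGroup.mk' N g) ∣ orderOf g := orderOf_map_dvd _ g
  have h2 : orderOf (QuotientGroup.mk' N g) ∣ N.index := by
    rw [Subgroup.index_eq_card]; exact orderOf_dvd_natCard _
  have h3 : orderOf (QuotientGroup.mk' N g) = 1 :=
    Nat.eq_one_of_dvd_coprimes hco h1 h2
  have h4 : QuotientGroup.mk' N g = 1 := orderOf_eq_one_iff.1 h3
  exact (QuotientGroup.eq_one_iff g).1 h4

end G

end Cfsg.Agent.Helper26.CG3
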