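import Mathlib
import Cfsg.Agent.Lib.Helper26.CG3Defs

/-!
# S3412 piece G8B (lead)
-/

set_option autoImplicit false

namespace Cfsg.Agent.Helper26.CG3

universe u

section G

variable {H : Type u} [Group H] [Finite H] {t : H}

/-- G8b (generic) -/
theorem normal_card_mod13 (x : H) (hx : orderOf x = 13) (hc : cc x = 13) (N : Subgroup H) (hN : N.Normal)
    (h13 : ¬ 13 ∣ Nat.card N) : Nat.card N % 13 = 1 := by
  have hp : Fact (Nat.Prime 13) := ⟨by norm_num⟩
  let P : Subgroup H := Subgroup.zpowers x
  have hPcard : Nat.card P = 13 := by rw [Nat.card_zpowers, hx]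
  have hPp : IsPGroup 13 P := IsPGroup.of_card (n := 1) (by rw [hPcard, pow_one])
  let φ : ↥P →* MulAut ↥N := (MulAut.conjNormal (H := N)).comp P.subtype
  let _ : MulAction ↥P ↥N := MulAction.compHom ↥N φ
  have hsmul : ∀ (p : ↥P) (n : ↥N), ((p • n : ↥N) : H) = (p : H) * n * (p : H)⁻¹ := by
    intro p n; rfl
  have hfix : MulAction.fixedPoints ↥P ↥N = {1} := by
    ext n
    simp only [MulAction.mem_fixedPoints, Set.mem_singleton_iff]
    constructor
    · intro h
      by_contra hn1
      have hxn : x * (n : H) * x⁻¹ = n := by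
        have := congrArg Subtype.val (h ⟨x, Subgroup.mem_zpowers x⟩)
        rwa [hsmul] at this
      have hmem : (n : H) ∈ Subgroup.centralizer ({x} : Set H) := by
        rw [Subgroup.mem_centralizer_singleton_iff]
        calc (n : H) * x = (x * (n : H) * x⁻¹) * x := by rw [hxn]
          _ = x * n := by group
      have hdvd : orderOf (n : H) ∣ 13 := by
        rw [← hc]; exact Subgroup.orderOf_dvd_natCard _ hmem
      rcases (Nat.dvd_prime (by norm_num : Nat.Prime 13)).1 hdvd with h1 | h1
      · apply hn1
        apply Subtype.ext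
        exact orderOf_eq_one_iff.1 h1
      · apply h13
        rw [← h1]
        exact Subgroup.orderOf_dvd_natCard _ n.2
    · rintro rfl p
      apply Subtype.ext
      rw [hsmul]
      simp
  have hmod := hPp.card_modEq_card_fixedPoints (α := ↥N)
  rw [hfix] at hmod
  have h1 : Nat.card (({1} : Set ↥N)) = 1 := by simp
  rw [h1] at hmod
  exact hmod

end G

end Cfsg.Agent.Helper26.CG3
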