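import Mathlib
import Cfsg.Agent.Lib.Helper26.CG3Defs
import Cfsg.Agent.Lib.Helper14.ZS4CLASS

/-!
# S3412 piece G8G (lead)
-/

set_option autoImplicit false

namespace Cfsg.Agent.Helper26.CG3

universe u

section G

variable {H : Type u} [Group H] [Finite H] {t : H}

/-- G8g (generic) -/
theorem card_class_le (N : Subgroup H) (hN : N.Normal) (g : H) (hg : g ∈ N) (P : H → Prop)
    (hP : ∀ c : H, ¬ P (c * g * c⁻¹)) (hPN : ∀ x : H, P x → x ∈ N) :
    Nat.card {x : H // P x} * cc g + Nat.card H ≤ Nat.card N * cc g := by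
  have hcl := Cfsg.Agent.Helper23.ZS4.class_card g
  set S : Set H := {x' : H | ∃ c : H, x' = c * g * c⁻¹} with hS
  set T : Set H := {x : H | P x} with hT
  have hdisj : Disjoint T S := by
    rw [Set.disjoint_left]
    rintro y hy ⟨c, rfl⟩
    exact hP c hy
  have hsub : T ∪ S ⊆ (N : Set H) := by
    rintro y (hy | ⟨c, rfl⟩)
    · exact hPN y hy
    · exact hN.conj_mem g hg c
  have h1 : T.ncard + S.ncard ≤ (N : Set H).ncard := by
    rw [← Set.ncard_union_eq hdisj (Set.toFinite _) (Set.toFinite _)]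
    exact Set.ncard_le_ncard hsub (Set.toFinite _)
  have h2 : (N : Set H).ncard = Nat.card N := rfl
  have h3 : T.ncard = Nat.card {x : H // P x} := rfl
  rw [h2, h3] at h1
  have h4 : S.ncard * cc g = Nat.card H := hcl
  calc Nat.card {x : H // P x} * cc g + Nat.card H
      = (Nat.card {x : H // P x} + S.ncard) * cc g := by rw [add_mul, h4]
    _ ≤ Nat.card N * cc g := Nat.mul_le_mul_right _ h1

end G

end Cfsg.Agent.Helper26.CG3
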