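import Mathlib
import Cfsg.Agent.Lib.Helper27.GWBDefs

/-!
# S0508 piece DIH2 (lead, for helper27): in `S ≅ DihedralGroup n`, a cyclic subgroup `S0` of index 2 is inverted by
every element of `S \ S0`, and these are involutions.
(`S0 = ⟨g⟩`, `|S0| = n`; if the image of `g` is a rotation `r j` then `j` is a unit and `S0` = all rotations;
if it is a reflection then `n = 2` and `S` is a four-group.)
-/

set_option autoImplicit false
set_option linter.unusedVariables false
set_option linter.unusedSectionVars false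

namespace Cfsg.Agent.Helper27.GWB

universe u

variable {G : Type u} [Group G] [Finite G]

/-- PIECE DIH2. -/
theorem inverts_of_cyclic_index_two (S : Subgroup G) (n : ℕ) (hn : 2 ≤ n)
    (hS : Nonempty (S ≃* DihedralGroup n)) (h2 : IsPGroup 2 S)
    (S0 : Subgroup G) (hle : S0 ≤ S) (hc : IsCyclic S0) (hi : S0.relIndex S = 2) :
    ∀ s ∈ S, s ∉ S0 → orderOf s = 2 ∧ ∀ z ∈ S0, s * z * s⁻¹ = z⁻¹ := by
  obtain ⟨e⟩ := hS
  have hne : NeZero n := ⟨by omega⟩
  have hcardS : Nat.card S = 2 * n := by
    rw [Nat.card_congr e.toEquiv, DihedralGroup.nat_card]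
  have hcardS0 : Nat.card S0 = n := by
    have h1 := Subgroup.relIndex_mul_relIndex ⊥ S0 S bot_le hle
    rw [Subgroup.relIndex_bot_left, Subgroup.relIndex_bot_left, hi, hcardS] at h1
    omega
  obtain ⟨g0, hg0⟩ := hc.exists_generator
  have hordg : orderOf g0 = n := by
    rw [orderOf_eq_card_of_forall_mem_zpowers hg0, hcardS0]
  have hg0S : (g0 : G) ∈ S := hle g0.2
  have hordeg : orderOf (e ⟨(g0 : G), hg0S⟩) = n := by
    rw [MulEquiv.orderOf_eq, ← Subgroup.orderOf_coe]
    show orderOf (g0 : G) = n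
    rw [Subgroup.orderOf_coe]
    exact hordg
  -- every element of `S0` is a power of the generator
  have hpow : ∀ z (hz : z ∈ S0), ∃ k : ℤ,
      (⟨z, hle hz⟩ : S) = (⟨(g0 : G), hg0S⟩ : S) ^ k := by
    intro z hz
    obtain ⟨k, hk⟩ := Subgroup.mem_zpowers_iff.mp (hg0 ⟨z, hz⟩)
    refine ⟨k, ?_⟩
    apply Subtype.ext
    rw [Subgroup.coe_zpow]
    show z = (g0 : G) ^ k
    rw [← Subgroup.coe_zpow, hk]
  intro s hs hs0
  rcases hgs : e ⟨(g0 : G), hg0S⟩ with j | i
  · -- the generator is a rotation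
    have hz_rot : ∀ z (hz : z ∈ S0), ∃ l, e ⟨z, hle hz⟩ = DihedralGroup.r l := by
      intro z hz
      obtain ⟨k, hk⟩ := hpow z hz
      exact ⟨j * k, by rw [hk, map_zpow, hgs, DihedralGroup.r_zpow]⟩
    rcases hes : e ⟨s, hs⟩ with k | i
    · exfalso
      have hgcd : Nat.gcd n j.val = 1 := by
        have h := hordeg
        rw [hgs, DihedralGroup.orderOf_r] at h
        rcases Nat.div_eq_self.mp h with h0 | h1
        · omega
        · exact h1
      have hcop : Nat.Coprime j.val n := by
        rw [Nat.coprime_comm]; exact hgcd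
      have hu : ((ZMod.unitOfCoprime j.val hcop : (ZMod n)ˣ) : ZMod n) = j := by
        rw [ZMod.coe_unitOfCoprime, ZMod.natCast_zmod_val]
      have hm : j * (((k * (((ZMod.unitOfCoprime j.val hcop)⁻¹ : (ZMod n)ˣ) : ZMod n)).val : ℕ) :
          ZMod n) = k := by
        rw [ZMod.natCast_zmod_val]
        nth_rewrite 1 [← hu]
        rw [mul_comm k, ← mul_assoc, Units.mul_inv, one_mul]
      have h1 : e ⟨s, hs⟩ = e ((⟨(g0 : G), hg0S⟩ : S) ^
          (k * (((ZMod.unitOfCoprime j.val hcop)⁻¹ : (ZMod n)ˣ) : ZMod n)).val) := by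
        rw [hes, map_pow, hgs, DihedralGroup.r_pow, hm]
      have h2 := e.injective h1
      apply hs0
      have h3 : s = (((⟨(g0 : G), hg0S⟩ : S) ^
          (k * (((ZMod.unitOfCoprime j.val hcop)⁻¹ : (ZMod n)ˣ) : ZMod n)).val : S) : G) :=
        congrArg Subtype.val h2
      rw [h3, Subgroup.coe_pow]
      exact S0.pow_mem g0.2 _
    · constructor
      · have h1 : orderOf (⟨s, hs⟩ : S) = 2 := by
          rw [← MulEquiv.orderOf_eq e, hes, DihedralGroup.orderOf_sr]
        rw [← Subgroup.orderOf_coe] at h1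
        exact h1
      · intro z hz
        obtain ⟨l, hl⟩ := hz_rot z hz
        have h1 : e (⟨s, hs⟩ * ⟨z, hle hz⟩ * (⟨s, hs⟩ : S)⁻¹) = e ((⟨z, hle hz⟩ : S)⁻¹) := by
          rw [map_mul, map_mul, map_inv, map_inv, hes, hl, DihedralGroup.inv_sr,
            DihedralGroup.sr_mul_r, DihedralGroup.sr_mul_sr, DihedralGroup.inv_r]
          congr 1
          ring
        have h2 := e.injective h1
        exact congrArg Subtype.val h2
  · -- the generator is a reflection: `n = 2`, a four-group
    have hn2 : n = 2 := by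
      rw [hgs, DihedralGroup.orderOf_sr] at hordeg
      exact hordeg.symm
    subst hn2
    have hab : ∀ x y : DihedralGroup 2, x * y = y * x := by decide
    have hsq : ∀ x : DihedralGroup 2, x * x = 1 := by decide
    have habS : ∀ x y : S, x * y = y * x := fun x y =>
      e.injective (by rw [map_mul, map_mul, hab])
    have hsqS : ∀ x : S, x * x = 1 := fun x =>
      e.injective (by rw [map_mul, map_one, hsq])
    constructor
    · have h1 : s * s = 1 := congrArg Subtype.val (hsqS ⟨s, hs⟩)
      have h2' : s ≠ 1 := fun h => hs0 (h ▸ S0.one_mem)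
      have : Fact (Nat.Prime 2) := ⟨Nat.prime_two⟩
      exact orderOf_eq_prime (by rw [pow_two]; exact h1) h2'
    · intro z hz
      have h1 : s * z = z * s := congrArg Subtype.val (habS ⟨s, hs⟩ ⟨z, hle hz⟩)
      have h2' : z * z = 1 := congrArg Subtype.val (hsqS ⟨z, hle hz⟩)
      have h3 : z⁻¹ = z := inv_eq_of_mul_eq_one_right h2'
      rw [h1, h3]
      group

end Cfsg.Agent.Helper27.GWB
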