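import Mathlib
import Cfsg.Agent.Lib.Helper27.GWBDefs

/-!
# S0508 piece INVOL (lead, for helper27): an involution of `C(t) = K⟨s⟩` centralizing some `y ≠ 1` of `O` is `t`.
-/

set_option autoImplicit false
set_option linter.unusedVariables false
set_option linter.unusedSectionVars false

namespace Cfsg.Agent.Helper27.GWB

universe u

variable {G : Type u} [Group G] [Finite G]

namespace INVOL

theorem mul_self_of_orderOf_two {x : G} (hx : orderOf x = 2) : x * x = 1 := by
  have := pow_orderOf_eq_one x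
  rw [hx, pow_two] at this
  exact this

/-- the subgroup `K ∪ K s` when the involution `s` inverts `K` -/
def ksub (K : Subgroup G) (s : G) (hs : s * s = 1) (hinv : ∀ k ∈ K, s * k * s⁻¹ = k⁻¹) :
    Subgroup G where
  carrier := {x | x ∈ K ∨ x * s ∈ K}
  one_mem' := Or.inl K.one_mem
  mul_mem' := by
    have hsi : s⁻¹ = s := inv_eq_of_mul_eq_one_right hs
    rintro x y (hx | hx) (hy | hy)
    · exact Or.inl (K.mul_mem hx hy)
    · right
      have : x * y * s = x * (y * s) := by group
      rw [this]; exact K.mul_mem hx hy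
    · right
      have h1 : x * y * s = (x * s) * (s * y * s⁻¹) := by
        rw [hsi]
        calc x * y * s = x * (s * s) * y * s := by rw [hs, mul_one]
          _ = (x * s) * (s * y * s) := by group
      rw [h1, hinv y hy]
      exact K.mul_mem hx (K.inv_mem hy)
    · left
      have h1 : x * y = (x * s) * (s * (y * s) * s⁻¹) := by
        rw [hsi]
        calc x * y = x * (s * s) * y * (s * s) := by rw [hs, mul_one, mul_one]
          _ = (x * s) * (s * (y * s) * s) := by group
      rw [h1, hinv _ hy]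
      exact K.mul_mem hx (K.inv_mem hy)
  inv_mem' := by
    have hsi : s⁻¹ = s := inv_eq_of_mul_eq_one_right hs
    rintro x (hx | hx)
    · exact Or.inl (K.inv_mem hx)
    · right
      have h1 : x⁻¹ * s = (s * (x * s) * s⁻¹)⁻¹ := by
        rw [hsi]
        calc x⁻¹ * s = ((s * s) * x⁻¹ * s) := by rw [hs, one_mul]
          _ = (s * (x * s) * s)⁻¹ := by
            have : (s * (x * s) * s)⁻¹ = s⁻¹ * (s⁻¹ * x⁻¹) * s⁻¹ := by group
            rw [this, hsi]; group
      rw [h1, hinv _ hx, inv_inv]
      exact hx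

theorem mem_or_of_mem_sup (K : Subgroup G) (s : G) (hs : s * s = 1)
    (hinv : ∀ k ∈ K, s * k * s⁻¹ = k⁻¹) {u : G} (hu : u ∈ K ⊔ Subgroup.zpowers s) :
    u ∈ K ∨ u * s ∈ K := by
  have hle : K ⊔ Subgroup.zpowers s ≤ ksub K s hs hinv := by
    apply sup_le
    · intro x hx; exact Or.inl hx
    · rw [Subgroup.zpowers_le]
      right
      rw [hs]; exact K.one_mem
  exact hle hu

end INVOL

/-- PIECE INVOL. -/
theorem invol_centralizing (t : G) (ht : orderOf t = 2) (K O : Subgroup G) (hOK : O ≤ K)
    (hKab : ∀ a ∈ K, ∀ b ∈ K, a * b = b * a)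
    (hprime : ∀ k ∈ K, ∀ r : ℕ, r.Prime → orderOf k = r → k = t ∨ k ∈ O)
    (hOodd : Odd (Nat.card O))
    (s : G) (hs2 : orderOf s = 2) (hKinv : ∀ k ∈ K, s * k * s⁻¹ = k⁻¹)
    (hC : K ⊔ Subgroup.zpowers s = Subgroup.centralizer ({t} : Set G)) :
    ∀ u ∈ Subgroup.centralizer ({t} : Set G), orderOf u = 2 →
      (∃ y ∈ O, y ≠ 1 ∧ u * y = y * u) → u = t := by
  intro u hu hu2 ⟨y, hyO, hy1, hcomm⟩
  have hss : s * s = 1 := INVOL.mul_self_of_orderOf_two hs2
  have hsi : s⁻¹ = s := inv_eq_of_mul_eq_one_right hss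
  -- elements of `O` have odd order
  have hodd : ∀ z ∈ O, Odd (orderOf z) := by
    intro z hz
    have h1 : orderOf (⟨z, hz⟩ : O) ∣ Nat.card O := orderOf_dvd_natCard _
    rw [← Subgroup.orderOf_coe] at h1
    exact Odd.of_dvd_nat hOodd h1
  rw [← hC] at hu
  rcases INVOL.mem_or_of_mem_sup K s hss hKinv hu with huK | huK
  · rcases hprime u huK 2 Nat.prime_two hu2 with h | h
    · exact h
    · exfalso
      have := hodd u h
      rw [hu2] at this
      exact absurd this (by decide)
  · exfalso
    -- `u = k s` inverts `y`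
    have hyK : y ∈ K := hOK hyO
    have hu_eq : u = (u * s) * s := by rw [mul_assoc, hss, mul_one]
    have h1 : u * y * u⁻¹ = y⁻¹ := by
      have e : u * y * u⁻¹ = (u * s) * (s * y * s⁻¹) * (u * s)⁻¹ := by
        have e' : (u * s) * (s * y * s⁻¹) * (u * s)⁻¹ = u * (s * s) * y * (s * s)⁻¹ * u⁻¹ := by
          group
        rw [e', hss]; group
      rw [e, hKinv y hyK]
      have hc := hKab (u * s) huK y⁻¹ (K.inv_mem hyK)
      rw [hc]; group
    have h2 : u * y * u⁻¹ = y := by rw [hcomm]; group
    have h3 : y * y = 1 := by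
      have : y = y⁻¹ := h2.symm.trans h1
      calc y * y = y * y⁻¹ := by rw [← this]
        _ = 1 := mul_inv_cancel y
    have h4 : orderOf y ∣ 2 := by
      apply orderOf_dvd_of_pow_eq_one
      rw [pow_two]; exact h3
    have h5 := hodd y hyO
    have h6 : orderOf y = 1 := by
      rcases (Nat.dvd_prime Nat.prime_two).mp h4 with h | h
      · exact h
      · rw [h] at h5; exact absurd h5 (by decide)
    exact hy1 (orderOf_eq_one_iff.mp h6)

end Cfsg.Agent.Helper27.GWB
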