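import Mathlib
import Cfsg.Agent.Lib.Helper27.GWBDefs

/-!
# S0508 piece KSTR (lead, for helper27): the structure of `K = O ⊔ S0`.
-/

set_option autoImplicit false
set_option linter.unusedVariables false
set_option linter.unusedSectionVars false

namespace Cfsg.Agent.Helper27.GWB

universe u

variable {G : Type u} [Group G] [Finite G]

namespace KSTR

theorem mul_self_of_orderOf_two {x : G} (hx : orderOf x = 2) : x * x = 1 := by
  have := pow_orderOf_eq_one x
  rw [hx, pow_two] at this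
  exact this

/-- the product `O S0` of two subgroups commuting elementwise -/
def prodSub (O S0 : Subgroup G) (hcomm : ∀ y ∈ O, ∀ z ∈ S0, y * z = z * y) : Subgroup G where
  carrier := {x | ∃ y ∈ O, ∃ z ∈ S0, x = y * z}
  one_mem' := ⟨1, O.one_mem, 1, S0.one_mem, by simp⟩
  mul_mem' := by
    rintro _ _ ⟨y1, hy1, z1, hz1, rfl⟩ ⟨y2, hy2, z2, hz2, rfl⟩
    refine ⟨y1 * y2, O.mul_mem hy1 hy2, z1 * z2, S0.mul_mem hz1 hz2, ?_⟩
    calc y1 * z1 * (y2 * z2) = y1 * (z1 * y2) * z2 := by group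
      _ = y1 * (y2 * z1) * z2 := by rw [hcomm y2 hy2 z1 hz1]
      _ = y1 * y2 * (z1 * z2) := by group
  inv_mem' := by
    rintro _ ⟨y, hy, z, hz, rfl⟩
    refine ⟨y⁻¹, O.inv_mem hy, z⁻¹, S0.inv_mem hz, ?_⟩
    rw [mul_inv_rev, hcomm y⁻¹ (O.inv_mem hy) z⁻¹ (S0.inv_mem hz)]

theorem exists_of_mem_sup (O S0 : Subgroup G) (hcomm : ∀ y ∈ O, ∀ z ∈ S0, y * z = z * y)
    {k : G} (hk : k ∈ O ⊔ S0) : ∃ y ∈ O, ∃ z ∈ S0, k = y * z := by
  have hle : O ⊔ S0 ≤ prodSub O S0 hcomm := by
    apply sup_le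
    · intro y hy; exact ⟨y, hy, 1, S0.one_mem, by simp⟩
    · intro z hz; exact ⟨1, O.one_mem, z, hz, by simp⟩
  exact hle hk

/-- in a cyclic group there is at most one involution -/
theorem eq_one_or_eq_of_cyclic {S0 : Subgroup G} (hc : IsCyclic S0) {t z : G}
    (ht : orderOf t = 2) (htS0 : t ∈ S0) (hz : z ∈ S0) (hzz : z * z = 1) : z = 1 ∨ z = t := by
  classical
  by_contra hcon
  obtain ⟨h1, h2⟩ := not_or.mp hcon
  have htt : t * t = 1 := mul_self_of_orderOf_two ht
  have ht1 : t ≠ 1 := by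
    intro h; rw [h, orderOf_one] at ht; omega
  have : Fintype S0 := Fintype.ofFinite S0
  have hle := IsCyclic.card_pow_eq_one_le (α := S0) (n := 2) (by norm_num)
  have hsub : ({(1 : S0), ⟨t, htS0⟩, ⟨z, hz⟩} : Finset S0) ⊆
      Finset.univ.filter (fun a : S0 => a ^ 2 = 1) := by
    intro a ha
    simp only [Finset.mem_insert, Finset.mem_singleton] at ha
    rw [Finset.mem_filter]
    refine ⟨Finset.mem_univ _, ?_⟩
    rcases ha with rfl | rfl | rfl
    · simp
    · apply Subtype.ext; simp [pow_two, htt]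
    · apply Subtype.ext; simp [pow_two, hzz]
  have hcard : ({(1 : S0), ⟨t, htS0⟩, ⟨z, hz⟩} : Finset S0).card = 3 := by
    rw [Finset.card_insert_of_notMem, Finset.card_insert_of_notMem, Finset.card_singleton]
    · simp only [Finset.mem_singleton]
      intro h
      exact h2 (congrArg Subtype.val h).symm
    · simp only [Finset.mem_insert, Finset.mem_singleton]
      rintro (h | h)
      · exact ht1 (congrArg Subtype.val h).symm
      · exact h1 (congrArg Subtype.val h).symm
  have := Finset.card_le_card hsub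
  omega

end KSTR

/-- PIECE KSTR. -/
theorem K_structure (S : Sylow 2 G) (t : G) (ht : orderOf t = 2)
    (S0 : Subgroup G) (hle : S0 ≤ (S : Subgroup G)) (hc : IsCyclic S0)
    (hi : S0.relIndex (S : Subgroup G) = 2) (htS0 : t ∈ S0)
    (O : Subgroup G) (hOodd : Odd (Nat.card O)) (hOC : S0 ≤ Subgroup.centralizer (O : Set G))
    (s : G) (hsS : s ∈ (S : Subgroup G)) (hsS0 : s ∉ S0) (hs2 : orderOf s = 2)
    (hsS0inv : ∀ z ∈ S0, s * z * s⁻¹ = z⁻¹) (hsOinv : ∀ y ∈ O, s * y * s⁻¹ = y⁻¹) :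
    (∀ a ∈ O ⊔ S0, ∀ b ∈ O ⊔ S0, a * b = b * a) ∧
    (∀ k ∈ O ⊔ S0, s * k * s⁻¹ = k⁻¹) ∧
    s ∉ O ⊔ S0 ∧
    (O ⊔ S0) ⊓ Subgroup.centralizer ({s} : Set G) = Subgroup.zpowers t ∧
    (O ⊔ S0) ⊔ Subgroup.zpowers s = O ⊔ (S : Subgroup G) ∧
    (∀ k ∈ O ⊔ S0, ∀ r : ℕ, r.Prime → orderOf k = r → k = t ∨ k ∈ O) := by
  have htt : t * t = 1 := KSTR.mul_self_of_orderOf_two ht
  have hss : s * s = 1 := KSTR.mul_self_of_orderOf_two hs2
  -- `O` and `S0` commute elementwise
  have hcomm : ∀ y ∈ O, ∀ z ∈ S0, y * z = z * y := fun y hy z hz =>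
    Subgroup.mem_centralizer_iff.mp (hOC hz) y hy
  -- `O` is abelian (inverted by `s`)
  have hOab : ∀ a ∈ O, ∀ b ∈ O, a * b = b * a := by
    intro a ha b hb
    have h1 := hsOinv (a * b) (O.mul_mem ha hb)
    have h2 : s * (a * b) * s⁻¹ = (s * a * s⁻¹) * (s * b * s⁻¹) := by group
    rw [h2, hsOinv a ha, hsOinv b hb, mul_inv_rev] at h1
    -- h1 : a⁻¹ * b⁻¹ = b⁻¹ * a⁻¹
    have h3 : (a⁻¹ * b⁻¹)⁻¹ = (b⁻¹ * a⁻¹)⁻¹ := by rw [h1]
    have h4 : b * a = a * b := by simpa [mul_inv_rev] using h3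
    exact h4.symm
  -- `S0` is abelian (cyclic)
  have hS0ab : ∀ a ∈ S0, ∀ b ∈ S0, a * b = b * a := by
    intro a ha b hb
    have := hc
    have h := (IsCyclic.commGroup (α := S0)).mul_comm ⟨a, ha⟩ ⟨b, hb⟩
    exact congrArg Subtype.val h
  -- coprimality
  have hS0p : IsPGroup 2 S0 := S.isPGroup'.to_le hle
  obtain ⟨n, hn⟩ := IsPGroup.iff_card.mp hS0p
  have hcop : Nat.Coprime (Nat.card O) (Nat.card S0) := by
    rw [hn]
    exact Nat.Coprime.pow_right n (Nat.coprime_two_right.mpr hOodd)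
  have hdisj : ∀ x, x ∈ O → x ∈ S0 → x = 1 := by
    intro x hxO hxS
    have h : x ∈ O ⊓ S0 := ⟨hxO, hxS⟩
    have hd : Disjoint O S0 := Subgroup.disjoint_of_coprime_natCard hcop
    rw [hd.eq_bot, Subgroup.mem_bot] at h
    exact h
  -- elements of `O` have odd order, elements of `S0` have 2-power order
  have hoddO : ∀ y ∈ O, Odd (orderOf y) := by
    intro y hy
    have h1 : orderOf (⟨y, hy⟩ : O) ∣ Nat.card O := orderOf_dvd_natCard _
    rw [← Subgroup.orderOf_coe] at h1
    exact Odd.of_dvd_nat hOodd h1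
  have hO_sq : ∀ y ∈ O, y * y = 1 → y = 1 := by
    intro y hy hyy
    have h4 : orderOf y ∣ 2 := by
      apply orderOf_dvd_of_pow_eq_one; rw [pow_two]; exact hyy
    have h5 := hoddO y hy
    rcases (Nat.dvd_prime Nat.prime_two).mp h4 with h | h
    · exact orderOf_eq_one_iff.mp h
    · rw [h] at h5; exact absurd h5 (by decide)
  -- splitting a power
  have hsplit : ∀ y ∈ O, ∀ z ∈ S0, ∀ m : ℕ, (y * z) ^ m = 1 → y ^ m = 1 ∧ z ^ m = 1 := by
    intro y hy z hz m hm
    have hcm : Commute y z := hcomm y hy z hz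
    rw [hcm.mul_pow] at hm
    have h1 : y ^ m = (z ^ m)⁻¹ := eq_inv_of_mul_eq_one_left hm
    have h2 : y ^ m = 1 := hdisj _ (O.pow_mem hy m) (by rw [h1]; exact S0.inv_mem (S0.pow_mem hz m))
    refine ⟨h2, ?_⟩
    rw [h2, one_mul] at hm
    exact hm
  have hdec := fun {k : G} (hk : k ∈ O ⊔ S0) => KSTR.exists_of_mem_sup O S0 hcomm hk
  -- (1) commutativity
  have hKab : ∀ a ∈ O ⊔ S0, ∀ b ∈ O ⊔ S0, a * b = b * a := by
    intro a ha b hb
    obtain ⟨y1, hy1, z1, hz1, rfl⟩ := hdec ha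
    obtain ⟨y2, hy2, z2, hz2, rfl⟩ := hdec hb
    calc y1 * z1 * (y2 * z2) = y1 * (z1 * y2) * z2 := by group
      _ = y1 * (y2 * z1) * z2 := by rw [hcomm y2 hy2 z1 hz1]
      _ = (y1 * y2) * (z1 * z2) := by group
      _ = (y2 * y1) * (z2 * z1) := by rw [hOab y1 hy1 y2 hy2, hS0ab z1 hz1 z2 hz2]
      _ = y2 * (y1 * z2) * z1 := by group
      _ = y2 * (z2 * y1) * z1 := by rw [hcomm y1 hy1 z2 hz2]
      _ = y2 * z2 * (y1 * z1) := by group
  -- (2) inverted by `s`
  have hKinv : ∀ k ∈ O ⊔ S0, s * k * s⁻¹ = k⁻¹ := by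
    intro k hk
    obtain ⟨y, hy, z, hz, rfl⟩ := hdec hk
    have h2 : s * (y * z) * s⁻¹ = (s * y * s⁻¹) * (s * z * s⁻¹) := by group
    rw [h2, hsOinv y hy, hsS0inv z hz, mul_inv_rev,
      hcomm y⁻¹ (O.inv_mem hy) z⁻¹ (S0.inv_mem hz)]
  -- (3) `s ∉ K`
  have hsK : s ∉ O ⊔ S0 := by
    intro hs
    obtain ⟨y, hy, z, hz, hyz⟩ := hdec hs
    have h1 : (y * z) ^ 2 = 1 := by rw [← hyz, pow_two]; exact hss
    obtain ⟨hy2, hz2⟩ := hsplit y hy z hz 2 h1
    have hy1 : y = 1 := hO_sq y hy (by rw [← pow_two]; exact hy2)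
    rw [hy1, one_mul] at hyz
    rw [hyz] at hsS0
    exact hsS0 hz
  refine ⟨hKab, hKinv, hsK, ?_, ?_, ?_⟩
  · -- (4)
    apply le_antisymm
    · rintro k ⟨hk, hkc⟩
      have hkc' : k * s = s * k := Subgroup.mem_centralizer_singleton_iff.mp hkc
      have h1 : s * k * s⁻¹ = k := by rw [← hkc']; group
      have h2 : k = k⁻¹ := h1.symm.trans (hKinv k hk)
      have h3 : k * k = 1 := by
        calc k * k = k * k⁻¹ := by rw [← h2]
          _ = 1 := mul_inv_cancel k
      obtain ⟨y, hy, z, hz, rfl⟩ := hdec hk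
      obtain ⟨hy2, hz2⟩ := hsplit y hy z hz 2 (by rw [pow_two]; exact h3)
      have hy1 : y = 1 := hO_sq y hy (by rw [← pow_two]; exact hy2)
      rw [hy1, one_mul]
      rcases KSTR.eq_one_or_eq_of_cyclic hc ht htS0 hz (by rw [← pow_two]; exact hz2) with h | h
      · rw [h]; exact Subgroup.one_mem _
      · rw [h]; exact Subgroup.mem_zpowers t
    · rw [Subgroup.zpowers_le]
      refine ⟨Subgroup.mem_sup_right htS0, ?_⟩
      show t ∈ Subgroup.centralizer ({s} : Set G)
      rw [Subgroup.mem_centralizer_singleton_iff]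
      have h1 := hsS0inv t htS0
      have hti : t⁻¹ = t := inv_eq_of_mul_eq_one_right htt
      rw [hti] at h1
      -- h1 : s * t * s⁻¹ = t
      calc t * s = (s * t * s⁻¹) * s := by rw [h1]
        _ = s * t := by group
  · -- (5)
    apply le_antisymm
    · apply sup_le
      · exact sup_le le_sup_left (le_trans hle le_sup_right)
      · rw [Subgroup.zpowers_le]; exact Subgroup.mem_sup_right hsS
    · apply sup_le
      · exact le_trans le_sup_left le_sup_left
      · -- `S ≤ S0 ⊔ zpowers s`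
        have hT : S0 ⊔ Subgroup.zpowers s = (S : Subgroup G) := by
          apply Subgroup.eq_of_le_of_card_ge
          · apply sup_le hle
            rw [Subgroup.zpowers_le]; exact hsS
          · -- card S = 2 * card S0 ≤ card T
            have h1 := Subgroup.relIndex_mul_relIndex ⊥ S0 (S : Subgroup G) bot_le hle
            rw [Subgroup.relIndex_bot_left, Subgroup.relIndex_bot_left, hi] at h1
            have h2 : Nat.card S0 ∣ Nat.card (S0 ⊔ Subgroup.zpowers s : Subgroup G) :=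
              Subgroup.card_dvd_of_le le_sup_left
            have h3 : Nat.card S0 ≠ Nat.card (S0 ⊔ Subgroup.zpowers s : Subgroup G) := by
              intro h
              have h4 : S0 = S0 ⊔ Subgroup.zpowers s :=
                Subgroup.eq_of_le_of_card_ge le_sup_left (le_of_eq h.symm)
              apply hsS0
              rw [h4]
              exact Subgroup.mem_sup_right (Subgroup.mem_zpowers s)
            obtain ⟨c, hc'⟩ := h2
            have hpos : 0 < Nat.card S0 := Nat.card_pos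
            have hc2 : 2 ≤ c := by
              by_contra hlt
              have hlt' : c < 2 := by omega
              interval_cases c
              · rw [mul_zero] at hc'
                have : 0 < Nat.card (S0 ⊔ Subgroup.zpowers s : Subgroup G) := Nat.card_pos
                omega
              · rw [mul_one] at hc'; exact h3 hc'.symm
            rw [← h1, hc']
            nlinarith
        calc (S : Subgroup G) = S0 ⊔ Subgroup.zpowers s := hT.symm
          _ ≤ (O ⊔ S0) ⊔ Subgroup.zpowers s := sup_le_sup_right le_sup_right _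
  · -- (6)
    intro k hk r hr hkr
    obtain ⟨y, hy, z, hz, rfl⟩ := hdec hk
    have h1 : (y * z) ^ r = 1 := by rw [← hkr]; exact pow_orderOf_eq_one _
    obtain ⟨hyr, hzr⟩ := hsplit y hy z hz r h1
    rcases hr.eq_two_or_odd' with h2 | hodd
    · -- r = 2
      left
      subst h2
      have hy1 : y = 1 := hO_sq y hy (by rw [← pow_two]; exact hyr)
      rw [hy1, one_mul] at hkr ⊢
      rcases KSTR.eq_one_or_eq_of_cyclic hc ht htS0 hz (by rw [← pow_two]; exact hzr) with h | h
      · rw [h, orderOf_one] at hkr; omega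
      · exact h
    · -- r odd: z = 1
      right
      have hz1 : z = 1 := by
        have h3 : orderOf z ∣ r := orderOf_dvd_of_pow_eq_one hzr
        obtain ⟨m, hm⟩ := hS0p ⟨z, hz⟩
        have h4 : orderOf z ∣ 2 ^ m := by
          apply orderOf_dvd_of_pow_eq_one
          exact congrArg Subtype.val hm
        have h5 : orderOf z ∣ Nat.gcd r (2 ^ m) := Nat.dvd_gcd h3 h4
        have h6 : Nat.Coprime r (2 ^ m) :=
          Nat.Coprime.pow_right m (Nat.coprime_two_right.mpr hodd)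
        rw [h6] at h5
        exact orderOf_eq_one_iff.mp (Nat.dvd_one.mp h5)
      rw [hz1, mul_one]
      exact hy

end Cfsg.Agent.Helper27.GWB
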