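import Mathlib
import Cfsg.Agent.S0493
import Cfsg.Agent.Lib.Helper27.GWBDefs

/-!
# S0508 piece Q3 (lead, for helper27): there is no simple group of order 12.
-/

set_option autoImplicit false
set_option linter.unusedVariables false
set_option linter.unusedSectionVars false

namespace Cfsg.Agent.Helper27.GWB

universe u

variable {G : Type u} [Group G] [Finite G]

/-- PIECE Q3. -/
theorem not_simple_of_card_twelve [IsSimpleGroup G] (h : Nat.card G = 12) : False := by
  by_cases hc : IsCyclic G
  · let _ : CommGroup G := IsCyclic.commGroup
    have hp : (Nat.card G).Prime := IsSimpleGroup.prime_card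
    rw [h] at hp
    norm_num at hp
  · have := Cfsg.Agent.S0493.result (G := G) hc (by omega)
    omega

end Cfsg.Agent.Helper27.GWB
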