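import Mathlib
import Cfsg.Agent.Lib.Helper27.GWBDefs

/-!
# S0508 piece SHARP3 (lead, for helper27): a sharply 3-transitive group on `n ≥ 3` points has order `n(n-1)(n-2)`.
NOTE: the hypothesis `3 ≤ Nat.card Ω` was ADDED to the skeleton signature: without it the statement is false
(for `|Ω| ≤ 2` there is no embedding `Fin 3 ↪ Ω`, both hypotheses are vacuous and the right-hand side is `0`).
-/

set_option autoImplicit false
set_option linter.unusedVariables false
set_option linter.unusedSectionVars false

namespace Cfsg.Agent.Helper27.GWB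

universe u

variable {G : Type u} [Group G] [Finite G]

/-- PIECE SHARP3 (with the extra hypothesis `3 ≤ Nat.card Ω`). -/
theorem card_of_sharply_three {Ω : Type u} [MulAction G Ω] [Finite Ω] (hΩ : 3 ≤ Nat.card Ω)
    (h3 : MulAction.IsMultiplyPretransitive G Ω 3)
    (hs : ∀ x : Fin 3 ↪ Ω, MulAction.stabilizer G x = ⊥) :
    Nat.card G = Nat.card Ω * (Nat.card Ω - 1) * (Nat.card Ω - 2) := by
  classical
  have : Fintype Ω := Fintype.ofFinite Ω
  have hne : Nonempty (Fin 3 ↪ Ω) := by
    apply Function.Embedding.nonempty_of_card_le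
    rw [Fintype.card_fin, ← Nat.card_eq_fintype_card]
    exact hΩ
  obtain ⟨x0⟩ := hne
  have : MulAction.IsPretransitive G (Fin 3 ↪ Ω) := h3
  have hbij : Function.Bijective (fun g : G => g • x0) := by
    constructor
    · intro g g' hgg
      have hgg' : g • x0 = g' • x0 := hgg
      have h1 : (g'⁻¹ * g) • x0 = x0 := by
        rw [mul_smul]
        show g'⁻¹ • (g • x0) = x0
        rw [hgg', inv_smul_smul]
      have h2 : g'⁻¹ * g ∈ MulAction.stabilizer G x0 := h1
      rw [hs x0, Subgroup.mem_bot] at h2
      have : g = g' * (g'⁻¹ * g) := by group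
      rw [this, h2, mul_one]
    · intro y
      exact MulAction.exists_smul_eq G x0 y
  rw [Nat.card_congr (Equiv.ofBijective _ hbij), Nat.card_eq_fintype_card,
    Fintype.card_embedding_eq, Fintype.card_fin, Nat.card_eq_fintype_card]
  simp only [Nat.descFactorial, Nat.sub_zero]
  ring

end Cfsg.Agent.Helper27.GWB
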