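import Mathlib

/-!
# S3282 piece K2A (lead, for helper3): the arithmetic of the case `k = 2`, `ε = 1`: only `(d, z1, z2) = (5, 3, 3)`, `g = 60`.
-/

set_option autoImplicit false

namespace Cfsg.Agent.Helper3.BSW

namespace K2A

/-- clearing denominators in `1 + 1/d - 1/z1 - 1/z2 = 32/g` -/
theorem key (g : ℕ) (d z1 z2 : ℤ) (hd : 0 < d) (hz1 : 0 < z1) (hz2 : 0 < z2) (hg : 0 < g)
    (e2 : (1 : ℚ) + 1 / (d : ℚ) - 1 / (z1 : ℚ) - 1 / (z2 : ℚ) = 32 / (g : ℚ)) :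
    (g : ℤ) * (d * z1 * z2 + z1 * z2 - d * z2 - d * z1) = 32 * d * z1 * z2 := by
  have hd0 : (d : ℚ) ≠ 0 := by exact_mod_cast hd.ne'
  have h10 : (z1 : ℚ) ≠ 0 := by exact_mod_cast hz1.ne'
  have h20 : (z2 : ℚ) ≠ 0 := by exact_mod_cast hz2.ne'
  have hg0 : (g : ℚ) ≠ 0 := by exact_mod_cast hg.ne'
  have h : ((g : ℤ) : ℚ) * ((d : ℚ) * z1 * z2 + z1 * z2 - d * z2 - d * z1) = 32 * d * z1 * z2 := by
    have e := e2
    field_simp at e
    push_cast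
    linarith
  exact_mod_cast h

end K2A

/-- PIECE K2A (`k = 2`, `ε = 1`). `d, z1, z2` odd; `z1 = 1` gives `z2 = d` and `e2 = 0`; so `z1, z2 ≥ 3`, `32/g ≥ 1/3`, `g < 96`, `g ≥ 1 + d² + z1² + z2²`, `d = z1 + z2 - 1`:
only `(5,3,3)`, `g = 60`. -/
theorem k2_arith_A (g : ℕ) (d z1 z2 a a' a'' : ℤ) (hd : 0 < d) (hz1 : 0 < z1) (hz2 : 0 < z2)
    (hg : 0 < g) (hdeg : d - z1 - z2 = -1) (hcd : d = 2 * a - 1) (hc1 : z1 = 2 * a' + 1)
    (hc2 : z2 = 2 * a'' + 1)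
    (e2 : (1 : ℚ) + 1 / (d : ℚ) - 1 / (z1 : ℚ) - 1 / (z2 : ℚ) = 32 / (g : ℚ))
    (hb : 2 + 2 * d ^ 2 + 2 * z1 ^ 2 + 2 * z2 ^ 2 ≤ 2 * (g : ℤ)) :
    d = 5 ∧ z1 = 3 ∧ z2 = 3 ∧ (g : ℤ) = 60 := by
  have key := K2A.key g d z1 z2 hd hz1 hz2 hg e2
  have hG : (0 : ℤ) < (g : ℤ) := by exact_mod_cast hg
  generalize (g : ℤ) = G at key hb hG ⊢
  -- `z1 ≠ 1`, `z2 ≠ 1`
  have h1 : z1 ≠ 1 := by
    intro h
    have hz : z2 = d := by omega
    rw [h, hz] at key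
    have h0 : d * 1 * d + 1 * d - d * d - d * 1 = 0 := by ring
    rw [h0, mul_zero] at key
    have : 0 < 32 * d * 1 * d := by positivity
    omega
  have h2 : z2 ≠ 1 := by
    intro h
    have hz : z1 = d := by omega
    rw [h, hz] at key
    have h0 : d * d * 1 + d * 1 - d * 1 - d * d = 0 := by ring
    rw [h0, mul_zero] at key
    have : 0 < 32 * d * d * 1 := by positivity
    omega
  have h13 : 3 ≤ z1 := by omega
  have h23 : 3 ≤ z2 := by omega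
  -- `3 E > d z1 z2`
  have hE : d * z1 * z2 < 3 * (d * z1 * z2 + z1 * z2 - d * z2 - d * z1) := by
    nlinarith [mul_nonneg (mul_nonneg hd.le (sub_nonneg.2 h13)) (sub_nonneg.2 h23),
      mul_nonneg hd.le (sub_nonneg.2 h13), mul_nonneg hd.le (sub_nonneg.2 h23), mul_pos hz1 hz2]
  have hdzz : 0 < d * z1 * z2 := by positivity
  have hG96 : G < 96 := by
    by_contra hcon
    have hG' : 96 ≤ G := by omega
    have hEpos : 0 < d * z1 * z2 + z1 * z2 - d * z2 - d * z1 := by linarith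
    nlinarith [mul_le_mul_of_nonneg_right hG' hEpos.le]
  -- bounds
  have hdz : d = z1 + z2 - 1 := by omega
  subst hdz
  have hz1le : z1 ≤ 9 := by nlinarith
  have hz2le : z2 ≤ 9 := by nlinarith
  interval_cases z1 <;> interval_cases z2 <;> omega

end Cfsg.Agent.Helper3.BSW
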