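import Mathlib

/-!
# S3282 piece K2B (lead, for helper3): the arithmetic of the case `k = 2`, `ε = -1`: only `(d, z1, z2) = (3, 1, 1)`, `g = 12`.
-/

set_option autoImplicit false

namespace Cfsg.Agent.Helper3.BSW

namespace K2B

/-- clearing denominators in `1 - 1/d + 1/z1 + 1/z2 = 32/g` -/
theorem key (g : ℕ) (d z1 z2 : ℤ) (hd : 0 < d) (hz1 : 0 < z1) (hz2 : 0 < z2) (hg : 0 < g)
    (e2 : (1 : ℚ) - 1 / (d : ℚ) + 1 / (z1 : ℚ) + 1 / (z2 : ℚ) = 32 / (g : ℚ)) :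
    (g : ℤ) * (d * z1 * z2 - z1 * z2 + d * z2 + d * z1) = 32 * d * z1 * z2 := by
  have hd0 : (d : ℚ) ≠ 0 := by exact_mod_cast hd.ne'
  have h10 : (z1 : ℚ) ≠ 0 := by exact_mod_cast hz1.ne'
  have h20 : (z2 : ℚ) ≠ 0 := by exact_mod_cast hz2.ne'
  have hg0 : (g : ℚ) ≠ 0 := by exact_mod_cast hg.ne'
  have h : ((g : ℤ) : ℚ) * ((d : ℚ) * z1 * z2 - z1 * z2 + d * z2 + d * z1) = 32 * d * z1 * z2 := by
    have e := e2
    field_simp at e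
    push_cast
    linarith
  exact_mod_cast h

end K2B

/-- PIECE K2B (`k = 2`, `ε = -1`). `d = z1 + z2 + 1`, all odd; `32/g = 1 - 1/d + 1/z1 + 1/z2 > 1`, `g < 32`, `g ≥ 1 + d² + z1² + z2²`: only `(3,1,1)`, `g = 12`. -/
theorem k2_arith_B (g : ℕ) (d z1 z2 a a' a'' : ℤ) (hd : 0 < d) (hz1 : 0 < z1) (hz2 : 0 < z2)
    (hg : 0 < g) (hdeg : -d + z1 + z2 = -1) (hcd : d = 2 * a + 1) (hc1 : z1 = 2 * a' - 1)
    (hc2 : z2 = 2 * a'' - 1)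
    (e2 : (1 : ℚ) - 1 / (d : ℚ) + 1 / (z1 : ℚ) + 1 / (z2 : ℚ) = 32 / (g : ℚ))
    (hb : 2 + 2 * d ^ 2 + 2 * z1 ^ 2 + 2 * z2 ^ 2 ≤ 2 * (g : ℤ)) :
    d = 3 ∧ z1 = 1 ∧ z2 = 1 ∧ (g : ℤ) = 12 := by
  have key := K2B.key g d z1 z2 hd hz1 hz2 hg e2
  have hG : (0 : ℤ) < (g : ℤ) := by exact_mod_cast hg
  generalize (g : ℤ) = G at key hb hG ⊢
  have hdz : d = z1 + z2 + 1 := by omega
  subst hdz
  -- `E > d z1 z2`
  have hE : (z1 + z2 + 1) * z1 * z2 <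
      (z1 + z2 + 1) * z1 * z2 - z1 * z2 + (z1 + z2 + 1) * z2 + (z1 + z2 + 1) * z1 := by
    nlinarith [mul_pos hz1 hz2, mul_pos hz1 hz1, mul_pos hz2 hz2]
  have hdzz : 0 < (z1 + z2 + 1) * z1 * z2 := by positivity
  have hG32 : G < 32 := by
    by_contra hcon
    have hG' : 32 ≤ G := by omega
    have hEpos : 0 < (z1 + z2 + 1) * z1 * z2 - z1 * z2 + (z1 + z2 + 1) * z2 + (z1 + z2 + 1) * z1 := by
      linarith
    nlinarith [mul_le_mul_of_nonneg_right hG' hEpos.le]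
  have hz1le : z1 ≤ 5 := by nlinarith
  have hz2le : z2 ≤ 5 := by nlinarith
  interval_cases z1 <;> interval_cases z2 <;> omega

end Cfsg.Agent.Helper3.BSW
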