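import Mathlib
import Cfsg.Agent.Lib.Helper3.BSWArithDefs
import Cfsg.Agent.Lib.Helper24.BSWSUPP

/-!
# S3282 piece K2S (lead, for helper3): the case `k = 2` (`J = {j0}`): `b j0 - e_o` has norm `3`, the degree equation
leaves the sign patterns `+--` (`ε = 1`) and `++-` (`ε = -1`).
-/

set_option autoImplicit false

namespace Cfsg.Agent.Helper3.BSW

variable {ι J : Type*} [Fintype ι] [Fintype J] [DecidableEq ι] [DecidableEq J]

namespace K2S

theorem sum_ind_mul (X : ι) (f : ι → ℤ) : ∑ i, ind X i * f i = f X := by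
  simp [ind]

/-- a vector supported on three distinct points -/
theorem sum_three (w f : ι → ℤ) {A B C : ι} (hAB : A ≠ B) (hAC : A ≠ C) (hBC : B ≠ C)
    (h0 : ∀ i, i ≠ A → i ≠ B → i ≠ C → w i = 0) :
    ∑ i, w i * f i = w A * f A + w B * f B + w C * f C := by
  have hw : ∀ i, w i = w A * ind A i + w B * ind B i + w C * ind C i := by
    intro i
    by_cases hA : i = A
    · subst hA; simp [ind, hAB, hAC]
    · by_cases hB : i = B
      · subst hB; simp [ind, hA, hBC]
      · by_cases hC : i = C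
        · subst hC; simp [ind, hA, hB]
        · simp [ind, hA, hB, hC, h0 i hA hB hC]
  calc ∑ i, w i * f i
      = ∑ i, (w A * (ind A i * f i) + w B * (ind B i * f i) + w C * (ind C i * f i)) := by
        refine Finset.sum_congr rfl (fun i _ => ?_)
        rw [hw i]; ring
    _ = w A * f A + w B * f B + w C * f C := by
        rw [Finset.sum_add_distrib, Finset.sum_add_distrib, ← Finset.mul_sum, ← Finset.mul_sum,
          ← Finset.mul_sum, sum_ind_mul, sum_ind_mul, sum_ind_mul]

variable {k g : ℕ} {o : ι} {inv : J → J} {j0 : J} {sgn : J → ℤ} {b : J → ι → ℤ} {deg a1 : ι → ℤ}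

/-- the shape from a sign pattern `(ε, -ε, -ε)` at `(P, Z1, Z2)` -/
theorem shape_of (H : ArithHyp k g o inv j0 sgn b deg a1) (hJ : ∀ j : J, j = j0)
    {P Z1 Z2 : ι} {ε : ℤ} (hε : ε = 1 ∨ ε = -1) (hPZ1 : P ≠ Z1) (hPZ2 : P ≠ Z2) (hZ12 : Z1 ≠ Z2)
    (hP : b j0 P - ind o P = ε) (h1 : b j0 Z1 - ind o Z1 = -ε) (h2 : b j0 Z2 - ind o Z2 = -ε)
    (h0 : ∀ i, i ≠ P → i ≠ Z1 → i ≠ Z2 → b j0 i - ind o i = 0) :
    Shape o inv j0 b deg P (fun _ => o) Z1 Z2 ε ε := by
  have hbo : b j0 o - ind o o = 0 := by rw [H.b_o]; simp [ind]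
  have hε0 : ε ≠ 0 := by rcases hε with h | h <;> rw [h] <;> norm_num
  have hPo : P ≠ o := by
    intro h; rw [h] at hP; rw [hbo] at hP; exact hε0 hP.symm
  have hZ1o : Z1 ≠ o := by
    intro h; rw [h] at h1; rw [hbo] at h1; apply hε0; linarith
  have hZ2o : Z2 ≠ o := by
    intro h; rw [h] at h2; rw [hbo] at h2; apply hε0; linarith
  have hbj0 : ∀ i, b j0 i = ind o i + ε * ind P i - ε * ind Z1 i - ε * ind Z2 i := by
    intro i
    by_cases hA : i = P
    · subst hA
      have e1 : ind Z1 i = 0 := by simp [ind, hPZ1]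
      have e2 : ind Z2 i = 0 := by simp [ind, hPZ2]
      have e3 : ind i i = 1 := by simp [ind]
      rw [e1, e2, e3]; linarith
    · by_cases hB : i = Z1
      · subst hB
        have e1 : ind P i = 0 := by simp [ind, hA]
        have e2 : ind Z2 i = 0 := by simp [ind, hZ12]
        have e3 : ind i i = 1 := by simp [ind]
        rw [e1, e2, e3]; linarith
      · by_cases hC : i = Z2
        · subst hC
          have e1 : ind P i = 0 := by simp [ind, hA]
          have e2 : ind Z1 i = 0 := by simp [ind, hB]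
          have e3 : ind i i = 1 := by simp [ind]
          rw [e1, e2, e3]; linarith
        · have e1 : ind P i = 0 := by simp [ind, hA]
          have e2 : ind Z1 i = 0 := by simp [ind, hB]
          have e3 : ind Z2 i = 0 := by simp [ind, hC]
          have := h0 i hA hB hC
          rw [e1, e2, e3]; linarith
  refine
    { Po := hPo
      So := fun j hj => absurd (hJ j) hj
      SP := fun j hj => absurd (hJ j) hj
      Z1o := hZ1o
      Z2o := hZ2o
      Z1P := fun h => hPZ1 h.symm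
      Z2P := fun h => hPZ2 h.symm
      Z12 := hZ12
      SZ1 := fun j hj => absurd (hJ j) hj
      SZ2 := fun j hj => absurd (hJ j) hj
      Sinj := fun j j' hj => absurd (hJ j) hj
      Sinv := fun j hj => absurd (hJ j) hj
      bj := fun j hj => absurd (hJ j) hj
      bj0 := hbj0
      degS := fun j hj => absurd (hJ j) hj
      degZ := ?_ }
  have hs := H.deg_sum j0
  have hs' : ∑ i, b j0 i * deg i =
      ∑ i, (ind o i * deg i + ε * (ind P i * deg i) - ε * (ind Z1 i * deg i) -
        ε * (ind Z2 i * deg i)) := by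
    refine Finset.sum_congr rfl (fun i _ => ?_)
    rw [hbj0 i]; ring
  rw [hs', Finset.sum_sub_distrib, Finset.sum_sub_distrib, Finset.sum_add_distrib,
    ← Finset.mul_sum, ← Finset.mul_sum, ← Finset.mul_sum, sum_ind_mul, sum_ind_mul, sum_ind_mul,
    sum_ind_mul, H.deg_o] at hs
  linarith

end K2S

variable {k g : ℕ} {o : ι} {inv : J → J} {j0 : J} {sgn : J → ℤ} {b : J → ι → ℤ} {deg a1 : ι → ℤ}

/-- PIECE K2S (`k = 2`, `J = {j0}`). `v := b j0 - e_o` has norm `3`, `supp_three`; `1 + ∑ v i * deg i = 0` leaves `+--` (`ε = 1`, `P` := the positive one)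
and `++-` (`ε = -1`, `P` := the negative one).  `S` is arbitrary (all conditions on it are vacuous). -/
theorem k2_shape (H : ArithHyp k g o inv j0 sgn b deg a1) (hJ : ∀ j : J, j = j0) :
    ∃ (P : ι) (S : J → ι) (Z1 Z2 : ι) (ε : ℤ), (ε = 1 ∨ ε = -1) ∧
      Shape o inv j0 b deg P S Z1 Z2 ε ε := by
  -- the vector `v = b j0 - e_o`
  have hnorm : ∑ i, (b j0 i - ind o i) ^ 2 = 3 := by
    have hg := H.gram j0 j0
    have hfix : j0 = inv j0 := ((H.inv_fix j0).mpr rfl).symm
    rw [if_pos rfl, if_pos hfix] at hg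
    have e : ∑ i, (b j0 i - ind o i) ^ 2 =
        ∑ i, (b j0 i * b j0 i - 2 * (ind o i * b j0 i) + ind o i * ind o i) := by
      refine Finset.sum_congr rfl (fun i _ => ?_); ring
    rw [e, Finset.sum_add_distrib, Finset.sum_sub_distrib, ← Finset.mul_sum, K2S.sum_ind_mul,
      K2S.sum_ind_mul, hg, H.b_o]
    simp [ind]
  obtain ⟨A, B, C, hAB, hAC, hBC, hA, hB, hC, h0⟩ := supp_three (fun i => b j0 i - ind o i) hnorm
  -- the degree equation
  have hdeg : (b j0 A - ind o A) * deg A + (b j0 B - ind o B) * deg B +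
      (b j0 C - ind o C) * deg C = -1 := by
    rw [← K2S.sum_three (fun i => b j0 i - ind o i) deg hAB hAC hBC h0]
    have e : ∑ i, (b j0 i - ind o i) * deg i = ∑ i, (b j0 i * deg i - ind o i * deg i) := by
      refine Finset.sum_congr rfl (fun i _ => ?_); ring
    rw [e, Finset.sum_sub_distrib, H.deg_sum j0, K2S.sum_ind_mul, H.deg_o]
    norm_num
  have dA := H.deg_pos A
  have dB := H.deg_pos B
  have dC := H.deg_pos C
  rcases hA with hA | hA <;> rcases hB with hB | hB <;> rcases hC with hC | hC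
  · -- +++
    rw [hA, hB, hC] at hdeg; linarith
  · -- ++-: ε = -1, P = C
    refine ⟨C, fun _ => o, A, B, -1, Or.inr rfl, ?_⟩
    exact K2S.shape_of H hJ (Or.inr rfl) (fun h => hAC h.symm) (fun h => hBC h.symm) hAB
      hC (by rw [hA]; norm_num) (by rw [hB]; norm_num)
      (fun i h1 h2 h3 => h0 i h2 h3 h1)
  · -- +-+: ε = -1, P = B
    refine ⟨B, fun _ => o, A, C, -1, Or.inr rfl, ?_⟩
    exact K2S.shape_of H hJ (Or.inr rfl) (fun h => hAB h.symm) hBC hAC
      hB (by rw [hA]; norm_num) (by rw [hC]; norm_num)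
      (fun i h1 h2 h3 => h0 i h2 h1 h3)
  · -- +--: ε = 1, P = A
    refine ⟨A, fun _ => o, B, C, 1, Or.inl rfl, ?_⟩
    exact K2S.shape_of H hJ (Or.inl rfl) hAB hAC hBC hA hB hC h0
  · -- -++: ε = -1, P = A
    refine ⟨A, fun _ => o, B, C, -1, Or.inr rfl, ?_⟩
    exact K2S.shape_of H hJ (Or.inr rfl) hAB hAC hBC hA (by rw [hB]; norm_num)
      (by rw [hC]; norm_num) h0
  · -- -+-: ε = 1, P = B
    refine ⟨B, fun _ => o, A, C, 1, Or.inl rfl, ?_⟩
    exact K2S.shape_of H hJ (Or.inl rfl) (fun h => hAB h.symm) hBC hAC hB hA hC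
      (fun i h1 h2 h3 => h0 i h2 h1 h3)
  · -- --+: ε = 1, P = C
    refine ⟨C, fun _ => o, A, B, 1, Or.inl rfl, ?_⟩
    exact K2S.shape_of H hJ (Or.inl rfl) (fun h => hAC h.symm) (fun h => hBC h.symm) hAB hC hA hB
      (fun i h1 h2 h3 => h0 i h2 h3 h1)
  · -- ---
    rw [hA, hB, hC] at hdeg; linarith

end Cfsg.Agent.Helper3.BSW
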