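import Mathlib
import Cfsg.Agent.Lib.Helper3.BSWArithDefs

/-!
# S3282 piece SUMTAU (lead, for helper3): `∑_i τ(i)² F(i)` on a good shape.
`τ(i)² = [i = o] + [i = P] + [i = Z1] + [i = Z2] + 2 #{j ≠ j0 : S j = i}` pointwise.
-/

set_option autoImplicit false

namespace Cfsg.Agent.Helper3.BSW

namespace SUMTAU

variable {ι J : Type*} [Fintype ι] [Fintype J] [DecidableEq ι] [DecidableEq J]
  {k g : ℕ} {o : ι} {inv : J → J} {j0 : J} {sgn : J → ℤ} {b : J → ι → ℤ} {deg a1 : ι → ℤ}

theorem sum_ind_mul (X : ι) (f : ι → ℂ) : ∑ i, ((ind X i : ℤ) : ℂ) * f i = f X := by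
  simp [ind]

/-- the formula for `τ` on a shape -/
theorem tau_formula (H : ArithHyp k g o inv j0 sgn b deg a1) {P : ι} {S : J → ι} {Z1 Z2 : ι}
    {ε : ℤ} (hS : Shape o inv j0 b deg P S Z1 Z2 ε ε) (i : ι) :
    tau sgn b i = ind o i + ε * ind P i + ε * sgn j0 * (ind Z1 i + ind Z2 i) +
      ε * ∑ j ∈ Finset.univ.filter (fun j => j ≠ j0), sgn j * ind (S j) i := by
  unfold tau
  have hsplit : ∀ f : J → ℤ,
      ∑ j, f j = f j0 + ∑ j ∈ Finset.univ.filter (fun j => j ≠ j0), f j := by
    intro f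
    rw [Finset.filter_ne', Finset.add_sum_erase _ _ (Finset.mem_univ j0)]
  have hsgn : ∑ j ∈ Finset.univ.filter (fun j => j ≠ j0), sgn j = -1 - sgn j0 := by
    have := hsplit sgn
    rw [H.sgn_sum] at this
    linarith
  have h1 := hsplit (fun j => b j i * sgn j)
  beta_reduce at h1
  rw [h1]
  have hR : ∑ j ∈ Finset.univ.filter (fun j => j ≠ j0), b j i * sgn j =
      (ind o i + ε * ind P i) * ∑ j ∈ Finset.univ.filter (fun j => j ≠ j0), sgn j -
        ε * ∑ j ∈ Finset.univ.filter (fun j => j ≠ j0), sgn j * ind (S j) i := by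
    rw [Finset.mul_sum, Finset.mul_sum, ← Finset.sum_sub_distrib]
    refine Finset.sum_congr rfl (fun j hj => ?_)
    have hj' : j ≠ j0 := (Finset.mem_filter.mp hj).2
    rw [hS.bj j hj' i]; ring
  rw [hR, hsgn, hS.bj0 i]
  ring

/-- the pointwise value of `τ²` on a good shape -/
theorem tau_sq (H : ArithHyp k g o inv j0 sgn b deg a1) {P : ι} {S : J → ι} {Z1 Z2 : ι}
    {ε : ℤ} (hε : ε = 1 ∨ ε = -1) (hS : Shape o inv j0 b deg P S Z1 Z2 ε ε) (i : ι) :
    (tau sgn b i) ^ 2 = ind o i + ind P i + ind Z1 i + ind Z2 i +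
      2 * ∑ j ∈ Finset.univ.filter (fun j => j ≠ j0), ind (S j) i := by
  rw [tau_formula H hS i]
  have hεsq : ε * ε = 1 := by rcases hε with h | h <;> rw [h] <;> norm_num
  have hs0 : sgn j0 * sgn j0 = 1 := by rcases H.sgn_sq j0 with h | h <;> rw [h] <;> norm_num
  by_cases hi : ∃ j1, j1 ≠ j0 ∧ S j1 = i
  · obtain ⟨j1, hj1, rfl⟩ := hi
    have hinv1 : inv j1 ≠ j1 := fun h => hj1 ((H.inv_fix j1).mp h)
    have hinv0 : inv j1 ≠ j0 := by
      intro h
      apply hj1
      have h' : inv (inv j1) = inv j0 := by rw [h]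
      rw [H.inv_inv, (H.inv_fix j0).mpr rfl] at h'
      exact h'
    have hfib : ∀ f : J → ℤ, ∑ j ∈ Finset.univ.filter (fun j => j ≠ j0),
        f j * ind (S j) (S j1) = f j1 + f (inv j1) := by
      intro f
      have hpt : ∀ j ∈ Finset.univ.filter (fun j => j ≠ j0),
          f j * ind (S j) (S j1) = if (j = j1 ∨ j = inv j1) then f j else 0 := by
        intro j hj
        have hj' := (Finset.mem_filter.mp hj).2
        unfold ind
        by_cases hc : j = j1 ∨ j = inv j1
        · rw [if_pos hc]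
          have hSS : S j1 = S j := by
            rcases hc with h | h
            · rw [h]
            · rw [h, hS.Sinv j1 hj1]
          rw [if_pos hSS, mul_one]
        · rw [if_neg hc]
          have hSS : ¬ S j1 = S j := fun h => hc (hS.Sinj j1 j hj1 hj' h)
          rw [if_neg hSS, mul_zero]
      rw [Finset.sum_congr rfl hpt, Finset.sum_ite, Finset.sum_const_zero, add_zero]
      have hset : (Finset.univ.filter (fun j => j ≠ j0)).filter (fun j => j = j1 ∨ j = inv j1) =
          {j1, inv j1} := by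
        ext j
        simp only [Finset.mem_filter, Finset.mem_univ, true_and, Finset.mem_insert,
          Finset.mem_singleton]
        constructor
        · exact fun h => h.2
        · intro h
          refine ⟨?_, h⟩
          rcases h with h | h
          · rw [h]; exact hj1
          · rw [h]; exact hinv0
      rw [hset, Finset.sum_pair hinv1.symm]
    have e1 := hfib sgn
    have e2 := hfib (fun _ => 1)
    simp only [one_mul] at e2
    rw [e1, e2, H.sgn_inv j1]
    have io : ind o (S j1) = 0 := by unfold ind; rw [if_neg (hS.So j1 hj1)]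
    have iP : ind P (S j1) = 0 := by unfold ind; rw [if_neg (hS.SP j1 hj1)]
    have i1 : ind Z1 (S j1) = 0 := by unfold ind; rw [if_neg (hS.SZ1 j1 hj1)]
    have i2 : ind Z2 (S j1) = 0 := by unfold ind; rw [if_neg (hS.SZ2 j1 hj1)]
    rw [io, iP, i1, i2]
    have hs1 : sgn j1 * sgn j1 = 1 := by rcases H.sgn_sq j1 with h | h <;> rw [h] <;> norm_num
    have : (0 + ε * 0 + ε * sgn j0 * (0 + 0) + ε * (sgn j1 + sgn j1)) ^ 2 =
        4 * ((ε * ε) * (sgn j1 * sgn j1)) := by ring
    rw [this, hεsq, hs1]; norm_num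
  · have hN : ∀ f : J → ℤ,
        ∑ j ∈ Finset.univ.filter (fun j => j ≠ j0), f j * ind (S j) i = 0 := by
      intro f
      refine Finset.sum_eq_zero (fun j hj => ?_)
      have hj' := (Finset.mem_filter.mp hj).2
      unfold ind
      rw [if_neg (fun h => hi ⟨j, hj', h.symm⟩), mul_zero]
    have e1 := hN sgn
    have e2 := hN (fun _ => 1)
    simp only [one_mul] at e2
    rw [e1, e2]
    have hind : ∀ X : ι, ind X i = if i = X then 1 else 0 := fun X => rfl
    by_cases h1 : i = o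
    · subst h1
      rw [hind i, hind P, hind Z1, hind Z2, if_pos rfl, if_neg hS.Po.symm, if_neg hS.Z1o.symm,
        if_neg hS.Z2o.symm]
      norm_num
    · by_cases h2 : i = P
      · subst h2
        rw [hind o, hind i, hind Z1, hind Z2, if_neg h1, if_pos rfl, if_neg hS.Z1P.symm,
          if_neg hS.Z2P.symm]
        have : (0 + ε * 1 + ε * sgn j0 * (0 + 0) + ε * 0) ^ 2 = ε * ε := by ring
        rw [this, hεsq]; norm_num
      · by_cases h3 : i = Z1
        · subst h3
          rw [hind o, hind P, hind i, hind Z2, if_neg h1, if_neg h2, if_pos rfl, if_neg hS.Z12]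
          have : (0 + ε * 0 + ε * sgn j0 * (1 + 0) + ε * 0) ^ 2 = (ε * ε) * (sgn j0 * sgn j0) := by
            ring
          rw [this, hεsq, hs0]; norm_num
        · by_cases h4 : i = Z2
          · subst h4
            rw [hind o, hind P, hind Z1, hind i, if_neg h1, if_neg h2, if_neg h3, if_pos rfl]
            have : (0 + ε * 0 + ε * sgn j0 * (0 + 1) + ε * 0) ^ 2 =
                (ε * ε) * (sgn j0 * sgn j0) := by ring
            rw [this, hεsq, hs0]; norm_num
          · rw [hind o, hind P, hind Z1, hind Z2, if_neg h1, if_neg h2, if_neg h3, if_neg h4]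
            norm_num

end SUMTAU

section SumTau

variable {ι J : Type*} [Fintype ι] [Fintype J] [DecidableEq ι] [DecidableEq J]
  {k g : ℕ} {o : ι} {inv : J → J} {j0 : J} {sgn : J → ℤ} {b : J → ι → ℤ} {deg a1 : ι → ℤ}

/-- PIECE SUMTAU. `τ o = 1`, `τ P = ε`, `τ (S j) = 2 ε sgn j`, `τ Z1 = τ Z2 = ε sgn j0`, `τ = 0` elsewhere (cf. piece EQS); each value of `S` is taken exactly twice
(`j` and `inv j`).  Slick route: `τ(i)² = ∑_{j,j'} sgn j * sgn j' * b j i * b j' i` and `∑_i b j i * b j' i * F i` is explicit on the shape. -/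
theorem sum_tau_sq (H : ArithHyp k g o inv j0 sgn b deg a1) {P : ι} {S : J → ι} {Z1 Z2 : ι} {ε : ℤ}
    (hε : ε = 1 ∨ ε = -1) (hS : Shape o inv j0 b deg P S Z1 Z2 ε ε) (F : ι → ℂ) :
    ∑ i, ((tau sgn b i : ℤ) : ℂ) ^ 2 * F i =
      F o + F P + 2 * ∑ j ∈ Finset.univ.filter (fun j => j ≠ j0), F (S j) + F Z1 + F Z2 := by
  have h1 : ∀ i, ((tau sgn b i : ℤ) : ℂ) ^ 2 * F i =
      ((ind o i : ℤ) : ℂ) * F i + ((ind P i : ℤ) : ℂ) * F i + ((ind Z1 i : ℤ) : ℂ) * F i +
        ((ind Z2 i : ℤ) : ℂ) * F i +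
        2 * ∑ j ∈ Finset.univ.filter (fun j => j ≠ j0), ((ind (S j) i : ℤ) : ℂ) * F i := by
    intro i
    rw [← Int.cast_pow, SUMTAU.tau_sq H hε hS i]
    push_cast
    rw [Finset.mul_sum, Finset.mul_sum, add_mul, add_mul, add_mul, add_mul, Finset.sum_mul]
    congr 1
    refine Finset.sum_congr rfl (fun j _ => ?_)
    ring
  rw [Finset.sum_congr rfl (fun i _ => h1 i), Finset.sum_add_distrib, Finset.sum_add_distrib,
    Finset.sum_add_distrib, Finset.sum_add_distrib, SUMTAU.sum_ind_mul, SUMTAU.sum_ind_mul,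
    SUMTAU.sum_ind_mul, SUMTAU.sum_ind_mul, ← Finset.mul_sum, Finset.sum_comm]
  have h2 : ∀ j ∈ Finset.univ.filter (fun j => j ≠ j0),
      ∑ i, ((ind (S j) i : ℤ) : ℂ) * F i = F (S j) := fun j _ => SUMTAU.sum_ind_mul (S j) F
  rw [Finset.sum_congr rfl h2]
  ring

end SumTau

end Cfsg.Agent.Helper3.BSW
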