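import Mathlib
import Cfsg.Agent.Lib.Helper24.CharOrtho
import Cfsg.Agent.Lib.Helper24.CharLinear
import Cfsg.Agent.Lib.Helper3.BSWCharDefs

/-!
# S3282 piece SUMS (lead, for helper3): `∑ St = 0`, `∑ St² = |G|` for an integer-valued non-principal irreducible character.
-/

set_option autoImplicit false
set_option linter.unusedSectionVars false

namespace Cfsg.Agent.Helper3.BSW

open Cfsg Cfsg.Agent.Helper24
open scoped ComplexConjugate

universe u

variable {G : Type u} [Group G] [Fintype G] [Fintype (IrrCharacter G)] [DecidableEq (IrrCharacter G)]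
  {t s : G} {K : Subgroup G} [Fintype K] [Fintype (JK K)] [DecidableEq (JK K)]
  {a1 : IrrCharacter G → ℤ} {b : JK K → IrrCharacter G → ℤ} {sgn : JK K → ℤ}

section St

variable {j0 : JK K} {P : IrrCharacter G} {S : JK K → IrrCharacter G} {Z1 Z2 : IrrCharacter G} {ε : ℤ}

/-- PIECE SUMS (S3). `irr_orthogonality'` with the principal character and with `P` itself (`St` real). -/
theorem st_sums (P : IrrCharacter G) (hP : P ≠ principalChar G) (St : G → ℤ)
    (hSt : ∀ y, (P : G → ℂ) y = (St y : ℂ)) :
    ∑ x : G, St x = 0 ∧ ∑ x : G, St x ^ 2 = (Nat.card G : ℤ) := by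
  have hcard : (Nat.card G : ℂ) ≠ 0 := by exact_mod_cast (Nat.card_pos (α := G)).ne'
  constructor
  · have h := irr_orthogonality' P (principalChar G)
    rw [if_neg hP] at h
    unfold classInner at h
    have h2 : ∑ g : G, (P : G → ℂ) g * conj ((principalChar G : G → ℂ) g) = 0 := by
      rcases mul_eq_zero.mp h with h | h
      · exact absurd (inv_eq_zero.mp h) hcard
      · exact h
    have h3 : ((∑ x : G, St x : ℤ) : ℂ) = 0 := by
      rw [← h2]
      push_cast
      refine Finset.sum_congr rfl (fun g _ => ?_)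
      rw [hSt g]
      simp [principalChar]
    exact_mod_cast h3
  · have h := irr_orthogonality' P P
    rw [if_pos rfl] at h
    unfold classInner at h
    have h2 : ∑ g : G, (P : G → ℂ) g * conj ((P : G → ℂ) g) = (Nat.card G : ℂ) := by
      rw [inv_mul_eq_iff_eq_mul₀ hcard, mul_one] at h
      exact h
    have h3 : ((∑ x : G, St x ^ 2 : ℤ) : ℂ) = ((Nat.card G : ℤ) : ℂ) := by
      rw [Int.cast_natCast, ← h2]
      push_cast
      refine Finset.sum_congr rfl (fun g _ => ?_)
      rw [hSt g, map_intCast]
      ring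
    exact_mod_cast h3

end St

end Cfsg.Agent.Helper3.BSW
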