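import Mathlib
import Cfsg.Agent.Lib.Lead.TwAutNorm

/-!
# Automorphisms of twisted groups: elements normalising `U¹` and `V¹` lie in the torus
-/

set_option autoImplicit false
set_option linter.unusedSectionVars false
set_option linter.unusedSimpArgs false
set_option linter.unusedVariables false

namespace Cfsg.Agent.Lead.Tw

open Cfsg Cfsg.Lie Cfsg.Agent.Lead.Chev Cfsg.Agent.Helper6.AutAbs

/-- an element whose conjugation fixes a subgroup normalises it -/
theorem mem_normalizer_of_map_conj {G : Type*} [Group G] (A : Subgroup G) (x : G)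
    (h : A.map (MulAut.conj x).toMonoidHom = A) : x ∈ Subgroup.normalizer (A : Set G) := by
  rw [Subgroup.mem_normalizer_iff]
  intro a
  constructor
  · intro ha
    rw [← h]
    exact ⟨a, ha, rfl⟩
  · intro ha
    rw [← h] at ha
    obtain ⟨b, hb, e⟩ := ha
    have e' : x * b * x⁻¹ = x * a * x⁻¹ := e
    have : b = a := by
      have := congrArg (fun y => x⁻¹ * y * x) e'
      simpa [mul_assoc] using this
    rwa [← this]

variable {K : Type*} [Field K]

section

variable {D : ChevalleyDatum} {hF : ChevFacts D K} {T : Twist D K hF.xadd}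
  {π' : ℕ → ℕ} {S l₀ : List (List ℕ)} (h : OrthData hF T π' S l₀)
include h

/-- **an element of `G¹` normalising `U¹` and `V¹` lies in `H`** -/
theorem OrthData.mem_diagonal_of_normalizes [Fintype K] (hS : CorSize D) (hC : CorComb D)
    (g : ↥(orthGroup hF T S))
    (hU : (U1 hF T S).map (MulAut.conj g).toMonoidHom = U1 hF T S)
    (hV : (V1 hF T S).map (MulAut.conj g).toMonoidHom = V1 hF T S) :
    (g : GL D.Idx K) ∈ D.diagonalSubgroup K := by
  have hgB : g ∈ B1 hF T S := by
    rw [← h.normalizer_U1 hS hC]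
    exact mem_normalizer_of_map_conj _ _ hU
  rw [mem_B1] at hgB
  obtain ⟨u, hu, d, hd, huG, hdG, e⟩ := h.borel_decomp hS hC (g : GL D.Idx K) hgB g.2
  set uG : ↥(orthGroup hF T S) := ⟨u, huG⟩ with huGdef
  set dG : ↥(orthGroup hF T S) := ⟨d, hdG⟩ with hdGdef
  have eg : g = uG * dG := Subtype.ext e
  have hVu : (V1 hF T S).map (MulAut.conj uG).toMonoidHom = V1 hF T S := by
    have h1 := hV
    rw [eg, ← map_conj_mul (V1 hF T S) uG dG, h.map_conj_V1_of_mem_diagonal dG hd] at h1
    exact h1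
  -- the conjugate `n₀ u n₀⁻¹` lies in `V¹` and normalises `U¹`
  set u' : ↥(orthGroup hF T S) := h.n₀ * uG * (h.n₀)⁻¹ with hu'
  have hu'V : u' ∈ V1 hF T S := by
    rw [← h.map_n₀_U1]
    exact ⟨uG, (mem_U1 _).2 hu, rfl⟩
  have hU1 : (U1 hF T S).map (MulAut.conj (h.n₀)⁻¹).toMonoidHom = V1 hF T S := by
    rw [← h.map_n₀_V1 hS, map_conj_mul, inv_mul_cancel]
    ext x
    simp
  have hu'U : (U1 hF T S).map (MulAut.conj u').toMonoidHom = U1 hF T S := by
    rw [hu', ← map_conj_mul (U1 hF T S) (h.n₀ * uG) (h.n₀)⁻¹, hU1,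
      ← map_conj_mul (V1 hF T S) h.n₀ uG, hVu, h.map_n₀_V1 hS]
  have hu'B : u' ∈ B1 hF T S := by
    rw [← h.normalizer_U1 hS hC]
    exact mem_normalizer_of_map_conj _ _ hu'U
  rw [mem_B1] at hu'B
  rw [mem_V1] at hu'V
  have h1 : (u' : GL D.Idx K) ∈ D.borelSubgroup K ⊓ D.negUnipotent K := Subgroup.mem_inf.2 ⟨hu'B, hu'V⟩
  rw [hF.borel_inf_negUnipotent, Subgroup.mem_bot] at h1
  have hu'1 : u' = 1 := Subtype.ext h1
  have huG1 : uG = 1 := by
    have : uG = (h.n₀)⁻¹ * u' * h.n₀ := by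
      rw [hu']
      group
    rw [this, hu'1]
    group
  have hu1 : u = 1 := congrArg Subtype.val huG1
  rw [e, hu1, one_mul]
  exact hd

end

end Cfsg.Agent.Lead.Tw
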