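import Mathlib
import Cfsg.Agent.Lib.Lead.TwD4AutB
import Cfsg.Agent.Lib.Lead.TwD4Order

/-!
# Automorphisms of `³D₄(q)`: normalised automorphisms preserve the four root subgroups
-/

set_option autoImplicit false
set_option linter.unusedSectionVars false
set_option linter.unusedSimpArgs false
set_option linter.unusedVariables false

namespace Cfsg.Agent.Lead.Tw.D4

open Cfsg Cfsg.Lie Cfsg.Agent.Lead.Chev Cfsg.Agent.Helper6.ChevC Cfsg.Agent.Helper6.SL2Hom
  Cfsg.Agent.Helper6.ChevL Cfsg.Agent.Lead.Tw.AutRk1 Cfsg.Agent.Helper6.AutRank1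

variable {K : Type*} [Field K] [Fintype K] {q : ℕ} (hq : 1 < q) (hK : Fintype.card K = q ^ 3)
  (f : K ≃+* K) (hf : ∀ t, f t = t ^ q)
include hq hK hf

theorem hfff' (t : K) : f (f (f t)) = t := hfff hq hK f hf t

theorem hSz : CorSize chevD4 := corSize_of_mem _ hmem

theorem hCb : CorComb chevD4 := corComb_of_mem _ hmem

/-! ### cardinalities -/

theorem card_Fq : Nat.card ↥(Fq f) = q := by
  rw [← card_fixed_pow hq (by norm_num : 0 < 3) hK]
  apply Nat.card_congr
  apply Equiv.subtypeEquivRight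
  intro t
  rw [← hf]
  exact mem_Fq f t

theorem card_Xp_A : Nat.card ↥(Xp hF (tw f) S [1] clsA) = q := by
  rw [← card_Fq hq hK f hf]
  symm
  apply Nat.card_congr
  apply Equiv.ofBijective (fun s => (⟨XA f s, XA_mem f s⟩ : ↥(Xp hF (tw f) S [1] clsA)))
  constructor
  · intro s s' h
    exact XA_injective f (congrArg Subtype.val h)
  · rintro ⟨g, hg⟩
    obtain ⟨s, rfl⟩ := exists_XA f g hg
    exact ⟨s, rfl⟩

theorem card_Xn_A : Nat.card ↥(Xn hF (tw f) S [1] clsA) = q := by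
  rw [← card_Fq hq hK f hf]
  symm
  apply Nat.card_congr
  apply Equiv.ofBijective (fun s => (⟨YA f s, YA_mem f s⟩ : ↥(Xn hF (tw f) S [1] clsA)))
  constructor
  · intro s s' h
    exact YA_injective f (congrArg Subtype.val h)
  · rintro ⟨g, hg⟩
    obtain ⟨s, rfl⟩ := exists_YA f g hg
    exact ⟨s, rfl⟩

theorem card_Xp_B : Nat.card ↥(Xp hF (tw f) S [0, 2, 3] clsB) = q ^ 3 := by
  rw [← hK, ← Nat.card_eq_fintype_card]
  symm
  apply Nat.card_congr
  apply Equiv.ofBijective
    (fun t => (⟨XB f (hfff' hq hK f hf) t, XB_mem f _ t⟩ : ↥(Xp hF (tw f) S [0, 2, 3] clsB)))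
  constructor
  · intro s s' h
    exact XB_injective f (hfff' hq hK f hf) (congrArg Subtype.val h)
  · rintro ⟨g, hg⟩
    obtain ⟨s, rfl⟩ := exists_XB f (hfff' hq hK f hf) g hg
    exact ⟨s, rfl⟩

theorem card_Xn_B : Nat.card ↥(Xn hF (tw f) S [0, 2, 3] clsB) = q ^ 3 := by
  rw [← hK, ← Nat.card_eq_fintype_card]
  symm
  apply Nat.card_congr
  apply Equiv.ofBijective
    (fun t => (⟨YB f (hfff' hq hK f hf) t, YB_mem f _ t⟩ : ↥(Xn hF (tw f) S [0, 2, 3] clsB)))
  constructor
  · intro s s' h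
    exact YB_injective f (hfff' hq hK f hf) (congrArg Subtype.val h)
  · rintro ⟨g, hg⟩
    obtain ⟨s, rfl⟩ := exists_YB f (hfff' hq hK f hf) g hg
    exact ⟨s, rfl⟩

omit hK hf in
theorem q_lt_cube : q ≠ q ^ 3 := by
  have h2 : 1 < q ^ 2 := by
    calc 1 < q := hq
      _ = q ^ 1 := (pow_one q).symm
      _ ≤ q ^ 2 := Nat.pow_le_pow_right (by omega) (by norm_num)
  have h1 : q * 1 < q * q ^ 2 := Nat.mul_lt_mul_of_pos_left h2 (by omega)
  have : q ^ 3 = q * q ^ 2 := by ring
  omega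

/-! ### normalised automorphisms preserve the root subgroups -/

section normalized

variable (θ : ↥(orthGroup hF (tw f) S) ≃* ↥(orthGroup hF (tw f) S))
  (hU : (U1 hF (tw f) S).map θ.toMonoidHom = U1 hF (tw f) S)
  (hV : (V1 hF (tw f) S).map θ.toMonoidHom = V1 hF (tw f) S)
include hU hV

theorem map_Xn_A : (Xn hF (tw f) S [1] clsA).map θ.toMonoidHom = Xn hF (tw f) S [1] clsA := by
  obtain ⟨v', hv', e⟩ := (orthData f).exists_map_Xn (hSz hq hK f hf) (hCb hq hK f hf) (hdich f) θ hU hV [1] hS1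
  have hv'' := hv'
  simp only [S, List.mem_cons, List.not_mem_nil, or_false] at hv''
  rcases hv'' with rfl | rfl
  · exact e
  · exfalso
    have h1 := Subgroup.card_map_of_injective (K := Xn hF (tw f) S [1] clsA) (f := θ.toMonoidHom) θ.injective
    have h2 : Nat.card ↥((Xn hF (tw f) S [1] clsA).map θ.toMonoidHom) = q ^ 3 := by
      rw [← card_Xn_B hq hK f hf]
      exact congrArg (fun A : Subgroup ↥(orthGroup hF (tw f) S) => Nat.card ↥A) e
    rw [card_Xn_A hq hK f hf] at h1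
    exact q_lt_cube hq (h1.symm.trans h2)

theorem map_Xn_B :
    (Xn hF (tw f) S [0, 2, 3] clsB).map θ.toMonoidHom = Xn hF (tw f) S [0, 2, 3] clsB := by
  obtain ⟨v', hv', e⟩ := (orthData f).exists_map_Xn (hSz hq hK f hf) (hCb hq hK f hf) (hdich f) θ hU hV
    [0, 2, 3] hS3
  have hv'' := hv'
  simp only [S, List.mem_cons, List.not_mem_nil, or_false] at hv''
  rcases hv'' with rfl | rfl
  · exfalso
    have h1 := Subgroup.card_map_of_injective (K := Xn hF (tw f) S [0, 2, 3] clsB) (f := θ.toMonoidHom) θ.injective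
    have h2 : Nat.card ↥((Xn hF (tw f) S [0, 2, 3] clsB).map θ.toMonoidHom) = q := by
      rw [← card_Xn_A hq hK f hf]
      exact congrArg (fun A : Subgroup ↥(orthGroup hF (tw f) S) => Nat.card ↥A) e
    rw [card_Xn_B hq hK f hf] at h1
    exact q_lt_cube hq (h2.symm.trans h1)
  · exact e

theorem hoppX : ∀ v, ∀ hv : v ∈ S,
    (Xn hF (tw f) S v ((orthData f).cls v hv)).map (MulAut.conj (orthData f).n₀).toMonoidHom =
      Xp hF (tw f) S v ((orthData f).cls v hv) :=
  fun v hv => (orthData f).map_n₀_Xn hopp v hv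

theorem map_Xp_A : (Xp hF (tw f) S [1] clsA).map θ.toMonoidHom = Xp hF (tw f) S [1] clsA := by
  obtain ⟨v', hv', e⟩ := (orthData f).exists_map_Xp (hSz hq hK f hf) (hCb hq hK f hf) (hdich f)
    (hoppX hq hK f hf θ hU hV) θ hU hV [1] hS1
  have hv'' := hv'
  simp only [S, List.mem_cons, List.not_mem_nil, or_false] at hv''
  rcases hv'' with rfl | rfl
  · exact e
  · exfalso
    have h1 := Subgroup.card_map_of_injective (K := Xp hF (tw f) S [1] clsA) (f := θ.toMonoidHom) θ.injective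
    have h2 : Nat.card ↥((Xp hF (tw f) S [1] clsA).map θ.toMonoidHom) = q ^ 3 := by
      rw [← card_Xp_B hq hK f hf]
      exact congrArg (fun A : Subgroup ↥(orthGroup hF (tw f) S) => Nat.card ↥A) e
    rw [card_Xp_A hq hK f hf] at h1
    exact q_lt_cube hq (h1.symm.trans h2)

theorem map_Xp_B :
    (Xp hF (tw f) S [0, 2, 3] clsB).map θ.toMonoidHom = Xp hF (tw f) S [0, 2, 3] clsB := by
  obtain ⟨v', hv', e⟩ := (orthData f).exists_map_Xp (hSz hq hK f hf) (hCb hq hK f hf) (hdich f)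
    (hoppX hq hK f hf θ hU hV) θ hU hV [0, 2, 3] hS3
  have hv'' := hv'
  simp only [S, List.mem_cons, List.not_mem_nil, or_false] at hv''
  rcases hv'' with rfl | rfl
  · exfalso
    have h1 := Subgroup.card_map_of_injective (K := Xp hF (tw f) S [0, 2, 3] clsB) (f := θ.toMonoidHom) θ.injective
    have h2 : Nat.card ↥((Xp hF (tw f) S [0, 2, 3] clsB).map θ.toMonoidHom) = q := by
      rw [← card_Xp_A hq hK f hf]
      exact congrArg (fun A : Subgroup ↥(orthGroup hF (tw f) S) => Nat.card ↥A) e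
    rw [card_Xp_B hq hK f hf] at h1
    exact q_lt_cube hq (h2.symm.trans h1)
  · exact e

end normalized

/-! ### `U¹` is a Sylow subgroup -/

theorem card_U1 : Nat.card ↥(U1 hF (tw f) S) = q ^ 12 := by
  rw [← card_U hq hK f hf, twisted_eq hK f hf]
  unfold U1
  rw [← Subgroup.inf_subgroupOf_right]
  exact Nat.card_congr (Subgroup.subgroupOfEquivOfLe (inf_le_right :
    chevD4.posUnipotent K ⊓ orthGroup hF (tw f) S ≤ orthGroup hF (tw f) S)).toEquiv

theorem sylow_U1 (p e : ℕ) [Fact p.Prime] (hqp : q = p ^ e) :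
    ∃ P : Sylow p ↥(orthGroup hF (tw f) S), (P : Subgroup ↥(orthGroup hF (tw f) S)) = U1 hF (tw f) S := by
  have hp := (Fact.out : p.Prime)
  have hcardU := card_U1 hq hK f hf
  have hpg : IsPGroup p ↥(U1 hF (tw f) S) := by
    apply IsPGroup.of_card (n := e * 12)
    rw [hcardU, hqp, pow_mul]
  have he : e ≠ 0 := by
    rintro rfl
    rw [pow_zero] at hqp
    omega
  have hpq : p ∣ q := by
    rw [hqp]
    exact dvd_pow_self p he
  have hidx : ¬ p ∣ (U1 hF (tw f) S).index := by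
    have h1 := Subgroup.card_mul_index (U1 hF (tw f) S)
    have hG := card_group hq hK f hf
    rw [twisted_eq hK f hf] at hG
    rw [hcardU, hG, mul_assoc, mul_assoc] at h1
    have h2 := Nat.eq_of_mul_eq_mul_left (by positivity) h1
    rw [h2]
    have hq1 : 1 ≤ q := hq.le
    have hp1 : ∀ n, 1 ≤ q ^ n := fun n => Nat.one_le_pow _ _ hq1
    have hpn : ∀ n, n ≠ 0 → p ∣ q ^ n := fun n hn => dvd_pow hpq hn
    have hnot : ∀ n, n ≠ 0 → ¬ p ∣ q ^ n - 1 := by
      intro n hn hd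
      have h3 : p ∣ q ^ n - (q ^ n - 1) := Nat.dvd_sub (hpn n hn) hd
      have h4 : q ^ n - (q ^ n - 1) = 1 := by
        have := hp1 n
        omega
      rw [h4] at h3
      exact hp.one_lt.ne' (Nat.dvd_one.1 h3)
    intro hd
    rcases (Nat.Prime.dvd_mul hp).1 hd with h3 | h3
    · exact hnot 2 (by norm_num) h3
    · rcases (Nat.Prime.dvd_mul hp).1 h3 with h4 | h4
      · exact hnot 6 (by norm_num) h4
      · have h5 : p ∣ q ^ 8 + q ^ 4 := dvd_add (hpn 8 (by norm_num)) (hpn 4 (by norm_num))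
        have h6 := (Nat.dvd_add_right h5).1 h4
        exact hp.one_lt.ne' (Nat.dvd_one.1 h6)
  exact ⟨hpg.toSylow hidx, rfl⟩

end Cfsg.Agent.Lead.Tw.D4
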