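import Mathlib
import Cfsg.Agent.Lib.Lead.TwD4AutC

/-!
# Automorphisms of `³D₄(q)`: field automorphisms and the torus
-/

set_option autoImplicit false
set_option linter.unusedSectionVars false
set_option linter.unusedSimpArgs false
set_option linter.unusedVariables false

namespace Cfsg.Agent.Lead.Tw.D4

open Cfsg Cfsg.Lie Cfsg.Agent.Lead.Chev Cfsg.Agent.Helper6.ChevC Cfsg.Agent.Helper6.SL2Hom
  Cfsg.Agent.Helper6.ChevL Cfsg.Agent.Lead.Tw.AutRk1 Cfsg.Agent.Helper6.AutRank1 Cfsg.Agent.Lead.ZPM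

variable {K : Type*} [Field K] [Fintype K] {q : ℕ} (hq : 1 < q) (hK : Fintype.card K = q ^ 3)
  (f : K ≃+* K) (hf : ∀ t, f t = t ^ q)
include hq hK hf

/-! ### field automorphisms -/

omit hq hK in
theorem f_comm (φ : K ≃+* K) (t : K) : f (φ t) = φ (f t) := by
  rw [hf, hf, map_pow]

omit hq hK in
theorem hcommφ (φ : K ≃+* K) : ∀ r < chevD4.nroots, ∀ t, (tw f).c r (φ t) = φ ((tw f).c r t) := by
  intro r _ t
  show ((GD4a.gp.ε r : ℤ) : K) * f (φ t) = φ (((GD4a.gp.ε r : ℤ) : K) * f t)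
  rw [map_mul, map_intCast, f_comm f hf]

/-- the field automorphisms of `³D₄(q)` -/
noncomputable def FA : (K ≃+* K) →* MulAut ↥(orthGroup hF (tw f) S) :=
  (orthData f).fieldAut (fun φ => hcommφ f hf φ)

omit hq hK in
theorem FA_coe (φ : K ≃+* K) (g : ↥(orthGroup hF (tw f) S)) :
    ((FA f hf φ g : ↥(orthGroup hF (tw f) S)) : GL chevD4.Idx K) =
      PhiD chevD4 φ (g : GL chevD4.Idx K) := rfl

omit hq hK in
theorem FA_U1 (φ : K ≃+* K) :
    (U1 hF (tw f) S).map (FA f hf φ).toMonoidHom = U1 hF (tw f) S :=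
  (orthData f).fieldAut_U1 _ φ

omit hq hK in
theorem FA_V1 (φ : K ≃+* K) :
    (V1 hF (tw f) S).map (FA f hf φ).toMonoidHom = V1 hF (tw f) S :=
  (orthData f).fieldAut_V1 _ φ

/-- the restriction of a field automorphism to the fixed field -/
def resFq (φ : K ≃+* K) (s : ↥(Fq f)) : ↥(Fq f) :=
  ⟨φ (s : K), by
    rw [mem_Fq, f_comm f hf, (mem_Fq f _).1 s.2]⟩

omit hq hK in
theorem FA_XA (φ : K ≃+* K) (s : ↥(Fq f)) :
    FA f hf φ (XA f s) = XA f (resFq f hf φ s) := by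
  apply Subtype.ext
  rw [FA_coe, XA_coe, XA_coe]
  exact PhiD_xGL (hF (K := K)) φ _ ((hF (K := K)).simple_lt 1 (by decide)) _

omit hq hK in
theorem FA_YA (φ : K ≃+* K) (s : ↥(Fq f)) :
    FA f hf φ (YA f s) = YA f (resFq f hf φ s) := by
  apply Subtype.ext
  rw [FA_coe, YA_coe, YA_coe]
  exact PhiD_xGL (hF (K := K)) φ _ ((hF (K := K)).neg_simple_lt 1 (by decide)) _

theorem FA_XB (φ : K ≃+* K) (t : K) :
    FA f hf φ (XB f (hfff' hq hK f hf) t) = XB f (hfff' hq hK f hf) (φ t) := by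
  apply Subtype.ext
  rw [FA_coe, XB_coe, XB_coe]
  unfold xB
  rw [map_mul, map_mul, PhiD_xGL (hF (K := K)) φ _ ((hF (K := K)).simple_lt 0 (by decide)), PhiD_xGL (hF (K := K)) φ _ ((hF (K := K)).simple_lt 2 (by decide)),
    PhiD_xGL (hF (K := K)) φ _ ((hF (K := K)).simple_lt 3 (by decide))]
  simp only [f_comm f hf]

theorem FA_YB (φ : K ≃+* K) (t : K) :
    FA f hf φ (YB f (hfff' hq hK f hf) t) = YB f (hfff' hq hK f hf) (φ t) := by
  apply Subtype.ext
  rw [FA_coe, YB_coe, YB_coe]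
  unfold yB
  rw [map_mul, map_mul, PhiD_xGL (hF (K := K)) φ _ ((hF (K := K)).neg_simple_lt 0 (by decide)),
    PhiD_xGL (hF (K := K)) φ _ ((hF (K := K)).neg_simple_lt 2 (by decide)),
    PhiD_xGL (hF (K := K)) φ _ ((hF (K := K)).neg_simple_lt 3 (by decide))]
  simp only [f_comm f hf]

/-! ### the torus elements of the class `a` acting on the class `b` -/

omit hq hK hf in
/-- conjugation of a root element by `h_{p_i}(c)` -/
theorem hGLt_conj_xGL (i : ℕ) (hi : i < chevD4.rank) (c : K) (hc : c ≠ 0) (r : ℕ) (hr : r < chevD4.nroots)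
    (t : K) :
    hGLt chevD4 (hF (K := K)).xadd (chevD4.simple i) c * xGL chevD4 (hF (K := K)).xadd r t *
      (hGLt chevD4 (hF (K := K)).xadd (chevD4.simple i) c)⁻¹ =
      xGL chevD4 (hF (K := K)).xadd r (c ^ (chevD4.cartan i r) * t) := by
  rw [mul_inv_eq_iff_eq_mul]
  apply Units.ext
  rw [Units.val_mul, Units.val_mul, hGLt_simple_val hF i hi c hc, xGL_val, xGL_val]
  exact (hF (K := K)).hconj i hi r hr c hc t

omit hq hK hf in
theorem hhA_coe (s : ↥(Fq f)) :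
    ((hh (XA f) (YA f) s : ↥(orthGroup hF (tw f) S)) : GL chevD4.Idx K) =
      hGLt chevD4 (hF (K := K)).xadd (chevD4.simple 1) (s : K) := by
  rw [← hh_eq hF]
  unfold hh nn
  simp only [Subgroup.coe_mul, Subgroup.coe_inv, XA_coe, YA_coe]
  unfold xA yA
  push_cast
  rfl

omit hq hK hf in
theorem cartan_vals : chevD4.cartan 1 (chevD4.simple 0) = -1 ∧ chevD4.cartan 1 (chevD4.simple 2) = -1 ∧
    chevD4.cartan 1 (chevD4.simple 3) = -1 := by
  decide +kernel

theorem hhA_conj_XB (s : ↥(Fq f)) (hs : s ≠ 0) (t : K) :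
    hh (XA f) (YA f) s * XB f (hfff' hq hK f hf) t * (hh (XA f) (YA f) s)⁻¹ =
      XB f (hfff' hq hK f hf) ((s : K)⁻¹ * t) := by
  apply Subtype.ext
  simp only [Subgroup.coe_mul, Subgroup.coe_inv, hhA_coe, XB_coe]
  have hs' : (s : K) ≠ 0 := fun h0 => hs (Subtype.ext h0)
  have hfs : f (s : K) = s := (mem_Fq f _).1 s.2
  obtain ⟨c0, c2, c3⟩ := cartan_vals
  unfold xB
  set d := hGLt chevD4 (hF (K := K)).xadd (chevD4.simple 1) (s : K) with hd
  have e : ∀ a b c : GL chevD4.Idx K, d * (a * (b * c)) * d⁻¹ = (d * a * d⁻¹) * ((d * b * d⁻¹) * (d * c * d⁻¹)) := by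
    intro a b c
    group
  rw [e, hd, hGLt_conj_xGL 1 (by decide) _ hs' _ ((hF (K := K)).simple_lt 0 (by decide)),
    hGLt_conj_xGL 1 (by decide) _ hs' _ ((hF (K := K)).simple_lt 2 (by decide)),
    hGLt_conj_xGL 1 (by decide) _ hs' _ ((hF (K := K)).simple_lt 3 (by decide)), c0, c2, c3]
  simp only [zpow_neg, zpow_one, map_mul, map_inv₀, hfs]

end Cfsg.Agent.Lead.Tw.D4
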