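import Mathlib
import Cfsg.Agent.Lib.Lead.TwD4AutD

/-!
# Automorphisms of `³D₄(q)`: the torus `H¹` realises all pairs of scalars
-/

set_option autoImplicit false
set_option linter.unusedSectionVars false
set_option linter.unusedSimpArgs false
set_option linter.unusedVariables false
set_option linter.style.haveILetI false

namespace Cfsg.Agent.Lead.Tw.D4

open Cfsg Cfsg.Lie Cfsg.Agent.Lead.Chev Cfsg.Agent.Helper6.ChevC Cfsg.Agent.Helper6.SL2Hom
  Cfsg.Agent.Helper6.ChevL Cfsg.Agent.Lead.Tw.AutRk1 Cfsg.Agent.Helper6.AutRank1 Cfsg.Agent.Lead.ZPM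

variable {K : Type*} [Field K] [Fintype K] {q : ℕ} (hq : 1 < q) (hK : Fintype.card K = q ^ 3)
  (f : K ≃+* K) (hf : ∀ t, f t = t ^ q)
include hq hK hf

omit hq hK hf in
theorem chiU_div (c c' : Fin chevD4.rank → Kˣ) (v : ℕ) :
    chiU chevD4 (c / c') v = chiU chevD4 c v / chiU chevD4 c' v := by
  unfold chiU
  rw [← Finset.prod_div_distrib]
  apply Finset.prod_congr rfl
  intro i _
  rw [Pi.div_apply, div_zpow]

omit hq hK hf in
theorem ρ_simple_vals : (tw f).ρ (chevD4.simple 0) = chevD4.simple 2 ∧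
    (tw f).ρ (chevD4.simple 1) = chevD4.simple 1 ∧ (tw f).ρ (chevD4.simple 2) = chevD4.simple 3 := by
  refine ⟨?_, ?_, ?_⟩
  · exact (tw f).ρ_simple 0 (by decide)
  · exact (tw f).ρ_simple 1 (by decide)
  · exact (tw f).ρ_simple 2 (by decide)

omit hq hK hf in
/-- the characters of a fixed parameter vector at the fundamental roots -/
theorem chiU_fixed (c : Fin chevD4.rank → Kˣ) (hc : c ∈ fixT f πe) :
    chiU chevD4 c (chevD4.simple 1) = Units.map (f : K →* K) (chiU chevD4 c (chevD4.simple 1)) ∧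
    chiU chevD4 c (chevD4.simple 2) = Units.map (f : K →* K) (chiU chevD4 c (chevD4.simple 0)) ∧
    chiU chevD4 c (chevD4.simple 3) = Units.map (f : K →* K) (chiU chevD4 c (chevD4.simple 2)) := by
  obtain ⟨r0, r1, r2⟩ := ρ_simple_vals f
  have htw : twP f πe c = c := (mem_fixT f πe c).1 hc
  have key : ∀ r < chevD4.nroots, chiU chevD4 c ((tw f).ρ r) = Units.map (f : K →* K) (chiU chevD4 c r) := by
    intro r hr
    have := chiU_twP f πe (tw f).ρ hcart c r hr
    rwa [htw] at this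
  refine ⟨?_, ?_, ?_⟩
  · have := key _ ((hF (K := K)).simple_lt 1 (by decide))
    rwa [r1] at this
  · have := key _ ((hF (K := K)).simple_lt 0 (by decide))
    rwa [r0] at this
  · have := key _ ((hF (K := K)).simple_lt 2 (by decide))
    rwa [r2] at this

/-- a fixed parameter vector with trivial characters on the classes is trivial -/
theorem eq_one_of_chiU (c : Fin chevD4.rank → Kˣ) (hc : c ∈ fixT f πe)
    (h1 : chiU chevD4 c (chevD4.simple 1) = 1) (h0 : chiU chevD4 c (chevD4.simple 0) = 1) : c = 1 := by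
  obtain ⟨-, e2, e3⟩ := chiU_fixed f c hc
  have h2 : chiU chevD4 c (chevD4.simple 2) = 1 := by rw [e2, h0, map_one]
  have h3 : chiU chevD4 c (chevD4.simple 3) = 1 := by rw [e3, h2, map_one]
  have hz : zpv cartD4 (c : Fin 4 → Kˣ) = 1 := by
    funext j
    obtain ⟨j, hj⟩ := j
    have hj' : j < 4 := hj
    interval_cases j
    · exact h0
    · exact h1
    · exact h2
    · exact h3
  have hker : torusHom chevD4 K c = 1 := (MonoidHom.mem_ker).1 ((mem_ker_iff c).2 hz)
  have hcard := card_kerT hq hK f hf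
  rw [Nat.card_eq_one_iff_unique] at hcard
  obtain ⟨hsub, -⟩ := hcard
  have := hsub.elim (⟨c, hc, hker⟩ : {c : Fin chevD4.rank → Kˣ // c ∈ fixT f πe ∧ torusHom chevD4 K c = 1})
    ⟨1, one_mem _, map_one _⟩
  exact congrArg Subtype.val this

/-- **the torus realises all pairs of scalars** -/
theorem exists_torus (a b : K) (ha : f a = a) (ha0 : a ≠ 0) (hb0 : b ≠ 0) :
    ∃ c ∈ fixT f πe, chi chevD4 (extC chevD4 c) (chevD4.simple 1) = a ∧
      chi chevD4 (extC chevD4 c) (chevD4.simple 0) = b := by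
  classical
  set Θ : ↥(fixT f πe) → {u : Kˣ // u ^ q = u} × Kˣ := fun c =>
    (⟨chiU chevD4 c.1 (chevD4.simple 1), by
      have := (chiU_fixed f c.1 c.2).1
      rw [units_map_f hq hK f hf] at this
      exact this.symm⟩, chiU chevD4 c.1 (chevD4.simple 0)) with hΘ
  have hinj : Function.Injective Θ := by
    intro c c' h
    have e1 : chiU chevD4 c.1 (chevD4.simple 1) = chiU chevD4 c'.1 (chevD4.simple 1) :=
      congrArg (fun p : {u : Kˣ // u ^ q = u} × Kˣ => (p.1 : Kˣ)) h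
    have e0 : chiU chevD4 c.1 (chevD4.simple 0) = chiU chevD4 c'.1 (chevD4.simple 0) :=
      congrArg (fun p : {u : Kˣ // u ^ q = u} × Kˣ => p.2) h
    have hd : c.1 / c'.1 ∈ fixT f πe := div_mem c.2 c'.2
    have := eq_one_of_chiU hq hK f hf (c.1 / c'.1) hd (by rw [chiU_div, e1, div_self'])
      (by rw [chiU_div, e0, div_self'])
    exact Subtype.ext (div_eq_one.1 this)
  have hcard : Nat.card ({u : Kˣ // u ^ q = u} × Kˣ) ≤ Nat.card ↥(fixT f πe) := by
    rw [card_fixT hq hK f hf, Nat.card_prod, card_units_fixed_pow hq (by norm_num : 0 < 3) hK,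
      Nat.card_eq_fintype_card, Fintype.card_units, hK]
  have hbij := hinj.bijective_of_nat_card_le hcard
  have hau : (Units.mk0 a ha0) ^ q = Units.mk0 a ha0 := by
    apply Units.ext
    rw [Units.val_pow_eq_pow_val, Units.val_mk0, ← hf, ha]
  obtain ⟨c, hc⟩ := hbij.2 (⟨Units.mk0 a ha0, hau⟩, Units.mk0 b hb0)
  refine ⟨c.1, c.2, ?_, ?_⟩
  · rw [← chiU_val]
    have : chiU chevD4 c.1 (chevD4.simple 1) = Units.mk0 a ha0 :=
      congrArg (fun p : {u : Kˣ // u ^ q = u} × Kˣ => (p.1 : Kˣ)) hc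
    rw [this, Units.val_mk0]
  · rw [← chiU_val]
    have : chiU chevD4 c.1 (chevD4.simple 0) = Units.mk0 b hb0 :=
      congrArg (fun p : {u : Kˣ // u ^ q = u} × Kˣ => p.2) hc
    rw [this, Units.val_mk0]

/-! ### the torus elements in the group, and their action -/

omit hq hK hf in
theorem torus_mem (c : Fin chevD4.rank → Kˣ) (hc : c ∈ fixT f πe) :
    torusHom chevD4 K c ∈ orthGroup hF (tw f) S :=
  (orthData f).torusHom_mem f πe (fun i => rfl) (fun i hi t => c_simple f i hi t)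
    (fun i hi t => c_neg_simple f i hi t) hperm c hc

/-- the torus element of a fixed parameter vector -/
noncomputable def hT (c : Fin chevD4.rank → Kˣ) (hc : c ∈ fixT f πe) : ↥(orthGroup hF (tw f) S) :=
  ⟨torusHom chevD4 K c, torus_mem f c hc⟩

omit hq hK hf in
theorem conj_xGL (c : Fin chevD4.rank → Kˣ) (r : ℕ) (hr : r < chevD4.nroots) (t : K) :
    torusHom chevD4 K c * xGL chevD4 (hF (K := K)).xadd r t * (torusHom chevD4 K c)⁻¹ =
      xGL chevD4 (hF (K := K)).xadd r (chi chevD4 (extC chevD4 c) r * t) :=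
  (hF (K := K)).Tmat_conj_xGL _ (extC chevD4 c) (fun i _ => extC_ne_zero chevD4 c i) (torusHom_val chevD4 c) r hr t

omit hq hK hf in
theorem hT_conj_XA (c : Fin chevD4.rank → Kˣ) (hc : c ∈ fixT f πe) (a : ↥(Fq f))
    (ha : chi chevD4 (extC chevD4 c) (chevD4.simple 1) = (a : K)) (s : ↥(Fq f)) :
    hT f c hc * XA f s * (hT f c hc)⁻¹ = XA f (a * s) := by
  apply Subtype.ext
  simp only [Subgroup.coe_mul, Subgroup.coe_inv, XA_coe]
  show torusHom chevD4 K c * xA (s : K) * (torusHom chevD4 K c)⁻¹ = _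
  unfold xA
  rw [conj_xGL c _ ((hF (K := K)).simple_lt 1 (by decide)), ha]
  rfl

omit hq hK hf in
theorem hT_conj_YA (c : Fin chevD4.rank → Kˣ) (hc : c ∈ fixT f πe) (a : ↥(Fq f))
    (ha : chi chevD4 (extC chevD4 c) (chevD4.simple 1) = (a : K)) (s : ↥(Fq f)) :
    hT f c hc * YA f s * (hT f c hc)⁻¹ = YA f (a⁻¹ * s) := by
  apply Subtype.ext
  simp only [Subgroup.coe_mul, Subgroup.coe_inv, YA_coe]
  show torusHom chevD4 K c * yA (s : K) * (torusHom chevD4 K c)⁻¹ = _
  unfold yA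
  rw [conj_xGL c _ ((hF (K := K)).neg_simple_lt 1 (by decide)),
    chi_neg chevD4 (hF (K := K)).cartan_neg _ _ ((hF (K := K)).simple_lt 1 (by decide)), ha]
  rfl

omit hq hK hf in
/-- the characters at the triple class -/
theorem chi_tri (c : Fin chevD4.rank → Kˣ) (hc : c ∈ fixT f πe) :
    chi chevD4 (extC chevD4 c) (chevD4.simple 2) = f (chi chevD4 (extC chevD4 c) (chevD4.simple 0)) ∧
    chi chevD4 (extC chevD4 c) (chevD4.simple 3) =
      f (f (chi chevD4 (extC chevD4 c) (chevD4.simple 0))) := by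
  obtain ⟨-, e2, e3⟩ := chiU_fixed f c hc
  have h2 : chi chevD4 (extC chevD4 c) (chevD4.simple 2) =
      f (chi chevD4 (extC chevD4 c) (chevD4.simple 0)) := by
    rw [← chiU_val, ← chiU_val, e2]
    rfl
  refine ⟨h2, ?_⟩
  rw [← h2, ← chiU_val, ← chiU_val, e3]
  rfl

theorem hT_conj_XB (c : Fin chevD4.rank → Kˣ) (hc : c ∈ fixT f πe) (b : K)
    (hb : chi chevD4 (extC chevD4 c) (chevD4.simple 0) = b) (t : K) :
    hT f c hc * XB f (hfff' hq hK f hf) t * (hT f c hc)⁻¹ = XB f (hfff' hq hK f hf) (b * t) := by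
  apply Subtype.ext
  simp only [Subgroup.coe_mul, Subgroup.coe_inv, XB_coe]
  show torusHom chevD4 K c * xB f t * (torusHom chevD4 K c)⁻¹ = _
  obtain ⟨e2, e3⟩ := chi_tri f c hc
  unfold xB
  set d := torusHom chevD4 K c with hd
  have e : ∀ x y z : GL chevD4.Idx K, d * (x * (y * z)) * d⁻¹ = (d * x * d⁻¹) * ((d * y * d⁻¹) * (d * z * d⁻¹)) := by
    intro x y z
    group
  rw [e, hd, conj_xGL c _ ((hF (K := K)).simple_lt 0 (by decide)),
    conj_xGL c _ ((hF (K := K)).simple_lt 2 (by decide)),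
    conj_xGL c _ ((hF (K := K)).simple_lt 3 (by decide)), e2, e3, hb]
  simp only [map_mul]

theorem hT_conj_YB (c : Fin chevD4.rank → Kˣ) (hc : c ∈ fixT f πe) (b : K)
    (hb : chi chevD4 (extC chevD4 c) (chevD4.simple 0) = b) (t : K) :
    hT f c hc * YB f (hfff' hq hK f hf) t * (hT f c hc)⁻¹ = YB f (hfff' hq hK f hf) (b⁻¹ * t) := by
  apply Subtype.ext
  simp only [Subgroup.coe_mul, Subgroup.coe_inv, YB_coe]
  show torusHom chevD4 K c * yB f t * (torusHom chevD4 K c)⁻¹ = _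
  obtain ⟨e2, e3⟩ := chi_tri f c hc
  unfold yB
  set d := torusHom chevD4 K c with hd
  have e : ∀ x y z : GL chevD4.Idx K, d * (x * (y * z)) * d⁻¹ = (d * x * d⁻¹) * ((d * y * d⁻¹) * (d * z * d⁻¹)) := by
    intro x y z
    group
  rw [e, hd, conj_xGL c _ ((hF (K := K)).neg_simple_lt 0 (by decide)),
    conj_xGL c _ ((hF (K := K)).neg_simple_lt 2 (by decide)),
    conj_xGL c _ ((hF (K := K)).neg_simple_lt 3 (by decide)),
    chi_neg chevD4 (hF (K := K)).cartan_neg _ _ ((hF (K := K)).simple_lt 0 (by decide)),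
    chi_neg chevD4 (hF (K := K)).cartan_neg _ _ ((hF (K := K)).simple_lt 2 (by decide)),
    chi_neg chevD4 (hF (K := K)).cartan_neg _ _ ((hF (K := K)).simple_lt 3 (by decide)), e2, e3, hb]
  simp only [map_mul, map_inv₀]

end Cfsg.Agent.Lead.Tw.D4
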