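import Mathlib
import Cfsg.Agent.Lib.Lead.TwD4AutE

/-!
# Automorphisms of `³D₄(q)`: a normalised automorphism is the product of a torus element and a field automorphism
-/

set_option autoImplicit false
set_option linter.unusedSectionVars false
set_option linter.unusedSimpArgs false
set_option linter.unusedVariables false
set_option linter.style.haveILetI false

namespace Cfsg.Agent.Lead.Tw.D4

open Cfsg Cfsg.Lie Cfsg.Agent.Lead.Chev Cfsg.Agent.Helper6.ChevC Cfsg.Agent.Helper6.SL2Hom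
  Cfsg.Agent.Helper6.ChevL Cfsg.Agent.Lead.Tw.AutRk1 Cfsg.Agent.Helper6.AutRank1 Cfsg.Agent.Lead.ZPM

/-! ### generalities -/

/-- two homomorphisms on a subgroup generated by a set agree if they agree on the generators -/
theorem eq_of_closure {G M : Type*} [Group G] [Group M] (s : Set G) (θ θ' : ↥(Subgroup.closure s) →* M)
    (h : ∀ x (hx : x ∈ s), θ ⟨x, Subgroup.subset_closure hx⟩ = θ' ⟨x, Subgroup.subset_closure hx⟩) :
    θ = θ' := by
  have h1 : (⊤ : Subgroup ↥(Subgroup.closure s)) ≤ MonoidHom.eqLocus θ θ' := by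
    rw [← Subgroup.closure_closure_coe_preimage, Subgroup.closure_le]
    intro x hx
    exact h x.1 hx
  ext x
  exact h1 (Subgroup.mem_top x)

/-- the image of `h(s)` under a homomorphism acting on the two root subgroups by `c σ`, `c⁻¹ σ` -/
theorem map_hh {F : Type*} [Field F] {G : Type*} [Group G] {X Y : F → G} (h : RankOne X Y) (θ : G →* G)
    (c : F) (hc : c ≠ 0) (σ : F ≃+* F) (hX : ∀ t, θ (X t) = X (c * σ t)) (hY : ∀ t, θ (Y t) = Y (c⁻¹ * σ t))
    (s : F) (hs : s ≠ 0) : θ (hh X Y s) = hh X Y (σ s) := by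
  have hσs : σ s ≠ 0 := (map_ne_zero σ).2 hs
  have key : ∀ u : F, u ≠ 0 → X u * Y (-u⁻¹) * X u = hh X Y u * nn X Y := by
    intro u _
    unfold hh
    rw [inv_mul_cancel_right]
  have e1 : θ (nn X Y) = hh X Y c * nn X Y := by
    have e0 : θ (X 1 * Y (-1) * X 1) = X c * Y (-c⁻¹) * X c := by
      rw [map_mul, map_mul, hX, hY, map_neg, map_one, mul_one, mul_neg, mul_one]
    rw [← key c hc, ← e0]
    rfl
  have e2 : θ (X s * Y (-s⁻¹) * X s) = hh X Y (c * σ s) * nn X Y := by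
    rw [map_mul, map_mul, hX, hY, ← key _ (mul_ne_zero hc hσs), map_neg, map_inv₀, mul_neg, mul_inv]
  unfold hh
  rw [map_mul, map_inv, e2, e1, mul_comm c (σ s), h.hmul _ _ hσs hc]
  unfold hh
  group

variable {K : Type*} [Field K] [Fintype K] {q : ℕ} (hq : 1 < q) (hK : Fintype.card K = q ^ 3)
  (f : K ≃+* K) (hf : ∀ t, f t = t ^ q)
include hq hK hf

/-- an automorphism fixing the four root subgroups elementwise is trivial -/
theorem eq_of_gens (θ θ' : ↥(orthGroup hF (tw f) S) →* ↥(orthGroup hF (tw f) S))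
    (hXA : ∀ s, θ (XA f s) = θ' (XA f s)) (hYA : ∀ s, θ (YA f s) = θ' (YA f s))
    (hXB : ∀ t, θ (XB f (hfff' hq hK f hf) t) = θ' (XB f (hfff' hq hK f hf) t))
    (hYB : ∀ t, θ (YB f (hfff' hq hK f hf) t) = θ' (YB f (hfff' hq hK f hf) t)) : θ = θ' := by
  apply eq_of_closure
  rintro x (⟨v, hv, φ, hφ, rfl⟩ | ⟨v, hv, φ, hφ, rfl⟩)
  · have hv' := hv
    simp only [S, List.mem_cons, List.not_mem_nil, or_false] at hv'
    rcases hv' with rfl | rfl
    · obtain ⟨s, hs⟩ := exists_XA f ⟨_, (orthData f).xs_mem _ hv φ hφ⟩ ⟨φ, rfl⟩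
      exact (congrArg θ hs).trans ((hXA s).trans (congrArg θ' hs).symm)
    · obtain ⟨s, hs⟩ := exists_XB f (hfff' hq hK f hf) ⟨_, (orthData f).xs_mem _ hv φ hφ⟩ ⟨φ, rfl⟩
      exact (congrArg θ hs).trans ((hXB s).trans (congrArg θ' hs).symm)
  · have hv' := hv
    simp only [S, List.mem_cons, List.not_mem_nil, or_false] at hv'
    rcases hv' with rfl | rfl
    · obtain ⟨s, hs⟩ := exists_YA f ⟨_, (orthData f).ys_mem _ hv φ hφ⟩ ⟨φ, rfl⟩
      exact (congrArg θ hs).trans ((hYA s).trans (congrArg θ' hs).symm)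
    · obtain ⟨s, hs⟩ := exists_YB f (hfff' hq hK f hf) ⟨_, (orthData f).ys_mem _ hv φ hφ⟩ ⟨φ, rfl⟩
      exact (congrArg θ hs).trans ((hYB s).trans (congrArg θ' hs).symm)

/-- **a normalised automorphism is the product of the conjugation by a torus element and a field
automorphism** -/
theorem exists_torus_field (θ : MulAut ↥(orthGroup hF (tw f) S))
    (hU : (U1 hF (tw f) S).map θ.toMonoidHom = U1 hF (tw f) S)
    (hV : (V1 hF (tw f) S).map θ.toMonoidHom = V1 hF (tw f) S) :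
    ∃ (g : ↥(orthGroup hF (tw f) S)) (φ : K ≃+* K), θ = MulAut.conj g * FA f hf φ := by
  have h3 := hfff' hq hK f hf
  -- the class `b`
  have hXB : ∀ t, ∃ t', θ.toMonoidHom (XB f h3 t) = XB f h3 t' := by
    intro t
    have h1 : θ.toMonoidHom (XB f h3 t) ∈ (Xp hF (tw f) S [0, 2, 3] clsB).map θ.toMonoidHom :=
      ⟨_, XB_mem f h3 t, rfl⟩
    rw [map_Xp_B hq hK f hf θ hU hV] at h1
    exact exists_XB f h3 _ h1
  have hYB : ∀ t, ∃ t', θ.toMonoidHom (YB f h3 t) = YB f h3 t' := by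
    intro t
    have h1 : θ.toMonoidHom (YB f h3 t) ∈ (Xn hF (tw f) S [0, 2, 3] clsB).map θ.toMonoidHom :=
      ⟨_, YB_mem f h3 t, rfl⟩
    rw [map_Xn_B hq hK f hf θ hU hV] at h1
    exact exists_YB f h3 _ h1
  obtain ⟨cb, σb, hcb, hθXB, hθYB⟩ := exists_ringEquiv_of_hom (rankOne_B f h3) θ.toMonoidHom θ.injective
    (XB_injective f h3) (YB_injective f h3) (hND_B f h3) hXB hYB
  -- remove the field automorphism
  set θ₁ : MulAut ↥(orthGroup hF (tw f) S) := θ * FA f hf σb.symm with hθ₁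
  have hθ₁_apply : ∀ x, θ₁ x = θ (FA f hf σb.symm x) := fun x => rfl
  have hmap : ∀ A : Subgroup ↥(orthGroup hF (tw f) S), A.map θ₁.toMonoidHom =
      (A.map (FA f hf σb.symm).toMonoidHom).map θ.toMonoidHom := by
    intro A
    rw [Subgroup.map_map]
    rfl
  have hU₁ : (U1 hF (tw f) S).map θ₁.toMonoidHom = U1 hF (tw f) S := by
    rw [hmap, FA_U1, hU]
  have hV₁ : (V1 hF (tw f) S).map θ₁.toMonoidHom = V1 hF (tw f) S := by
    rw [hmap, FA_V1, hV]
  have hθ₁XB : ∀ t, θ₁ (XB f h3 t) = XB f h3 (cb * t) := by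
    intro t
    rw [hθ₁_apply, FA_XB hq hK f hf]
    have := hθXB (σb.symm t)
    rw [RingEquiv.apply_symm_apply] at this
    exact this
  have hθ₁YB : ∀ t, θ₁ (YB f h3 t) = YB f h3 (cb⁻¹ * t) := by
    intro t
    rw [hθ₁_apply, FA_YB hq hK f hf]
    have := hθYB (σb.symm t)
    rw [RingEquiv.apply_symm_apply] at this
    exact this
  -- the class `a`
  have hXA : ∀ s, ∃ s', θ₁.toMonoidHom (XA f s) = XA f s' := by
    intro s
    have h1 : θ₁.toMonoidHom (XA f s) ∈ (Xp hF (tw f) S [1] clsA).map θ₁.toMonoidHom :=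
      ⟨_, XA_mem f s, rfl⟩
    rw [map_Xp_A hq hK f hf θ₁ hU₁ hV₁] at h1
    exact exists_XA f _ h1
  have hYA : ∀ s, ∃ s', θ₁.toMonoidHom (YA f s) = YA f s' := by
    intro s
    have h1 : θ₁.toMonoidHom (YA f s) ∈ (Xn hF (tw f) S [1] clsA).map θ₁.toMonoidHom :=
      ⟨_, YA_mem f s, rfl⟩
    rw [map_Xn_A hq hK f hf θ₁ hU₁ hV₁] at h1
    exact exists_YA f _ h1
  haveI : Finite ↥(Fq f) := inferInstance
  obtain ⟨ca, σa, hca, hθXA, hθYA⟩ := exists_ringEquiv_of_hom (rankOne_A f) θ₁.toMonoidHom θ₁.injective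
    (XA_injective f) (YA_injective f) (hND_A f) hXA hYA
  -- the two field automorphisms are linked
  have hσa : ∀ s, σa s = s := by
    intro s
    by_cases hs : s = 0
    · rw [hs, map_zero]
    · have hσs : σa s ≠ 0 := (map_ne_zero σa).2 hs
      have e1 := map_hh (rankOne_A f) θ₁.toMonoidHom ca hca σa hθXA hθYA s hs
      have e2 := congrArg θ₁ (hhA_conj_XB hq hK f hf s hs 1)
      rw [map_mul, map_mul, map_inv, hθ₁XB, hθ₁XB] at e2
      have e1' : θ₁ (hh (XA f) (YA f) s) = hh (XA f) (YA f) (σa s) := e1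
      rw [e1', hhA_conj_XB hq hK f hf (σa s) hσs] at e2
      have e3 := XB_injective f h3 e2
      rw [mul_one, mul_one] at e3
      have e4 : ((σa s : ↥(Fq f)) : K)⁻¹ = (s : K)⁻¹ := by
        have : ((σa s : ↥(Fq f)) : K)⁻¹ * cb = (s : K)⁻¹ * cb := by
          rw [e3, mul_comm]
        exact mul_right_cancel₀ hcb this
      exact Subtype.ext (inv_injective e4)
  -- the torus element
  have hcaK : (ca : K) ≠ 0 := fun h0 => hca (Subtype.ext h0)
  obtain ⟨c, hc, hc1, hc0⟩ := exists_torus hq hK f hf (ca : K) cb ((mem_Fq f _).1 ca.2) hcaK hcb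
  refine ⟨hT f c hc, σb, ?_⟩
  have hfin : θ₁.toMonoidHom = (MulAut.conj (hT f c hc)).toMonoidHom := by
    apply eq_of_gens hq hK f hf
    · intro s
      show θ₁.toMonoidHom (XA f s) = hT f c hc * XA f s * (hT f c hc)⁻¹
      rw [hT_conj_XA f c hc ca hc1, hθXA, hσa]
    · intro s
      show θ₁.toMonoidHom (YA f s) = hT f c hc * YA f s * (hT f c hc)⁻¹
      rw [hT_conj_YA f c hc ca hc1, hθYA, hσa]
    · intro t
      show θ₁ (XB f h3 t) = hT f c hc * XB f h3 t * (hT f c hc)⁻¹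
      rw [hT_conj_XB hq hK f hf c hc cb hc0, hθ₁XB]
    · intro t
      show θ₁ (YB f h3 t) = hT f c hc * YB f h3 t * (hT f c hc)⁻¹
      rw [hT_conj_YB hq hK f hf c hc cb hc0, hθ₁YB]
  have hfin' : θ₁ = MulAut.conj (hT f c hc) := by
    apply MulEquiv.ext
    intro x
    exact DFunLike.congr_fun hfin x
  have e5 : θ = θ₁ * FA f hf σb := by
    rw [hθ₁, mul_assoc, ← map_mul]
    have : σb.symm * σb = 1 := by
      ext t
      show σb.symm (σb t) = t
      exact RingEquiv.symm_apply_apply σb t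
    rw [this, map_one, mul_one]
  rw [e5, hfin']

end Cfsg.Agent.Lead.Tw.D4
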