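import Mathlib
import Cfsg.Agent.Lib.Lead.TwD4AutF
import Cfsg.Agent.Lib.Lead.TwAutInj
import Cfsg.Agent.Lib.Helper2.OutCongr

/-!
# The outer automorphism group of `³D₄(q)`
-/

set_option autoImplicit false
set_option linter.unusedSectionVars false
set_option linter.unusedSimpArgs false
set_option linter.unusedVariables false
set_option linter.style.haveILetI false

namespace Cfsg.Agent.Lead.Tw.D4

open Cfsg Cfsg.Lie Cfsg.Agent.Lead.Chev Cfsg.Agent.Helper6.ChevC Cfsg.Agent.Helper6.SL2Hom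
  Cfsg.Agent.Helper6.ChevL Cfsg.Agent.Lead.Tw.AutRk1 Cfsg.Agent.Helper6.AutRank1 Cfsg.Agent.Lead.ZPM

variable {K : Type*} [Field K] [Fintype K] {q : ℕ} (hq : 1 < q) (hK : Fintype.card K = q ^ 3)
  (f : K ≃+* K) (hf : ∀ t, f t = t ^ q)
include hq hK hf

/-- a non-trivial field automorphism is not inner -/
theorem eq_one_of_FA_inner (φ : K ≃+* K) (g : ↥(orthGroup hF (tw f) S))
    (h : MulAut.conj g = FA f hf φ) : φ = 1 := by
  have h3 := hfff' hq hK f hf
  have hU : (U1 hF (tw f) S).map (MulAut.conj g).toMonoidHom = U1 hF (tw f) S := by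
    rw [h, FA_U1]
  have hV : (V1 hF (tw f) S).map (MulAut.conj g).toMonoidHom = V1 hF (tw f) S := by
    rw [h, FA_V1]
  have hgH := (orthData f).mem_diagonal_of_normalizes (hSz hq hK f hf) (hCb hq hK f hf) g hU hV
  obtain ⟨c, hc, hgc⟩ := exists_Tmat_of_mem chevD4 (hF (K := K)).hall _ hgH
  have key : ∀ t : K, chi chevD4 c (chevD4.simple 0) * t = φ t := by
    intro t
    have e1 : g * XB f h3 t * g⁻¹ = XB f h3 (φ t) := by
      have e0 : g * XB f h3 t * g⁻¹ = (MulAut.conj g) (XB f h3 t) := rfl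
      rw [e0, h, FA_XB hq hK f hf]
    have e2 := congrArg Subtype.val e1
    simp only [Subgroup.coe_mul, Subgroup.coe_inv, XB_coe] at e2
    rw [← xs_tri, ← xs_tri, ChevFacts'.conj_xs hF _ c hc hgc [0, 2, 3] (by decide)] at e2
    have e3 := xs_injective hF clsB _ _ e2 0 (by simp)
    simpa [trf] using e3
  have h1 := key 1
  rw [mul_one, map_one] at h1
  apply RingEquiv.ext
  intro t
  rw [← key t, h1, one_mul]
  rfl

/-- **the outer automorphism group of `³D₄(q)` consists of the field automorphisms** -/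
theorem card_out (p e : ℕ) [Fact p.Prime] (hqp : q = p ^ e) :
    Nat.card (Cfsg.Out ↥(orthGroup hF (tw f) S)) = 3 * e := by
  have hK' : Fintype.card K = p ^ (3 * e) := by
    rw [hK, hqp, ← pow_mul, mul_comm]
  rw [← Cfsg.Agent.Helper2.OutCongr.card_ringEquiv (F := K) (p := p) hK']
  symm
  apply Nat.card_eq_of_bijective
    ((QuotientGroup.mk' (Cfsg.Inn ↥(orthGroup hF (tw f) S))).comp (FA f hf))
  constructor
  · rw [injective_iff_map_eq_one]
    intro φ hφ
    rw [MonoidHom.comp_apply, QuotientGroup.mk'_apply, QuotientGroup.eq_one_iff] at hφ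
    obtain ⟨g, hg⟩ := hφ
    exact eq_one_of_FA_inner hq hK f hf φ g hg
  · intro x
    obtain ⟨α, rfl⟩ := QuotientGroup.mk_surjective x
    obtain ⟨c, hU, hV⟩ := (orthData f).exists_normalize (hSz hq hK f hf) (hCb hq hK f hf) p
      (sylow_U1 hq hK f hf p e hqp) α
    set θ : MulAut ↥(orthGroup hF (tw f) S) := MulAut.conj c * α with hθ
    have hmap : ∀ A : Subgroup ↥(orthGroup hF (tw f) S), A.map θ.toMonoidHom =
        (A.map α.toMonoidHom).map (MulAut.conj c).toMonoidHom := by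
      intro A
      rw [Subgroup.map_map]
      rfl
    have hU' : (U1 hF (tw f) S).map θ.toMonoidHom = U1 hF (tw f) S := by rw [hmap, hU]
    have hV' : (V1 hF (tw f) S).map θ.toMonoidHom = V1 hF (tw f) S := by rw [hmap, hV]
    obtain ⟨g, φ, hgφ⟩ := exists_torus_field hq hK f hf θ hU' hV'
    refine ⟨φ, ?_⟩
    have hα : α = (MulAut.conj c)⁻¹ * MulAut.conj g * FA f hf φ := by
      rw [mul_assoc, ← hgφ, hθ, inv_mul_cancel_left]
    rw [MonoidHom.comp_apply, QuotientGroup.mk'_apply, hα, QuotientGroup.mk_mul]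
    have h2 : (((MulAut.conj c)⁻¹ * MulAut.conj g : MulAut ↥(orthGroup hF (tw f) S)) :
        Cfsg.Out ↥(orthGroup hF (tw f) S)) = 1 := by
      rw [QuotientGroup.eq_one_iff, ← map_inv, ← map_mul]
      exact ⟨_, rfl⟩
    rw [h2, one_mul]

end Cfsg.Agent.Lead.Tw.D4
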