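import Mathlib
import Cfsg.Agent.Lib.Lead.ChevCore

/-!
# Diagonal automorphisms of Chevalley groups

For a character `χ` of the root lattice, the diagonal matrix `diag(1, …, 1; χ(s))` conjugates `x_r(t)` to
`x_r(χ(r) t)`.
-/

set_option autoImplicit false
set_option linter.unusedSectionVars false
set_option linter.unusedSimpArgs false
set_option linter.unusedVariables false

namespace Cfsg.Agent.Lead.Chev

open Cfsg Cfsg.Lie

variable {F : Type*} [Field F]

/-- the diagonal matrix of a function on the roots -/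
def Dmat (D : ChevalleyDatum) (χ : ℕ → F) : Matrix D.Idx D.Idx F :=
  Matrix.diagonal (Sum.elim (fun _ => (1 : F)) (fun s : Fin D.nroots => χ s.val))

/-- a function on the roots which is multiplicative along root chains -/
structure IsRootChar (D : ChevalleyDatum) (χ : ℕ → F) : Prop where
  neg : ∀ r < D.nroots, χ r * χ (D.neg r) = 1
  chain : ∀ r < D.nroots, ∀ s < D.nroots, ∀ u < D.nroots, ∀ km ∈ D.chainCoeff r s u,
    χ u = χ r ^ km.1 * χ s

theorem Dmat_mul_xMat (D : ChevalleyDatum) (χ : ℕ → F) (hχ : IsRootChar D χ) (r : Fin D.nroots) (t : F) :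
    Dmat D χ * D.xMat F r t = D.xMat F r (χ r.val * t) * Dmat D χ := by
  ext row col
  unfold Dmat
  rw [Matrix.diagonal_mul, Matrix.mul_diagonal]
  rcases col with i | s
  · rcases row with i' | u
    · simp only [ChevalleyDatum.xMat, Matrix.of_apply, Sum.elim_inl, one_mul, mul_one]
    · simp only [ChevalleyDatum.xMat, Matrix.of_apply, Sum.elim_inl, Sum.elim_inr, mul_one]
      by_cases hur : u = r
      · rw [if_pos hur, if_pos hur, hur]
        ring
      · rw [if_neg hur, if_neg hur, mul_zero]
  · by_cases hsr : s = r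
    · rcases row with i' | u
      · simp only [ChevalleyDatum.xMat, Matrix.of_apply, if_pos hsr, mul_zero, zero_mul]
      · simp only [ChevalleyDatum.xMat, Matrix.of_apply, if_pos hsr, Sum.elim_inr]
        by_cases hur : u = r
        · rw [if_pos hur, hur, hsr]
          ring
        · rw [if_neg hur, mul_zero, zero_mul]
    · by_cases hsn : s.val = D.negIdx.getD r.val 0
      · have h1 : χ r.val * χ s.val = 1 := by
          rw [hsn]
          exact hχ.neg r.val r.2
        rcases row with i' | u
        · simp only [ChevalleyDatum.xMat, Matrix.of_apply, if_neg hsr, if_pos hsn, Sum.elim_inl, Sum.elim_inr,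
            one_mul]
          calc ((((D.coroot.getD r.val #[]).getD i'.val 0 : ℤ) : F)) * t
              = ((((D.coroot.getD r.val #[]).getD i'.val 0 : ℤ) : F)) * t * (χ r.val * χ s.val) := by
                rw [h1, mul_one]
            _ = _ := by ring
        · simp only [ChevalleyDatum.xMat, Matrix.of_apply, if_neg hsr, if_pos hsn, Sum.elim_inr]
          by_cases hus : u = s
          · rw [if_pos hus, if_pos hus, hus]
            ring
          · rw [if_neg hus, if_neg hus]
            by_cases hur : u = r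
            · rw [if_pos hur, if_pos hur, hur]
              calc χ r.val * -(t ^ 2) = -(χ r.val * t ^ 2) * (χ r.val * χ s.val) := by
                    rw [h1]
                    ring
                _ = _ := by ring
            · rw [if_neg hur, if_neg hur, mul_zero, zero_mul]
      · rcases row with i' | u
        · simp only [ChevalleyDatum.xMat, Matrix.of_apply, if_neg hsr, if_neg hsn, mul_zero, zero_mul]
        · simp only [ChevalleyDatum.xMat, Matrix.of_apply, if_neg hsr, if_neg hsn, Sum.elim_inr]
          rw [mul_add, add_mul]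
          congr 1
          · by_cases hus : u = s
            · rw [if_pos hus, hus]
              ring
            · rw [if_neg hus, mul_zero, zero_mul]
          · rw [← List.sum_map_mul_left, ← List.sum_map_mul_right]
            congr 1
            apply List.map_congr_left
            intro km hkm
            rw [hχ.chain r.val r.2 s.val s.2 u.val u.2 km hkm, mul_pow]
            ring

/-- the same for the root given by its index -/
theorem Dmat_mul_x (D : ChevalleyDatum) (χ : ℕ → F) (hχ : IsRootChar D χ) (r : ℕ) (hr : r < D.nroots) (t : F) :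
    Dmat D χ * D.x F r t = D.x F r (χ r * t) * Dmat D χ := by
  unfold ChevalleyDatum.x
  rw [dif_pos hr, dif_pos hr]
  exact Dmat_mul_xMat D χ hχ ⟨r, hr⟩ t

theorem Dmat_mul_Dmat (D : ChevalleyDatum) (χ ψ : ℕ → F) :
    Dmat D χ * Dmat D ψ = Dmat D (fun r => χ r * ψ r) := by
  unfold Dmat
  rw [Matrix.diagonal_mul_diagonal]
  congr 1
  funext i
  rcases i with i | s
  · simp
  · simp

theorem Dmat_one (D : ChevalleyDatum) : Dmat D (fun _ => (1 : F)) = 1 := by
  unfold Dmat
  rw [← Matrix.diagonal_one]
  congr 1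
  funext i
  rcases i with i | s <;> simp

/-- the diagonal matrix as an element of `GL` -/
noncomputable def DGL (D : ChevalleyDatum) (χ : ℕ → F) (hne : ∀ r, χ r ≠ 0) : GL D.Idx F :=
  ⟨Dmat D χ, Dmat D (fun r => (χ r)⁻¹), by
    rw [Dmat_mul_Dmat]
    have : (fun r => χ r * (χ r)⁻¹) = fun _ => (1 : F) := by
      funext r
      exact mul_inv_cancel₀ (hne r)
    rw [this, Dmat_one], by
    rw [Dmat_mul_Dmat]
    have : (fun r => (χ r)⁻¹ * χ r) = fun _ => (1 : F) := by
      funext r
      exact inv_mul_cancel₀ (hne r)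
    rw [this, Dmat_one]⟩

theorem DGL_val (D : ChevalleyDatum) (χ : ℕ → F) (hne : ∀ r, χ r ≠ 0) :
    ((DGL D χ hne : GL D.Idx F) : Matrix D.Idx D.Idx F) = Dmat D χ := rfl

/-- conjugation of a root element by the diagonal matrix of a root character -/
theorem DGL_conj_xGL (D : ChevalleyDatum) (hX : XAdd D F) (χ : ℕ → F) (hne : ∀ r, χ r ≠ 0)
    (hχ : IsRootChar D χ) (r : ℕ) (hr : r < D.nroots) (t : F) :
    DGL D χ hne * xGL D hX r t * (DGL D χ hne)⁻¹ = xGL D hX r (χ r * t) := by
  rw [mul_inv_eq_iff_eq_mul]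
  apply Units.ext
  rw [Units.val_mul, Units.val_mul, DGL_val, xGL_val, xGL_val]
  exact Dmat_mul_x D χ hχ r hr t

/-! ### root characters from values on the fundamental roots (simply-laced data) -/

/-- the coefficients of a coroot on the fundamental coroots -/
def corootC (D : ChevalleyDatum) (r i : ℕ) : ℤ := (D.coroot.getD r #[]).getD i 0

/-- the character with given values on the fundamental roots, the coroot coefficients being the root
coefficients -/
def rchar (D : ChevalleyDatum) (a : ℕ → F) (r : ℕ) : F := ∏ i ∈ Finset.range D.rank, a i ^ corootC D r i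

/-- additivity of the coefficients along the chains -/
structure CorAdd (D : ChevalleyDatum) : Prop where
  neg : ∀ r < D.nroots, ∀ i < D.rank, corootC D (D.neg r) i = - corootC D r i
  chain : ∀ r < D.nroots, ∀ e ∈ (D.chain.getD r #[]).toList, ∀ q ∈ e.2.toList.zipIdx, ∀ i < D.rank,
    corootC D q.1.1 i = ((q.2 + 1 : ℕ) : ℤ) * corootC D r i + corootC D e.1 i
  simple : ∀ i < D.rank, ∀ j < D.rank, corootC D (D.simple i) j = if j = i then 1 else 0
  neg_simple : ∀ i < D.rank, ∀ j < D.rank, corootC D (D.neg (D.simple i)) j = if j = i then -1 else 0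

theorem mem_chainCoeff (D : ChevalleyDatum) (r s u : ℕ) (km : ℕ × ℤ) (h : km ∈ D.chainCoeff r s u) :
    ∃ e ∈ (D.chain.getD r #[]).toList, e.1 = s ∧ ∃ q ∈ e.2.toList.zipIdx, q.1.1 = u ∧ km = (q.2 + 1, q.1.2) := by
  unfold ChevalleyDatum.chainCoeff at h
  simp only [List.mem_flatMap, List.mem_filter, List.mem_map, decide_eq_true_eq] at h
  obtain ⟨e, ⟨he, hes⟩, q, ⟨hq, hqu⟩, rfl⟩ := h
  exact ⟨e, he, hes, q, hq, hqu, rfl⟩

theorem rchar_ne_zero (D : ChevalleyDatum) (a : ℕ → F) (ha : ∀ i, a i ≠ 0) (r : ℕ) : rchar D a r ≠ 0 := by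
  unfold rchar
  rw [Finset.prod_ne_zero_iff]
  intro i _
  exact zpow_ne_zero _ (ha i)

theorem rchar_mul (D : ChevalleyDatum) (a b : ℕ → F) (r : ℕ) :
    rchar D (fun i => a i * b i) r = rchar D a r * rchar D b r := by
  unfold rchar
  rw [← Finset.prod_mul_distrib]
  apply Finset.prod_congr rfl
  intro i _
  rw [mul_zpow]

theorem rchar_one (D : ChevalleyDatum) (r : ℕ) : rchar D (fun _ => (1 : F)) r = 1 := by
  unfold rchar
  apply Finset.prod_eq_one
  intro i _
  rw [one_zpow]

theorem isRootChar_rchar (D : ChevalleyDatum) (hD : CorAdd D) (a : ℕ → F) (ha : ∀ i, a i ≠ 0) :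
    IsRootChar D (rchar D a) := by
  constructor
  · intro r hr
    unfold rchar
    rw [← Finset.prod_mul_distrib]
    apply Finset.prod_eq_one
    intro i hi
    rw [hD.neg r hr i (Finset.mem_range.1 hi), zpow_neg, mul_inv_cancel₀ (zpow_ne_zero _ (ha i))]
  · intro r hr s hs u hu km hkm
    obtain ⟨e, he, hes, q, hq, hqu, rfl⟩ := mem_chainCoeff D r s u km hkm
    unfold rchar
    rw [← Finset.prod_pow, ← Finset.prod_mul_distrib]
    apply Finset.prod_congr rfl
    intro i hi
    have h1 := hD.chain r hr e he q hq i (Finset.mem_range.1 hi)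
    rw [hqu, hes] at h1
    rw [h1, zpow_add₀ (ha i), mul_comm ((q.2 + 1 : ℕ) : ℤ), zpow_mul, zpow_natCast]

theorem rchar_simple (D : ChevalleyDatum) (hD : CorAdd D) (a : ℕ → F) (i : ℕ) (hi : i < D.rank) :
    rchar D a (D.simple i) = a i := by
  unfold rchar
  rw [Finset.prod_eq_single i]
  · rw [hD.simple i hi i hi, if_pos rfl, zpow_one]
  · intro j hj hji
    rw [hD.simple i hi j (Finset.mem_range.1 hj), if_neg hji, zpow_zero]
  · intro h
    exact absurd (Finset.mem_range.2 hi) h

theorem rchar_neg_simple (D : ChevalleyDatum) (hD : CorAdd D) (a : ℕ → F) (i : ℕ) (hi : i < D.rank) :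
    rchar D a (D.neg (D.simple i)) = (a i)⁻¹ := by
  unfold rchar
  rw [Finset.prod_eq_single i]
  · rw [hD.neg_simple i hi i hi, if_pos rfl, zpow_neg, zpow_one]
  · intro j hj hji
    rw [hD.neg_simple i hi j (Finset.mem_range.1 hj), if_neg hji, zpow_zero]
  · intro h
    exact absurd (Finset.mem_range.2 hi) h

/-- the diagonal element of the values `a` on the fundamental roots -/
noncomputable def dGL (D : ChevalleyDatum) (a : ℕ → F) (ha : ∀ i, a i ≠ 0) : GL D.Idx F :=
  DGL D (rchar D a) (rchar_ne_zero D a ha)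

theorem dGL_mul (D : ChevalleyDatum) (a b : ℕ → F) (ha : ∀ i, a i ≠ 0) (hb : ∀ i, b i ≠ 0) :
    dGL D (fun i => a i * b i) (fun i => mul_ne_zero (ha i) (hb i)) = dGL D a ha * dGL D b hb := by
  apply Units.ext
  rw [Units.val_mul]
  show Dmat D (rchar D fun i => a i * b i) = Dmat D (rchar D a) * Dmat D (rchar D b)
  rw [Dmat_mul_Dmat]
  congr 1
  funext r
  exact rchar_mul D a b r

theorem dGL_conj_xGL (D : ChevalleyDatum) (hX : XAdd D F) (hD : CorAdd D) (a : ℕ → F) (ha : ∀ i, a i ≠ 0)
    (r : ℕ) (hr : r < D.nroots) (t : F) :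
    dGL D a ha * xGL D hX r t * (dGL D a ha)⁻¹ = xGL D hX r (rchar D a r * t) :=
  DGL_conj_xGL D hX _ _ (isRootChar_rchar D hD a ha) r hr t

end Cfsg.Agent.Lead.Chev
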