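import Mathlib
import Cfsg.Agent.Lib.Lead.ChevDiagAut
import Cfsg.Agent.Lib.Lead.TwAutBN

/-!
# Automorphisms of twisted groups: diagonal automorphisms
-/

set_option autoImplicit false
set_option linter.unusedSectionVars false
set_option linter.unusedSimpArgs false
set_option linter.unusedVariables false
set_option linter.style.haveILetI false

namespace Cfsg.Agent.Lead.Tw

open Cfsg Cfsg.Lie Cfsg.Agent.Lead.Chev

variable {K : Type*} [Field K]

section

variable {D : ChevalleyDatum} (hF : ChevFacts D K) (hD : CorAdd D) (a : ℕ → K) (ha : ∀ i, a i ≠ 0)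
include hF hD

/-- conjugation of a class element by a diagonal element -/
theorem dGL_conj_xs (v : List ℕ) (hv : ∀ i ∈ v, i < D.rank) (φ : ℕ → K) :
    dGL D a ha * xs hF v φ * (dGL D a ha)⁻¹ = xs hF v (fun i => a i * φ i) := by
  unfold xs
  induction v with
  | nil => simp
  | cons i v ih =>
    have hv' : ∀ j ∈ v, j < D.rank := fun j hj => hv j (List.mem_cons_of_mem _ hj)
    have hi := hv i List.mem_cons_self
    simp only [List.map_cons, List.prod_cons]
    rw [← ih hv', ← rchar_simple D hD a i hi,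
      ← dGL_conj_xGL D hF.xadd hD a ha (D.simple i) (hF.simple_lt i hi)]
    group

theorem dGL_conj_ys (v : List ℕ) (hv : ∀ i ∈ v, i < D.rank) (φ : ℕ → K) :
    dGL D a ha * ys hF v φ * (dGL D a ha)⁻¹ = ys hF v (fun i => (a i)⁻¹ * φ i) := by
  unfold ys
  induction v with
  | nil => simp
  | cons i v ih =>
    have hv' : ∀ j ∈ v, j < D.rank := fun j hj => hv j (List.mem_cons_of_mem _ hj)
    have hi := hv i List.mem_cons_self
    simp only [List.map_cons, List.prod_cons]
    rw [← ih hv', ← rchar_neg_simple D hD a i hi,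
      ← dGL_conj_xGL D hF.xadd hD a ha (D.neg (D.simple i)) (hF.neg_simple_lt i hi)]
    group

theorem dGL_conj_mem_posUnipotent (u : GL D.Idx K) (hu : u ∈ D.posUnipotent K) :
    dGL D a ha * u * (dGL D a ha)⁻¹ ∈ D.posUnipotent K := by
  unfold ChevalleyDatum.posUnipotent at hu ⊢
  induction hu using Subgroup.closure_induction with
  | mem x hx =>
    obtain ⟨s, t, hs, hx⟩ := hx
    have hx' : x = xGL D hF.xadd s t := Units.ext (by rw [hx, xGL_val])
    rw [hx', dGL_conj_xGL D hF.xadd hD a ha s hs.1]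
    exact Subgroup.subset_closure ⟨s, _, hs, xGL_val D hF.xadd _ _⟩
  | one => simp
  | mul x y _ _ hx hy =>
    have : dGL D a ha * (x * y) * (dGL D a ha)⁻¹ =
        (dGL D a ha * x * (dGL D a ha)⁻¹) * (dGL D a ha * y * (dGL D a ha)⁻¹) := by group
    rw [this]
    exact Subgroup.mul_mem _ hx hy
  | inv x _ hx =>
    have : dGL D a ha * x⁻¹ * (dGL D a ha)⁻¹ = (dGL D a ha * x * (dGL D a ha)⁻¹)⁻¹ := by group
    rw [this]
    exact Subgroup.inv_mem _ hx

theorem dGL_conj_mem_negUnipotent (u : GL D.Idx K) (hu : u ∈ D.negUnipotent K) :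
    dGL D a ha * u * (dGL D a ha)⁻¹ ∈ D.negUnipotent K := by
  unfold ChevalleyDatum.negUnipotent at hu ⊢
  induction hu using Subgroup.closure_induction with
  | mem x hx =>
    obtain ⟨s, t, hs, hx⟩ := hx
    have hx' : x = xGL D hF.xadd s t := Units.ext (by rw [hx, xGL_val])
    rw [hx', dGL_conj_xGL D hF.xadd hD a ha s hs.1]
    exact Subgroup.subset_closure ⟨s, _, hs, xGL_val D hF.xadd _ _⟩
  | one => simp
  | mul x y _ _ hx hy =>
    have : dGL D a ha * (x * y) * (dGL D a ha)⁻¹ =
        (dGL D a ha * x * (dGL D a ha)⁻¹) * (dGL D a ha * y * (dGL D a ha)⁻¹) := by group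
    rw [this]
    exact Subgroup.mul_mem _ hx hy
  | inv x _ hx =>
    have : dGL D a ha * x⁻¹ * (dGL D a ha)⁻¹ = (dGL D a ha * x * (dGL D a ha)⁻¹)⁻¹ := by group
    rw [this]
    exact Subgroup.inv_mem _ hx

end

section

variable {D : ChevalleyDatum} {hF : ChevFacts D K} {T : Twist D K hF.xadd}
  {π' : ℕ → ℕ} {S l₀ : List (List ℕ)} (h : OrthData hF T π' S l₀)
  (hD : CorAdd D) (a : ℕ → K) (ha : ∀ i, a i ≠ 0) (f : K ≃+* K)
  (hcm : ∀ r < D.nroots, ∀ b t, T.c r (b * t) = f b * T.c r t)
  (hfix : ∀ v ∈ S, ∀ i ∈ v, a (T.π i) = f (a i))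
include h hD hcm hfix

/-- a self-conjugate diagonal element normalises `G¹` -/
theorem OrthData.dGL_conj_mem (g : GL D.Idx K) (hg : g ∈ orthGroup hF T S) :
    dGL D a ha * g * (dGL D a ha)⁻¹ ∈ orthGroup hF T S := by
  unfold orthGroup at hg
  induction hg using Subgroup.closure_induction with
  | mem x hx =>
    rcases hx with ⟨v, hv, φ, hφ, rfl⟩ | ⟨v, hv, φ, hφ, rfl⟩
    · have hvv := h.gen.valid v hv
      rw [dGL_conj_xs hF hD a ha v hvv]
      apply h.xs_mem v hv
      intro i hi
      show a (T.π i) * φ (T.π i) = T.c (D.simple i) (a i * φ i)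
      rw [hcm _ (hF.simple_lt i (hvv i hi)), hfix v hv i hi, hφ i hi]
    · have hvv := h.gen.valid v hv
      rw [dGL_conj_ys hF hD a ha v hvv]
      apply h.ys_mem v hv
      intro i hi
      show (a (T.π i))⁻¹ * φ (T.π i) = T.c (D.neg (D.simple i)) ((a i)⁻¹ * φ i)
      rw [hcm _ (hF.neg_simple_lt i (hvv i hi)), hfix v hv i hi, hφ i hi, map_inv₀]
  | one =>
    rw [mul_one, mul_inv_cancel]
    exact one_mem _
  | mul x y _ _ hx hy =>
    have : dGL D a ha * (x * y) * (dGL D a ha)⁻¹ =
        (dGL D a ha * x * (dGL D a ha)⁻¹) * (dGL D a ha * y * (dGL D a ha)⁻¹) := by group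
    rw [this]
    exact Subgroup.mul_mem _ hx hy
  | inv x _ hx =>
    have : dGL D a ha * x⁻¹ * (dGL D a ha)⁻¹ = (dGL D a ha * x * (dGL D a ha)⁻¹)⁻¹ := by group
    rw [this]
    exact Subgroup.inv_mem _ hx

/-- the restriction of the conjugation, as a homomorphism -/
noncomputable def OrthData.diagHom : ↥(orthGroup hF T S) →* ↥(orthGroup hF T S) where
  toFun g := ⟨dGL D a ha * g * (dGL D a ha)⁻¹, h.dGL_conj_mem hD a ha f hcm hfix g g.2⟩
  map_one' := Subtype.ext (by simp)
  map_mul' x y := Subtype.ext (by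
    simp only [Subgroup.coe_mul]
    group)

theorem OrthData.diagHom_injective : Function.Injective (h.diagHom hD a ha f hcm hfix) := by
  intro x y hxy
  have h1 : dGL D a ha * (x : GL D.Idx K) * (dGL D a ha)⁻¹ = dGL D a ha * (y : GL D.Idx K) * (dGL D a ha)⁻¹ :=
    congrArg Subtype.val hxy
  exact Subtype.ext (mul_left_cancel (mul_right_cancel h1))

/-- **the diagonal automorphism** of a self-conjugate character -/
noncomputable def OrthData.diagAut [Finite K] : MulAut ↥(orthGroup hF T S) :=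
  haveI : Finite ↥(orthGroup hF T S) := by
    haveI : Fintype K := Fintype.ofFinite K
    exact Finite.of_injective (fun g : ↥(orthGroup hF T S) => (g : GL D.Idx K)) Subtype.val_injective
  MulEquiv.ofBijective (h.diagHom hD a ha f hcm hfix)
    ((Finite.injective_iff_bijective).1 (h.diagHom_injective hD a ha f hcm hfix))

theorem OrthData.diagAut_coe [Finite K] (g : ↥(orthGroup hF T S)) :
    ((h.diagAut hD a ha f hcm hfix g : ↥(orthGroup hF T S)) : GL D.Idx K) =
      dGL D a ha * g * (dGL D a ha)⁻¹ := rfl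

theorem OrthData.diagAut_U1 [Finite K] :
    (U1 hF T S).map (h.diagAut hD a ha f hcm hfix).toMonoidHom = U1 hF T S := by
  haveI : Finite ↥(orthGroup hF T S) := by
    haveI : Fintype K := Fintype.ofFinite K
    exact Finite.of_injective (fun g : ↥(orthGroup hF T S) => (g : GL D.Idx K)) Subtype.val_injective
  have hle : (U1 hF T S).map (h.diagAut hD a ha f hcm hfix).toMonoidHom ≤ U1 hF T S := by
    rintro _ ⟨x, hx, rfl⟩
    have hx' : x ∈ U1 hF T S := hx
    rw [mem_U1] at hx' ⊢
    exact dGL_conj_mem_posUnipotent hF hD a ha _ hx'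
  apply Subgroup.eq_of_le_of_card_ge hle
  exact (Subgroup.card_map_of_injective (K := U1 hF T S) (f := (h.diagAut hD a ha f hcm hfix).toMonoidHom)
    (MulEquiv.injective _)).ge

theorem OrthData.diagAut_V1 [Finite K] :
    (V1 hF T S).map (h.diagAut hD a ha f hcm hfix).toMonoidHom = V1 hF T S := by
  haveI : Finite ↥(orthGroup hF T S) := by
    haveI : Fintype K := Fintype.ofFinite K
    exact Finite.of_injective (fun g : ↥(orthGroup hF T S) => (g : GL D.Idx K)) Subtype.val_injective
  have hle : (V1 hF T S).map (h.diagAut hD a ha f hcm hfix).toMonoidHom ≤ V1 hF T S := by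
    rintro _ ⟨x, hx, rfl⟩
    have hx' : x ∈ V1 hF T S := hx
    rw [mem_V1] at hx' ⊢
    exact dGL_conj_mem_negUnipotent hF hD a ha _ hx'
  apply Subgroup.eq_of_le_of_card_ge hle
  exact (Subgroup.card_map_of_injective (K := V1 hF T S) (f := (h.diagAut hD a ha f hcm hfix).toMonoidHom)
    (MulEquiv.injective _)).ge

end

end Cfsg.Agent.Lead.Tw
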