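import Mathlib
import Cfsg.Agent.Lib.Lead.TwAutPar
import Cfsg.Agent.Lib.Lead.TwAutOpp

/-!
# Automorphisms of twisted groups: telling the root subgroups apart by commutation
-/

set_option autoImplicit false
set_option linter.unusedSectionVars false
set_option linter.unusedSimpArgs false
set_option linter.unusedVariables false

namespace Cfsg.Agent.Lead.Tw

open Cfsg Cfsg.Lie Cfsg.Agent.Lead.Chev Cfsg.Agent.Helper6.AutAbs

variable {K : Type*} [Field K]

section words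

variable {D : ChevalleyDatum} (hF : ChevFacts D K)
include hF

/-- conjugation of a negative class element by `n_w`, all roots of the class staying negative -/
theorem nWordGL_conj_ys_mem_neg (w : List ℕ) (hw : ∀ i ∈ w, i < D.rank) (v : List ℕ)
    (hv : ∀ i ∈ v, i < D.rank) (hneg : ∀ i ∈ v, D.IsNegRoot (reflWord D w (D.neg (D.simple i)))) (φ : ℕ → K) :
    nWordGL D hF.xadd w * ys hF v φ * (nWordGL D hF.xadd w)⁻¹ ∈ D.negUnipotent K := by
  have e : nWordGL D hF.xadd w * ys hF v φ * (nWordGL D hF.xadd w)⁻¹ =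
      (MulAut.conj (nWordGL D hF.xadd w)).toMonoidHom (ys hF v φ) := rfl
  rw [e]
  unfold ys
  rw [map_list_prod]
  apply Subgroup.list_prod_mem
  intro x hx
  rw [List.map_map] at hx
  obtain ⟨i, hi, rfl⟩ := List.mem_map.1 hx
  show nWordGL D hF.xadd w * xGL D hF.xadd (D.neg (D.simple i)) (φ i) * (nWordGL D hF.xadd w)⁻¹ ∈ _
  rw [nWordGL_conj D hF.xadd (etaOf D) hF.nsimple w hw _ (hF.neg_simple_lt i (hv i hi))]
  exact Subgroup.subset_closure ⟨_, _, hneg i hi, xGL_val D hF.xadd _ _⟩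

/-- positive and negative class elements of different classes commute -/
theorem commute_xs_ys (v w : List ℕ) (hv : ∀ i ∈ v, i < D.rank) (hw : ∀ j ∈ w, j < D.rank)
    (htab : ∀ i ∈ v, ∀ j ∈ w, Orth D (D.simple i) (D.neg (D.simple j))) (φ ψ : ℕ → K) :
    Commute (xs hF v φ) (ys hF w ψ) := by
  unfold xs ys
  apply Commute.list_prod_left
  intro x hx
  obtain ⟨i, hi, rfl⟩ := List.mem_map.1 hx
  apply Commute.list_prod_right
  intro y hy
  obtain ⟨j, hj, rfl⟩ := List.mem_map.1 hy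
  exact xGL_commute hF _ _ (hF.simple_lt i (hv i hi)) (hF.neg_simple_lt j (hw j hj)) (htab i hi j hj) _ _

/-- negative class elements of non-adjacent classes commute -/
theorem commute_ys_ys (v w : List ℕ) (hv : ∀ i ∈ v, i < D.rank) (hw : ∀ j ∈ w, j < D.rank)
    (htab : ∀ i ∈ v, ∀ j ∈ w, Orth D (D.neg (D.simple i)) (D.neg (D.simple j))) (φ ψ : ℕ → K) :
    Commute (ys hF v φ) (ys hF w ψ) := by
  unfold ys
  apply Commute.list_prod_left
  intro x hx
  obtain ⟨i, hi, rfl⟩ := List.mem_map.1 hx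
  apply Commute.list_prod_right
  intro y hy
  obtain ⟨j, hj, rfl⟩ := List.mem_map.1 hy
  exact xGL_commute hF _ _ (hF.neg_simple_lt i (hv i hi)) (hF.neg_simple_lt j (hw j hj)) (htab i hi j hj) _ _

end words

section

variable {D : ChevalleyDatum} {hF : ChevFacts D K} {T : Twist D K hF.xadd}
  {π' : ℕ → ℕ} {S l₀ : List (List ℕ)} (h : OrthData hF T π' S l₀)
include h

/-- the distinguished non-trivial element of `X_{-v}¹` -/
theorem OrthData.ys_neg_one_mem (v : List ℕ) (hv : v ∈ S) :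
    ys hF v (fun _ => (-1 : K)) ∈ orthGroup hF T S :=
  h.ys_mem v hv _ (fun i hi => (h.c_neg_one v hv i hi).symm)

theorem OrthData.ys_neg_one_ne (v : List ℕ) (hv : v ∈ S) : ys hF v (fun _ => (-1 : K)) ≠ 1 := by
  intro h1
  obtain ⟨i, hi⟩ := List.exists_mem_of_ne_nil v (h.ne_nil v hv)
  have h2 : ys hF v (fun _ => (-1 : K)) = ys hF v (fun _ => (0 : K)) := by
    rw [h1, ys_zero]
  have := ys_injective hF (h.cls v hv) _ _ h2 i hi
  norm_num at this

/-- `n_v x_{-v}(ψ) n_v⁻¹ ∈ U` -/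
theorem OrthData.nWordGL_conj_ys_mem_pos (v : List ℕ) (hv : v ∈ S) (ψ : ℕ → K) :
    nWordGL D hF.xadd v * ys hF v ψ * (nWordGL D hF.xadd v)⁻¹ ∈ D.posUnipotent K := by
  have hcls := h.cls v hv
  set n := nWordGL D hF.xadd v with hn
  have e1 := nWordGL_conj_xs hF hcls (fun i => -ψ i)
  simp only [neg_neg] at e1
  rw [← hn] at e1
  have hd := h.s_sq_mem v hv
  rw [← hn] at hd
  have e2 : n * ys hF v ψ * n⁻¹ = (n * n) * xs hF v (fun i => -ψ i) * (n * n)⁻¹ := by
    rw [← e1]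
    group
  rw [e2]
  exact conj_mem_posUnipotent D hF.hall hF.hconj _ hd _ (xs_mem_posUnipotent hF v hcls.valid _)

/-- `X_v¹` and `X_{-v}¹` do not commute -/
theorem OrthData.not_commute_Xp_Xn (v : List ℕ) (hv : v ∈ S) :
    ¬ (∀ a ∈ Xp hF T S v (h.cls v hv), ∀ b ∈ Xn hF T S v (h.cls v hv), a * b = b * a) := by
  intro hc
  have hcls := h.cls v hv
  set x : ↥(orthGroup hF T S) := ⟨xs hF v (fun _ => (1 : K)), h.xs_one_mem v hv⟩ with hx
  set y : ↥(orthGroup hF T S) := ⟨ys hF v (fun _ => (-1 : K)), h.ys_neg_one_mem v hv⟩ with hy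
  have hxy := hc x ⟨_, rfl⟩ y ⟨_, rfl⟩
  have hxy' : xs hF v (fun _ => (1 : K)) * ys hF v (fun _ => (-1 : K)) =
      ys hF v (fun _ => (-1 : K)) * xs hF v (fun _ => (1 : K)) := congrArg Subtype.val hxy
  have e1 := nWordGL_conj_xs hF hcls (fun _ => (1 : K))
  rw [nWordGL_eq_xs hF hcls] at e1
  set X := xs hF v (fun _ => (1 : K)) with hX
  set Y := ys hF v (fun _ => (-1 : K)) with hY
  have e2 : X * Y * X * X * (X * Y * X)⁻¹ = X := by
    have : X * Y * X * X = X * (X * Y * X) := by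
      calc X * Y * X * X = X * (Y * X) * X := by group
        _ = X * (X * Y) * X := by rw [← hxy']
        _ = X * (X * Y * X) := by group
    rw [this]
    group
  rw [e2] at e1
  have hU : X ∈ D.posUnipotent K := xs_mem_posUnipotent hF v hcls.valid _
  have hV : X ∈ D.negUnipotent K := by
    rw [e1]
    exact ys_mem_negUnipotent hF v hcls.valid _
  exact h.xs_one_ne v hv (ChevFacts'.eq_one_of_mem_pos_of_mem_neg hF _ hU hV)

/-- **adjacent classes**: `X_{-w}¹` and `X_{-v}¹` do not commute, when `s_v s_w` keeps the negatives of the roots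
of `v` negative -/
theorem OrthData.not_commute_Xn (v w : List ℕ) (hv : v ∈ S) (hw : w ∈ S)
    (hpn : ∀ i ∈ w, ∀ j ∈ v, Orth D (D.simple i) (D.neg (D.simple j)))
    (hneg : ∀ j ∈ v, D.IsNegRoot (reflWord D (v ++ w) (D.neg (D.simple j)))) :
    ¬ (∀ a ∈ Xn hF T S w (h.cls w hw), ∀ b ∈ Xn hF T S v (h.cls v hv), a * b = b * a) := by
  intro hc
  have hclsv := h.cls v hv
  have hclsw := h.cls w hw
  have hvv := h.gen.valid v hv
  have hwv := h.gen.valid w hw
  set b := ys hF v (fun _ => (-1 : K)) with hb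
  set a : ↥(orthGroup hF T S) := ⟨ys hF w (fun _ => (-1 : K)), h.ys_neg_one_mem w hw⟩ with ha
  set bG : ↥(orthGroup hF T S) := ⟨b, h.ys_neg_one_mem v hv⟩ with hbG
  have hab := hc a ⟨_, rfl⟩ bG ⟨_, rfl⟩
  have c1 : Commute (ys hF w (fun _ => (-1 : K))) b := congrArg Subtype.val hab
  have c2 : Commute (xs hF w (fun _ => (1 : K))) b := commute_xs_ys hF w v hwv hvv hpn _ _
  have c3 : Commute (nWordGL D hF.xadd w) b := by
    rw [nWordGL_eq_xs hF hclsw]
    exact (c2.mul_left c1).mul_left c2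
  have e1 : nWordGL D hF.xadd (v ++ w) * b * (nWordGL D hF.xadd (v ++ w))⁻¹ =
      nWordGL D hF.xadd v * b * (nWordGL D hF.xadd v)⁻¹ := by
    rw [nWordGL_append, mul_inv_rev]
    have : nWordGL D hF.xadd w * b * (nWordGL D hF.xadd w)⁻¹ = b := by
      rw [c3.eq, mul_inv_cancel_right]
    calc nWordGL D hF.xadd v * nWordGL D hF.xadd w * b * ((nWordGL D hF.xadd w)⁻¹ * (nWordGL D hF.xadd v)⁻¹)
        = nWordGL D hF.xadd v * (nWordGL D hF.xadd w * b * (nWordGL D hF.xadd w)⁻¹) *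
            (nWordGL D hF.xadd v)⁻¹ := by group
      _ = _ := by rw [this]
  have hvw : ∀ i ∈ v ++ w, i < D.rank := by
    intro i hi
    rcases List.mem_append.1 hi with h1 | h1
    · exact hvv i h1
    · exact hwv i h1
  have hV := nWordGL_conj_ys_mem_neg hF (v ++ w) hvw v hvv hneg (fun _ => (-1 : K))
  rw [← hb, e1] at hV
  have hU := h.nWordGL_conj_ys_mem_pos v hv (fun _ => (-1 : K))
  rw [← hb] at hU
  have h1 := ChevFacts'.eq_one_of_mem_pos_of_mem_neg hF _ hU hV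
  apply h.ys_neg_one_ne v hv
  have : b = (nWordGL D hF.xadd v)⁻¹ * (nWordGL D hF.xadd v * b * (nWordGL D hF.xadd v)⁻¹) *
      nWordGL D hF.xadd v := by group
  rw [← hb, this, h1]
  group

/-- an automorphism preserving `U¹`, `V¹` and `X_{-v}¹` preserves `X_v¹` -/
theorem OrthData.map_Xp_of_map_Xn [Fintype K] (hS : CorSize D) (hC : CorComb D)
    (hdich : ∀ v ∈ S, ∀ φ : ℕ → K, FixPos hF T v φ → (∀ i ∈ v, φ i = 0) ∨ (∀ i ∈ v, φ i ≠ 0))
    (hopp : ∀ v, ∀ hv : v ∈ S, (Xn hF T S v (h.cls v hv)).map (MulAut.conj h.n₀).toMonoidHom =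
      Xp hF T S v (h.cls v hv))
    (hpn : ∀ v ∈ S, ∀ w ∈ S, v ≠ w → ∀ i ∈ w, ∀ j ∈ v, Orth D (D.simple i) (D.neg (D.simple j)))
    (θ : ↥(orthGroup hF T S) ≃* ↥(orthGroup hF T S))
    (hU : (U1 hF T S).map θ.toMonoidHom = U1 hF T S) (hV : (V1 hF T S).map θ.toMonoidHom = V1 hF T S)
    (v : List ℕ) (hv : v ∈ S)
    (hn : (Xn hF T S v (h.cls v hv)).map θ.toMonoidHom = Xn hF T S v (h.cls v hv)) :
    (Xp hF T S v (h.cls v hv)).map θ.toMonoidHom = Xp hF T S v (h.cls v hv) := by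
  obtain ⟨v', hv', e⟩ := h.exists_map_Xp hS hC hdich hopp θ hU hV v hv
  by_cases hvv' : v = v'
  · subst hvv'
    exact e
  · exfalso
    apply h.not_commute_Xp_Xn v hv
    intro a ha b hb
    have ha' : θ a ∈ Xp hF T S v' (h.cls v' hv') := by
      rw [← e]
      exact ⟨a, ha, rfl⟩
    have hb' : θ b ∈ Xn hF T S v (h.cls v hv) := by
      rw [← hn]
      exact ⟨b, hb, rfl⟩
    obtain ⟨φ, hφ⟩ := ha'
    obtain ⟨ψ, hψ⟩ := hb'
    have hcomm := commute_xs_ys hF v' v (h.gen.valid v' hv') (h.gen.valid v hv) (hpn v hv v' hv' hvv') φ ψ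
    rw [← hφ, ← hψ] at hcomm
    have h1 : θ a * θ b = θ b * θ a := Subtype.ext (by
      simp only [Subgroup.coe_mul]
      exact hcomm)
    apply θ.injective
    rw [map_mul, map_mul, h1]

end

end Cfsg.Agent.Lead.Tw
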