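import Mathlib
import Cfsg.Agent.Lib.Lead.TwAutSep

/-!
# Automorphisms of twisted groups: the opposition `n₀`, when `-w₀` permutes the fundamental roots of each class
-/

set_option autoImplicit false
set_option linter.unusedSectionVars false
set_option linter.unusedSimpArgs false
set_option linter.unusedVariables false
set_option linter.style.haveILetI false

namespace Cfsg.Agent.Lead.Tw

open Cfsg Cfsg.Lie Cfsg.Agent.Lead.Chev

variable {K : Type*} [Field K]

section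

variable {D : ChevalleyDatum} (hF : ChevFacts D K) {v : List ℕ} (hv : OrthClass D v)

/-- the elements `x_v(φ)`, in `GL` -/
def XsGL : Subgroup (GL D.Idx K) where
  carrier := {g | ∃ φ : ℕ → K, g = xs hF v φ}
  one_mem' := ⟨fun _ => 0, by rw [xs_zero]⟩
  mul_mem' := by
    rintro a b ⟨φ, rfl⟩ ⟨ψ, rfl⟩
    exact ⟨fun i => φ i + ψ i, by rw [xs_add hF hv]⟩
  inv_mem' := by
    rintro a ⟨φ, rfl⟩
    exact ⟨fun i => -φ i, by rw [xs_inv hF hv]⟩

/-- the elements `x_{-v}(ψ)`, in `GL` -/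
def YsGL : Subgroup (GL D.Idx K) where
  carrier := {g | ∃ φ : ℕ → K, g = ys hF v φ}
  one_mem' := ⟨fun _ => 0, by rw [ys_zero]⟩
  mul_mem' := by
    rintro a b ⟨φ, rfl⟩ ⟨ψ, rfl⟩
    exact ⟨fun i => φ i + ψ i, by rw [ys_add hF hv]⟩
  inv_mem' := by
    rintro a ⟨φ, rfl⟩
    exact ⟨fun i => -φ i, by rw [ys_inv hF hv]⟩

theorem xGL_mem_XsGL (i : ℕ) (hi : i ∈ v) (t : K) : xGL D hF.xadd (D.simple i) t ∈ XsGL hF hv :=
  ⟨_, (xs_single hF v hv.nodup i hi t).symm⟩

theorem xGL_mem_YsGL (i : ℕ) (hi : i ∈ v) (t : K) : xGL D hF.xadd (D.neg (D.simple i)) t ∈ YsGL hF hv :=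
  ⟨_, (ys_single hF v hv.nodup i hi t).symm⟩

end

section

variable {D : ChevalleyDatum} {hF : ChevFacts D K} {T : Twist D K hF.xadd}
  {π' : ℕ → ℕ} {S l₀ : List (List ℕ)} (h : OrthData hF T π' S l₀)
include h

/-- conjugation by `n₀` maps `X_{-v}¹` onto `X_v¹`, when `-w₀` permutes the fundamental roots of `v` -/
theorem OrthData.map_n₀_Xn' [Finite K]
    (hopp : ∀ v ∈ S, ∀ i ∈ v, ∃ j ∈ v, reflWord D (wordOf l₀) (D.neg (D.simple i)) = D.simple j)
    (v : List ℕ) (hv : v ∈ S) :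
    (Xn hF T S v (h.cls v hv)).map (MulAut.conj h.n₀).toMonoidHom = Xp hF T S v (h.cls v hv) := by
  have hcls := h.cls v hv
  have hvv := h.gen.valid v hv
  have hw := h.valid_l₀
  set n := nWordGL D hF.xadd (wordOf l₀) with hn
  have hopp' : ∀ i ∈ v, ∃ j ∈ v, reflWord D (wordOf l₀) (D.simple i) = D.neg (D.simple j) := by
    intro i hi
    obtain ⟨j, hj, e⟩ := hopp v hv i hi
    refine ⟨j, hj, ?_⟩
    have h1 := reflWord_neg D (etaOf D) hF.facts (wordOf l₀) hw (D.neg (D.simple i))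
      (hF.neg_simple_lt i (hvv i hi))
    rw [hF.sign.neg_neg _ (hF.simple_lt i (hvv i hi)), e] at h1
    exact h1
  have keyA : ∀ ψ : ℕ → K, n * ys hF v ψ * n⁻¹ ∈ XsGL hF hcls := by
    intro ψ
    have e : n * ys hF v ψ * n⁻¹ = (MulAut.conj n).toMonoidHom (ys hF v ψ) := rfl
    rw [e]
    unfold ys
    rw [map_list_prod]
    apply Subgroup.list_prod_mem
    intro x hx
    rw [List.map_map] at hx
    obtain ⟨i, hi, rfl⟩ := List.mem_map.1 hx
    show n * xGL D hF.xadd (D.neg (D.simple i)) (ψ i) * n⁻¹ ∈ _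
    obtain ⟨j, hj, e'⟩ := hopp v hv i hi
    rw [hn, nWordGL_conj D hF.xadd (etaOf D) hF.nsimple (wordOf l₀) hw _ (hF.neg_simple_lt i (hvv i hi)), e']
    exact xGL_mem_XsGL hF hcls j hj _
  have keyB : ∀ φ : ℕ → K, n * xs hF v φ * n⁻¹ ∈ YsGL hF hcls := by
    intro φ
    have e : n * xs hF v φ * n⁻¹ = (MulAut.conj n).toMonoidHom (xs hF v φ) := rfl
    rw [e]
    unfold xs
    rw [map_list_prod]
    apply Subgroup.list_prod_mem
    intro x hx
    rw [List.map_map] at hx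
    obtain ⟨i, hi, rfl⟩ := List.mem_map.1 hx
    show n * xGL D hF.xadd (D.simple i) (φ i) * n⁻¹ ∈ _
    obtain ⟨j, hj, e'⟩ := hopp' i hi
    rw [hn, nWordGL_conj D hF.xadd (etaOf D) hF.nsimple (wordOf l₀) hw _ (hF.simple_lt i (hvv i hi)), e']
    exact xGL_mem_YsGL hF hcls j hj _
  have hA : (Xn hF T S v hcls).map (MulAut.conj h.n₀).toMonoidHom ≤ Xp hF T S v hcls := by
    rintro _ ⟨g, hg, rfl⟩
    obtain ⟨ψ, hψ⟩ := hg
    obtain ⟨φ, hφ⟩ := keyA ψ
    refine ⟨φ, ?_⟩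
    rw [MulEquiv.coe_toMonoidHom, MulAut.conj_apply]
    simp only [Subgroup.coe_mul, Subgroup.coe_inv, OrthData.n₀_coe, hψ]
    exact hφ
  have hB : (Xp hF T S v hcls).map (MulAut.conj h.n₀).toMonoidHom ≤ Xn hF T S v hcls := by
    rintro _ ⟨g, hg, rfl⟩
    obtain ⟨φ, hφ⟩ := hg
    obtain ⟨ψ, hψ⟩ := keyB φ
    refine ⟨ψ, ?_⟩
    rw [MulEquiv.coe_toMonoidHom, MulAut.conj_apply]
    simp only [Subgroup.coe_mul, Subgroup.coe_inv, OrthData.n₀_coe, hφ]
    exact hψ
  haveI : Finite ↥(orthGroup hF T S) := by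
    haveI : Fintype K := Fintype.ofFinite K
    exact Finite.of_injective (fun g : ↥(orthGroup hF T S) => (g : GL D.Idx K)) Subtype.val_injective
  have hinj : Function.Injective (MulAut.conj h.n₀).toMonoidHom := (MulAut.conj h.n₀).injective
  have c1 := Subgroup.card_map_of_injective (K := Xn hF T S v hcls) hinj
  have c2 := Subgroup.card_map_of_injective (K := Xp hF T S v hcls) hinj
  have c3 := Subgroup.card_le_of_le hA
  have c4 := Subgroup.card_le_of_le hB
  apply Subgroup.eq_of_le_of_card_ge hA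
  omega

end

end Cfsg.Agent.Lead.Tw
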