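import Mathlib
import Cfsg.Agent.Lib.Lead.TwAutOpp2
import Cfsg.Agent.Lib.Lead.TwD4AutA
import Cfsg.Agent.Lib.Lead.TwE6Grp
import Cfsg.Agent.Lib.Helper6.ChevLSL2

/-!
# Automorphisms of `²E₆(q)`: the four root subgroups and their rank-one structures
-/

set_option autoImplicit false
set_option linter.unusedSectionVars false
set_option linter.unusedSimpArgs false
set_option linter.unusedVariables false

namespace Cfsg.Agent.Lead.Tw.E6

open Cfsg Cfsg.Lie Cfsg.Agent.Lead.Chev Cfsg.Agent.Helper6.ChevC Cfsg.Agent.Helper6.SL2Hom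
  Cfsg.Agent.Helper6.ChevL Cfsg.Agent.Lead.Tw.AutRk1 Cfsg.Agent.Helper6.AutRank1

variable {K : Type*} [Field K]

/-- the fixed field of `f` -/
abbrev Fq (f : K ≃+* K) : Subfield K := Cfsg.Agent.Lead.Tw.D4.Fq f

theorem mem_Fq (f : K ≃+* K) (t : K) : t ∈ Fq f ↔ f t = t := Iff.rfl

/-- a class consisting of one fundamental root -/
structure Sgl (i : ℕ) : Prop where
  lt : i < 6
  mem : [i] ∈ S
  fix : πs i = i

/-- a class consisting of two fundamental roots -/
structure Pair (i j : ℕ) : Prop where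
  lti : i < 6
  ltj : j < 6
  ne : j ≠ i
  mem : [i, j] ∈ S
  pij : πs i = j
  pji : πs j = i

theorem sgl1 : Sgl 1 := ⟨by decide, by decide, rfl⟩

theorem sgl3 : Sgl 3 := ⟨by decide, by decide, rfl⟩

theorem pair05 : Pair 0 5 := ⟨by decide, by decide, by decide, by decide, rfl, rfl⟩

theorem pair24 : Pair 2 4 := ⟨by decide, by decide, by decide, by decide, rfl, rfl⟩

theorem mem_S_cases (v : List ℕ) (hv : v ∈ S) : v = [1] ∨ v = [3] ∨ v = [0, 5] ∨ v = [2, 4] := by
  simpa [S] using hv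

/-! ### the elements in `GL` -/

/-- `x_{p_i}(t)` -/
noncomputable def xS (i : ℕ) (t : K) : GL chevE6.Idx K := xGL chevE6 (hF (K := K)).xadd (chevE6.simple i) t

/-- `x_{-p_i}(t)` -/
noncomputable def yS (i : ℕ) (t : K) : GL chevE6.Idx K :=
  xGL chevE6 (hF (K := K)).xadd (chevE6.neg (chevE6.simple i)) t

/-- the parameters of a pair class -/
def prf (f : K ≃+* K) (i : ℕ) (t : K) : ℕ → K := fun k => if k = i then t else f t

/-- `x_{p_i}(t) x_{p_j}(f t)` -/
noncomputable def xP (f : K ≃+* K) (i j : ℕ) (t : K) : GL chevE6.Idx K := xS i t * xS j (f t)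

/-- `x_{-p_i}(t) x_{-p_j}(f t)` -/
noncomputable def yP (f : K ≃+* K) (i j : ℕ) (t : K) : GL chevE6.Idx K := yS i t * yS j (f t)

theorem xs_sgl (i : ℕ) (φ : ℕ → K) : xs (hF (K := K)) [i] φ = xS i (φ i) := by
  unfold xs xS
  simp

theorem ys_sgl (i : ℕ) (φ : ℕ → K) : ys (hF (K := K)) [i] φ = yS i (φ i) := by
  unfold ys yS
  simp

theorem xs_pair (i j : ℕ) (φ : ℕ → K) : xs (hF (K := K)) [i, j] φ = xS i (φ i) * xS j (φ j) := by
  unfold xs xS
  simp

theorem ys_pair (i j : ℕ) (φ : ℕ → K) : ys (hF (K := K)) [i, j] φ = yS i (φ i) * yS j (φ j) := by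
  unfold ys yS
  simp

theorem xs_prf (f : K ≃+* K) (i j : ℕ) (hij : j ≠ i) (t : K) :
    xs (hF (K := K)) [i, j] (prf f i t) = xP f i j t := by
  rw [xs_pair]
  unfold xP prf
  rw [if_pos rfl, if_neg hij]

theorem ys_prf (f : K ≃+* K) (i j : ℕ) (hij : j ≠ i) (t : K) :
    ys (hF (K := K)) [i, j] (prf f i t) = yP f i j t := by
  rw [ys_pair]
  unfold yP prf
  rw [if_pos rfl, if_neg hij]

/-! ### the rank-one structures in `GL` -/

theorem rankOne_S_GL (f : K ≃+* K) (i : ℕ) (hi : i < 6) :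
    RankOne (fun s : ↥(Fq f) => xS i (s : K)) (fun s : ↥(Fq f) => yS i (s : K)) :=
  comp_ringHom (Fq f).subtype (rankOne_simple (hF (K := K)) diag2_E6 i hi)

theorem rankOne_P_GL (f : K ≃+* K) {i j : ℕ} (hp : Pair i j) : RankOne (xP f i j) (yP f i j) := by
  have hcls := (orthData f).cls [i, j] hp.mem
  have Ri := rankOne_simple (hF (K := K)) diag2_E6 i hp.lti
  have Rj := comp_ringHom (f : K →+* K) (rankOne_simple (hF (K := K)) diag2_E6 j hp.ltj)
  have o := hcls.orth i (by simp) j (by simp) hp.ne.symm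
  exact mul Ri Rj
    (fun t u => xGL_commute hF _ _ ((hF (K := K)).simple_lt i hp.lti) ((hF (K := K)).simple_lt j hp.ltj) o.1 _ _)
    (fun t u => xGL_commute hF _ _ ((hF (K := K)).simple_lt i hp.lti) ((hF (K := K)).neg_simple_lt j hp.ltj)
      o.2.1 _ _)
    (fun t u => xGL_commute hF _ _ ((hF (K := K)).neg_simple_lt i hp.lti) ((hF (K := K)).simple_lt j hp.ltj)
      o.2.2.1 _ _)
    (fun t u => xGL_commute hF _ _ ((hF (K := K)).neg_simple_lt i hp.lti)
      ((hF (K := K)).neg_simple_lt j hp.ltj) o.2.2.2 _ _)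

/-! ### fixed parameters -/

section

variable (f : K ≃+* K)

theorem fixPos_S {i : ℕ} (hs : Sgl i) (s : K) (h : f s = s) : FixPos hF (tw f) [i] (fun _ => s) := by
  intro k hk
  rw [List.mem_singleton] at hk
  subst hk
  rw [c_simple f k hs.lt]
  exact h.symm

theorem fixNeg_S {i : ℕ} (hs : Sgl i) (s : K) (h : f s = s) : FixNeg hF (tw f) [i] (fun _ => s) := by
  intro k hk
  rw [List.mem_singleton] at hk
  subst hk
  rw [c_neg_simple f k hs.lt]
  exact h.symm

theorem fixPos_P (hff : ∀ t, f (f t) = t) {i j : ℕ} (hp : Pair i j) (t : K) :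
    FixPos hF (tw f) [i, j] (prf f i t) := by
  intro k hk
  simp only [List.mem_cons, List.not_mem_nil, or_false] at hk
  rcases hk with rfl | rfl
  · show prf f k t (πs k) = (tw f).c (chevE6.simple k) (prf f k t k)
    rw [c_simple f k hp.lti, hp.pij]
    unfold prf
    rw [if_neg hp.ne, if_pos rfl]
  · show prf f i t (πs k) = (tw f).c (chevE6.simple k) (prf f i t k)
    rw [c_simple f k hp.ltj, hp.pji]
    unfold prf
    rw [if_pos rfl, if_neg hp.ne, hff]

theorem fixNeg_P (hff : ∀ t, f (f t) = t) {i j : ℕ} (hp : Pair i j) (t : K) :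
    FixNeg hF (tw f) [i, j] (prf f i t) := by
  intro k hk
  simp only [List.mem_cons, List.not_mem_nil, or_false] at hk
  rcases hk with rfl | rfl
  · show prf f k t (πs k) = (tw f).c (chevE6.neg (chevE6.simple k)) (prf f k t k)
    rw [c_neg_simple f k hp.lti, hp.pij]
    unfold prf
    rw [if_neg hp.ne, if_pos rfl]
  · show prf f i t (πs k) = (tw f).c (chevE6.neg (chevE6.simple k)) (prf f i t k)
    rw [c_neg_simple f k hp.ltj, hp.pji]
    unfold prf
    rw [if_pos rfl, if_neg hp.ne, hff]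

theorem fixed_of_fixPos_S {i : ℕ} (hs : Sgl i) (φ : ℕ → K) (hφ : FixPos hF (tw f) [i] φ) : f (φ i) = φ i := by
  have h1 : φ (πs i) = (tw f).c (chevE6.simple i) (φ i) := hφ i (by simp)
  rw [c_simple f i hs.lt, hs.fix] at h1
  exact h1.symm

theorem fixed_of_fixNeg_S {i : ℕ} (hs : Sgl i) (φ : ℕ → K) (hφ : FixNeg hF (tw f) [i] φ) : f (φ i) = φ i := by
  have h1 : φ (πs i) = (tw f).c (chevE6.neg (chevE6.simple i)) (φ i) := hφ i (by simp)
  rw [c_neg_simple f i hs.lt, hs.fix] at h1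
  exact h1.symm

theorem prf_of_fixPos_P {i j : ℕ} (hp : Pair i j) (φ : ℕ → K) (hφ : FixPos hF (tw f) [i, j] φ) :
    ∀ k ∈ [i, j], φ k = prf f i (φ i) k := by
  have h1 : φ (πs i) = (tw f).c (chevE6.simple i) (φ i) := hφ i (by simp)
  rw [c_simple f i hp.lti, hp.pij] at h1
  intro k hk
  simp only [List.mem_cons, List.not_mem_nil, or_false] at hk
  unfold prf
  rcases hk with rfl | rfl
  · rw [if_pos rfl]
  · rw [if_neg hp.ne, h1]

theorem prf_of_fixNeg_P {i j : ℕ} (hp : Pair i j) (φ : ℕ → K) (hφ : FixNeg hF (tw f) [i, j] φ) :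
    ∀ k ∈ [i, j], φ k = prf f i (φ i) k := by
  have h1 : φ (πs i) = (tw f).c (chevE6.neg (chevE6.simple i)) (φ i) := hφ i (by simp)
  rw [c_neg_simple f i hp.lti, hp.pij] at h1
  intro k hk
  simp only [List.mem_cons, List.not_mem_nil, or_false] at hk
  unfold prf
  rcases hk with rfl | rfl
  · rw [if_pos rfl]
  · rw [if_neg hp.ne, h1]

/-- the dichotomy for the fixed parameters -/
theorem hdich : ∀ v ∈ S, ∀ φ : ℕ → K, FixPos hF (tw f) v φ → (∀ i ∈ v, φ i = 0) ∨ (∀ i ∈ v, φ i ≠ 0) := by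
  have hsgl : ∀ i, ∀ φ : ℕ → K, (∀ k ∈ [i], φ k = 0) ∨ (∀ k ∈ [i], φ k ≠ 0) := by
    intro i φ
    by_cases h0 : φ i = 0
    · left
      intro k hk
      rw [List.mem_singleton] at hk
      rw [hk, h0]
    · right
      intro k hk
      rw [List.mem_singleton] at hk
      rw [hk]
      exact h0
  have hpair : ∀ i j, Pair i j → ∀ φ : ℕ → K, FixPos hF (tw f) [i, j] φ →
      (∀ k ∈ [i, j], φ k = 0) ∨ (∀ k ∈ [i, j], φ k ≠ 0) := by
    intro i j hp φ hφ
    have ht := prf_of_fixPos_P f hp φ hφ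
    by_cases h0 : φ i = 0
    · left
      intro k hk
      rw [ht k hk, h0]
      unfold prf
      split_ifs
      · rfl
      · exact map_zero f
    · right
      intro k hk
      rw [ht k hk]
      unfold prf
      split_ifs
      · exact h0
      · exact (map_ne_zero f).2 h0
  intro v hv φ hφ
  rcases mem_S_cases v hv with rfl | rfl | rfl | rfl
  · exact hsgl 1 φ
  · exact hsgl 3 φ
  · exact hpair 0 5 pair05 φ hφ
  · exact hpair 2 4 pair24 φ hφ

/-- `-w₀` permutes the fundamental roots of each class -/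
theorem hopp_tab : ∀ i < chevE6.rank,
    reflWord chevE6 (wordOf l₀) (chevE6.neg (chevE6.simple i)) = chevE6.simple (πs i) := by
  decide +kernel

theorem hopp : ∀ v ∈ S, ∀ i ∈ v, ∃ j ∈ v,
    reflWord chevE6 (wordOf l₀) (chevE6.neg (chevE6.simple i)) = chevE6.simple j := by
  intro v hv i hi
  have hi6 : i < chevE6.rank := chk.valid v hv i hi
  exact ⟨πs i, chk.pmem v hv i hi, hopp_tab i hi6⟩

/-! ### the parametrisations -/

/-- `x_{p_i}(s)` in the group, for a single class -/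
noncomputable def XS {i : ℕ} (hs : Sgl i) (s : ↥(Fq f)) : ↥(orthGroup hF (tw f) S) :=
  ⟨xS i (s : K), by
    rw [← xs_sgl i (fun _ => (s : K))]
    exact (orthData f).xs_mem [i] hs.mem _ (fixPos_S f hs s s.2)⟩

/-- `x_{-p_i}(s)` in the group, for a single class -/
noncomputable def YS {i : ℕ} (hs : Sgl i) (s : ↥(Fq f)) : ↥(orthGroup hF (tw f) S) :=
  ⟨yS i (s : K), by
    rw [← ys_sgl i (fun _ => (s : K))]
    exact (orthData f).ys_mem [i] hs.mem _ (fixNeg_S f hs s s.2)⟩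

variable (hff : ∀ t, f (f t) = t)

/-- the element `x_{p_i}(t) x_{p_j}(f t)` in the group, for a pair class -/
noncomputable def XP {i j : ℕ} (hp : Pair i j) (t : K) : ↥(orthGroup hF (tw f) S) :=
  ⟨xP f i j t, by
    rw [← xs_prf f i j hp.ne t]
    exact (orthData f).xs_mem [i, j] hp.mem _ (fixPos_P f hff hp t)⟩

/-- the element `x_{-p_i}(t) x_{-p_j}(f t)` in the group, for a pair class -/
noncomputable def YP {i j : ℕ} (hp : Pair i j) (t : K) : ↥(orthGroup hF (tw f) S) :=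
  ⟨yP f i j t, by
    rw [← ys_prf f i j hp.ne t]
    exact (orthData f).ys_mem [i, j] hp.mem _ (fixNeg_P f hff hp t)⟩

theorem XS_coe {i : ℕ} (hs : Sgl i) (s : ↥(Fq f)) :
    ((XS f hs s : ↥(orthGroup hF (tw f) S)) : GL chevE6.Idx K) = xS i (s : K) := rfl

theorem YS_coe {i : ℕ} (hs : Sgl i) (s : ↥(Fq f)) :
    ((YS f hs s : ↥(orthGroup hF (tw f) S)) : GL chevE6.Idx K) = yS i (s : K) := rfl

theorem XP_coe {i j : ℕ} (hp : Pair i j) (t : K) :
    ((XP f hff hp t : ↥(orthGroup hF (tw f) S)) : GL chevE6.Idx K) = xP f i j t := rfl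

theorem YP_coe {i j : ℕ} (hp : Pair i j) (t : K) :
    ((YP f hff hp t : ↥(orthGroup hF (tw f) S)) : GL chevE6.Idx K) = yP f i j t := rfl

theorem rankOne_S {i : ℕ} (hs : Sgl i) : RankOne (XS f hs) (YS f hs) :=
  rankOne_of_injective (orthGroup hF (tw f) S).subtype Subtype.val_injective (rankOne_S_GL f i hs.lt)

theorem rankOne_P {i j : ℕ} (hp : Pair i j) : RankOne (XP f hff hp) (YP f hff hp) :=
  rankOne_of_injective (orthGroup hF (tw f) S).subtype Subtype.val_injective (rankOne_P_GL f hp)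

omit f hff in
theorem clsS {i : ℕ} (hs : Sgl i) : OrthClass chevE6 [i] := (orthData (RingEquiv.refl ℚ)).cls [i] hs.mem

omit f hff in
theorem clsP {i j : ℕ} (hp : Pair i j) : OrthClass chevE6 [i, j] :=
  (orthData (RingEquiv.refl ℚ)).cls [i, j] hp.mem

theorem XS_injective {i : ℕ} (hs : Sgl i) : Function.Injective (XS f hs) := by
  intro s s' h
  have h1 := congrArg Subtype.val h
  rw [XS_coe, XS_coe, ← xs_sgl i (fun _ => (s : K)), ← xs_sgl i (fun _ => (s' : K))] at h1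
  exact Subtype.ext (xs_injective hF (clsS hs) _ _ h1 i (by simp))

theorem YS_injective {i : ℕ} (hs : Sgl i) : Function.Injective (YS f hs) := by
  intro s s' h
  have h1 := congrArg Subtype.val h
  rw [YS_coe, YS_coe, ← ys_sgl i (fun _ => (s : K)), ← ys_sgl i (fun _ => (s' : K))] at h1
  exact Subtype.ext (ys_injective hF (clsS hs) _ _ h1 i (by simp))

theorem XP_injective {i j : ℕ} (hp : Pair i j) : Function.Injective (XP f hff hp) := by
  intro t t' h
  have h1 := congrArg Subtype.val h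
  rw [XP_coe, XP_coe, ← xs_prf f i j hp.ne, ← xs_prf f i j hp.ne] at h1
  have := xs_injective hF (clsP hp) _ _ h1 i (by simp)
  simpa [prf] using this

theorem YP_injective {i j : ℕ} (hp : Pair i j) : Function.Injective (YP f hff hp) := by
  intro t t' h
  have h1 := congrArg Subtype.val h
  rw [YP_coe, YP_coe, ← ys_prf f i j hp.ne, ← ys_prf f i j hp.ne] at h1
  have := ys_injective hF (clsP hp) _ _ h1 i (by simp)
  simpa [prf] using this

theorem hND_S {i : ℕ} (hs : Sgl i) (s c : ↥(Fq f)) (h : XS f hs s = YS f hs c) : s = 0 := by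
  have h1 := congrArg Subtype.val h
  rw [XS_coe, YS_coe] at h1
  have hU : xS i (s : K) ∈ chevE6.posUnipotent K := by
    rw [← xs_sgl i (fun _ => (s : K))]
    exact xs_mem_posUnipotent hF _ (clsS hs).valid _
  have hV : yS i (c : K) ∈ chevE6.negUnipotent K := by
    rw [← ys_sgl i (fun _ => (c : K))]
    exact ys_mem_negUnipotent hF _ (clsS hs).valid _
  rw [← h1] at hV
  have h2 := ChevFacts'.eq_one_of_mem_pos_of_mem_neg hF _ hU hV
  rw [← xs_sgl i (fun _ => (s : K))] at h2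
  exact Subtype.ext (xs_eq_one hF (clsS hs) _ h2 i (by simp))

theorem hND_P {i j : ℕ} (hp : Pair i j) (s c : K) (h : XP f hff hp s = YP f hff hp c) : s = 0 := by
  have h1 := congrArg Subtype.val h
  rw [XP_coe, YP_coe] at h1
  have hU : xP f i j s ∈ chevE6.posUnipotent K := by
    rw [← xs_prf f i j hp.ne]
    exact xs_mem_posUnipotent hF _ (clsP hp).valid _
  have hV : yP f i j c ∈ chevE6.negUnipotent K := by
    rw [← ys_prf f i j hp.ne]
    exact ys_mem_negUnipotent hF _ (clsP hp).valid _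
  rw [← h1] at hV
  have h2 := ChevFacts'.eq_one_of_mem_pos_of_mem_neg hF _ hU hV
  rw [← xs_prf f i j hp.ne] at h2
  have := xs_eq_one hF (clsP hp) _ h2 i (by simp)
  simpa [prf] using this

/-! ### the root subgroups are the images of the parametrisations -/

theorem XS_mem {i : ℕ} (hs : Sgl i) (s : ↥(Fq f)) : XS f hs s ∈ Xp hF (tw f) S [i] (clsS hs) :=
  ⟨fun _ => (s : K), (xs_sgl i (fun _ => (s : K))).symm⟩

theorem YS_mem {i : ℕ} (hs : Sgl i) (s : ↥(Fq f)) : YS f hs s ∈ Xn hF (tw f) S [i] (clsS hs) :=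
  ⟨fun _ => (s : K), (ys_sgl i (fun _ => (s : K))).symm⟩

theorem XP_mem {i j : ℕ} (hp : Pair i j) (t : K) : XP f hff hp t ∈ Xp hF (tw f) S [i, j] (clsP hp) :=
  ⟨prf f i t, (xs_prf f i j hp.ne t).symm⟩

theorem YP_mem {i j : ℕ} (hp : Pair i j) (t : K) : YP f hff hp t ∈ Xn hF (tw f) S [i, j] (clsP hp) :=
  ⟨prf f i t, (ys_prf f i j hp.ne t).symm⟩

theorem exists_XS {i : ℕ} (hs : Sgl i) (g : ↥(orthGroup hF (tw f) S)) (hg : g ∈ Xp hF (tw f) S [i] (clsS hs)) :
    ∃ s : ↥(Fq f), g = XS f hs s := by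
  obtain ⟨φ, hφ⟩ := hg
  have hfix := (orthData f).fixPos_of_mem [i] hs.mem φ (hφ ▸ g.2)
  refine ⟨⟨φ i, fixed_of_fixPos_S f hs φ hfix⟩, Subtype.ext ?_⟩
  rw [hφ, XS_coe, xs_sgl]

theorem exists_YS {i : ℕ} (hs : Sgl i) (g : ↥(orthGroup hF (tw f) S)) (hg : g ∈ Xn hF (tw f) S [i] (clsS hs)) :
    ∃ s : ↥(Fq f), g = YS f hs s := by
  obtain ⟨φ, hφ⟩ := hg
  have hfix := (orthData f).fixNeg_of_mem [i] hs.mem φ (hφ ▸ g.2)
  refine ⟨⟨φ i, fixed_of_fixNeg_S f hs φ hfix⟩, Subtype.ext ?_⟩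
  rw [hφ, YS_coe, ys_sgl]

theorem exists_XP {i j : ℕ} (hp : Pair i j) (g : ↥(orthGroup hF (tw f) S))
    (hg : g ∈ Xp hF (tw f) S [i, j] (clsP hp)) : ∃ t : K, g = XP f hff hp t := by
  obtain ⟨φ, hφ⟩ := hg
  have hfix := (orthData f).fixPos_of_mem [i, j] hp.mem φ (hφ ▸ g.2)
  refine ⟨φ i, Subtype.ext ?_⟩
  rw [hφ, XP_coe, ← xs_prf f i j hp.ne]
  exact xs_congr hF _ _ _ (prf_of_fixPos_P f hp φ hfix)

theorem exists_YP {i j : ℕ} (hp : Pair i j) (g : ↥(orthGroup hF (tw f) S))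
    (hg : g ∈ Xn hF (tw f) S [i, j] (clsP hp)) : ∃ t : K, g = YP f hff hp t := by
  obtain ⟨φ, hφ⟩ := hg
  have hfix := (orthData f).fixNeg_of_mem [i, j] hp.mem φ (hφ ▸ g.2)
  refine ⟨φ i, Subtype.ext ?_⟩
  rw [hφ, YP_coe, ← ys_prf f i j hp.ne]
  exact ys_congr hF _ _ _ (prf_of_fixNeg_P f hp φ hfix)

end

end Cfsg.Agent.Lead.Tw.E6
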