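import Mathlib
import Cfsg.Agent.Lib.Lead.TwE6AutA
import Cfsg.Agent.Lib.Lead.TwE6Order

/-!
# Automorphisms of `²E₆(q)`: normalised automorphisms preserve the eight root subgroups
-/

set_option autoImplicit false
set_option linter.unusedSectionVars false
set_option linter.unusedSimpArgs false
set_option linter.unusedVariables false

namespace Cfsg.Agent.Lead.Tw.E6

open Cfsg Cfsg.Lie Cfsg.Agent.Lead.Chev Cfsg.Agent.Helper6.ChevC Cfsg.Agent.Helper6.SL2Hom
  Cfsg.Agent.Helper6.ChevL Cfsg.Agent.Lead.Tw.AutRk1 Cfsg.Agent.Helper6.AutRank1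

/-! ### elementwise commuting subgroups -/

/-- two subgroups commuting elementwise -/
def CommSub {G : Type*} [Group G] (A B : Subgroup G) : Prop := ∀ a ∈ A, ∀ b ∈ B, a * b = b * a

theorem commSub_of_map {G : Type*} [Group G] (θ : G ≃* G) (A B : Subgroup G)
    (h : CommSub (A.map θ.toMonoidHom) (B.map θ.toMonoidHom)) : CommSub A B := by
  intro a ha b hb
  apply θ.injective
  rw [map_mul, map_mul]
  exact h _ ⟨a, ha, rfl⟩ _ ⟨b, hb, rfl⟩

theorem eq_of_map_eq {G : Type*} [Group G] (θ : G ≃* G) (A B : Subgroup G)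
    (h : A.map θ.toMonoidHom = B.map θ.toMonoidHom) : A = B :=
  Subgroup.map_injective θ.injective h

/-! ### the tables -/

theorem hpn_tab : ∀ v ∈ S, ∀ w ∈ S, v ≠ w → ∀ i ∈ w, ∀ j ∈ v,
    Orth chevE6 (chevE6.simple i) (chevE6.neg (chevE6.simple j)) := by decide +kernel

theorem hnn_1_05 : ∀ i ∈ [1], ∀ j ∈ [0, 5], Orth chevE6 (chevE6.neg (chevE6.simple i)) (chevE6.neg (chevE6.simple j)) := by
  decide +kernel

theorem hnn_1_24 : ∀ i ∈ [1], ∀ j ∈ [2, 4], Orth chevE6 (chevE6.neg (chevE6.simple i)) (chevE6.neg (chevE6.simple j)) := by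
  decide +kernel

theorem hnn_3_05 : ∀ i ∈ [3], ∀ j ∈ [0, 5], Orth chevE6 (chevE6.neg (chevE6.simple i)) (chevE6.neg (chevE6.simple j)) := by
  decide +kernel

theorem hneg_24_3 : ∀ j ∈ [2, 4], chevE6.IsNegRoot (reflWord chevE6 ([2, 4] ++ [3]) (chevE6.neg (chevE6.simple j))) := by
  decide +kernel

variable {K : Type*} [Field K] [Fintype K] {q : ℕ} (hq : 1 < q) (hK : Fintype.card K = q ^ 2)
  (f : K ≃+* K) (hf : ∀ t, f t = t ^ q)
include hq hK hf

theorem hSz : CorSize chevE6 := corSize_of_mem _ hmem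

theorem hCb : CorComb chevE6 := corComb_of_mem _ hmem

/-! ### cardinalities -/

theorem card_Fq : Nat.card ↥(Fq f) = q := by
  rw [← card_fixed_pow hq (by norm_num : 0 < 2) hK]
  apply Nat.card_congr
  apply Equiv.subtypeEquivRight
  intro t
  rw [← hf]
  exact mem_Fq f t

theorem card_Xp_S {i : ℕ} (hs : Sgl i) : Nat.card ↥(Xp hF (tw f) S [i] (clsS hs)) = q := by
  rw [← card_Fq hq hK f hf]
  symm
  apply Nat.card_congr
  apply Equiv.ofBijective (fun s => (⟨XS f hs s, XS_mem f hs s⟩ : ↥(Xp hF (tw f) S [i] (clsS hs))))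
  constructor
  · intro s s' h
    exact XS_injective f hs (congrArg Subtype.val h)
  · rintro ⟨g, hg⟩
    obtain ⟨s, rfl⟩ := exists_XS f hs g hg
    exact ⟨s, rfl⟩

theorem card_Xn_S {i : ℕ} (hs : Sgl i) : Nat.card ↥(Xn hF (tw f) S [i] (clsS hs)) = q := by
  rw [← card_Fq hq hK f hf]
  symm
  apply Nat.card_congr
  apply Equiv.ofBijective (fun s => (⟨YS f hs s, YS_mem f hs s⟩ : ↥(Xn hF (tw f) S [i] (clsS hs))))
  constructor
  · intro s s' h
    exact YS_injective f hs (congrArg Subtype.val h)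
  · rintro ⟨g, hg⟩
    obtain ⟨s, rfl⟩ := exists_YS f hs g hg
    exact ⟨s, rfl⟩

theorem card_Xp_P {i j : ℕ} (hp : Pair i j) : Nat.card ↥(Xp hF (tw f) S [i, j] (clsP hp)) = q ^ 2 := by
  rw [← hK, ← Nat.card_eq_fintype_card]
  symm
  apply Nat.card_congr
  apply Equiv.ofBijective
    (fun t => (⟨XP f (hff hq hK f hf) hp t, XP_mem f _ hp t⟩ : ↥(Xp hF (tw f) S [i, j] (clsP hp))))
  constructor
  · intro s s' h
    exact XP_injective f (hff hq hK f hf) hp (congrArg Subtype.val h)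
  · rintro ⟨g, hg⟩
    obtain ⟨s, rfl⟩ := exists_XP f (hff hq hK f hf) hp g hg
    exact ⟨s, rfl⟩

theorem card_Xn_P {i j : ℕ} (hp : Pair i j) : Nat.card ↥(Xn hF (tw f) S [i, j] (clsP hp)) = q ^ 2 := by
  rw [← hK, ← Nat.card_eq_fintype_card]
  symm
  apply Nat.card_congr
  apply Equiv.ofBijective
    (fun t => (⟨YP f (hff hq hK f hf) hp t, YP_mem f _ hp t⟩ : ↥(Xn hF (tw f) S [i, j] (clsP hp))))
  constructor
  · intro s s' h
    exact YP_injective f (hff hq hK f hf) hp (congrArg Subtype.val h)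
  · rintro ⟨g, hg⟩
    obtain ⟨s, rfl⟩ := exists_YP f (hff hq hK f hf) hp g hg
    exact ⟨s, rfl⟩

omit hK hf in
theorem q_ne_sq : q ≠ q ^ 2 := by
  have h1 : q * 1 < q * q := Nat.mul_lt_mul_of_pos_left hq (by omega)
  have : q ^ 2 = q * q := by ring
  omega

/-! ### commutation of the negative root subgroups -/

omit hq hK hf in
theorem commSub_Xn (v w : List ℕ) (hv : v ∈ S) (hw : w ∈ S)
    (htab : ∀ i ∈ v, ∀ j ∈ w, Orth chevE6 (chevE6.neg (chevE6.simple i)) (chevE6.neg (chevE6.simple j))) :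
    CommSub (Xn hF (tw f) S v ((orthData f).cls v hv)) (Xn hF (tw f) S w ((orthData f).cls w hw)) := by
  rintro a ⟨φ, hφ⟩ b ⟨ψ, hψ⟩
  apply Subtype.ext
  simp only [Subgroup.coe_mul, hφ, hψ]
  exact commute_ys_ys hF v w ((orthData f).gen.valid v hv) ((orthData f).gen.valid w hw) htab φ ψ

omit hq hK hf in
theorem not_commSub_3_24 :
    ¬ CommSub (Xn hF (tw f) S [3] (clsS sgl3)) (Xn hF (tw f) S [2, 4] (clsP pair24)) :=
  (orthData f).not_commute_Xn [2, 4] [3] pair24.mem sgl3.mem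
    (hpn_tab [2, 4] pair24.mem [3] sgl3.mem (by decide)) hneg_24_3

/-! ### normalised automorphisms preserve the root subgroups -/

section normalized

variable (θ : ↥(orthGroup hF (tw f) S) ≃* ↥(orthGroup hF (tw f) S))
  (hU : (U1 hF (tw f) S).map θ.toMonoidHom = U1 hF (tw f) S)
  (hV : (V1 hF (tw f) S).map θ.toMonoidHom = V1 hF (tw f) S)
include hU hV

/-- the image of a single class is a single class -/
theorem map_Xn_S_cases {i : ℕ} (hs : Sgl i) :
    (Xn hF (tw f) S [i] (clsS hs)).map θ.toMonoidHom = Xn hF (tw f) S [1] (clsS sgl1) ∨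
    (Xn hF (tw f) S [i] (clsS hs)).map θ.toMonoidHom = Xn hF (tw f) S [3] (clsS sgl3) := by
  obtain ⟨v', hv', e⟩ := (orthData f).exists_map_Xn (hSz hq hK f hf) (hCb hq hK f hf) (hdich f) θ hU hV [i] hs.mem
  have h1 := Subgroup.card_map_of_injective (K := Xn hF (tw f) S [i] (clsS hs)) (f := θ.toMonoidHom) θ.injective
  rw [card_Xn_S hq hK f hf hs] at h1
  rcases mem_S_cases v' hv' with rfl | rfl | rfl | rfl
  · exact Or.inl e
  · exact Or.inr e
  · exfalso
    have h2 : Nat.card ↥((Xn hF (tw f) S [i] (clsS hs)).map θ.toMonoidHom) = q ^ 2 := by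
      rw [← card_Xn_P hq hK f hf pair05]
      exact congrArg (fun A : Subgroup ↥(orthGroup hF (tw f) S) => Nat.card ↥A) e
    exact q_ne_sq hq (h1.symm.trans h2)
  · exfalso
    have h2 : Nat.card ↥((Xn hF (tw f) S [i] (clsS hs)).map θ.toMonoidHom) = q ^ 2 := by
      rw [← card_Xn_P hq hK f hf pair24]
      exact congrArg (fun A : Subgroup ↥(orthGroup hF (tw f) S) => Nat.card ↥A) e
    exact q_ne_sq hq (h1.symm.trans h2)

/-- the image of a pair class is a pair class -/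
theorem map_Xn_P_cases {i j : ℕ} (hp : Pair i j) :
    (Xn hF (tw f) S [i, j] (clsP hp)).map θ.toMonoidHom = Xn hF (tw f) S [0, 5] (clsP pair05) ∨
    (Xn hF (tw f) S [i, j] (clsP hp)).map θ.toMonoidHom = Xn hF (tw f) S [2, 4] (clsP pair24) := by
  obtain ⟨v', hv', e⟩ := (orthData f).exists_map_Xn (hSz hq hK f hf) (hCb hq hK f hf) (hdich f) θ hU hV
    [i, j] hp.mem
  have h1 := Subgroup.card_map_of_injective (K := Xn hF (tw f) S [i, j] (clsP hp)) (f := θ.toMonoidHom)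
    θ.injective
  rw [card_Xn_P hq hK f hf hp] at h1
  rcases mem_S_cases v' hv' with rfl | rfl | rfl | rfl
  · exfalso
    have h2 : Nat.card ↥((Xn hF (tw f) S [i, j] (clsP hp)).map θ.toMonoidHom) = q := by
      rw [← card_Xn_S hq hK f hf sgl1]
      exact congrArg (fun A : Subgroup ↥(orthGroup hF (tw f) S) => Nat.card ↥A) e
    exact q_ne_sq hq (h2.symm.trans h1)
  · exfalso
    have h2 : Nat.card ↥((Xn hF (tw f) S [i, j] (clsP hp)).map θ.toMonoidHom) = q := by
      rw [← card_Xn_S hq hK f hf sgl3]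
      exact congrArg (fun A : Subgroup ↥(orthGroup hF (tw f) S) => Nat.card ↥A) e
    exact q_ne_sq hq (h2.symm.trans h1)
  · exact Or.inl e
  · exact Or.inr e

theorem map_Xn_3 : (Xn hF (tw f) S [3] (clsS sgl3)).map θ.toMonoidHom = Xn hF (tw f) S [3] (clsS sgl3) := by
  rcases map_Xn_S_cases hq hK f hf θ hU hV sgl3 with e | e
  · exfalso
    apply not_commSub_3_24 f
    apply commSub_of_map θ
    rw [e]
    rcases map_Xn_P_cases hq hK f hf θ hU hV pair24 with e' | e'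
    · rw [e']
      exact commSub_Xn f [1] [0, 5] sgl1.mem pair05.mem hnn_1_05
    · rw [e']
      exact commSub_Xn f [1] [2, 4] sgl1.mem pair24.mem hnn_1_24
  · exact e

theorem map_Xn_24 :
    (Xn hF (tw f) S [2, 4] (clsP pair24)).map θ.toMonoidHom = Xn hF (tw f) S [2, 4] (clsP pair24) := by
  rcases map_Xn_P_cases hq hK f hf θ hU hV pair24 with e | e
  · exfalso
    apply not_commSub_3_24 f
    apply commSub_of_map θ
    rw [e, map_Xn_3 hq hK f hf θ hU hV]
    exact commSub_Xn f [3] [0, 5] sgl3.mem pair05.mem hnn_3_05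
  · exact e

theorem map_Xn_1 : (Xn hF (tw f) S [1] (clsS sgl1)).map θ.toMonoidHom = Xn hF (tw f) S [1] (clsS sgl1) := by
  rcases map_Xn_S_cases hq hK f hf θ hU hV sgl1 with e | e
  · exact e
  · exfalso
    apply not_commSub_3_24 f
    have h1 : Xn hF (tw f) S [1] (clsS sgl1) = Xn hF (tw f) S [3] (clsS sgl3) :=
      eq_of_map_eq θ _ _ (e.trans (map_Xn_3 hq hK f hf θ hU hV).symm)
    rw [← h1]
    exact commSub_Xn f [1] [2, 4] sgl1.mem pair24.mem hnn_1_24

theorem map_Xn_05 :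
    (Xn hF (tw f) S [0, 5] (clsP pair05)).map θ.toMonoidHom = Xn hF (tw f) S [0, 5] (clsP pair05) := by
  rcases map_Xn_P_cases hq hK f hf θ hU hV pair05 with e | e
  · exact e
  · exfalso
    apply not_commSub_3_24 f
    have h1 : Xn hF (tw f) S [0, 5] (clsP pair05) = Xn hF (tw f) S [2, 4] (clsP pair24) :=
      eq_of_map_eq θ _ _ (e.trans (map_Xn_24 hq hK f hf θ hU hV).symm)
    rw [← h1]
    exact commSub_Xn f [3] [0, 5] sgl3.mem pair05.mem hnn_3_05

theorem hoppX : ∀ v, ∀ hv : v ∈ S,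
    (Xn hF (tw f) S v ((orthData f).cls v hv)).map (MulAut.conj (orthData f).n₀).toMonoidHom =
      Xp hF (tw f) S v ((orthData f).cls v hv) :=
  fun v hv => (orthData f).map_n₀_Xn' hopp v hv

theorem map_Xp_of_Xn (v : List ℕ) (hv : v ∈ S)
    (hn : (Xn hF (tw f) S v ((orthData f).cls v hv)).map θ.toMonoidHom =
      Xn hF (tw f) S v ((orthData f).cls v hv)) :
    (Xp hF (tw f) S v ((orthData f).cls v hv)).map θ.toMonoidHom =
      Xp hF (tw f) S v ((orthData f).cls v hv) :=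
  (orthData f).map_Xp_of_map_Xn (hSz hq hK f hf) (hCb hq hK f hf) (hdich f) (hoppX hq hK f hf θ hU hV)
    hpn_tab θ hU hV v hv hn

theorem map_Xp_1 : (Xp hF (tw f) S [1] (clsS sgl1)).map θ.toMonoidHom = Xp hF (tw f) S [1] (clsS sgl1) :=
  map_Xp_of_Xn hq hK f hf θ hU hV [1] sgl1.mem (map_Xn_1 hq hK f hf θ hU hV)

theorem map_Xp_3 : (Xp hF (tw f) S [3] (clsS sgl3)).map θ.toMonoidHom = Xp hF (tw f) S [3] (clsS sgl3) :=
  map_Xp_of_Xn hq hK f hf θ hU hV [3] sgl3.mem (map_Xn_3 hq hK f hf θ hU hV)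

theorem map_Xp_05 :
    (Xp hF (tw f) S [0, 5] (clsP pair05)).map θ.toMonoidHom = Xp hF (tw f) S [0, 5] (clsP pair05) :=
  map_Xp_of_Xn hq hK f hf θ hU hV [0, 5] pair05.mem (map_Xn_05 hq hK f hf θ hU hV)

theorem map_Xp_24 :
    (Xp hF (tw f) S [2, 4] (clsP pair24)).map θ.toMonoidHom = Xp hF (tw f) S [2, 4] (clsP pair24) :=
  map_Xp_of_Xn hq hK f hf θ hU hV [2, 4] pair24.mem (map_Xn_24 hq hK f hf θ hU hV)

end normalized

/-! ### `U¹` is a Sylow subgroup -/

theorem card_U1 : Nat.card ↥(U1 hF (tw f) S) = q ^ 36 := by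
  rw [← card_U hq hK f hf, twisted_eq hK f hf]
  unfold U1
  rw [← Subgroup.inf_subgroupOf_right]
  exact Nat.card_congr (Subgroup.subgroupOfEquivOfLe (inf_le_right :
    chevE6.posUnipotent K ⊓ orthGroup hF (tw f) S ≤ orthGroup hF (tw f) S)).toEquiv

theorem sylow_U1 (p e : ℕ) [Fact p.Prime] (hqp : q = p ^ e) :
    ∃ P : Sylow p ↥(orthGroup hF (tw f) S), (P : Subgroup ↥(orthGroup hF (tw f) S)) = U1 hF (tw f) S := by
  have hp := (Fact.out : p.Prime)
  have hcardU := card_U1 hq hK f hf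
  have hpg : IsPGroup p ↥(U1 hF (tw f) S) := by
    apply IsPGroup.of_card (n := e * 36)
    rw [hcardU, hqp, pow_mul]
  have he : e ≠ 0 := by
    rintro rfl
    rw [pow_zero] at hqp
    omega
  have hpq : p ∣ q := by
    rw [hqp]
    exact dvd_pow_self p he
  have hidx : ¬ p ∣ (U1 hF (tw f) S).index := by
    have h1 := Subgroup.card_mul_index (U1 hF (tw f) S)
    have hG := card_group hq hK f hf
    rw [twisted_eq hK f hf] at hG
    rw [hcardU] at h1
    have hq1 : 1 ≤ q := hq.le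
    have hp1 : ∀ n, 1 ≤ q ^ n := fun n => Nat.one_le_pow _ _ hq1
    have hpn : ∀ n, n ≠ 0 → p ∣ q ^ n := fun n hn => dvd_pow hpq hn
    have hnot : ∀ n, n ≠ 0 → ¬ p ∣ q ^ n - 1 := by
      intro n hn hd
      have h3 : p ∣ q ^ n - (q ^ n - 1) := Nat.dvd_sub (hpn n hn) hd
      have h4 : q ^ n - (q ^ n - 1) = 1 := by
        have := hp1 n
        omega
      rw [h4] at h3
      exact hp.one_lt.ne' (Nat.dvd_one.1 h3)
    have hnot' : ∀ n, n ≠ 0 → ¬ p ∣ q ^ n + 1 := by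
      intro n hn hd
      have h3 := (Nat.dvd_add_right (hpn n hn)).1 hd
      exact hp.one_lt.ne' (Nat.dvd_one.1 h3)
    intro hd
    have h2 : q ^ 36 * (Nat.gcd 3 (q + 1) * (U1 hF (tw f) S).index) =
        q ^ 36 * ((q ^ 2 - 1) * (q ^ 5 + 1) * (q ^ 6 - 1) * (q ^ 8 - 1) * (q ^ 9 + 1) * (q ^ 12 - 1)) := by
      calc q ^ 36 * (Nat.gcd 3 (q + 1) * (U1 hF (tw f) S).index)
          = Nat.gcd 3 (q + 1) * (q ^ 36 * (U1 hF (tw f) S).index) := by ring
        _ = Nat.gcd 3 (q + 1) * Nat.card ↥(orthGroup hF (tw f) S) := by rw [h1]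
        _ = _ := by rw [hG]; ring
    have h3 := Nat.eq_of_mul_eq_mul_left (by positivity) h2
    have h4 : p ∣ (q ^ 2 - 1) * (q ^ 5 + 1) * (q ^ 6 - 1) * (q ^ 8 - 1) * (q ^ 9 + 1) * (q ^ 12 - 1) := by
      rw [← h3]
      exact dvd_mul_of_dvd_right hd _
    rcases (Nat.Prime.dvd_mul hp).1 h4 with h5 | h5
    · rcases (Nat.Prime.dvd_mul hp).1 h5 with h6 | h6
      · rcases (Nat.Prime.dvd_mul hp).1 h6 with h7 | h7
        · rcases (Nat.Prime.dvd_mul hp).1 h7 with h8 | h8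
          · rcases (Nat.Prime.dvd_mul hp).1 h8 with h9 | h9
            · exact hnot 2 (by norm_num) h9
            · exact hnot' 5 (by norm_num) h9
          · exact hnot 6 (by norm_num) h8
        · exact hnot 8 (by norm_num) h7
      · exact hnot' 9 (by norm_num) h6
    · exact hnot 12 (by norm_num) h5
  exact ⟨hpg.toSylow hidx, rfl⟩

end Cfsg.Agent.Lead.Tw.E6
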