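import Mathlib
import Cfsg.Agent.Lib.Lead.TwE6AutB

/-!
# Automorphisms of `²E₆(q)`: field automorphisms and the torus elements of the classes
-/

set_option autoImplicit false
set_option linter.unusedSectionVars false
set_option linter.unusedSimpArgs false
set_option linter.unusedVariables false

namespace Cfsg.Agent.Lead.Tw.E6

open Cfsg Cfsg.Lie Cfsg.Agent.Lead.Chev Cfsg.Agent.Helper6.ChevC Cfsg.Agent.Helper6.SL2Hom
  Cfsg.Agent.Helper6.ChevL Cfsg.Agent.Lead.Tw.AutRk1 Cfsg.Agent.Helper6.AutRank1 Cfsg.Agent.Lead.ZPM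

variable {K : Type*} [Field K] [Fintype K] {q : ℕ} (hq : 1 < q) (hK : Fintype.card K = q ^ 2)
  (f : K ≃+* K) (hf : ∀ t, f t = t ^ q)
include hq hK hf

/-! ### field automorphisms -/

omit hq hK in
theorem f_comm (φ : K ≃+* K) (t : K) : f (φ t) = φ (f t) := by
  rw [hf, hf, map_pow]

omit hq hK in
theorem hcommφ (φ : K ≃+* K) : ∀ r < chevE6.nroots, ∀ t, (tw f).c r (φ t) = φ ((tw f).c r t) := by
  intro r _ t
  show ((GE6.gp.ε r : ℤ) : K) * f (φ t) = φ (((GE6.gp.ε r : ℤ) : K) * f t)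
  rw [map_mul, map_intCast, f_comm f hf]

/-- the field automorphisms of `²E₆(q)` -/
noncomputable def FA : (K ≃+* K) →* MulAut ↥(orthGroup hF (tw f) S) :=
  (orthData f).fieldAut (fun φ => hcommφ f hf φ)

omit hq hK in
theorem FA_coe (φ : K ≃+* K) (g : ↥(orthGroup hF (tw f) S)) :
    ((FA f hf φ g : ↥(orthGroup hF (tw f) S)) : GL chevE6.Idx K) =
      PhiD chevE6 φ (g : GL chevE6.Idx K) := rfl

omit hq hK in
theorem FA_U1 (φ : K ≃+* K) :
    (U1 hF (tw f) S).map (FA f hf φ).toMonoidHom = U1 hF (tw f) S :=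
  (orthData f).fieldAut_U1 _ φ

omit hq hK in
theorem FA_V1 (φ : K ≃+* K) :
    (V1 hF (tw f) S).map (FA f hf φ).toMonoidHom = V1 hF (tw f) S :=
  (orthData f).fieldAut_V1 _ φ

/-- the restriction of a field automorphism to the fixed field -/
def resFq (φ : K ≃+* K) (s : ↥(Fq f)) : ↥(Fq f) :=
  ⟨φ (s : K), by
    rw [mem_Fq, f_comm f hf, (mem_Fq f _).1 s.2]⟩

omit hq hK in
theorem FA_XS (φ : K ≃+* K) {i : ℕ} (hs : Sgl i) (s : ↥(Fq f)) :
    FA f hf φ (XS f hs s) = XS f hs (resFq f hf φ s) := by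
  apply Subtype.ext
  rw [FA_coe, XS_coe, XS_coe]
  exact PhiD_xGL (hF (K := K)) φ _ ((hF (K := K)).simple_lt i hs.lt) _

omit hq hK in
theorem FA_YS (φ : K ≃+* K) {i : ℕ} (hs : Sgl i) (s : ↥(Fq f)) :
    FA f hf φ (YS f hs s) = YS f hs (resFq f hf φ s) := by
  apply Subtype.ext
  rw [FA_coe, YS_coe, YS_coe]
  exact PhiD_xGL (hF (K := K)) φ _ ((hF (K := K)).neg_simple_lt i hs.lt) _

theorem FA_XP (φ : K ≃+* K) {i j : ℕ} (hp : Pair i j) (t : K) :
    FA f hf φ (XP f (hff hq hK f hf) hp t) = XP f (hff hq hK f hf) hp (φ t) := by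
  apply Subtype.ext
  rw [FA_coe, XP_coe, XP_coe]
  unfold xP xS
  rw [map_mul, PhiD_xGL (hF (K := K)) φ _ ((hF (K := K)).simple_lt i hp.lti),
    PhiD_xGL (hF (K := K)) φ _ ((hF (K := K)).simple_lt j hp.ltj)]
  simp only [f_comm f hf]

theorem FA_YP (φ : K ≃+* K) {i j : ℕ} (hp : Pair i j) (t : K) :
    FA f hf φ (YP f (hff hq hK f hf) hp t) = YP f (hff hq hK f hf) hp (φ t) := by
  apply Subtype.ext
  rw [FA_coe, YP_coe, YP_coe]
  unfold yP yS
  rw [map_mul, PhiD_xGL (hF (K := K)) φ _ ((hF (K := K)).neg_simple_lt i hp.lti),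
    PhiD_xGL (hF (K := K)) φ _ ((hF (K := K)).neg_simple_lt j hp.ltj)]
  simp only [f_comm f hf]

/-! ### the torus elements of the classes -/

omit hq hK hf in
/-- conjugation of a root element by `h_{p_i}(c)` -/
theorem hGLt_conj_xGL (i : ℕ) (hi : i < chevE6.rank) (c : K) (hc : c ≠ 0) (r : ℕ) (hr : r < chevE6.nroots)
    (t : K) :
    hGLt chevE6 (hF (K := K)).xadd (chevE6.simple i) c * xGL chevE6 (hF (K := K)).xadd r t *
      (hGLt chevE6 (hF (K := K)).xadd (chevE6.simple i) c)⁻¹ =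
      xGL chevE6 (hF (K := K)).xadd r (c ^ (chevE6.cartan i r) * t) := by
  rw [mul_inv_eq_iff_eq_mul]
  apply Units.ext
  rw [Units.val_mul, Units.val_mul, hGLt_simple_val hF i hi c hc, xGL_val, xGL_val]
  exact (hF (K := K)).hconj i hi r hr c hc t

omit hq hK hf in
theorem hhS_coe {i : ℕ} (hs : Sgl i) (s : ↥(Fq f)) :
    ((hh (XS f hs) (YS f hs) s : ↥(orthGroup hF (tw f) S)) : GL chevE6.Idx K) =
      hGLt chevE6 (hF (K := K)).xadd (chevE6.simple i) (s : K) := by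
  rw [← hh_eq hF]
  unfold hh nn
  simp only [Subgroup.coe_mul, Subgroup.coe_inv, XS_coe, YS_coe]
  unfold xS yS
  push_cast
  rfl

theorem hhP_coe {i j : ℕ} (hp : Pair i j) (s : K) :
    ((hh (XP f (hff hq hK f hf) hp) (YP f (hff hq hK f hf) hp) s : ↥(orthGroup hF (tw f) S)) :
        GL chevE6.Idx K) =
      hGLt chevE6 (hF (K := K)).xadd (chevE6.simple i) s *
        hGLt chevE6 (hF (K := K)).xadd (chevE6.simple j) (f s) := by
  have hcls := clsP hp
  unfold hh nn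
  simp only [Subgroup.coe_mul, Subgroup.coe_inv, XP_coe, YP_coe]
  have e1 : xP f i j s = xs hF [i, j] (prf f i s) := (xs_prf f i j hp.ne s).symm
  have e2 : yP f i j (-s⁻¹) = ys hF [i, j] (fun k => -(prf f i s k)⁻¹) := by
    rw [← ys_prf f i j hp.ne]
    apply ys_congr
    intro k hk
    unfold prf
    split_ifs
    · rfl
    · rw [map_neg, map_inv₀]
  have e3 : xP f i j 1 = xs hF [i, j] (fun _ => (1 : K)) := by
    rw [← xs_prf f i j hp.ne]
    apply xs_congr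
    intro k hk
    unfold prf
    split_ifs
    · rfl
    · exact map_one f
  have e4 : yP f i j (-1) = ys hF [i, j] (fun _ => (-1 : K)) := by
    rw [← ys_prf f i j hp.ne]
    apply ys_congr
    intro k hk
    unfold prf
    split_ifs
    · rfl
    · rw [map_neg, map_one]
  rw [e1, e2, e3, e4, ← nWordGL_eq_xs hF hcls, xs_ys_xs hF hcls, mul_inv_cancel_right]
  simp only [List.map_cons, List.map_nil, List.prod_cons, List.prod_nil, mul_one]
  unfold prf
  rw [if_pos rfl, if_neg hp.ne]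

/-! ### the relations linking neighbouring classes -/

omit hq hK hf in
theorem cartan_vals : chevE6.cartan 2 (chevE6.simple 0) = -1 ∧ chevE6.cartan 4 (chevE6.simple 0) = 0 ∧
    chevE6.cartan 2 (chevE6.simple 5) = 0 ∧ chevE6.cartan 4 (chevE6.simple 5) = -1 ∧
    chevE6.cartan 3 (chevE6.simple 2) = -1 ∧ chevE6.cartan 3 (chevE6.simple 4) = -1 ∧
    chevE6.cartan 1 (chevE6.simple 3) = -1 := by
  decide +kernel

theorem hhP24_conj_XP05 (s : K) (hs : s ≠ 0) (t : K) :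
    hh (XP f (hff hq hK f hf) pair24) (YP f (hff hq hK f hf) pair24) s * XP f (hff hq hK f hf) pair05 t *
      (hh (XP f (hff hq hK f hf) pair24) (YP f (hff hq hK f hf) pair24) s)⁻¹ =
      XP f (hff hq hK f hf) pair05 (s⁻¹ * t) := by
  apply Subtype.ext
  simp only [Subgroup.coe_mul, Subgroup.coe_inv, hhP_coe hq hK f hf, XP_coe]
  have hfs : f s ≠ 0 := (map_ne_zero f).2 hs
  obtain ⟨c20, c40, c25, c45, -, -, -⟩ := cartan_vals
  unfold xP xS
  set d₁ := hGLt chevE6 (hF (K := K)).xadd (chevE6.simple 2) s with hd₁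
  set d₂ := hGLt chevE6 (hF (K := K)).xadd (chevE6.simple 4) (f s) with hd₂
  have e : ∀ a b : GL chevE6.Idx K, d₁ * d₂ * (a * b) * (d₁ * d₂)⁻¹ =
      (d₁ * (d₂ * a * d₂⁻¹) * d₁⁻¹) * (d₁ * (d₂ * b * d₂⁻¹) * d₁⁻¹) := by
    intro a b
    group
  rw [e, hd₂, hGLt_conj_xGL 4 (by decide) _ hfs _ ((hF (K := K)).simple_lt 0 (by decide)),
    hGLt_conj_xGL 4 (by decide) _ hfs _ ((hF (K := K)).simple_lt 5 (by decide)), hd₁,
    hGLt_conj_xGL 2 (by decide) _ hs _ ((hF (K := K)).simple_lt 0 (by decide)),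
    hGLt_conj_xGL 2 (by decide) _ hs _ ((hF (K := K)).simple_lt 5 (by decide)), c20, c40, c25, c45]
  simp only [zpow_neg, zpow_one, zpow_zero, one_mul, map_mul, map_inv₀]

theorem hhS3_conj_XP24 (s : ↥(Fq f)) (hs : s ≠ 0) (t : K) :
    hh (XS f sgl3) (YS f sgl3) s * XP f (hff hq hK f hf) pair24 t * (hh (XS f sgl3) (YS f sgl3) s)⁻¹ =
      XP f (hff hq hK f hf) pair24 ((s : K)⁻¹ * t) := by
  apply Subtype.ext
  simp only [Subgroup.coe_mul, Subgroup.coe_inv, hhS_coe, XP_coe]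
  have hs' : (s : K) ≠ 0 := fun h0 => hs (Subtype.ext h0)
  have hfs : f (s : K) = s := (mem_Fq f _).1 s.2
  obtain ⟨-, -, -, -, c32, c34, -⟩ := cartan_vals
  unfold xP xS
  set d := hGLt chevE6 (hF (K := K)).xadd (chevE6.simple 3) (s : K) with hd
  have e : ∀ a b : GL chevE6.Idx K, d * (a * b) * d⁻¹ = (d * a * d⁻¹) * (d * b * d⁻¹) := by
    intro a b
    group
  rw [e, hd, hGLt_conj_xGL 3 (by decide) _ hs' _ ((hF (K := K)).simple_lt 2 (by decide)),
    hGLt_conj_xGL 3 (by decide) _ hs' _ ((hF (K := K)).simple_lt 4 (by decide)), c32, c34]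
  simp only [zpow_neg, zpow_one, map_mul, map_inv₀, hfs]

omit hq hK hf in
theorem hhS1_conj_XS3 (s : ↥(Fq f)) (hs : s ≠ 0) (t : ↥(Fq f)) :
    hh (XS f sgl1) (YS f sgl1) s * XS f sgl3 t * (hh (XS f sgl1) (YS f sgl1) s)⁻¹ =
      XS f sgl3 (s⁻¹ * t) := by
  apply Subtype.ext
  simp only [Subgroup.coe_mul, Subgroup.coe_inv, hhS_coe, XS_coe]
  have hs' : (s : K) ≠ 0 := fun h0 => hs (Subtype.ext h0)
  obtain ⟨-, -, -, -, -, -, c13⟩ := cartan_vals
  unfold xS
  rw [hGLt_conj_xGL 1 (by decide) _ hs' _ ((hF (K := K)).simple_lt 3 (by decide)), c13]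
  simp only [zpow_neg, zpow_one]
  push_cast
  rfl

end Cfsg.Agent.Lead.Tw.E6
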