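import Mathlib
import Cfsg.Agent.Lib.Lead.TwE6AutC
import Cfsg.Agent.Lib.Lead.TwE6Torus
import Cfsg.Agent.Lib.Lead.TwAutDiag
import Cfsg.Agent.Lib.Lead.TwD4AutF

/-!
# Automorphisms of `²E₆(q)`: the diagonal automorphisms
-/

set_option autoImplicit false
set_option linter.unusedSectionVars false
set_option linter.unusedSimpArgs false
set_option linter.unusedVariables false
set_option linter.style.haveILetI false

namespace Cfsg.Agent.Lead.Tw.E6

open Cfsg Cfsg.Lie Cfsg.Agent.Lead.Chev Cfsg.Agent.Helper6.ChevC Cfsg.Agent.Helper6.SL2Hom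
  Cfsg.Agent.Helper6.ChevL Cfsg.Agent.Lead.Tw.AutRk1 Cfsg.Agent.Helper6.AutRank1 Cfsg.Agent.Lead.ZPM

set_option maxRecDepth 100000 in
/-- the coroot coefficients of `E₆` are additive along the chains -/
theorem corAdd : CorAdd chevE6 := by
  constructor <;> decide +kernel

/-- conjugation of a negative class element by a diagonal element -/
theorem conj_ys' {K : Type*} [Field K] {D : ChevalleyDatum} (hF : ChevFacts D K) (h : GL D.Idx K) (c : ℕ → K)
    (hc : ∀ i < D.rank, c i ≠ 0) (hh : (h : Matrix D.Idx D.Idx K) = Tmat D c) (v : List ℕ)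
    (hv : ∀ i ∈ v, i < D.rank) (φ : ℕ → K) :
    h * ys hF v φ * h⁻¹ = ys hF v (fun i => (chi D c (D.simple i))⁻¹ * φ i) := by
  unfold ys
  induction v with
  | nil => simp
  | cons i v ih =>
    have hv' : ∀ j ∈ v, j < D.rank := fun j hj => hv j (List.mem_cons_of_mem _ hj)
    have hi := hv i List.mem_cons_self
    simp only [List.map_cons, List.prod_cons]
    rw [← ih hv', ← chi_neg D hF.cartan_neg c _ (hF.simple_lt i hi),
      ← hF.Tmat_conj_xGL h c hc hh (D.neg (D.simple i)) (hF.neg_simple_lt i hi)]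
    group

variable {K : Type*} [Field K] [Fintype K] (f : K ≃+* K)

/-! ### the parameters -/

theorem extC_mul' (a b : Fin chevE6.rank → Kˣ) :
    extC chevE6 (a * b) = fun i => extC chevE6 a i * extC chevE6 b i := by
  funext i
  by_cases hi : i < chevE6.rank
  · rw [extC_lt _ _ i hi, extC_lt _ _ i hi, extC_lt _ _ i hi, Pi.mul_apply, Units.val_mul]
  · unfold extC
    rw [dif_neg hi, dif_neg hi, dif_neg hi, mul_one]

/-- the extended parameters of a fixed vector are self-conjugate -/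
theorem extC_fix (a : Fin chevE6.rank → Kˣ) (ha : a ∈ fixT f πe) (i : ℕ) (hi : i < 6) :
    extC chevE6 a (πs i) = f (extC chevE6 a i) := by
  have hπ : πs i < chevE6.rank := tables.πlt i hi
  have h1 := fixT_apply f πe a ha ⟨i, hi⟩
  rw [extC_lt _ _ (πs i) hπ, extC_lt _ _ i hi]
  have h2 : (πe ⟨i, hi⟩ : Fin chevE6.rank) = ⟨πs i, hπ⟩ := rfl
  rw [h2] at h1
  rw [h1]
  rfl

theorem extC_fix' (a : Fin chevE6.rank → Kˣ) (ha : a ∈ fixT f πe) :
    ∀ v ∈ S, ∀ i ∈ v, extC chevE6 a ((tw f).π i) = f (extC chevE6 a i) := by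
  intro v hv i hi
  exact extC_fix f a ha i (chk.valid v hv i hi)

/-! ### the diagonal automorphisms -/

/-- the diagonal automorphism of a fixed parameter vector -/
noncomputable def DA (a : ↥(fixT f πe)) : MulAut ↥(orthGroup hF (tw f) S) :=
  (orthData f).diagAut corAdd (extC chevE6 a.1) (extC_ne_zero chevE6 a.1) f (hcm f) (extC_fix' f a.1 a.2)

theorem DA_coe (a : ↥(fixT f πe)) (g : ↥(orthGroup hF (tw f) S)) :
    ((DA f a g : ↥(orthGroup hF (tw f) S)) : GL chevE6.Idx K) =
      dGL chevE6 (extC chevE6 a.1) (extC_ne_zero chevE6 a.1) * g *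
        (dGL chevE6 (extC chevE6 a.1) (extC_ne_zero chevE6 a.1))⁻¹ := rfl

theorem dGL_congr (x y : ℕ → K) (hx : ∀ i, x i ≠ 0) (hy : ∀ i, y i ≠ 0) (e : x = y) :
    dGL chevE6 x hx = dGL chevE6 y hy := by
  subst e
  rfl

theorem DA_mul (a b : ↥(fixT f πe)) : DA f (a * b) = DA f a * DA f b := by
  apply MulEquiv.ext
  intro g
  apply Subtype.ext
  rw [MulAut.mul_apply, DA_coe, DA_coe, DA_coe]
  have e : dGL chevE6 (extC chevE6 (a * b : ↥(fixT f πe)).1) (extC_ne_zero chevE6 _) =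
      dGL chevE6 (extC chevE6 a.1) (extC_ne_zero chevE6 a.1) *
        dGL chevE6 (extC chevE6 b.1) (extC_ne_zero chevE6 b.1) := by
    rw [← dGL_mul]
    exact dGL_congr _ _ _ _ (extC_mul' a.1 b.1)
  rw [e]
  group

/-- the diagonal automorphisms, as a homomorphism -/
noncomputable def DAhom : ↥(fixT f πe) →* MulAut ↥(orthGroup hF (tw f) S) :=
  MonoidHom.mk' (DA f) (DA_mul f)

theorem DAhom_apply (a : ↥(fixT f πe)) : DAhom f a = DA f a := rfl

theorem DA_U1 (a : ↥(fixT f πe)) : (U1 hF (tw f) S).map (DA f a).toMonoidHom = U1 hF (tw f) S :=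
  (orthData f).diagAut_U1 corAdd _ _ f (hcm f) _

theorem DA_V1 (a : ↥(fixT f πe)) : (V1 hF (tw f) S).map (DA f a).toMonoidHom = V1 hF (tw f) S :=
  (orthData f).diagAut_V1 corAdd _ _ f (hcm f) _

/-- the action on the positive generators -/
theorem DA_xs (a : ↥(fixT f πe)) (v : List ℕ) (hv : v ∈ S) (φ : ℕ → K) (g : ↥(orthGroup hF (tw f) S))
    (hg : (g : GL chevE6.Idx K) = xs hF v φ) :
    ((DA f a g : ↥(orthGroup hF (tw f) S)) : GL chevE6.Idx K) =
      xs hF v (fun i => extC chevE6 a.1 i * φ i) := by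
  rw [DA_coe, hg]
  exact dGL_conj_xs hF corAdd _ _ v ((orthData f).gen.valid v hv) φ

/-- the action on the negative generators -/
theorem DA_ys (a : ↥(fixT f πe)) (v : List ℕ) (hv : v ∈ S) (φ : ℕ → K) (g : ↥(orthGroup hF (tw f) S))
    (hg : (g : GL chevE6.Idx K) = ys hF v φ) :
    ((DA f a g : ↥(orthGroup hF (tw f) S)) : GL chevE6.Idx K) =
      ys hF v (fun i => (extC chevE6 a.1 i)⁻¹ * φ i) := by
  rw [DA_coe, hg]
  exact dGL_conj_ys hF corAdd _ _ v ((orthData f).gen.valid v hv) φ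

/-- the value of a fixed parameter vector at a single class, in the fixed field -/
def aS (a : ↥(fixT f πe)) {i : ℕ} (hs : Sgl i) : ↥(Fq f) :=
  ⟨extC chevE6 a.1 i, by
    rw [mem_Fq, ← extC_fix f a.1 a.2 i hs.lt, hs.fix]⟩

theorem aS_ne_zero (a : ↥(fixT f πe)) {i : ℕ} (hs : Sgl i) : aS f a hs ≠ 0 := by
  intro h
  exact extC_ne_zero chevE6 a.1 i (congrArg Subtype.val h)

theorem DA_XS (a : ↥(fixT f πe)) {i : ℕ} (hs : Sgl i) (s : ↥(Fq f)) :
    DA f a (XS f hs s) = XS f hs (aS f a hs * s) := by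
  apply Subtype.ext
  rw [DA_xs f a [i] hs.mem (fun _ => (s : K)) _ (by rw [XS_coe, xs_sgl]), xs_sgl, XS_coe]
  rfl

theorem DA_YS (a : ↥(fixT f πe)) {i : ℕ} (hs : Sgl i) (s : ↥(Fq f)) :
    DA f a (YS f hs s) = YS f hs ((aS f a hs)⁻¹ * s) := by
  apply Subtype.ext
  rw [DA_ys f a [i] hs.mem (fun _ => (s : K)) _ (by rw [YS_coe, ys_sgl]), ys_sgl, YS_coe]
  rfl

theorem DA_XP (hff : ∀ t, f (f t) = t) (a : ↥(fixT f πe)) {i j : ℕ} (hp : Pair i j) (t : K) :
    DA f a (XP f hff hp t) = XP f hff hp (extC chevE6 a.1 i * t) := by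
  apply Subtype.ext
  rw [DA_xs f a [i, j] hp.mem (prf f i t) _ (by rw [XP_coe, xs_prf f i j hp.ne]), XP_coe,
    ← xs_prf f i j hp.ne]
  apply xs_congr
  intro k hk
  simp only [List.mem_cons, List.not_mem_nil, or_false] at hk
  unfold prf
  rcases hk with rfl | rfl
  · rw [if_pos rfl, if_pos rfl]
  · rw [if_neg hp.ne, if_neg hp.ne, map_mul, ← extC_fix f a.1 a.2 i hp.lti, hp.pij]

theorem DA_YP (hff : ∀ t, f (f t) = t) (a : ↥(fixT f πe)) {i j : ℕ} (hp : Pair i j) (t : K) :
    DA f a (YP f hff hp t) = YP f hff hp ((extC chevE6 a.1 i)⁻¹ * t) := by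
  apply Subtype.ext
  rw [DA_ys f a [i, j] hp.mem (prf f i t) _ (by rw [YP_coe, ys_prf f i j hp.ne]), YP_coe,
    ← ys_prf f i j hp.ne]
  apply ys_congr
  intro k hk
  simp only [List.mem_cons, List.not_mem_nil, or_false] at hk
  unfold prf
  rcases hk with rfl | rfl
  · rw [if_pos rfl, if_pos rfl]
  · rw [if_neg hp.ne, if_neg hp.ne, map_mul, map_inv₀, ← extC_fix f a.1 a.2 i hp.lti, hp.pij]

/-- the diagonal automorphisms act faithfully -/
theorem DA_injective : Function.Injective (DA f) := by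
  intro a b hab
  have key : ∀ v ∈ S, ∀ i ∈ v, extC chevE6 a.1 i = extC chevE6 b.1 i := by
    intro v hv i hi
    set g : ↥(orthGroup hF (tw f) S) := ⟨xs hF v (fun _ => (1 : K)), (orthData f).xs_one_mem v hv⟩ with hg
    have h1 := DA_xs f a v hv (fun _ => (1 : K)) g rfl
    have h2 := DA_xs f b v hv (fun _ => (1 : K)) g rfl
    rw [hab, h2] at h1
    have := xs_injective hF ((orthData f).cls v hv) _ _ h1 i hi
    simpa using this.symm
  apply Subtype.ext
  funext j
  apply Units.ext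
  have hj : j.val ∈ S.flatten := by
    rw [hperm.mem_iff, List.mem_range]
    exact j.2
  obtain ⟨v, hv, hjv⟩ := List.mem_flatten.1 hj
  have := key v hv j.val hjv
  rw [extC_lt _ _ j.val j.2, extC_lt _ _ j.val j.2] at this
  exact this

/-! ### the torus elements, and the Cartan map -/

theorem torus_mem (c : Fin chevE6.rank → Kˣ) (hc : c ∈ fixT f πe) :
    torusHom chevE6 K c ∈ orthGroup hF (tw f) S :=
  (orthData f).torusHom_mem f πe (fun i => rfl) (fun i hi t => c_simple f i hi t)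
    (fun i hi t => c_neg_simple f i hi t) hperm c hc

/-- the torus element of a fixed parameter vector -/
noncomputable def hT (c : ↥(fixT f πe)) : ↥(orthGroup hF (tw f) S) :=
  ⟨torusHom chevE6 K c.1, torus_mem f c.1 c.2⟩

theorem zpv_mul_vec {l : ℕ} {A : Type*} [CommGroup A] (M : Matrix (Fin l) (Fin l) ℤ) (x y : Fin l → A) :
    zpv M (x * y) = zpv M x * zpv M y := by
  funext i
  unfold zpv
  rw [Pi.mul_apply, ← Finset.prod_mul_distrib]
  apply Finset.prod_congr rfl
  intro j _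
  rw [Pi.mul_apply, mul_zpow]

/-- the Cartan map preserves the fixed parameters -/
theorem tau_mem (c : Fin chevE6.rank → Kˣ) (hc : c ∈ fixT f πe) :
    zpv (cartanMat chevE6) c ∈ fixT f πe := by
  have htw : twP f πe c = c := (mem_fixT f πe c).1 hc
  rw [mem_fixT]
  funext j
  have hj : (πe.symm j).val < 6 := (πe.symm j).2
  have h1 := chiU_twP f πe (tw f).ρ hcart c (chevE6.simple (πe.symm j).val)
    ((hF (K := K)).simple_lt _ hj)
  rw [htw, (tw f).ρ_simple _ hj] at h1
  have h2 : (tw f).π (πe.symm j).val = j.val := by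
    show πs (πe.symm j).val = j.val
    have := congrArg Fin.val (πe.apply_symm_apply j)
    exact this
  rw [h2] at h1
  show Units.map (f : K →* K) (zpv (cartanMat chevE6) c (πe.symm j)) = zpv (cartanMat chevE6) c j
  rw [← chiU_simple, ← chiU_simple]
  exact h1.symm

/-- the Cartan map on the fixed parameters -/
noncomputable def tauH : ↥(fixT f πe) →* ↥(fixT f πe) where
  toFun c := ⟨zpv (cartanMat chevE6) c.1, tau_mem f c.1 c.2⟩
  map_one' := Subtype.ext (zpv_const_one _)
  map_mul' a b := Subtype.ext (zpv_mul_vec _ a.1 b.1)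

theorem extC_tau (c : ↥(fixT f πe)) (i : ℕ) (hi : i < 6) :
    extC chevE6 (tauH f c).1 i = chi chevE6 (extC chevE6 c.1) (chevE6.simple i) := by
  rw [extC_lt _ _ i hi, ← chiU_val]
  rfl

/-- **the diagonal automorphism of the image under the Cartan map is inner** -/
theorem DA_tau (c : ↥(fixT f πe)) : DA f (tauH f c) = MulAut.conj (hT f c) := by
  have hne : ∀ i < chevE6.rank, extC chevE6 c.1 i ≠ 0 := fun i _ => extC_ne_zero chevE6 c.1 i
  have h : (DA f (tauH f c)).toMonoidHom = (MulAut.conj (hT f c)).toMonoidHom := by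
    apply Cfsg.Agent.Lead.Tw.D4.eq_of_closure
    rintro x (⟨v, hv, φ, hφ, rfl⟩ | ⟨v, hv, φ, hφ, rfl⟩)
    · apply Subtype.ext
      have hvv := (orthData f).gen.valid v hv
      have e1 := DA_xs f (tauH f c) v hv φ ⟨xs hF v φ, Subgroup.subset_closure (Or.inl ⟨v, hv, φ, hφ, rfl⟩)⟩ rfl
      refine e1.trans ?_
      show _ = torusHom chevE6 K c.1 * xs hF v φ * (torusHom chevE6 K c.1)⁻¹
      rw [ChevFacts'.conj_xs hF _ (extC chevE6 c.1) hne (torusHom_val chevE6 c.1) v hvv]
      apply xs_congr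
      intro i hi
      rw [extC_tau f c i (hvv i hi)]
    · apply Subtype.ext
      have hvv := (orthData f).gen.valid v hv
      have e1 := DA_ys f (tauH f c) v hv φ ⟨ys hF v φ, Subgroup.subset_closure (Or.inr ⟨v, hv, φ, hφ, rfl⟩)⟩ rfl
      refine e1.trans ?_
      show _ = torusHom chevE6 K c.1 * ys hF v φ * (torusHom chevE6 K c.1)⁻¹
      rw [conj_ys' hF _ (extC chevE6 c.1) hne (torusHom_val chevE6 c.1) v hvv]
      apply ys_congr
      intro i hi
      rw [extC_tau f c i (hvv i hi)]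
  apply MulEquiv.ext
  intro x
  exact DFunLike.congr_fun h x

end Cfsg.Agent.Lead.Tw.E6
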