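import Mathlib
import Cfsg.Agent.Lib.Lead.TwE6AutD

/-!
# Automorphisms of `²E₆(q)`: a normalised automorphism is a diagonal automorphism times a field automorphism
-/

set_option autoImplicit false
set_option linter.unusedSectionVars false
set_option linter.unusedSimpArgs false
set_option linter.unusedVariables false
set_option linter.style.haveILetI false

namespace Cfsg.Agent.Lead.Tw.E6

open Cfsg Cfsg.Lie Cfsg.Agent.Lead.Chev Cfsg.Agent.Helper6.ChevC Cfsg.Agent.Helper6.SL2Hom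
  Cfsg.Agent.Helper6.ChevL Cfsg.Agent.Lead.Tw.AutRk1 Cfsg.Agent.Helper6.AutRank1 Cfsg.Agent.Lead.ZPM
  Cfsg.Agent.Lead.Tw.D4

variable {K : Type*} [Field K] [Fintype K] {q : ℕ} (hq : 1 < q) (hK : Fintype.card K = q ^ 2)
  (f : K ≃+* K) (hf : ∀ t, f t = t ^ q)
include hq hK hf

/-- two endomorphisms agreeing on the eight root subgroups are equal -/
theorem eq_of_gens (θ θ' : ↥(orthGroup hF (tw f) S) →* ↥(orthGroup hF (tw f) S))
    (hXS : ∀ i (hs : Sgl i) s, θ (XS f hs s) = θ' (XS f hs s))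
    (hYS : ∀ i (hs : Sgl i) s, θ (YS f hs s) = θ' (YS f hs s))
    (hXP : ∀ i j (hp : Pair i j) t, θ (XP f (hff hq hK f hf) hp t) = θ' (XP f (hff hq hK f hf) hp t))
    (hYP : ∀ i j (hp : Pair i j) t, θ (YP f (hff hq hK f hf) hp t) = θ' (YP f (hff hq hK f hf) hp t)) :
    θ = θ' := by
  have h2 := hff hq hK f hf
  apply eq_of_closure
  rintro x (⟨v, hv, φ, hφ, rfl⟩ | ⟨v, hv, φ, hφ, rfl⟩)
  · rcases mem_S_cases v hv with rfl | rfl | rfl | rfl
    · obtain ⟨s, hs⟩ := exists_XS f sgl1 ⟨_, (orthData f).xs_mem _ hv φ hφ⟩ ⟨φ, rfl⟩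
      exact (congrArg θ hs).trans ((hXS 1 sgl1 s).trans (congrArg θ' hs).symm)
    · obtain ⟨s, hs⟩ := exists_XS f sgl3 ⟨_, (orthData f).xs_mem _ hv φ hφ⟩ ⟨φ, rfl⟩
      exact (congrArg θ hs).trans ((hXS 3 sgl3 s).trans (congrArg θ' hs).symm)
    · obtain ⟨s, hs⟩ := exists_XP f h2 pair05 ⟨_, (orthData f).xs_mem _ hv φ hφ⟩ ⟨φ, rfl⟩
      exact (congrArg θ hs).trans ((hXP 0 5 pair05 s).trans (congrArg θ' hs).symm)
    · obtain ⟨s, hs⟩ := exists_XP f h2 pair24 ⟨_, (orthData f).xs_mem _ hv φ hφ⟩ ⟨φ, rfl⟩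
      exact (congrArg θ hs).trans ((hXP 2 4 pair24 s).trans (congrArg θ' hs).symm)
  · rcases mem_S_cases v hv with rfl | rfl | rfl | rfl
    · obtain ⟨s, hs⟩ := exists_YS f sgl1 ⟨_, (orthData f).ys_mem _ hv φ hφ⟩ ⟨φ, rfl⟩
      exact (congrArg θ hs).trans ((hYS 1 sgl1 s).trans (congrArg θ' hs).symm)
    · obtain ⟨s, hs⟩ := exists_YS f sgl3 ⟨_, (orthData f).ys_mem _ hv φ hφ⟩ ⟨φ, rfl⟩
      exact (congrArg θ hs).trans ((hYS 3 sgl3 s).trans (congrArg θ' hs).symm)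
    · obtain ⟨s, hs⟩ := exists_YP f h2 pair05 ⟨_, (orthData f).ys_mem _ hv φ hφ⟩ ⟨φ, rfl⟩
      exact (congrArg θ hs).trans ((hYP 0 5 pair05 s).trans (congrArg θ' hs).symm)
    · obtain ⟨s, hs⟩ := exists_YP f h2 pair24 ⟨_, (orthData f).ys_mem _ hv φ hφ⟩ ⟨φ, rfl⟩
      exact (congrArg θ hs).trans ((hYP 2 4 pair24 s).trans (congrArg θ' hs).symm)

section normalized

variable (θ : MulAut ↥(orthGroup hF (tw f) S))
  (hU : (U1 hF (tw f) S).map θ.toMonoidHom = U1 hF (tw f) S)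
  (hV : (V1 hF (tw f) S).map θ.toMonoidHom = V1 hF (tw f) S)
include hU hV

/-- a normalised automorphism acts on a pair class through a field automorphism and a scalar -/
theorem exists_pair_05 : ∃ (c : K) (σ : K ≃+* K), c ≠ 0 ∧
    (∀ t, θ (XP f (hff hq hK f hf) pair05 t) = XP f (hff hq hK f hf) pair05 (c * σ t)) ∧
    (∀ t, θ (YP f (hff hq hK f hf) pair05 t) = YP f (hff hq hK f hf) pair05 (c⁻¹ * σ t)) := by
  have h2 := hff hq hK f hf
  have hX : ∀ t, ∃ t', θ.toMonoidHom (XP f h2 pair05 t) = XP f h2 pair05 t' := by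
    intro t
    have h1 : θ.toMonoidHom (XP f h2 pair05 t) ∈ (Xp hF (tw f) S [0, 5] (clsP pair05)).map θ.toMonoidHom :=
      ⟨_, XP_mem f h2 pair05 t, rfl⟩
    rw [map_Xp_05 hq hK f hf θ hU hV] at h1
    exact exists_XP f h2 pair05 _ h1
  have hY : ∀ t, ∃ t', θ.toMonoidHom (YP f h2 pair05 t) = YP f h2 pair05 t' := by
    intro t
    have h1 : θ.toMonoidHom (YP f h2 pair05 t) ∈ (Xn hF (tw f) S [0, 5] (clsP pair05)).map θ.toMonoidHom :=
      ⟨_, YP_mem f h2 pair05 t, rfl⟩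
    rw [map_Xn_05 hq hK f hf θ hU hV] at h1
    exact exists_YP f h2 pair05 _ h1
  obtain ⟨c, σ, hc, h3, h4⟩ := exists_ringEquiv_of_hom (rankOne_P f h2 pair05) θ.toMonoidHom θ.injective
    (XP_injective f h2 pair05) (YP_injective f h2 pair05) (hND_P f h2 pair05) hX hY
  exact ⟨c, σ, hc, h3, h4⟩

theorem exists_pair_24 : ∃ (c : K) (σ : K ≃+* K), c ≠ 0 ∧
    (∀ t, θ (XP f (hff hq hK f hf) pair24 t) = XP f (hff hq hK f hf) pair24 (c * σ t)) ∧
    (∀ t, θ (YP f (hff hq hK f hf) pair24 t) = YP f (hff hq hK f hf) pair24 (c⁻¹ * σ t)) := by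
  have h2 := hff hq hK f hf
  have hX : ∀ t, ∃ t', θ.toMonoidHom (XP f h2 pair24 t) = XP f h2 pair24 t' := by
    intro t
    have h1 : θ.toMonoidHom (XP f h2 pair24 t) ∈ (Xp hF (tw f) S [2, 4] (clsP pair24)).map θ.toMonoidHom :=
      ⟨_, XP_mem f h2 pair24 t, rfl⟩
    rw [map_Xp_24 hq hK f hf θ hU hV] at h1
    exact exists_XP f h2 pair24 _ h1
  have hY : ∀ t, ∃ t', θ.toMonoidHom (YP f h2 pair24 t) = YP f h2 pair24 t' := by
    intro t
    have h1 : θ.toMonoidHom (YP f h2 pair24 t) ∈ (Xn hF (tw f) S [2, 4] (clsP pair24)).map θ.toMonoidHom :=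
      ⟨_, YP_mem f h2 pair24 t, rfl⟩
    rw [map_Xn_24 hq hK f hf θ hU hV] at h1
    exact exists_YP f h2 pair24 _ h1
  obtain ⟨c, σ, hc, h3, h4⟩ := exists_ringEquiv_of_hom (rankOne_P f h2 pair24) θ.toMonoidHom θ.injective
    (XP_injective f h2 pair24) (YP_injective f h2 pair24) (hND_P f h2 pair24) hX hY
  exact ⟨c, σ, hc, h3, h4⟩

theorem exists_sgl_3 : ∃ (c : ↥(Fq f)) (σ : ↥(Fq f) ≃+* ↥(Fq f)), c ≠ 0 ∧
    (∀ t, θ (XS f sgl3 t) = XS f sgl3 (c * σ t)) ∧ (∀ t, θ (YS f sgl3 t) = YS f sgl3 (c⁻¹ * σ t)) := by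
  have hX : ∀ t, ∃ t', θ.toMonoidHom (XS f sgl3 t) = XS f sgl3 t' := by
    intro t
    have h1 : θ.toMonoidHom (XS f sgl3 t) ∈ (Xp hF (tw f) S [3] (clsS sgl3)).map θ.toMonoidHom :=
      ⟨_, XS_mem f sgl3 t, rfl⟩
    rw [map_Xp_3 hq hK f hf θ hU hV] at h1
    exact exists_XS f sgl3 _ h1
  have hY : ∀ t, ∃ t', θ.toMonoidHom (YS f sgl3 t) = YS f sgl3 t' := by
    intro t
    have h1 : θ.toMonoidHom (YS f sgl3 t) ∈ (Xn hF (tw f) S [3] (clsS sgl3)).map θ.toMonoidHom :=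
      ⟨_, YS_mem f sgl3 t, rfl⟩
    rw [map_Xn_3 hq hK f hf θ hU hV] at h1
    exact exists_YS f sgl3 _ h1
  haveI : Finite ↥(Fq f) := inferInstance
  obtain ⟨c, σ, hc, h3, h4⟩ := exists_ringEquiv_of_hom (rankOne_S f sgl3) θ.toMonoidHom θ.injective
    (XS_injective f sgl3) (YS_injective f sgl3) (hND_S f sgl3) hX hY
  exact ⟨c, σ, hc, h3, h4⟩

theorem exists_sgl_1 : ∃ (c : ↥(Fq f)) (σ : ↥(Fq f) ≃+* ↥(Fq f)), c ≠ 0 ∧
    (∀ t, θ (XS f sgl1 t) = XS f sgl1 (c * σ t)) ∧ (∀ t, θ (YS f sgl1 t) = YS f sgl1 (c⁻¹ * σ t)) := by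
  have hX : ∀ t, ∃ t', θ.toMonoidHom (XS f sgl1 t) = XS f sgl1 t' := by
    intro t
    have h1 : θ.toMonoidHom (XS f sgl1 t) ∈ (Xp hF (tw f) S [1] (clsS sgl1)).map θ.toMonoidHom :=
      ⟨_, XS_mem f sgl1 t, rfl⟩
    rw [map_Xp_1 hq hK f hf θ hU hV] at h1
    exact exists_XS f sgl1 _ h1
  have hY : ∀ t, ∃ t', θ.toMonoidHom (YS f sgl1 t) = YS f sgl1 t' := by
    intro t
    have h1 : θ.toMonoidHom (YS f sgl1 t) ∈ (Xn hF (tw f) S [1] (clsS sgl1)).map θ.toMonoidHom :=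
      ⟨_, YS_mem f sgl1 t, rfl⟩
    rw [map_Xn_1 hq hK f hf θ hU hV] at h1
    exact exists_YS f sgl1 _ h1
  haveI : Finite ↥(Fq f) := inferInstance
  obtain ⟨c, σ, hc, h3, h4⟩ := exists_ringEquiv_of_hom (rankOne_S f sgl1) θ.toMonoidHom θ.injective
    (XS_injective f sgl1) (YS_injective f sgl1) (hND_S f sgl1) hX hY
  exact ⟨c, σ, hc, h3, h4⟩

end normalized

/-- **a normalised automorphism is the product of a diagonal and a field automorphism** -/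
theorem exists_diag_field (θ : MulAut ↥(orthGroup hF (tw f) S))
    (hU : (U1 hF (tw f) S).map θ.toMonoidHom = U1 hF (tw f) S)
    (hV : (V1 hF (tw f) S).map θ.toMonoidHom = V1 hF (tw f) S) :
    ∃ (a : ↥(fixT f πe)) (φ : K ≃+* K), θ = DA f a * FA f hf φ := by
  have h2 := hff hq hK f hf
  obtain ⟨c05, σ05, hc05, hX05, hY05⟩ := exists_pair_05 hq hK f hf θ hU hV
  -- remove the field automorphism
  set θ₁ : MulAut ↥(orthGroup hF (tw f) S) := θ * FA f hf σ05.symm with hθ₁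
  have hθ₁_apply : ∀ x, θ₁ x = θ (FA f hf σ05.symm x) := fun x => rfl
  have hmap : ∀ A : Subgroup ↥(orthGroup hF (tw f) S), A.map θ₁.toMonoidHom =
      (A.map (FA f hf σ05.symm).toMonoidHom).map θ.toMonoidHom := by
    intro A
    rw [Subgroup.map_map]
    rfl
  have hU₁ : (U1 hF (tw f) S).map θ₁.toMonoidHom = U1 hF (tw f) S := by
    rw [hmap, FA_U1, hU]
  have hV₁ : (V1 hF (tw f) S).map θ₁.toMonoidHom = V1 hF (tw f) S := by
    rw [hmap, FA_V1, hV]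
  have hθ₁X05 : ∀ t, θ₁ (XP f h2 pair05 t) = XP f h2 pair05 (c05 * t) := by
    intro t
    rw [hθ₁_apply, FA_XP hq hK f hf]
    have := hX05 (σ05.symm t)
    rw [RingEquiv.apply_symm_apply] at this
    exact this
  have hθ₁Y05 : ∀ t, θ₁ (YP f h2 pair05 t) = YP f h2 pair05 (c05⁻¹ * t) := by
    intro t
    rw [hθ₁_apply, FA_YP hq hK f hf]
    have := hY05 (σ05.symm t)
    rw [RingEquiv.apply_symm_apply] at this
    exact this
  -- the class `[2, 4]`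
  obtain ⟨c24, σ24, hc24, hX24, hY24⟩ := exists_pair_24 hq hK f hf θ₁ hU₁ hV₁
  have hσ24 : ∀ s, σ24 s = s := by
    intro s
    by_cases hs : s = 0
    · rw [hs, map_zero]
    · have hσs : σ24 s ≠ 0 := (map_ne_zero σ24).2 hs
      have e1 := map_hh (rankOne_P f h2 pair24) θ₁.toMonoidHom c24 hc24 σ24 hX24 hY24 s hs
      have e2 := congrArg θ₁ (hhP24_conj_XP05 hq hK f hf s hs 1)
      rw [map_mul, map_mul, map_inv, hθ₁X05, hθ₁X05] at e2
      have e1' : θ₁ (hh (XP f h2 pair24) (YP f h2 pair24) s) = hh (XP f h2 pair24) (YP f h2 pair24) (σ24 s) := e1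
      rw [e1', hhP24_conj_XP05 hq hK f hf (σ24 s) hσs] at e2
      have e3 := XP_injective f h2 pair05 e2
      rw [mul_one, mul_one] at e3
      have e4 : (σ24 s)⁻¹ = s⁻¹ := by
        have : (σ24 s)⁻¹ * c05 = s⁻¹ * c05 := by
          rw [e3, mul_comm]
        exact mul_right_cancel₀ hc05 this
      exact inv_injective e4
  have hθ₁X24 : ∀ t, θ₁ (XP f h2 pair24 t) = XP f h2 pair24 (c24 * t) := by
    intro t
    rw [hX24, hσ24]
  have hθ₁Y24 : ∀ t, θ₁ (YP f h2 pair24 t) = YP f h2 pair24 (c24⁻¹ * t) := by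
    intro t
    rw [hY24, hσ24]
  -- the class `[3]`
  obtain ⟨c3, σ3, hc3, hX3, hY3⟩ := exists_sgl_3 hq hK f hf θ₁ hU₁ hV₁
  have hσ3 : ∀ s, σ3 s = s := by
    intro s
    by_cases hs : s = 0
    · rw [hs, map_zero]
    · have hσs : σ3 s ≠ 0 := (map_ne_zero σ3).2 hs
      have e1 := map_hh (rankOne_S f sgl3) θ₁.toMonoidHom c3 hc3 σ3 hX3 hY3 s hs
      have e2 := congrArg θ₁ (hhS3_conj_XP24 hq hK f hf s hs 1)
      rw [map_mul, map_mul, map_inv, hθ₁X24, hθ₁X24] at e2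
      have e1' : θ₁ (hh (XS f sgl3) (YS f sgl3) s) = hh (XS f sgl3) (YS f sgl3) (σ3 s) := e1
      rw [e1', hhS3_conj_XP24 hq hK f hf (σ3 s) hσs] at e2
      have e3 := XP_injective f h2 pair24 e2
      rw [mul_one, mul_one] at e3
      have e4 : ((σ3 s : ↥(Fq f)) : K)⁻¹ = (s : K)⁻¹ := by
        have : ((σ3 s : ↥(Fq f)) : K)⁻¹ * c24 = (s : K)⁻¹ * c24 := by
          rw [e3, mul_comm]
        exact mul_right_cancel₀ hc24 this
      exact Subtype.ext (inv_injective e4)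
  have hθ₁X3 : ∀ t, θ₁ (XS f sgl3 t) = XS f sgl3 (c3 * t) := by
    intro t
    rw [hX3, hσ3]
  have hθ₁Y3 : ∀ t, θ₁ (YS f sgl3 t) = YS f sgl3 (c3⁻¹ * t) := by
    intro t
    rw [hY3, hσ3]
  -- the class `[1]`
  obtain ⟨c1, σ1, hc1, hX1, hY1⟩ := exists_sgl_1 hq hK f hf θ₁ hU₁ hV₁
  have hσ1 : ∀ s, σ1 s = s := by
    intro s
    by_cases hs : s = 0
    · rw [hs, map_zero]
    · have hσs : σ1 s ≠ 0 := (map_ne_zero σ1).2 hs
      have e1 := map_hh (rankOne_S f sgl1) θ₁.toMonoidHom c1 hc1 σ1 hX1 hY1 s hs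
      have e2 := congrArg θ₁ (hhS1_conj_XS3 f s hs 1)
      rw [map_mul, map_mul, map_inv, hθ₁X3, hθ₁X3] at e2
      have e1' : θ₁ (hh (XS f sgl1) (YS f sgl1) s) = hh (XS f sgl1) (YS f sgl1) (σ1 s) := e1
      rw [e1', hhS1_conj_XS3 f (σ1 s) hσs] at e2
      have e3 := XS_injective f sgl3 e2
      rw [mul_one, mul_one] at e3
      have e4 : (σ1 s)⁻¹ = s⁻¹ := by
        have : (σ1 s)⁻¹ * c3 = s⁻¹ * c3 := by
          rw [e3, mul_comm]
        exact mul_right_cancel₀ hc3 this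
      exact inv_injective e4
  have hθ₁X1 : ∀ t, θ₁ (XS f sgl1 t) = XS f sgl1 (c1 * t) := by
    intro t
    rw [hX1, hσ1]
  have hθ₁Y1 : ∀ t, θ₁ (YS f sgl1 t) = YS f sgl1 (c1⁻¹ * t) := by
    intro t
    rw [hY1, hσ1]
  -- the parameter vector
  have hc1K : (c1 : K) ≠ 0 := fun h0 => hc1 (Subtype.ext h0)
  have hc3K : (c3 : K) ≠ 0 := fun h0 => hc3 (Subtype.ext h0)
  set u0 : Kˣ := Units.mk0 c05 hc05 with hu0
  set u1 : Kˣ := Units.mk0 (c1 : K) hc1K with hu1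
  set u2 : Kˣ := Units.mk0 c24 hc24 with hu2
  set u3 : Kˣ := Units.mk0 (c3 : K) hc3K with hu3
  set a₀ : Fin chevE6.rank → Kˣ := vec u0 u1 u2 u3 (Units.map (f : K →* K) u2) (Units.map (f : K →* K) u0)
    with ha₀
  have hfu : ∀ u : Kˣ, Units.map (f : K →* K) (Units.map (f : K →* K) u) = u := by
    intro u
    apply Units.ext
    show f (f (u : K)) = u
    exact h2 _
  have hf1 : Units.map (f : K →* K) u1 = u1 := by
    apply Units.ext
    show f (c1 : K) = c1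
    exact (mem_Fq f _).1 c1.2
  have hf3 : Units.map (f : K →* K) u3 = u3 := by
    apply Units.ext
    show f (c3 : K) = c3
    exact (mem_Fq f _).1 c3.2
  have ha₀mem : a₀ ∈ fixT f πe := by
    rw [mem_fixT, ha₀, twP_vec, hfu, hfu, hf1, hf3]
  set a : ↥(fixT f πe) := ⟨a₀, ha₀mem⟩ with ha
  have ea0 : extC chevE6 a.1 0 = c05 := by
    rw [extC_lt _ _ 0 (by decide)]
    rfl
  have ea1 : extC chevE6 a.1 1 = c1 := by
    rw [extC_lt _ _ 1 (by decide)]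
    rfl
  have ea2 : extC chevE6 a.1 2 = c24 := by
    rw [extC_lt _ _ 2 (by decide)]
    rfl
  have ea3 : extC chevE6 a.1 3 = c3 := by
    rw [extC_lt _ _ 3 (by decide)]
    rfl
  have eS1 : aS f a sgl1 = c1 := Subtype.ext ea1
  have eS3 : aS f a sgl3 = c3 := Subtype.ext ea3
  refine ⟨a, σ05, ?_⟩
  have hfin : θ₁.toMonoidHom = (DA f a).toMonoidHom := by
    apply eq_of_gens hq hK f hf
    · intro i hs s
      show θ₁ (XS f hs s) = DA f a (XS f hs s)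
      rw [DA_XS]
      have hi : i = 1 ∨ i = 3 := by
        have := mem_S_cases [i] hs.mem
        simpa using this
      rcases hi with rfl | rfl
      · rw [hθ₁X1, eS1]
      · rw [hθ₁X3, eS3]
    · intro i hs s
      show θ₁ (YS f hs s) = DA f a (YS f hs s)
      rw [DA_YS]
      have hi : i = 1 ∨ i = 3 := by
        have := mem_S_cases [i] hs.mem
        simpa using this
      rcases hi with rfl | rfl
      · rw [hθ₁Y1, eS1]
      · rw [hθ₁Y3, eS3]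
    · intro i j hp t
      show θ₁ (XP f h2 hp t) = DA f a (XP f h2 hp t)
      rw [DA_XP]
      have hij : (i = 0 ∧ j = 5) ∨ (i = 2 ∧ j = 4) := by
        have := mem_S_cases [i, j] hp.mem
        simpa using this
      rcases hij with ⟨rfl, rfl⟩ | ⟨rfl, rfl⟩
      · rw [hθ₁X05, ea0]
      · rw [hθ₁X24, ea2]
    · intro i j hp t
      show θ₁ (YP f h2 hp t) = DA f a (YP f h2 hp t)
      rw [DA_YP]
      have hij : (i = 0 ∧ j = 5) ∨ (i = 2 ∧ j = 4) := by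
        have := mem_S_cases [i, j] hp.mem
        simpa using this
      rcases hij with ⟨rfl, rfl⟩ | ⟨rfl, rfl⟩
      · rw [hθ₁Y05, ea0]
      · rw [hθ₁Y24, ea2]
  have hfin' : θ₁ = DA f a := by
    apply MulEquiv.ext
    intro x
    exact DFunLike.congr_fun hfin x
  have e5 : θ = θ₁ * FA f hf σ05 := by
    rw [hθ₁, mul_assoc, ← map_mul]
    have : σ05.symm * σ05 = 1 := by
      ext t
      show σ05.symm (σ05 t) = t
      exact RingEquiv.symm_apply_apply σ05 t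
    rw [this, map_one, mul_one]
  rw [e5, hfin']

end Cfsg.Agent.Lead.Tw.E6
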