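import Mathlib
import Cfsg.Agent.Lib.Lead.TwE6AutE
import Cfsg.Agent.Lib.Lead.TwAutInj
import Cfsg.Agent.Lib.Helper2.OutCongr

/-!
# The outer automorphism group of `²E₆(q)`
-/

set_option autoImplicit false
set_option linter.unusedSectionVars false
set_option linter.unusedSimpArgs false
set_option linter.unusedVariables false
set_option linter.style.haveILetI false

namespace Cfsg.Agent.Lead.Tw.E6

open Cfsg Cfsg.Lie Cfsg.Agent.Lead.Chev Cfsg.Agent.Helper6.ChevC Cfsg.Agent.Helper6.SL2Hom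
  Cfsg.Agent.Helper6.ChevL Cfsg.Agent.Lead.Tw.AutRk1 Cfsg.Agent.Helper6.AutRank1 Cfsg.Agent.Lead.ZPM

variable {K : Type*} [Field K] [Fintype K] {q : ℕ} (hq : 1 < q) (hK : Fintype.card K = q ^ 2)
  (f : K ≃+* K) (hf : ∀ t, f t = t ^ q)
include hq hK hf

/-- **the inner automorphisms among the products of diagonal and field automorphisms** -/
theorem inner_of_diag_field (a : ↥(fixT f πe)) (ψ : K ≃+* K) (x : ↥(orthGroup hF (tw f) S))
    (h : DA f a * FA f hf ψ = MulAut.conj x) : ψ = 1 ∧ ∃ c : ↥(fixT f πe), a = tauH f c := by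
  have h2 := hff hq hK f hf
  have hmap : ∀ A : Subgroup ↥(orthGroup hF (tw f) S), A.map (MulAut.conj x).toMonoidHom =
      (A.map (FA f hf ψ).toMonoidHom).map (DA f a).toMonoidHom := by
    intro A
    rw [← h, Subgroup.map_map]
    rfl
  have hU : (U1 hF (tw f) S).map (MulAut.conj x).toMonoidHom = U1 hF (tw f) S := by
    rw [hmap, FA_U1, DA_U1]
  have hV : (V1 hF (tw f) S).map (MulAut.conj x).toMonoidHom = V1 hF (tw f) S := by
    rw [hmap, FA_V1, DA_V1]
  have hxH := (orthData f).mem_diagonal_of_normalizes (hSz hq hK f hf) (hCb hq hK f hf) x hU hV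
  have hx : (x : GL chevE6.Idx K) ∈ chevE6.diagonalSubgroup K ⊓ orthGroup hF (tw f) S :=
    Subgroup.mem_inf.2 ⟨hxH, x.2⟩
  rw [(orthData f).diagonal_inf_eq f πe (fun i => rfl) (fun i hi t => c_simple f i hi t)
    (fun i hi t => c_neg_simple f i hi t) hperm (hcm f) hcart hρs (hker f h2)] at hx
  obtain ⟨c₀, hc₀, hcx⟩ := hx
  set c : ↥(fixT f πe) := ⟨c₀, hc₀⟩ with hc
  have hxc : x = hT f c := Subtype.ext hcx.symm
  have h3 : DA f a * FA f hf ψ = DA f (tauH f c) := by
    rw [h, hxc, DA_tau]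
  set b : ↥(fixT f πe) := a⁻¹ * tauH f c with hb
  have h4 : FA f hf ψ = DA f b := by
    have e1 : DA f b = (DA f a)⁻¹ * DA f (tauH f c) := by
      rw [hb, DA_mul]
      congr 1
      exact map_inv (DAhom f) a
    rw [e1, ← h3, inv_mul_cancel_left]
  have key : ∀ t : K, ψ t = extC chevE6 b.1 0 * t := by
    intro t
    have e1 : FA f hf ψ (XP f h2 pair05 t) = DA f b (XP f h2 pair05 t) := by rw [h4]
    rw [FA_XP hq hK f hf, DA_XP] at e1
    exact XP_injective f h2 pair05 e1
  have hb0 : extC chevE6 b.1 0 = 1 := by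
    have := key 1
    rw [map_one, mul_one] at this
    exact this.symm
  have hψ : ψ = 1 := by
    apply RingEquiv.ext
    intro t
    rw [key t, hb0, one_mul]
    rfl
  refine ⟨hψ, c, ?_⟩
  rw [hψ, map_one, mul_one] at h3
  exact DA_injective f h3

/-- **the outer automorphism group of `²E₆(q)`** -/
theorem card_out (p e : ℕ) [Fact p.Prime] (hqp : q = p ^ e) :
    Nat.card (Cfsg.Out ↥(orthGroup hF (tw f) S)) = 2 * Nat.gcd 3 (q + 1) * e := by
  classical
  have h2 := hff hq hK f hf
  have hK' : Fintype.card K = p ^ (2 * e) := by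
    rw [hK, hqp, ← pow_mul, mul_comm]
  have hGal := Cfsg.Agent.Helper2.OutCongr.card_ringEquiv (F := K) (p := p) hK'
  haveI : Finite ↥(fixT f πe) := inferInstance
  set κ : ↥(fixT f πe) →* Cfsg.Out ↥(orthGroup hF (tw f) S) :=
    (QuotientGroup.mk' (Cfsg.Inn ↥(orthGroup hF (tw f) S))).comp (DAhom f) with hκ
  have hκ_apply : ∀ a, κ a = QuotientGroup.mk (DA f a) := fun a => rfl
  -- the kernel of `κ`
  have hkerκ : κ.ker = (tauH f).range := by
    ext a
    rw [MonoidHom.mem_ker, hκ_apply, QuotientGroup.eq_one_iff]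
    constructor
    · rintro ⟨x, hx⟩
      have h3 : DA f a * FA f hf 1 = MulAut.conj x := by
        rw [map_one, mul_one]
        exact hx.symm
      obtain ⟨-, c, hc⟩ := inner_of_diag_field hq hK f hf a 1 x h3
      exact ⟨c, hc.symm⟩
    · rintro ⟨c, rfl⟩
      exact ⟨hT f c, (DA_tau f c).symm⟩
  -- the kernel of the Cartan map
  have hkerτ : Nat.card ↥(tauH f).ker = Nat.gcd 3 (q + 1) := by
    rw [← card_kerT hq hK f hf]
    apply Nat.card_congr
    exact
      { toFun := fun c => ⟨c.1.1, c.1.2, by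
          have h3 := c.2
          rw [MonoidHom.mem_ker] at h3
          have h4 : zpv cartE6 (c.1.1 : Fin 6 → Kˣ) = 1 := congrArg Subtype.val h3
          exact (MonoidHom.mem_ker).1 ((mem_ker_iff c.1.1).2 h4)⟩
        invFun := fun c => ⟨⟨c.1, c.2.1⟩, by
          rw [MonoidHom.mem_ker]
          apply Subtype.ext
          exact (mem_ker_iff c.1).1 ((MonoidHom.mem_ker).2 c.2.2)⟩
        left_inv := fun c => rfl
        right_inv := fun c => rfl }
  -- the order of the image of `κ`
  have hrange : Nat.card ↥κ.range = Nat.gcd 3 (q + 1) := by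
    have e1 : Nat.card ↥(fixT f πe) = Nat.card ↥κ.range * Nat.card ↥κ.ker := by
      rw [Subgroup.card_eq_card_quotient_mul_card_subgroup κ.ker,
        Nat.card_congr (QuotientGroup.quotientKerEquivRange κ).toEquiv]
    have e2 : Nat.card ↥(fixT f πe) = Nat.card ↥(tauH f).range * Nat.card ↥(tauH f).ker := by
      rw [Subgroup.card_eq_card_quotient_mul_card_subgroup (tauH f).ker,
        Nat.card_congr (QuotientGroup.quotientKerEquivRange (tauH f)).toEquiv]
    rw [hkerκ, e2] at e1
    have hpos : 0 < Nat.card ↥(tauH f).range := Nat.card_pos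
    rw [← hkerτ]
    exact (Nat.eq_of_mul_eq_mul_left hpos (e1.trans (mul_comm _ _))).symm
  -- the bijection
  have hbij : Function.Bijective (fun p : ↥κ.range × (K ≃+* K) =>
      ((p.1 : Cfsg.Out ↥(orthGroup hF (tw f) S)) * QuotientGroup.mk (FA f hf p.2) :
        Cfsg.Out ↥(orthGroup hF (tw f) S))) := by
    constructor
    · rintro ⟨⟨d, a, rfl⟩, φ⟩ ⟨⟨d', a', rfl⟩, φ'⟩ h
      simp only [] at h
      rw [hκ_apply, hκ_apply, ← QuotientGroup.mk_mul, ← QuotientGroup.mk_mul, QuotientGroup.eq] at h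
      have h3 := (Cfsg.innNormal ↥(orthGroup hF (tw f) S)).conj_mem _ h (FA f hf φ)
      have e1 : FA f hf φ * ((DA f a * FA f hf φ)⁻¹ * (DA f a' * FA f hf φ')) * (FA f hf φ)⁻¹ =
          DA f (a⁻¹ * a') * FA f hf (φ' * φ⁻¹) := by
        rw [DA_mul, map_mul, map_inv]
        have : DA f a⁻¹ = (DA f a)⁻¹ := map_inv (DAhom f) a
        rw [this]
        group
      rw [e1] at h3
      obtain ⟨x, hx⟩ := h3
      obtain ⟨hψ, c, hc⟩ := inner_of_diag_field hq hK f hf (a⁻¹ * a') (φ' * φ⁻¹) x hx.symm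
      have hφ : φ' = φ := by
        have := mul_inv_eq_one.1 hψ
        exact this
      have hd : κ a = κ a' := by
        have h4 : a⁻¹ * a' ∈ κ.ker := by
          rw [hkerκ]
          exact ⟨c, hc.symm⟩
        rw [MonoidHom.mem_ker, map_mul, map_inv, inv_mul_eq_one] at h4
        exact h4
      rw [hφ]
      congr 1
      exact Subtype.ext hd
    · intro o
      obtain ⟨α, rfl⟩ := QuotientGroup.mk_surjective o
      obtain ⟨c, hU, hV⟩ := (orthData f).exists_normalize (hSz hq hK f hf) (hCb hq hK f hf) p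
        (sylow_U1 hq hK f hf p e hqp) α
      set θ : MulAut ↥(orthGroup hF (tw f) S) := MulAut.conj c * α with hθ
      have hmap : ∀ A : Subgroup ↥(orthGroup hF (tw f) S), A.map θ.toMonoidHom =
          (A.map α.toMonoidHom).map (MulAut.conj c).toMonoidHom := by
        intro A
        rw [Subgroup.map_map]
        rfl
      have hU' : (U1 hF (tw f) S).map θ.toMonoidHom = U1 hF (tw f) S := by rw [hmap, hU]
      have hV' : (V1 hF (tw f) S).map θ.toMonoidHom = V1 hF (tw f) S := by rw [hmap, hV]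
      obtain ⟨a, φ, haφ⟩ := exists_diag_field hq hK f hf θ hU' hV'
      refine ⟨(⟨κ a, a, rfl⟩, φ), ?_⟩
      simp only []
      have hα : α = (MulAut.conj c)⁻¹ * (DA f a * FA f hf φ) := by
        rw [← haφ, hθ, inv_mul_cancel_left]
      rw [hα, QuotientGroup.mk_mul, QuotientGroup.mk_mul]
      have h3 : (((MulAut.conj c)⁻¹ : MulAut ↥(orthGroup hF (tw f) S)) :
          Cfsg.Out ↥(orthGroup hF (tw f) S)) = 1 := by
        rw [QuotientGroup.eq_one_iff, ← map_inv]
        exact ⟨_, rfl⟩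
      rw [h3, one_mul]
      rfl
  rw [← Nat.card_eq_of_bijective _ hbij, Nat.card_prod, hrange, hGal]
  ring

end Cfsg.Agent.Lead.Tw.E6
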