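import Mathlib
import Cfsg.Agent.Lib.Lead.TwClsAutPar
import Cfsg.Agent.Lib.Lead.TwAutInj

/-!
# Automorphisms of the twisted groups given by class data: the elements normalising `U¹` and `V¹`
-/

set_option autoImplicit false
set_option linter.unusedSectionVars false
set_option linter.unusedSimpArgs false
set_option linter.unusedVariables false

namespace Cfsg.Agent.Lead.Tw

open Cfsg Cfsg.Lie Cfsg.Agent.Lead.Chev Cfsg.Agent.Helper6.AutAbs

variable {K : Type*} [Field K]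

section

variable {D : ChevalleyDatum} {hF : ChevFacts D K} {T : Twist D K hF.xadd}
  {S l₀ : List (List ℕ)} {G₁ : Subgroup (GL D.Idx K)} (h : ClsData hF T S l₀ G₁)
include h

/-- **an element of `G¹` normalising `U¹` and `V¹` lies in `H`** -/
theorem ClsData.mem_diagonal_of_normalizes [Fintype K] (hS : CorSize D) (hC : CorComb D) (g : ↥G₁)
    (hU : (CU1 D G₁).map (MulAut.conj g).toMonoidHom = CU1 D G₁)
    (hV : (CV1 D G₁).map (MulAut.conj g).toMonoidHom = CV1 D G₁) :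
    g ∈ CH1 D G₁ := by
  rw [mem_CH1]
  have hgB : g ∈ CB1 D G₁ := by
    rw [← h.normalizer_CU1 hS hC]
    exact mem_normalizer_of_map_conj _ _ hU
  rw [mem_CB1] at hgB
  obtain ⟨u, hu, d, hd, e⟩ := h.borel_decomp hS hC (g : GL D.Idx K) hgB g.2
  set uG : ↥G₁ := ⟨u, hu.2⟩ with huGdef
  set dG : ↥G₁ := ⟨d, hd.2⟩ with hdGdef
  have eg : g = uG * dG := Subtype.ext e
  have hVu : (CV1 D G₁).map (MulAut.conj uG).toMonoidHom = CV1 D G₁ := by
    have h1 := hV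
    rw [eg, ← map_conj_mul (CV1 D G₁) uG dG, h.map_conj_CV1_of_mem_diagonal dG hd.1] at h1
    exact h1
  -- the conjugate `n₀ u n₀⁻¹` lies in `V¹` and normalises `U¹`
  set u' : ↥G₁ := h.n₀ * uG * (h.n₀)⁻¹ with hu'
  have hu'V : u' ∈ CV1 D G₁ := by
    rw [← h.map_n₀_CU1]
    exact ⟨uG, (mem_CU1 _).2 hu.1, rfl⟩
  have hU1 : (CU1 D G₁).map (MulAut.conj (h.n₀)⁻¹).toMonoidHom = CV1 D G₁ := by
    rw [← h.map_n₀_CV1 hS, map_conj_mul, inv_mul_cancel]
    ext x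
    simp
  have hu'U : (CU1 D G₁).map (MulAut.conj u').toMonoidHom = CU1 D G₁ := by
    rw [hu', ← map_conj_mul (CU1 D G₁) (h.n₀ * uG) (h.n₀)⁻¹, hU1,
      ← map_conj_mul (CV1 D G₁) h.n₀ uG, hVu, h.map_n₀_CV1 hS]
  have hu'B : u' ∈ CB1 D G₁ := by
    rw [← h.normalizer_CU1 hS hC]
    exact mem_normalizer_of_map_conj _ _ hu'U
  have h1 : u' ∈ CB1 D G₁ ⊓ CV1 D G₁ := Subgroup.mem_inf.2 ⟨hu'B, hu'V⟩
  rw [CB1_inf_CV1 hF, Subgroup.mem_bot] at h1
  have huG1 : uG = 1 := by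
    have : uG = (h.n₀)⁻¹ * u' * h.n₀ := by
      rw [hu']
      group
    rw [this, h1]
    group
  have hu1 : u = 1 := congrArg Subtype.val huG1
  rw [e, hu1, one_mul]
  exact hd.1

/-- elements of `H¹` normalise `U¹` and `V¹` -/
theorem ClsData.map_conj_CU1_of_mem_CH1 (d : ↥G₁) (hd : d ∈ CH1 D G₁) :
    (CU1 D G₁).map (MulAut.conj d).toMonoidHom = CU1 D G₁ :=
  h.map_conj_CU1_of_mem_borel d (diagonal_le_borel D ((mem_CH1 d).1 hd))

theorem ClsData.map_conj_CV1_of_mem_CH1 (d : ↥G₁) (hd : d ∈ CH1 D G₁) :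
    (CV1 D G₁).map (MulAut.conj d).toMonoidHom = CV1 D G₁ :=
  h.map_conj_CV1_of_mem_diagonal d ((mem_CH1 d).1 hd)

/-- an automorphism preserving `U¹` and `V¹` preserves `H¹` -/
theorem ClsData.map_mem_CH1 [Fintype K] (hS : CorSize D) (hC : CorComb D) (θ : ↥G₁ ≃* ↥G₁)
    (hU : (CU1 D G₁).map θ.toMonoidHom = CU1 D G₁) (hV : (CV1 D G₁).map θ.toMonoidHom = CV1 D G₁)
    (d : ↥G₁) (hd : d ∈ CH1 D G₁) : θ d ∈ CH1 D G₁ := by
  apply h.mem_diagonal_of_normalizes hS hC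
  · have h1 := map_conj_map θ (CU1 D G₁) d
    rw [h.map_conj_CU1_of_mem_CH1 d hd, hU] at h1
    exact h1.symm
  · have h1 := map_conj_map θ (CV1 D G₁) d
    rw [h.map_conj_CV1_of_mem_CH1 d hd, hV] at h1
    exact h1.symm

end

end Cfsg.Agent.Lead.Tw
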