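import Mathlib
import Cfsg.Agent.Lib.Lead.IsoCalc
import Cfsg.Prelude.Def_LieTwisted

/-!
# Word identities in `F₄` in characteristic two for the automorphisms of the large Ree groups
-/

set_option autoImplicit false
set_option linter.unusedSimpArgs false

namespace Cfsg.Agent.Lead.MCalc

open Cfsg Cfsg.Lie

def f4M1_A : List (ℕ × LPoly) := [(25, [⟨1, 1, 0, 0, 0, 0, 0⟩]), (27, [⟨1, 0, 1, 0, 0, 0, 0⟩]), (28, [⟨1, 0, 0, 1, 0, 0, 0⟩]), (30, [⟨1, 0, 0, 0, 1, 0, 0⟩]), (25, [⟨1, 0, 0, 0, 0, 1, 0⟩]), (27, [⟨1, 0, 0, 0, 0, 0, 1⟩])]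

def f4M1_B : List (ℕ × LPoly) := [(25, [⟨1, 1, 0, 0, 0, 0, 0⟩, ⟨1, 0, 0, 0, 0, 1, 0⟩]), (27, [⟨1, 0, 1, 0, 0, 0, 0⟩, ⟨1, 0, 0, 0, 0, 0, 1⟩]), (28, [⟨1, 0, 0, 1, 0, 0, 0⟩, ⟨1, 0, 1, 0, 0, 1, 0⟩]), (30, [⟨1, 0, 0, 0, 1, 0, 0⟩, ⟨1, 0, 2, 0, 0, 1, 0⟩])]

theorem f4M1_chk : wordEqN 2 chevF4 f4M1_A f4M1_B = true := by decide +kernel

theorem f4M1 {K : Type*} [Field K] [CharP K 2] (x1 x2 x3 x4 x5 x6 : K) :
    chevF4.wordMat K [(25, x1), (27, x2), (28, x3), (30, x4), (25, x5), (27, x6)] =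
      chevF4.wordMat K [(25, x1 + x5), (27, x2 + x6), (28, x3 + x2 * x5), (30, x4 + x2 ^ 2 * x5)] := by
  have h := wordMat_eq_of_wordEqN 2 chevF4 (⟨x1, x2, x3, x4, x5, x6⟩ : Val K) f4M1_A f4M1_B f4M1_chk
  have e1 : evalWord (⟨x1, x2, x3, x4, x5, x6⟩ : Val K) f4M1_A =
      [(25, x1), (27, x2), (28, x3), (30, x4), (25, x5), (27, x6)] := by
    simp [evalWord, evalP, Term.eval, f4M1_A]
  have e2 : evalWord (⟨x1, x2, x3, x4, x5, x6⟩ : Val K) f4M1_B =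
      [(25, x1 + x5), (27, x2 + x6), (28, x3 + x2 * x5), (30, x4 + x2 ^ 2 * x5)] := by
    simp [evalWord, evalP, Term.eval, f4M1_B]
  rw [e1, e2] at h
  exact h

def f4M2_A : List (ℕ × LPoly) := [(25, [⟨1, 1, 0, 0, 0, 0, 0⟩]), (27, [⟨1, 0, 1, 0, 0, 0, 0⟩]), (28, [⟨1, 0, 0, 1, 0, 0, 0⟩]), (30, [⟨1, 0, 0, 0, 1, 0, 0⟩]), (28, [⟨1, 0, 0, 0, 0, 1, 0⟩]), (30, [⟨1, 0, 0, 0, 0, 0, 1⟩])]

def f4M2_B : List (ℕ × LPoly) := [(25, [⟨1, 1, 0, 0, 0, 0, 0⟩]), (27, [⟨1, 0, 1, 0, 0, 0, 0⟩]), (28, [⟨1, 0, 0, 1, 0, 0, 0⟩, ⟨1, 0, 0, 0, 0, 1, 0⟩]), (30, [⟨1, 0, 0, 0, 1, 0, 0⟩, ⟨1, 0, 0, 0, 0, 0, 1⟩])]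

theorem f4M2_chk : wordEqN 2 chevF4 f4M2_A f4M2_B = true := by decide +kernel

theorem f4M2 {K : Type*} [Field K] [CharP K 2] (x1 x2 x3 x4 x5 x6 : K) :
    chevF4.wordMat K [(25, x1), (27, x2), (28, x3), (30, x4), (28, x5), (30, x6)] =
      chevF4.wordMat K [(25, x1), (27, x2), (28, x3 + x5), (30, x4 + x6)] := by
  have h := wordMat_eq_of_wordEqN 2 chevF4 (⟨x1, x2, x3, x4, x5, x6⟩ : Val K) f4M2_A f4M2_B f4M2_chk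
  have e1 : evalWord (⟨x1, x2, x3, x4, x5, x6⟩ : Val K) f4M2_A =
      [(25, x1), (27, x2), (28, x3), (30, x4), (28, x5), (30, x6)] := by
    simp [evalWord, evalP, Term.eval, f4M2_A]
  have e2 : evalWord (⟨x1, x2, x3, x4, x5, x6⟩ : Val K) f4M2_B =
      [(25, x1), (27, x2), (28, x3 + x5), (30, x4 + x6)] := by
    simp [evalWord, evalP, Term.eval, f4M2_B]
  rw [e1, e2] at h
  exact h

end Cfsg.Agent.Lead.MCalc
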