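import Mathlib
import Cfsg.Agent.Lib.Lead.TwClsAutPar
import Cfsg.Agent.Lib.Lead.TwF4Perf
import Cfsg.Agent.Lib.Lead.TwF4AutId
import Cfsg.Agent.Lib.Lead.TwAutField
import Cfsg.Agent.Lib.Helper6.ChevLSL2

/-!
# Automorphisms of the large Ree groups: the elements of the root subgroups in `GL`, field automorphisms
-/

set_option autoImplicit false
set_option linter.unusedSectionVars false
set_option linter.unusedSimpArgs false
set_option linter.unusedVariables false

namespace Cfsg.Agent.Lead.Tw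

open Cfsg Cfsg.Lie Cfsg.Agent.Lead.Chev

variable {K : Type*} [Field K]

/-- conjugation of a word by `n_v`, in characteristic two -/
theorem nWordGL_conj_wordGL_two [CharP K 2] {D : ChevalleyDatum} (hF : ChevFacts D K) (v : List ℕ)
    (hv : ∀ i ∈ v, i < D.rank) (W : List (ℕ × K)) (hW : ∀ q ∈ W, q.1 < D.nroots) :
    nWordGL D hF.xadd v * wordGL D hF.xadd W * (nWordGL D hF.xadd v)⁻¹ =
      wordGL D hF.xadd (W.map fun q => (reflWord D v q.1, q.2)) := by
  induction W with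
  | nil => simp [wordGL_nil]
  | cons q W ih =>
    have hs : ((signWord D (etaOf D) v q.1 : ℤ) : K) = 1 := by
      rcases signWord_sq D (etaOf D) v (fun i hi s => (hF.nsimple i (hv i hi)).sign s) q.1 with h | h
      · rw [h, Int.cast_one]
      · rw [h, Int.cast_neg, Int.cast_one]
        have : (2 : K) = 0 := by
          have := CharP.cast_eq_zero K 2
          exact_mod_cast this
        linear_combination -this
    have key : nWordGL D hF.xadd v * xGL D hF.xadd q.1 q.2 * (nWordGL D hF.xadd v)⁻¹ =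
        xGL D hF.xadd (reflWord D v q.1) q.2 := by
      rw [nWordGL_conj D hF.xadd (etaOf D) hF.nsimple v hv q.1 (hW q List.mem_cons_self) q.2, hs, one_mul]
    rw [List.map_cons, wordGL_cons, wordGL_cons, ← ih fun q' hq' => hW q' (List.mem_cons_of_mem _ hq')]
    dsimp only
    rw [← key]
    group

/-- field automorphisms on words -/
theorem PhiD_wordGL {D : ChevalleyDatum} (hF : ChevFacts D K) (φ : K ≃+* K) (w : List (ℕ × K))
    (hw : ∀ q ∈ w, q.1 < D.nroots) :
    PhiD D φ (wordGL D hF.xadd w) = wordGL D hF.xadd (w.map fun q => (q.1, φ q.2)) := by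
  induction w with
  | nil => rw [wordGL_nil, map_one, List.map_nil, wordGL_nil]
  | cons q w ih =>
    rw [wordGL_cons, map_mul, PhiD_xGL hF φ q.1 (hw q List.mem_cons_self),
      ih (fun q' hq' => hw q' (List.mem_cons_of_mem _ hq')), List.map_cons, wordGL_cons]

namespace F4

open Cfsg.Agent.Helper6.ChevC Cfsg.Agent.Helper6.SL2Hom Cfsg.Agent.Helper6.ChevL Cfsg.Agent.Lead.Tw.AutRk1

theorem hSA : [0, 3] ∈ S := by decide

theorem hSB : [1, 2, 1, 2] ∈ S := by decide

theorem negschk : ∀ r < chevF4.nroots, chevF4.IsPosRoot r → chevF4.IsNegRoot (reflWord chevF4 [0, 3] r) →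
    ∃ i ∈ [0, 3], r = chevF4.simple i := by decide +kernel

/-- the pair class consists of orthogonal roots -/
theorem clsA : OrthClass chevF4 [0, 3] where
  nodup := by decide
  valid := by decide
  orth := by decide +kernel
  negs := fun r hr hn => negschk r hr.1 hr hn

theorem hoppchk : ∀ v ∈ S, ∀ r < chevF4.nroots, chevF4.IsPosRoot r → chevF4.IsNegRoot (reflWord chevF4 v r) →
    chevF4.IsPosRoot (reflWord chevF4 (wordOf l₀ ++ v) r) ∧
      chevF4.IsNegRoot (reflWord chevF4 v (reflWord chevF4 (wordOf l₀ ++ v) r)) := by decide +kernel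

theorem simple_vals : chevF4.simple 0 = 33 ∧ chevF4.simple 3 = 24 ∧ chevF4.simple 1 = 27 ∧ chevF4.simple 2 = 25 := by
  decide +kernel

theorem neg_vals : chevF4.neg 33 = 14 ∧ chevF4.neg 24 = 23 ∧ chevF4.neg 27 = 20 ∧ chevF4.neg 25 = 22 ∧
    chevF4.neg 28 = 19 ∧ chevF4.neg 30 = 17 := by decide +kernel

theorem refl_vals : reflWord chevF4 [0, 3] 33 = 14 ∧ reflWord chevF4 [0, 3] 24 = 23 ∧
    reflWord chevF4 [1, 2, 1, 2] 27 = 20 ∧ reflWord chevF4 [1, 2, 1, 2] 25 = 22 ∧
    reflWord chevF4 [1, 2, 1, 2] 28 = 19 ∧ reflWord chevF4 [1, 2, 1, 2] 30 = 17 := by decide +kernel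

/-! ### the elements -/

/-- `x_A(t)` -/
noncomputable def xA (m : ℕ) (t : K) : GL chevF4.Idx K :=
  wordGL chevF4 hF.xadd (f4PairWord (2 ^ m) f4p1 f4p4 t)

/-- `x_{-A}(t)` -/
noncomputable def yA (m : ℕ) (t : K) : GL chevF4.Idx K :=
  wordGL chevF4 hF.xadd (f4PairWord (2 ^ m) f4m1 f4m4 t)

/-- `x_B(t,u)` -/
noncomputable def xB (m : ℕ) (t u : K) : GL chevF4.Idx K :=
  wordGL chevF4 hF.xadd (b2ClassWord (2 ^ m) f4a f4b f4ab f4aab t u)

/-- `x_{-B}(t,u)` -/
noncomputable def yB (m : ℕ) (t u : K) : GL chevF4.Idx K :=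
  wordGL chevF4 hF.xadd (b2ClassWord (2 ^ m) f4ma f4mb f4mab f4maab t u)

/-- the parameters of the pair class -/
def paf (m : ℕ) (t : K) : ℕ → K := fun k => if k = 0 then t ^ 2 ^ m else t

theorem xA_eq (m : ℕ) (t : K) :
    xA m t = xGL chevF4 hF.xadd 33 (t ^ 2 ^ m) * xGL chevF4 hF.xadd 24 t := by
  unfold xA f4PairWord f4p1 f4p4
  rw [wordGL_cons, wordGL_singleton]

theorem yA_eq (m : ℕ) (t : K) :
    yA m t = xGL chevF4 hF.xadd 14 (t ^ 2 ^ m) * xGL chevF4 hF.xadd 23 t := by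
  unfold yA f4PairWord f4m1 f4m4
  rw [wordGL_cons, wordGL_singleton]

theorem xs_paf (m : ℕ) (φ : ℕ → K) :
    xs (hF (K := K)) [0, 3] φ = xGL chevF4 hF.xadd 33 (φ 0) * xGL chevF4 hF.xadd 24 (φ 3) := by
  unfold xs
  simp only [List.map_cons, List.map_nil, List.prod_cons, List.prod_nil, mul_one]
  rw [simple_vals.1, simple_vals.2.1]

theorem ys_paf (m : ℕ) (φ : ℕ → K) :
    ys (hF (K := K)) [0, 3] φ = xGL chevF4 hF.xadd 14 (φ 0) * xGL chevF4 hF.xadd 23 (φ 3) := by
  unfold ys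
  simp only [List.map_cons, List.map_nil, List.prod_cons, List.prod_nil, mul_one]
  rw [simple_vals.1, simple_vals.2.1, neg_vals.1, neg_vals.2.1]

theorem xA_eq_xs (m : ℕ) (t : K) : xA m t = xs (hF (K := K)) [0, 3] (paf m t) := by
  rw [xA_eq, xs_paf m]
  simp [paf]

theorem yA_eq_ys (m : ℕ) (t : K) : yA m t = ys (hF (K := K)) [0, 3] (paf m t) := by
  rw [yA_eq, ys_paf m]
  simp [paf]

/-! ### the class of type `B₂`: normal form and multiplication -/

section char2

variable [CharP K 2]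

/-- the normal form of the elements of the class of type `B₂` -/
noncomputable def bN (m : ℕ) (t u : K) : GL chevF4.Idx K :=
  wordGL chevF4 hF.xadd [(25, t), (27, t ^ 2 ^ m), (28, u), (30, u ^ (2 * 2 ^ m) + (t ^ 2 ^ m) ^ 2 * t)]

theorem xB_eq_bN (m : ℕ) (t u : K) : xB m t u = bN m t u := by
  unfold xB bN
  rw [b2_normal]
  have e : t ^ (2 ^ m + 1) + u + t ^ 2 ^ m * t = u := by
    rw [pow_succ]
    linear_combination add_self (t ^ 2 ^ m * t)
  rw [e]

/-- the coordinates of a product -/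
theorem bN_mul (m : ℕ) (t u t' u' : K) :
    bN m t u * bN m t' u' =
      wordGL chevF4 hF.xadd [(25, t + t'), (27, t ^ 2 ^ m + t' ^ 2 ^ m), (28, u + t ^ 2 ^ m * t' + u'),
        (30, u ^ (2 * 2 ^ m) + (t ^ 2 ^ m) ^ 2 * t + (t ^ 2 ^ m) ^ 2 * t' +
          (u' ^ (2 * 2 ^ m) + (t' ^ 2 ^ m) ^ 2 * t'))] := by
  unfold bN
  rw [← wordGL_append]
  have e1 : [(25, t), (27, t ^ 2 ^ m), (28, u), (30, u ^ (2 * 2 ^ m) + (t ^ 2 ^ m) ^ 2 * t)] ++
      [(25, t'), (27, t' ^ 2 ^ m), (28, u'), (30, u' ^ (2 * 2 ^ m) + (t' ^ 2 ^ m) ^ 2 * t')] =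
      [(25, t), (27, t ^ 2 ^ m), (28, u), (30, u ^ (2 * 2 ^ m) + (t ^ 2 ^ m) ^ 2 * t), (25, t'),
        (27, t' ^ 2 ^ m)] ++ [(28, u'), (30, u' ^ (2 * 2 ^ m) + (t' ^ 2 ^ m) ^ 2 * t')] := rfl
  rw [e1, wordGL_append, wordGL_congr_val _ _ (MCalc.f4M1 t (t ^ 2 ^ m) u
    (u ^ (2 * 2 ^ m) + (t ^ 2 ^ m) ^ 2 * t) t' (t' ^ 2 ^ m)), ← wordGL_append]
  exact wordGL_congr_val _ _ (MCalc.f4M2 _ _ _ _ _ _)

/-! ### conjugation by the representatives of the reflections -/

theorem conj_sA_xA (m : ℕ) (t : K) :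
    nWordGL chevF4 (hF (K := K)).xadd [0, 3] * xA m t * (nWordGL chevF4 (hF (K := K)).xadd [0, 3])⁻¹ = yA m t := by
  unfold xA yA
  rw [nWordGL_conj_wordGL_two hF [0, 3] (by decide)]
  · simp only [f4PairWord, f4p1, f4p4, f4m1, f4m4, List.map_cons, List.map_nil]
    rw [refl_vals.1, refl_vals.2.1]
  · intro q hq
    simp only [f4PairWord, f4p1, f4p4, List.mem_cons, List.not_mem_nil, or_false] at hq
    rcases hq with rfl | rfl <;> dsimp only <;> decide

theorem conj_sB_xB (m : ℕ) (t u : K) :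
    nWordGL chevF4 (hF (K := K)).xadd [1, 2, 1, 2] * xB m t u *
      (nWordGL chevF4 (hF (K := K)).xadd [1, 2, 1, 2])⁻¹ = yB m t u := by
  unfold xB yB
  rw [nWordGL_conj_wordGL_two hF [1, 2, 1, 2] (by decide)]
  · simp only [b2ClassWord, f4a, f4b, f4ab, f4aab, f4ma, f4mb, f4mab, f4maab, List.map_cons, List.map_nil]
    rw [refl_vals.2.2.1, refl_vals.2.2.2.1, refl_vals.2.2.2.2.1, refl_vals.2.2.2.2.2]
  · intro q hq
    simp only [b2ClassWord, f4a, f4b, f4ab, f4aab, List.mem_cons, List.not_mem_nil, or_false] at hq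
    rcases hq with rfl | rfl | rfl | rfl <;> dsimp only <;> decide

/-! ### the rank-one structure of the pair class -/

theorem rankOne_A_GL (m : ℕ) : RankOne (xA (K := K) m) (yA (K := K) m) := by
  have R0 := comp_ringHom (iterateFrobenius K 2 m) (rankOne_simple (hF (K := K)) diag2_F4 0 (by decide))
  have R3 := rankOne_simple (hF (K := K)) diag2_F4 3 (by decide)
  have lt : ∀ i < 4, chevF4.simple i < chevF4.nroots := fun i hi => (hF (K := K)).simple_lt i hi
  have nlt : ∀ i < 4, chevF4.neg (chevF4.simple i) < chevF4.nroots :=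
    fun i hi => (hF (K := K)).neg_simple_lt i hi
  have o03 := clsA.orth 0 (by simp) 3 (by simp) (by norm_num)
  have RA := mul R0 R3
    (fun t u => xGL_commute hF _ _ (lt 0 (by norm_num)) (lt 3 (by norm_num)) o03.1 _ _)
    (fun t u => xGL_commute hF _ _ (lt 0 (by norm_num)) (nlt 3 (by norm_num)) o03.2.1 _ _)
    (fun t u => xGL_commute hF _ _ (nlt 0 (by norm_num)) (lt 3 (by norm_num)) o03.2.2.1 _ _)
    (fun t u => xGL_commute hF _ _ (nlt 0 (by norm_num)) (nlt 3 (by norm_num)) o03.2.2.2 _ _)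
  have eX : (fun t : K => xGL chevF4 (hF (K := K)).xadd (chevF4.simple 0) (iterateFrobenius K 2 m t) *
      xGL chevF4 (hF (K := K)).xadd (chevF4.simple 3) t) = xA m := by
    funext t
    rw [xA_eq, iterateFrobenius_def, simple_vals.1, simple_vals.2.1]
  have eY : (fun t : K => xGL chevF4 (hF (K := K)).xadd (chevF4.neg (chevF4.simple 0))
      (iterateFrobenius K 2 m t) * xGL chevF4 (hF (K := K)).xadd (chevF4.neg (chevF4.simple 3)) t) = yA m := by
    funext t
    rw [yA_eq, iterateFrobenius_def, simple_vals.1, simple_vals.2.1, neg_vals.1, neg_vals.2.1]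
  rw [← eX, ← eY]
  exact RA

/-- the torus elements of the pair class -/
theorem hhA_GL (m : ℕ) (s : K) :
    hh (xA (K := K) m) (yA (K := K) m) s =
      hGLt chevF4 (hF (K := K)).xadd 33 (s ^ 2 ^ m) * hGLt chevF4 (hF (K := K)).xadd 24 s := by
  unfold hh nn
  have e1 : xA m s = xs hF [0, 3] (paf m s) := xA_eq_xs m s
  have e2 : yA m (-s⁻¹) = ys hF [0, 3] (fun k => -(paf m s k)⁻¹) := by
    rw [yA_eq_ys]
    apply ys_congr
    intro k hk
    unfold paf
    split_ifs
    · rw [neg_eq, neg_eq, inv_pow]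
    · rfl
  have e3 : xA m (1 : K) = xs hF [0, 3] (fun _ => (1 : K)) := by
    rw [xA_eq_xs]
    apply xs_congr
    intro k hk
    unfold paf
    split_ifs
    · exact one_pow _
    · rfl
  have e4 : yA m (-1 : K) = ys hF [0, 3] (fun _ => (-1 : K)) := by
    rw [yA_eq_ys]
    apply ys_congr
    intro k hk
    unfold paf
    split_ifs
    · rw [neg_eq, one_pow]
    · rfl
  rw [e1, e2, e3, e4, ← nWordGL_eq_xs hF clsA, xs_ys_xs hF clsA, mul_inv_cancel_right]
  simp only [List.map_cons, List.map_nil, List.prod_cons, List.prod_nil, mul_one]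
  rw [simple_vals.1, simple_vals.2.1]
  simp [paf]

end char2

/-! ### field automorphisms -/

theorem pairWord_lt (e r r' : ℕ) (hr : r < chevF4.nroots) (hr' : r' < chevF4.nroots) (t : K) :
    ∀ q ∈ f4PairWord e r r' t, q.1 < chevF4.nroots := by
  intro q hq
  simp only [f4PairWord, List.mem_cons, List.not_mem_nil, or_false] at hq
  rcases hq with rfl | rfl <;> assumption

theorem b2Word_lt (e a b ab aab : ℕ) (ha : a < chevF4.nroots) (hb : b < chevF4.nroots)
    (hab : ab < chevF4.nroots) (haab : aab < chevF4.nroots) (t u : K) :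
    ∀ q ∈ b2ClassWord e a b ab aab t u, q.1 < chevF4.nroots := by
  intro q hq
  simp only [b2ClassWord, List.mem_cons, List.not_mem_nil, or_false] at hq
  rcases hq with rfl | rfl | rfl | rfl <;> assumption

theorem PhiD_pair (φ : K ≃+* K) (e r r' : ℕ) (hr : r < chevF4.nroots) (hr' : r' < chevF4.nroots) (t : K) :
    PhiD chevF4 φ (wordGL chevF4 hF.xadd (f4PairWord e r r' t)) =
      wordGL chevF4 hF.xadd (f4PairWord e r r' (φ t)) := by
  rw [PhiD_wordGL hF φ _ (pairWord_lt e r r' hr hr' t)]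
  congr 1
  simp [f4PairWord, map_pow]

theorem PhiD_b2 (φ : K ≃+* K) (e a b ab aab : ℕ) (ha : a < chevF4.nroots) (hb : b < chevF4.nroots)
    (hab : ab < chevF4.nroots) (haab : aab < chevF4.nroots) (t u : K) :
    PhiD chevF4 φ (wordGL chevF4 hF.xadd (b2ClassWord e a b ab aab t u)) =
      wordGL chevF4 hF.xadd (b2ClassWord e a b ab aab (φ t) (φ u)) := by
  rw [PhiD_wordGL hF φ _ (b2Word_lt e a b ab aab ha hb hab haab t u)]
  congr 1
  simp [b2ClassWord, map_pow, map_add]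

theorem PhiD_mem (φ : K ≃+* K) (e : ℕ) {g : GL chevF4.Idx K} (hg : g ∈ twistedF4 K e) :
    PhiD chevF4 φ g ∈ twistedF4 K e := by
  have hle : (twistedF4 K e).map (PhiD chevF4 φ).toMonoidHom ≤ twistedF4 K e := by
    unfold twistedF4 ChevalleyDatum.genSubgroup
    rw [MonoidHom.map_closure, Subgroup.closure_le]
    rintro _ ⟨g, ⟨w, hw, hgw⟩, rfl⟩
    apply Subgroup.subset_closure
    have hg' : g = wordGL chevF4 hF.xadd w := Units.ext (by rw [hgw, wordGL_val])
    rcases hw with ⟨t, rfl | rfl⟩ | ⟨t, u, rfl | rfl⟩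
    · refine ⟨f4PairWord e f4p1 f4p4 (φ t), Or.inl ⟨_, Or.inl rfl⟩, ?_⟩
      show ((PhiD chevF4 φ g : GL chevF4.Idx K) : Matrix chevF4.Idx chevF4.Idx K) = _
      rw [hg', PhiD_pair φ e _ _ (by decide) (by decide), wordGL_val]
    · refine ⟨f4PairWord e f4m1 f4m4 (φ t), Or.inl ⟨_, Or.inr rfl⟩, ?_⟩
      show ((PhiD chevF4 φ g : GL chevF4.Idx K) : Matrix chevF4.Idx chevF4.Idx K) = _
      rw [hg', PhiD_pair φ e _ _ (by decide) (by decide), wordGL_val]
    · refine ⟨b2ClassWord e f4a f4b f4ab f4aab (φ t) (φ u), Or.inr ⟨_, _, Or.inl rfl⟩, ?_⟩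
      show ((PhiD chevF4 φ g : GL chevF4.Idx K) : Matrix chevF4.Idx chevF4.Idx K) = _
      rw [hg', PhiD_b2 φ e _ _ _ _ (by decide) (by decide) (by decide) (by decide), wordGL_val]
    · refine ⟨b2ClassWord e f4ma f4mb f4mab f4maab (φ t) (φ u), Or.inr ⟨_, _, Or.inr rfl⟩, ?_⟩
      show ((PhiD chevF4 φ g : GL chevF4.Idx K) : Matrix chevF4.Idx chevF4.Idx K) = _
      rw [hg', PhiD_b2 φ e _ _ _ _ (by decide) (by decide) (by decide) (by decide), wordGL_val]
  exact hle ⟨g, hg, rfl⟩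

/-- the endomorphism of the Ree group induced by a field automorphism -/
noncomputable def fieldHom (e : ℕ) (φ : K ≃+* K) : ↥(twistedF4 K e) →* ↥(twistedF4 K e) :=
  ((PhiD chevF4 φ).toMonoidHom.comp (twistedF4 K e).subtype).codRestrict (twistedF4 K e)
    (fun g => PhiD_mem φ e g.2)

theorem fieldHom_coe (e : ℕ) (φ : K ≃+* K) (g : ↥(twistedF4 K e)) :
    ((fieldHom e φ g : ↥(twistedF4 K e)) : GL chevF4.Idx K) = PhiD chevF4 φ (g : GL chevF4.Idx K) := rfl

/-- the automorphism of the Ree group induced by a field automorphism -/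
noncomputable def FA (e : ℕ) : (K ≃+* K) →* MulAut ↥(twistedF4 K e) where
  toFun φ :=
    { toFun := fieldHom e φ
      invFun := fieldHom e φ.symm
      left_inv := by
        intro g
        apply Subtype.ext
        rw [fieldHom_coe, fieldHom_coe, PhiD_PhiD, RingEquiv.self_trans_symm, PhiD_refl]
      right_inv := by
        intro g
        apply Subtype.ext
        rw [fieldHom_coe, fieldHom_coe, PhiD_PhiD, RingEquiv.symm_trans_self, PhiD_refl]
      map_mul' := map_mul _ }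
  map_one' := by
    apply MulEquiv.ext
    intro g
    apply Subtype.ext
    exact PhiD_refl _
  map_mul' := by
    intro φ ψ
    apply MulEquiv.ext
    intro g
    apply Subtype.ext
    show PhiD chevF4 (φ * ψ) (g : GL chevF4.Idx K) = PhiD chevF4 φ (PhiD chevF4 ψ (g : GL chevF4.Idx K))
    rw [PhiD_PhiD]
    rfl

theorem FA_coe (e : ℕ) (φ : K ≃+* K) (g : ↥(twistedF4 K e)) :
    ((FA e φ g : ↥(twistedF4 K e)) : GL chevF4.Idx K) = PhiD chevF4 φ (g : GL chevF4.Idx K) := rfl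

/-- field automorphisms preserve `U¹` -/
theorem FA_CU1 (e : ℕ) (φ : K ≃+* K) :
    (CU1 chevF4 (twistedF4 K e)).map (FA e φ).toMonoidHom = CU1 chevF4 (twistedF4 K e) := by
  apply le_antisymm
  · rintro _ ⟨x, hx, rfl⟩
    rw [SetLike.mem_coe, mem_CU1] at hx
    rw [mem_CU1]
    exact PhiD_mem_posUnipotent hF φ _ hx
  · intro x hx
    rw [mem_CU1] at hx
    refine ⟨FA e φ.symm x, ?_, ?_⟩
    · rw [SetLike.mem_coe, mem_CU1]
      exact PhiD_mem_posUnipotent hF φ.symm _ hx
    · apply Subtype.ext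
      show PhiD chevF4 φ (PhiD chevF4 φ.symm (x : GL chevF4.Idx K)) = x
      rw [PhiD_PhiD, RingEquiv.symm_trans_self, PhiD_refl]

/-- field automorphisms preserve `V¹` -/
theorem FA_CV1 (e : ℕ) (φ : K ≃+* K) :
    (CV1 chevF4 (twistedF4 K e)).map (FA e φ).toMonoidHom = CV1 chevF4 (twistedF4 K e) := by
  apply le_antisymm
  · rintro _ ⟨x, hx, rfl⟩
    rw [SetLike.mem_coe, mem_CV1] at hx
    rw [mem_CV1]
    exact PhiD_mem_negUnipotent hF φ _ hx
  · intro x hx
    rw [mem_CV1] at hx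
    refine ⟨FA e φ.symm x, ?_, ?_⟩
    · rw [SetLike.mem_coe, mem_CV1]
      exact PhiD_mem_negUnipotent hF φ.symm _ hx
    · apply Subtype.ext
      show PhiD chevF4 φ (PhiD chevF4 φ.symm (x : GL chevF4.Idx K)) = x
      rw [PhiD_PhiD, RingEquiv.symm_trans_self, PhiD_refl]

end F4

end Cfsg.Agent.Lead.Tw
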