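import Mathlib
import Cfsg.Agent.Lib.Lead.TwF4AutA
import Cfsg.Agent.Lib.Lead.TwReeOrder

/-!
# Automorphisms of the large Ree groups: the root subgroups in the group
-/

set_option autoImplicit false
set_option linter.unusedSectionVars false
set_option linter.unusedSimpArgs false
set_option linter.unusedVariables false

namespace Cfsg.Agent.Lead.Tw.F4

open Cfsg Cfsg.Lie Cfsg.Agent.Lead.Chev Cfsg.Agent.Helper6.ChevC Cfsg.Agent.Helper6.SL2Hom
  Cfsg.Agent.Helper6.ChevL Cfsg.Agent.Lead.Tw.AutRk1 Cfsg.Agent.Helper6.AutAbs Cfsg.Agent.Helper6.AutRank1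

variable {K : Type*} [Field K] [Fintype K] [CharP K 2] {m : ℕ}

/-! ### the parametrisations -/

/-- `x_A(t)` in the group -/
noncomputable def XA (m : ℕ) (t : K) : ↥(twistedF4 K (2 ^ m)) := ⟨xA m t, gen_mem _ (pair_pos_mem t)⟩

/-- `x_{-A}(t)` in the group -/
noncomputable def YA (m : ℕ) (t : K) : ↥(twistedF4 K (2 ^ m)) := ⟨yA m t, gen_mem _ (pair_neg_mem t)⟩

/-- `x_B(t,u)` in the group -/
noncomputable def XB (m : ℕ) (t u : K) : ↥(twistedF4 K (2 ^ m)) := ⟨xB m t u, gen_mem _ (b2_pos_mem t u)⟩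

/-- `x_{-B}(t,u)` in the group -/
noncomputable def YB (m : ℕ) (t u : K) : ↥(twistedF4 K (2 ^ m)) := ⟨yB m t u, gen_mem _ (b2_neg_mem t u)⟩

theorem XA_coe (t : K) : ((XA m t : ↥(twistedF4 K (2 ^ m))) : GL chevF4.Idx K) = xA m t := rfl

theorem YA_coe (t : K) : ((YA m t : ↥(twistedF4 K (2 ^ m))) : GL chevF4.Idx K) = yA m t := rfl

theorem XB_coe (t u : K) : ((XB m t u : ↥(twistedF4 K (2 ^ m))) : GL chevF4.Idx K) = xB m t u := rfl

theorem YB_coe (t u : K) : ((YB m t u : ↥(twistedF4 K (2 ^ m))) : GL chevF4.Idx K) = yB m t u := rfl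

/-- the rank-one structure of the pair class -/
theorem rankOne_A : RankOne (XA (K := K) m) (YA (K := K) m) :=
  rankOne_of_injective (twistedF4 K (2 ^ m)).subtype Subtype.val_injective (rankOne_A_GL m)

theorem xA_mem_negPart (t : K) : xA m t ∈ negPart chevF4 (hF (K := K)).xadd [0, 3] := by
  show wordGL chevF4 hF.xadd [(33, t ^ 2 ^ m), (24, t)] ∈ _
  rw [← pair_comm_pos]
  exact mem_negPart_pair _ _

theorem xB_mem_negPart (t u : K) : xB m t u ∈ negPart chevF4 (hF (K := K)).xadd [1, 2, 1, 2] := by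
  rw [xB_eq_bN]
  exact mem_negPart_b2 _ _ _ _

theorem XA_mem (t : K) : XA m t ∈ CXp hF (twistedF4 K (2 ^ m)) [0, 3] :=
  (mem_CXp _ _).2 (xA_mem_negPart t)

theorem XB_mem (t u : K) : XB m t u ∈ CXp hF (twistedF4 K (2 ^ m)) [1, 2, 1, 2] :=
  (mem_CXp _ _).2 (xB_mem_negPart t u)

theorem XA_injective : Function.Injective (XA (K := K) m) := by
  intro t t' h
  have h1 : xA m t = xA m t' := congrArg Subtype.val h
  have h2 : wordGL chevF4 hF.xadd [(33, t ^ 2 ^ m), (24, t)] =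
      wordGL chevF4 hF.xadd [(33, t' ^ 2 ^ m), (24, t')] := h1
  rw [← pair_comm_pos, ← pair_comm_pos] at h2
  exact (inj_pair _ _ _ _ h2).1

theorem XB_injective (t u t' u' : K) (h : XB m t u = XB m t' u') : t = t' ∧ u = u' := by
  have h1 : xB m t u = xB m t' u' := congrArg Subtype.val h
  rw [xB_eq_bN, xB_eq_bN] at h1
  obtain ⟨k1, -, k3, -⟩ := inj_b2 _ _ _ _ _ _ _ _ h1
  exact ⟨k1, k3⟩

theorem XA_zero : XA m (0 : K) = 1 := rankOne_A.x_zero

theorem XA_add (t u : K) : XA m t * XA m u = XA m (t + u) := rankOne_A.xadd t u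

theorem hND_A (s c : K) (h : XA m s = YA m c) : s = 0 := by
  have h1 := congrArg Subtype.val h
  rw [XA_coe, YA_coe] at h1
  have hU : xA m s ∈ chevF4.posUnipotent K := (hF (K := K)).negPart_le_posUnipotent _ (xA_mem_negPart s)
  have hV : yA m c ∈ chevF4.negUnipotent K := by
    rw [yA_eq_ys]
    exact ys_mem_negUnipotent hF _ clsA.valid _
  rw [← h1] at hV
  have h2 := ChevFacts'.eq_one_of_mem_pos_of_mem_neg hF _ hU hV
  apply XA_injective (m := m)
  rw [XA_zero]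
  exact Subtype.ext h2

/-- the multiplication in the class of type `B₂` -/
theorem XB_mul_of_exists (t u t' u' t'' u'' : K) (h : XB m t u * XB m t' u' = XB m t'' u'') :
    t'' = t + t' ∧ u'' = u + t ^ 2 ^ m * t' + u' := by
  have h1 := congrArg Subtype.val h
  rw [Subgroup.coe_mul, XB_coe, XB_coe, XB_coe, xB_eq_bN, xB_eq_bN, xB_eq_bN, bN_mul] at h1
  obtain ⟨k1, -, k3, -⟩ := inj_b2 _ _ _ _ _ _ _ _ h1
  exact ⟨k1.symm, k3.symm⟩

variable (hK : Fintype.card K = 2 ^ (2 * m + 1))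
  (hperf : ∀ x : K, ∃ y : K, y ^ 2 = x) (f : K ≃+* K) (hf : ∀ t, f t = t ^ (2 ^ m))
include hK hperf hf

theorem exists_XA (g : ↥(twistedF4 K (2 ^ m))) (hg : g ∈ CXp hF (twistedF4 K (2 ^ m)) [0, 3]) :
    ∃ t : K, g = XA m t := by
  have hcl := clsData hK hperf f hf
  obtain ⟨t, ht⟩ := fix_pair hK hperf f hf (g : GL chevF4.Idx K) ((mem_CXp _ _).1 hg) (hcl.fixed _ g.2)
  exact ⟨t, Subtype.ext ht⟩

theorem exists_XB (g : ↥(twistedF4 K (2 ^ m))) (hg : g ∈ CXp hF (twistedF4 K (2 ^ m)) [1, 2, 1, 2]) :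
    ∃ t u : K, g = XB m t u := by
  have hcl := clsData hK hperf f hf
  obtain ⟨t, u, ht⟩ := fix_b2 hK hperf f hf (g : GL chevF4.Idx K) ((mem_CXp _ _).1 hg) (hcl.fixed _ g.2)
  exact ⟨t, u, Subtype.ext ht⟩

theorem XB_mul (t u t' u' : K) :
    XB m t u * XB m t' u' = XB m (t + t') (u + t ^ 2 ^ m * t' + u') := by
  obtain ⟨t'', u'', e⟩ := exists_XB hK hperf f hf _ (mul_mem (XB_mem t u) (XB_mem t' u'))
  obtain ⟨e1, e2⟩ := XB_mul_of_exists t u t' u' t'' u'' e
  rw [e, e1, e2]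

omit hK hperf hf in
theorem XB_zero : XB m (0 : K) 0 = 1 := by
  apply Subtype.ext
  rw [XB_coe, Subgroup.coe_one]
  unfold xB
  have h0 : (0 : K) ^ 2 ^ m = 0 := zero_pow (pow_ne_zero _ (by norm_num))
  have h1 : (0 : K) ^ (2 ^ m + 1) = 0 := zero_pow (Nat.succ_ne_zero _)
  have h2 : (0 : K) ^ (2 * 2 ^ m) = 0 := zero_pow (by positivity)
  show wordGL chevF4 hF.xadd [(f4a, (0 : K) ^ 2 ^ m), (f4b, 0), (f4ab, (0 : K) ^ (2 ^ m + 1) + 0),
    (f4aab, (0 : K) ^ (2 * 2 ^ m))] = 1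
  rw [h0, h1, h2, add_zero]
  exact wordGL_zeros4 _ _ _ _

/-! ### the negative root subgroups -/

/-- the representative of the reflection of the pair class -/
noncomputable def sA : ↥(twistedF4 K (2 ^ m)) := (clsData hK hperf f hf).sG [0, 3] hSA

/-- the representative of the reflection of the class of type `B₂` -/
noncomputable def sB : ↥(twistedF4 K (2 ^ m)) := (clsData hK hperf f hf).sG [1, 2, 1, 2] hSB

theorem conj_sA_XA (t : K) :
    sA hK hperf f hf * XA m t * (sA hK hperf f hf)⁻¹ = YA m t := by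
  apply Subtype.ext
  simp only [Subgroup.coe_mul, Subgroup.coe_inv, XA_coe, YA_coe]
  exact conj_sA_xA m t

theorem conj_sB_XB (t u : K) :
    sB hK hperf f hf * XB m t u * (sB hK hperf f hf)⁻¹ = YB m t u := by
  apply Subtype.ext
  simp only [Subgroup.coe_mul, Subgroup.coe_inv, XB_coe, YB_coe]
  exact conj_sB_xB m t u

theorem YA_mem (t : K) : YA m t ∈ (clsData hK hperf f hf).CXn [0, 3] hSA :=
  ⟨XA m t, XA_mem t, conj_sA_XA hK hperf f hf t⟩

theorem YB_mem (t u : K) : YB m t u ∈ (clsData hK hperf f hf).CXn [1, 2, 1, 2] hSB :=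
  ⟨XB m t u, XB_mem t u, conj_sB_XB hK hperf f hf t u⟩

theorem exists_YA (g : ↥(twistedF4 K (2 ^ m))) (hg : g ∈ (clsData hK hperf f hf).CXn [0, 3] hSA) :
    ∃ t : K, g = YA m t := by
  obtain ⟨x, hx, rfl⟩ := hg
  obtain ⟨t, rfl⟩ := exists_XA hK hperf f hf x hx
  exact ⟨t, conj_sA_XA hK hperf f hf t⟩

theorem YA_injective : Function.Injective (YA (K := K) m) := by
  intro t t' h
  rw [← conj_sA_XA hK hperf f hf, ← conj_sA_XA hK hperf f hf] at h
  exact XA_injective (mul_left_cancel (mul_right_cancel h))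

/-! ### the orders of the root subgroups -/

theorem card_CXp_A : Nat.card ↥(CXp hF (twistedF4 K (2 ^ m)) [0, 3]) = 2 ^ (2 * m + 1) := by
  rw [← hK, ← Nat.card_eq_fintype_card]
  symm
  apply Nat.card_congr
  refine Equiv.ofBijective (fun t : K => ⟨XA m t, XA_mem t⟩) ⟨?_, ?_⟩
  · intro t t' h
    exact XA_injective (congrArg Subtype.val h)
  · rintro ⟨g, hg⟩
    obtain ⟨t, rfl⟩ := exists_XA hK hperf f hf g hg
    exact ⟨t, rfl⟩

theorem card_CXp_B : Nat.card ↥(CXp hF (twistedF4 K (2 ^ m)) [1, 2, 1, 2]) = (2 ^ (2 * m + 1)) ^ 2 := by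
  have : (2 ^ (2 * m + 1)) ^ 2 = Nat.card (K × K) := by
    rw [Nat.card_prod, Nat.card_eq_fintype_card, hK, sq]
  rw [this]
  symm
  apply Nat.card_congr
  refine Equiv.ofBijective (fun p : K × K => ⟨XB m p.1 p.2, XB_mem p.1 p.2⟩) ⟨?_, ?_⟩
  · rintro ⟨t, u⟩ ⟨t', u'⟩ h
    obtain ⟨e1, e2⟩ := XB_injective t u t' u' (congrArg Subtype.val h)
    rw [e1, e2]
  · rintro ⟨g, hg⟩
    obtain ⟨t, u, rfl⟩ := exists_XB hK hperf f hf g hg
    exact ⟨(t, u), rfl⟩

omit hK hperf hf in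
theorem q_ne_sq : (2 ^ (2 * m + 1) : ℕ) ≠ (2 ^ (2 * m + 1)) ^ 2 := by
  intro h
  have h1 : 1 < 2 ^ (2 * m + 1) := Nat.one_lt_two_pow (by omega)
  nlinarith

/-! ### `U¹` is a Sylow subgroup -/

theorem card_CU1 : Nat.card ↥(CU1 chevF4 (twistedF4 K (2 ^ m))) = (2 ^ (2 * m + 1)) ^ 12 := by
  rw [← card_U hK hperf f hf]
  unfold CU1
  rw [← Subgroup.inf_subgroupOf_right]
  exact Nat.card_congr (Subgroup.subgroupOfEquivOfLe (inf_le_right :
    chevF4.posUnipotent K ⊓ twistedF4 K (2 ^ m) ≤ twistedF4 K (2 ^ m))).toEquiv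

theorem card_CH1 : Nat.card ↥(CH1 chevF4 (twistedF4 K (2 ^ m))) = (2 ^ (2 * m + 1) - 1) ^ 2 := by
  rw [← card_H hK hperf f hf]
  unfold CH1
  rw [← Subgroup.inf_subgroupOf_right]
  exact Nat.card_congr (Subgroup.subgroupOfEquivOfLe (inf_le_right :
    chevF4.diagonalSubgroup K ⊓ twistedF4 K (2 ^ m) ≤ twistedF4 K (2 ^ m))).toEquiv

theorem sylow_CU1 :
    ∃ P : Sylow 2 ↥(twistedF4 K (2 ^ m)), (P : Subgroup ↥(twistedF4 K (2 ^ m))) = CU1 chevF4 (twistedF4 K (2 ^ m)) := by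
  have : Fact (Nat.Prime 2) := ⟨Nat.prime_two⟩
  have hcardU := card_CU1 hK hperf f hf
  have hpg : IsPGroup 2 ↥(CU1 chevF4 (twistedF4 K (2 ^ m))) := by
    apply IsPGroup.of_card (n := (2 * m + 1) * 12)
    rw [hcardU, pow_mul]
  have hidx : ¬ 2 ∣ (CU1 chevF4 (twistedF4 K (2 ^ m))).index := by
    have h1 := Subgroup.card_mul_index (CU1 chevF4 (twistedF4 K (2 ^ m)))
    have hG := card_group hK hperf f hf
    rw [hcardU, hG, mul_assoc, mul_assoc, mul_assoc] at h1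
    have h2 := Nat.eq_of_mul_eq_mul_left (by positivity) h1
    rw [h2]
    set q := 2 ^ (2 * m + 1) with hq
    have hq2 : 2 ∣ q := by
      rw [hq]
      exact dvd_pow_self 2 (by omega)
    have hq1 : 1 ≤ q := Nat.one_le_two_pow
    have hp1 : ∀ n, 1 ≤ q ^ n := fun n => Nat.one_le_pow _ _ hq1
    have hpn : ∀ n, n ≠ 0 → 2 ∣ q ^ n := fun n hn => dvd_pow hq2 hn
    have hodd1 : ∀ n, n ≠ 0 → ¬ 2 ∣ q ^ n - 1 := by
      intro n hn hd
      have := hpn n hn
      have := hp1 n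
      omega
    have hodd2 : ∀ n, n ≠ 0 → ¬ 2 ∣ q ^ n + 1 := by
      intro n hn hd
      have := hpn n hn
      omega
    intro hd
    have hq' : q - 1 = q ^ 1 - 1 := by rw [pow_one]
    rcases (Nat.Prime.dvd_mul Nat.prime_two).1 hd with h3 | h3
    · rw [hq'] at h3
      exact hodd1 1 (by norm_num) h3
    · rcases (Nat.Prime.dvd_mul Nat.prime_two).1 h3 with h4 | h4
      · exact hodd2 3 (by norm_num) h4
      · rcases (Nat.Prime.dvd_mul Nat.prime_two).1 h4 with h5 | h5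
        · exact hodd1 4 (by norm_num) h5
        · exact hodd2 6 (by norm_num) h5
  exact ⟨hpg.toSylow hidx, rfl⟩

/-! ### the opposition -/

theorem hopp : ∀ v, ∀ hv : v ∈ S,
    ((clsData hK hperf f hf).CXn v hv).map (MulAut.conj (clsData hK hperf f hf).n₀).toMonoidHom =
      CXp hF (twistedF4 K (2 ^ m)) v := by
  intro v hv
  have hcl := clsData hK hperf f hf
  unfold ClsData.CXn
  rw [map_conj_mul]
  apply Subgroup.eq_of_le_of_card_ge
  · rintro _ ⟨x, hx, rfl⟩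
    have hx' : x ∈ CXp hF (twistedF4 K (2 ^ m)) v := hx
    rw [mem_CXp] at hx' ⊢
    show ((hcl.n₀ * hcl.sG v hv) * x * (hcl.n₀ * hcl.sG v hv)⁻¹ : ↥(twistedF4 K (2 ^ m))).1 ∈ _
    simp only [Subgroup.coe_mul, Subgroup.coe_inv, ClsData.n₀_coe, ClsData.sG_coe]
    rw [← nWordGL_append]
    have hw : ∀ i ∈ wordOf l₀ ++ v, i < chevF4.rank := by
      intro i hi
      rcases List.mem_append.1 hi with h1 | h1
      · exact hcl.valid_l₀ i h1
      · exact hcl.gen.valid v hv i h1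
    exact ChevFacts'.conj_negPart_mem_negPart hF (wordOf l₀ ++ v) v v hw
      (fun r hr hn => hoppchk v hv r hr.1 hr hn) _ hx'
  · rw [Subgroup.card_map_of_injective (MulAut.conj (hcl.n₀ * hcl.sG v hv)).injective]

/-! ### field automorphisms on the root subgroups -/

omit hK hperf hf in
theorem FA_XA (φ : K ≃+* K) (t : K) : FA (2 ^ m) φ (XA m t) = XA m (φ t) := by
  apply Subtype.ext
  rw [FA_coe, XA_coe, XA_coe]
  exact PhiD_pair φ _ _ _ (by decide) (by decide) t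

omit hK hperf hf in
theorem FA_YA (φ : K ≃+* K) (t : K) : FA (2 ^ m) φ (YA m t) = YA m (φ t) := by
  apply Subtype.ext
  rw [FA_coe, YA_coe, YA_coe]
  exact PhiD_pair φ _ _ _ (by decide) (by decide) t

omit hK hperf hf in
theorem FA_XB (φ : K ≃+* K) (t u : K) : FA (2 ^ m) φ (XB m t u) = XB m (φ t) (φ u) := by
  apply Subtype.ext
  rw [FA_coe, XB_coe, XB_coe]
  exact PhiD_b2 φ _ _ _ _ _ (by decide) (by decide) (by decide) (by decide) t u

omit hK hperf hf in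
theorem FA_YB (φ : K ≃+* K) (t u : K) : FA (2 ^ m) φ (YB m t u) = YB m (φ t) (φ u) := by
  apply Subtype.ext
  rw [FA_coe, YB_coe, YB_coe]
  exact PhiD_b2 φ _ _ _ _ _ (by decide) (by decide) (by decide) (by decide) t u

end Cfsg.Agent.Lead.Tw.F4
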