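import Mathlib
import Cfsg.Agent.Lib.Lead.TwF4AutB
import Cfsg.Agent.Lib.Lead.TwClsAutInj

/-!
# Automorphisms of the large Ree groups: the action of the torus on the root subgroups
-/

set_option autoImplicit false
set_option linter.unusedSectionVars false
set_option linter.unusedSimpArgs false
set_option linter.unusedVariables false

namespace Cfsg.Agent.Lead.Tw.F4

open Cfsg Cfsg.Lie Cfsg.Agent.Lead.Chev Cfsg.Agent.Helper6.ChevC Cfsg.Agent.Helper6.SL2Hom
  Cfsg.Agent.Helper6.ChevL Cfsg.Agent.Lead.Tw.AutRk1 Cfsg.Agent.Helper6.AutAbs Cfsg.Agent.Helper6.AutRank1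

variable {K : Type*} [Field K] [Fintype K] [CharP K 2] {m : ℕ} (hK : Fintype.card K = 2 ^ (2 * m + 1))
  (hperf : ∀ x : K, ∃ y : K, y ^ 2 = x) (f : K ≃+* K) (hf : ∀ t, f t = t ^ (2 ^ m))
include hK hperf hf

/-- the action of a torus element, in terms of its characters -/
theorem scalars_of_Tmat (d : ↥(twistedF4 K (2 ^ m))) (c : ℕ → K) (hc : ∀ i < chevF4.rank, c i ≠ 0)
    (hdc : ((d : GL chevF4.Idx K) : Matrix chevF4.Idx chevF4.Idx K) = Tmat chevF4 c) :
    chi chevF4 c 33 = (chi chevF4 c 24) ^ 2 ^ m ∧ chi chevF4 c 27 = (chi chevF4 c 25) ^ 2 ^ m ∧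
    (∀ t, d * XA m t * d⁻¹ = XA m (chi chevF4 c 24 * t)) ∧
    (∀ t u, d * XB m t u * d⁻¹ = XB m (chi chevF4 c 25 * t) ((chi chevF4 c 25) ^ (2 ^ m + 1) * u)) := by
  have hcl := clsData hK hperf f hf
  -- the pair class
  have hA : ∀ t, d * XA m t * d⁻¹ = XA m (chi chevF4 c 24 * t) ∧
      chi chevF4 c 33 * t ^ 2 ^ m = (chi chevF4 c 24 * t) ^ 2 ^ m := by
    intro t
    have e1 : ((d * XA m t * d⁻¹ : ↥(twistedF4 K (2 ^ m))) : GL chevF4.Idx K) =
        wordGL chevF4 hF.xadd [(33, chi chevF4 c 33 * t ^ 2 ^ m), (24, chi chevF4 c 24 * t)] := by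
      simp only [Subgroup.coe_mul, Subgroup.coe_inv, XA_coe]
      unfold xA
      rw [ChevFacts'.conj_wordGL hF _ c hc hdc _ (pairWord_lt _ _ _ (by decide) (by decide) t)]
      rfl
    have hmem : d * XA m t * d⁻¹ ∈ CXp hF (twistedF4 K (2 ^ m)) [0, 3] := by
      rw [mem_CXp, e1, ← pair_comm_pos]
      exact mem_negPart_pair _ _
    obtain ⟨t', ht'⟩ := exists_XA hK hperf f hf _ hmem
    have e2 := congrArg Subtype.val ht'
    rw [e1, XA_coe] at e2
    have e3 : wordGL chevF4 hF.xadd [(33, chi chevF4 c 33 * t ^ 2 ^ m), (24, chi chevF4 c 24 * t)] =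
        wordGL chevF4 hF.xadd [(33, t' ^ 2 ^ m), (24, t')] := e2
    rw [← pair_comm_pos, ← pair_comm_pos] at e3
    obtain ⟨k1, k2⟩ := inj_pair _ _ _ _ e3
    rw [ht', ← k1]
    exact ⟨rfl, by rw [k2, k1]⟩
  -- the class of type `B₂`
  have hB : ∀ t u, d * XB m t u * d⁻¹ = XB m (chi chevF4 c 25 * t) (chi chevF4 c 28 * u) ∧
      chi chevF4 c 27 * t ^ 2 ^ m = (chi chevF4 c 25 * t) ^ 2 ^ m := by
    intro t u
    have e1 : ((d * XB m t u * d⁻¹ : ↥(twistedF4 K (2 ^ m))) : GL chevF4.Idx K) =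
        wordGL chevF4 hF.xadd [(25, chi chevF4 c 25 * t), (27, chi chevF4 c 27 * t ^ 2 ^ m),
          (28, chi chevF4 c 28 * u),
          (30, chi chevF4 c 30 * (u ^ (2 * 2 ^ m) + (t ^ 2 ^ m) ^ 2 * t))] := by
      simp only [Subgroup.coe_mul, Subgroup.coe_inv, XB_coe]
      rw [xB_eq_bN]
      unfold bN
      rw [ChevFacts'.conj_wordGL hF _ c hc hdc]
      · rfl
      · intro q hq
        simp only [List.mem_cons, List.not_mem_nil, or_false] at hq
        rcases hq with rfl | rfl | rfl | rfl <;> dsimp only <;> decide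
    have hmem : d * XB m t u * d⁻¹ ∈ CXp hF (twistedF4 K (2 ^ m)) [1, 2, 1, 2] := by
      rw [mem_CXp, e1]
      exact mem_negPart_b2 _ _ _ _
    obtain ⟨t', u', ht'⟩ := exists_XB hK hperf f hf _ hmem
    have e2 := congrArg Subtype.val ht'
    rw [e1, XB_coe, xB_eq_bN] at e2
    obtain ⟨k1, k2, k3, -⟩ := inj_b2 _ _ _ _ _ _ _ _ e2
    rw [ht', ← k1, ← k3]
    exact ⟨rfl, by rw [k2, k1]⟩
  have h33 : chi chevF4 c 33 = (chi chevF4 c 24) ^ 2 ^ m := by
    have := (hA 1).2
    rwa [one_pow, mul_one, mul_one] at this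
  have h27 : chi chevF4 c 27 = (chi chevF4 c 25) ^ 2 ^ m := by
    have := (hB 1 0).2
    rwa [one_pow, mul_one, mul_one] at this
  -- the character on the centre
  have h28 : chi chevF4 c 28 = (chi chevF4 c 25) ^ (2 ^ m + 1) := by
    set b := chi chevF4 c 25 with hb
    have hsq : XB m (1 : K) 0 * XB m 1 0 = XB m 0 1 := by
      rw [XB_mul hK hperf f hf]
      congr 1
      · exact add_self 1
      · rw [one_pow, mul_one, zero_add, add_zero]
    have e1 : d * (XB m (1 : K) 0 * XB m 1 0) * d⁻¹ =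
        (d * XB m 1 0 * d⁻¹) * (d * XB m 1 0 * d⁻¹) := by group
    rw [hsq, (hB 0 1).1, (hB 1 0).1, XB_mul hK hperf f hf] at e1
    obtain ⟨-, k⟩ := XB_injective _ _ _ _ e1
    rw [mul_one, mul_zero, zero_add, add_zero, mul_one] at k
    rw [k, pow_succ]
  refine ⟨h33, h27, fun t => (hA t).1, fun t u => ?_⟩
  rw [(hB t u).1, h28]

/-- the action of the elements of `H¹` on the root subgroups -/
theorem exists_scalars (d : ↥(twistedF4 K (2 ^ m))) (hd : d ∈ CH1 chevF4 (twistedF4 K (2 ^ m))) :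
    ∃ a b : K, a ≠ 0 ∧ b ≠ 0 ∧ (∀ t, d * XA m t * d⁻¹ = XA m (a * t)) ∧
      (∀ t u, d * XB m t u * d⁻¹ = XB m (b * t) (b ^ (2 ^ m + 1) * u)) ∧ (a = 1 → b = 1 → d = 1) := by
  have hdH := (mem_CH1 d).1 hd
  obtain ⟨c, hc, hdc⟩ := exists_Tmat_of_mem chevF4 (hF (K := K)).hall _ hdH
  obtain ⟨h33, h27, hA, hB⟩ := scalars_of_Tmat hK hperf f hf d c hc hdc
  refine ⟨chi chevF4 c 24, chi chevF4 c 25, ?_, ?_, hA, hB, ?_⟩
  · intro h0
    have h1 := hA 1
    rw [h0, zero_mul, XA_zero] at h1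
    have h2 : XA m (1 : K) = 1 := by
      have : XA m (1 : K) = d⁻¹ * (d * XA m 1 * d⁻¹) * d := by group
      rw [this, h1]
      group
    rw [← XA_zero (m := m)] at h2
    exact one_ne_zero (XA_injective h2)
  · intro h0
    have h1 := hB 1 0
    rw [h0, zero_mul, mul_zero, XB_zero] at h1
    have h2 : XB m (1 : K) 0 = 1 := by
      have : XB m (1 : K) 0 = d⁻¹ * (d * XB m 1 0 * d⁻¹) * d := by group
      rw [this, h1]
      group
    rw [← XB_zero (m := m)] at h2
    exact one_ne_zero (XB_injective _ _ _ _ h2).1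
  · intro ha hb
    rw [ha, one_pow] at h33
    rw [hb, one_pow] at h27
    have hchi : ∀ i < chevF4.rank, chi chevF4 c (chevF4.simple i) = 1 := by
      intro i hi
      have hi' : i < 4 := hi
      interval_cases i
      · rw [simple_vals.1, h33]
      · rw [simple_vals.2.2.1, h27]
      · rw [simple_vals.2.2.2, hb]
      · rw [simple_vals.2.1, ha]
    set k : GL chevF4.Idx K := (d : GL chevF4.Idx K) with hk
    have hpos : ∀ i < chevF4.rank, ∀ t : K, Commute k (xGL chevF4 hF.xadd (chevF4.simple i) t) := by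
      intro i hi t
      have := (hF (K := K)).Tmat_conj_xGL k c hc hdc (chevF4.simple i) ((hF (K := K)).simple_lt i hi) t
      rw [hchi i hi, one_mul] at this
      exact mul_inv_eq_iff_eq_mul.1 this
    have hneg : ∀ i < chevF4.rank, ∀ t : K,
        Commute k (xGL chevF4 hF.xadd (chevF4.neg (chevF4.simple i)) t) := by
      intro i hi t
      have := (hF (K := K)).Tmat_conj_xGL k c hc hdc (chevF4.neg (chevF4.simple i))
        ((hF (K := K)).neg_simple_lt i hi) t
      rw [chi_neg chevF4 (hF (K := K)).cartan_neg c _ ((hF (K := K)).simple_lt i hi), hchi i hi, inv_one,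
        one_mul] at this
      exact mul_inv_eq_iff_eq_mul.1 this
    have hcomm := ChevFacts'.commute_group hF k hpos hneg
    have hk1 : k = 1 := by
      apply (hF (K := K)).eq_one_of_conj_mem_borel
      intro g hg
      have e : g * k * g⁻¹ = k := by
        rw [← (hcomm g hg).eq]
        group
      rw [e]
      exact diagonal_le_borel chevF4 hdH
    exact Subtype.ext hk1

/-- the elements of `H¹` are determined by their action -/
theorem eq_of_scalars (d d' : ↥(twistedF4 K (2 ^ m))) (hd : d ∈ CH1 chevF4 (twistedF4 K (2 ^ m)))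
    (hd' : d' ∈ CH1 chevF4 (twistedF4 K (2 ^ m)))
    (hA : ∀ t, d * XA m t * d⁻¹ = d' * XA m t * d'⁻¹)
    (hB : ∀ t u, d * XB m t u * d⁻¹ = d' * XB m t u * d'⁻¹) : d = d' := by
  obtain ⟨a, b, ha, hb, hA', hB', hone⟩ := exists_scalars hK hperf f hf (d⁻¹ * d') (mul_mem (inv_mem hd) hd')
  have ha1 : a = 1 := by
    have h1 := hA' 1
    have h2 : d⁻¹ * d' * XA m 1 * (d⁻¹ * d')⁻¹ = d⁻¹ * (d' * XA m 1 * d'⁻¹) * d := by group
    rw [h2, ← hA 1] at h1
    have h3 : d⁻¹ * (d * XA m 1 * d⁻¹) * d = XA m (1 : K) := by group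
    rw [h3] at h1
    have := XA_injective h1
    rw [mul_one] at this
    exact this.symm
  have hb1 : b = 1 := by
    have h1 := hB' 1 0
    have h2 : d⁻¹ * d' * XB m 1 0 * (d⁻¹ * d')⁻¹ = d⁻¹ * (d' * XB m 1 0 * d'⁻¹) * d := by group
    rw [h2, ← hB 1 0] at h1
    have h3 : d⁻¹ * (d * XB m 1 0 * d⁻¹) * d = XB m (1 : K) 0 := by group
    rw [h3] at h1
    have := (XB_injective _ _ _ _ h1).1
    rw [mul_one] at this
    exact this.symm
  have := hone ha1 hb1
  exact (inv_mul_eq_one.1 this)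

/-- **every pair of scalars is realised by an element of `H¹`** -/
theorem exists_torus (a b : K) (ha : a ≠ 0) (hb : b ≠ 0) :
    ∃ d ∈ CH1 chevF4 (twistedF4 K (2 ^ m)), (∀ t, d * XA m t * d⁻¹ = XA m (a * t)) ∧
      (∀ t u, d * XB m t u * d⁻¹ = XB m (b * t) (b ^ (2 ^ m + 1) * u)) := by
  classical
  have hex := fun d : ↥(CH1 chevF4 (twistedF4 K (2 ^ m))) => exists_scalars hK hperf f hf d.1 d.2
  choose fa fb hfa hfb hA hB hone using hex
  let Φ : ↥(CH1 chevF4 (twistedF4 K (2 ^ m))) → Kˣ × Kˣ :=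
    fun d => (Units.mk0 (fa d) (hfa d), Units.mk0 (fb d) (hfb d))
  have hinj : Function.Injective Φ := by
    intro d d' h
    have h1 : fa d = fa d' := congrArg (fun p : Kˣ × Kˣ => (p.1 : K)) h
    have h2 : fb d = fb d' := congrArg (fun p : Kˣ × Kˣ => (p.2 : K)) h
    apply Subtype.ext
    apply eq_of_scalars hK hperf f hf d.1 d'.1 d.2 d'.2
    · intro t
      rw [hA d t, hA d' t, h1]
    · intro t u
      rw [hB d t u, hB d' t u, h2]
  have hcard : Nat.card (Kˣ × Kˣ) ≤ Nat.card ↥(CH1 chevF4 (twistedF4 K (2 ^ m))) := by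
    rw [card_CH1 hK hperf f hf, Nat.card_prod, Nat.card_eq_fintype_card, Fintype.card_units, hK, sq]
  have hbij := hinj.bijective_of_nat_card_le hcard
  obtain ⟨d, hd⟩ := hbij.2 (Units.mk0 a ha, Units.mk0 b hb)
  have h1 : fa d = a := congrArg (fun p : Kˣ × Kˣ => (p.1 : K)) hd
  have h2 : fb d = b := congrArg (fun p : Kˣ × Kˣ => (p.2 : K)) hd
  refine ⟨d.1, d.2, ?_, ?_⟩
  · intro t
    rw [hA d t, h1]
  · intro t u
    rw [hB d t u, h2]

/-! ### the map `w ↦ w^(e+1)` -/

theorem pow_succ_eq_one (x : K) (hx : x ^ (2 ^ m + 1) = 1) : x = 1 := by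
  have hx0 : x ≠ 0 := by
    rintro rfl
    rw [zero_pow (Nat.succ_ne_zero _)] at hx
    exact zero_ne_one hx
  have h1 : (Units.mk0 x hx0) ^ (2 * 2 ^ m) * (Units.mk0 x hx0) ^ 2 = 1 := by
    apply Units.ext
    rw [Units.val_mul, Units.val_pow_eq_pow_val, Units.val_pow_eq_pow_val, Units.val_mk0, Units.val_one]
    have : x ^ (2 * 2 ^ m) * x ^ 2 = (x ^ (2 ^ m + 1)) ^ 2 := by ring
    rw [this, hx, one_pow]
  have := units_pow_inj hK hperf f hf _ h1
  exact congrArg Units.val this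

theorem pow_succ_injective : Function.Injective (fun x : K => x ^ (2 ^ m + 1)) := by
  intro x y h
  have h' : x ^ (2 ^ m + 1) = y ^ (2 ^ m + 1) := h
  by_cases hy : y = 0
  · rw [hy, zero_pow (Nat.succ_ne_zero _)] at h'
    rw [hy]
    exact pow_eq_zero_iff (Nat.succ_ne_zero _) |>.1 h'
  · have h1 : (x / y) ^ (2 ^ m + 1) = 1 := by
      rw [div_pow, h', div_self (pow_ne_zero _ hy)]
    have := pow_succ_eq_one hK hperf f hf _ h1
    exact (div_eq_one_iff_eq hy).1 this

theorem pow_succ_surjective : Function.Surjective (fun x : K => x ^ (2 ^ m + 1)) :=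
  Finite.injective_iff_surjective.1 (pow_succ_injective hK hperf f hf)

omit hperf in
/-- an element not fixed by `t ↦ t^e` -/
theorem exists_not_fixed (hm : 1 ≤ m) : ∃ t : K, t ^ 2 ^ m ≠ t := by
  by_contra hall0
  have hall : ∀ t : K, t ^ 2 ^ m = t := fun t => by_contra fun h => hall0 ⟨t, h⟩
  have h2 : ∀ t : K, t ^ 2 = t := by
    intro t
    have := frob_key hK f hf t
    rw [hall, hall] at this
    exact this
  have hle : Fintype.card K ≤ 2 := by
    classical
    have hsub : (Finset.univ : Finset K) ⊆ {0, 1} := by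
      intro t _
      have := h2 t
      have h3 : t * (t - 1) = 0 := by linear_combination this
      rcases mul_eq_zero.1 h3 with h4 | h4
      · simp [h4]
      · simp [sub_eq_zero.1 h4]
    calc Fintype.card K = (Finset.univ : Finset K).card := rfl
      _ ≤ ({0, 1} : Finset K).card := Finset.card_le_card hsub
      _ ≤ 2 := Finset.card_le_two
  rw [hK] at hle
  have : 2 ^ 3 ≤ 2 ^ (2 * m + 1) := Nat.pow_le_pow_right (by norm_num) (by omega)
  omega

end Cfsg.Agent.Lead.Tw.F4
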