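import Mathlib
import Cfsg.Agent.Lib.Lead.TwF4AutC

/-!
# Automorphisms of the large Ree groups: normalised automorphisms
-/

set_option autoImplicit false
set_option linter.unusedSectionVars false
set_option linter.unusedSimpArgs false
set_option linter.unusedVariables false

namespace Cfsg.Agent.Lead.Tw.F4

open Cfsg Cfsg.Lie Cfsg.Agent.Lead.Chev Cfsg.Agent.Helper6.ChevC Cfsg.Agent.Helper6.SL2Hom
  Cfsg.Agent.Helper6.ChevL Cfsg.Agent.Lead.Tw.AutRk1 Cfsg.Agent.Helper6.AutAbs Cfsg.Agent.Helper6.AutRank1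

/-! ### generalities -/

/-- the image of `h(s)` under a homomorphism acting on the two root subgroups by `c σ`, `c⁻¹ σ` -/
theorem map_hh {F : Type*} [Field F] {G : Type*} [Group G] {X Y : F → G} (h : RankOne X Y) (θ : G →* G)
    (c : F) (hc : c ≠ 0) (σ : F ≃+* F) (hX : ∀ t, θ (X t) = X (c * σ t)) (hY : ∀ t, θ (Y t) = Y (c⁻¹ * σ t))
    (s : F) (hs : s ≠ 0) : θ (hh X Y s) = hh X Y (σ s) := by
  have hσs : σ s ≠ 0 := (map_ne_zero σ).2 hs
  have key : ∀ u : F, u ≠ 0 → X u * Y (-u⁻¹) * X u = hh X Y u * nn X Y := by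
    intro u _
    unfold hh
    rw [inv_mul_cancel_right]
  have e1 : θ (nn X Y) = hh X Y c * nn X Y := by
    have e0 : θ (X 1 * Y (-1) * X 1) = X c * Y (-c⁻¹) * X c := by
      rw [map_mul, map_mul, hX, hY, map_neg, map_one, mul_one, mul_neg, mul_one]
    rw [← key c hc, ← e0]
    rfl
  have e2 : θ (X s * Y (-s⁻¹) * X s) = hh X Y (c * σ s) * nn X Y := by
    rw [map_mul, map_mul, hX, hY, ← key _ (mul_ne_zero hc hσs), map_neg, map_inv₀, mul_neg, mul_inv]
  unfold hh
  rw [map_mul, map_inv, e2, e1, mul_comm c (σ s), h.hmul _ _ hσs hc]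
  unfold hh
  group

/-- the algebra of an automorphism of the group of type `B₂`, equivariant for the torus -/
theorem analysis_B {K : Type*} [Field K] [CharP K 2] (e : ℕ) (he : ∃ j : ℕ, e = 2 ^ j)
    (hsurj : Function.Surjective (fun x : K => x ^ (e + 1))) (hnf : ∃ t : K, t ^ e ≠ t)
    (p r : K → K → K) (h0 : p 0 0 = 0 ∧ r 0 0 = 0)
    (hmul : ∀ t u t' u', p (t + t') (u + t ^ e * t' + u') = p t u + p t' u' ∧
      r (t + t') (u + t ^ e * t' + u') = r t u + (p t u) ^ e * p t' u' + r t' u')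
    (heq : ∀ l : K, l ≠ 0 → ∀ t u, p (l * t) (l ^ (e + 1) * u) = l * p t u ∧
      r (l * t) (l ^ (e + 1) * u) = l ^ (e + 1) * r t u) :
    ∀ t u, p t u = p 1 0 * t ∧ r t u = (p 1 0) ^ (e + 1) * u := by
  have h2 : (2 : K) = 0 := by
    have := CharP.cast_eq_zero K 2
    exact_mod_cast this
  have hadd : ∀ x : K, x + x = 0 := fun x => by linear_combination x * h2
  obtain ⟨j, rfl⟩ := he
  have : Fact (Nat.Prime 2) := ⟨Nat.prime_two⟩
  have hfrob : ∀ a b : K, (a + b) ^ 2 ^ j = a ^ 2 ^ j + b ^ 2 ^ j := fun a b => add_pow_char_pow a b 2 j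
  -- squares
  have hsq : ∀ w : K, p 0 (w ^ (2 ^ j + 1)) = 0 ∧ r 0 (w ^ (2 ^ j + 1)) = (p w 0) ^ (2 ^ j + 1) := by
    intro w
    have := hmul w 0 w 0
    rw [hadd, zero_add, add_zero, ← pow_succ] at this
    refine ⟨by rw [this.1, hadd], ?_⟩
    rw [this.2, pow_succ]
    linear_combination hadd (r w 0)
  have hp0 : ∀ u, p 0 u = 0 := by
    intro u
    obtain ⟨w, rfl⟩ := hsurj u
    exact (hsq w).1
  -- the decomposition
  have hdec : ∀ t u, p t u = p t 0 ∧ r t u = r t 0 + r 0 u := by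
    intro t u
    have := hmul t 0 0 u
    rw [add_zero, mul_zero, zero_add, zero_add] at this
    refine ⟨by rw [this.1, hp0, add_zero], ?_⟩
    rw [this.2, hp0, mul_zero, add_zero]
  -- the first coordinate
  have hlin : ∀ l t : K, p (l * t) 0 = l * p t 0 := by
    intro l t
    by_cases hl : l = 0
    · rw [hl, zero_mul, zero_mul, h0.1]
    · have := (heq l hl t 0).1
      rwa [mul_zero] at this
  have hp : ∀ t u, p t u = p 1 0 * t := by
    intro t u
    rw [(hdec t u).1]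
    have := hlin t 1
    rw [mul_one] at this
    rw [this, mul_comm]
  -- the second coordinate on the centre
  have hr0 : ∀ u, r 0 u = (p 1 0) ^ (2 ^ j + 1) * u := by
    intro u
    obtain ⟨w, rfl⟩ := hsurj u
    show r 0 (w ^ (2 ^ j + 1)) = _
    rw [(hsq w).2, hp w 0, mul_pow]
  -- the function `δ`
  have hδ0 : r 0 0 = 0 := h0.2
  have hδlin : ∀ l t : K, r (l * t) 0 = l ^ (2 ^ j + 1) * r t 0 := by
    intro l t
    by_cases hl : l = 0
    · rw [hl, zero_mul, zero_pow (Nat.succ_ne_zero _), zero_mul, hδ0]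
    · have := (heq l hl t 0).2
      rwa [mul_zero] at this
  have hδadd : ∀ t t', r (t + t') 0 = r t 0 + r t' 0 := by
    intro t t'
    have h1 := (hmul t 0 t' 0).2
    rw [zero_add, add_zero, (hdec (t + t') (t ^ 2 ^ j * t')).2, hr0, hp t 0, hp t' 0] at h1
    have h3 : r (t + t') 0 = r t 0 + r t' 0 +
        ((p 1 0 * t) ^ 2 ^ j * (p 1 0 * t') - p 1 0 ^ (2 ^ j + 1) * (t ^ 2 ^ j * t')) := by
      linear_combination h1
    rw [h3]
    ring
  have hδ1 : r 1 0 = 0 := by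
    obtain ⟨t, ht⟩ := hnf
    have h1 := hδadd t 1
    have h2' := hδlin t 1
    have h3 := hδlin (t + 1) 1
    rw [mul_one] at h2' h3
    rw [h3, h2'] at h1
    have h4 : (t + 1) ^ (2 ^ j + 1) = t ^ (2 ^ j + 1) + t ^ 2 ^ j + t + 1 := by
      rw [pow_succ, hfrob, one_pow, pow_succ]
      ring
    rw [h4] at h1
    have h5 : (t ^ 2 ^ j + t) * r 1 0 = 0 := by linear_combination h1
    rcases mul_eq_zero.1 h5 with h6 | h6
    · exfalso
      apply ht
      linear_combination h6 - hadd t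
    · exact h6
  intro t u
  refine ⟨hp t u, ?_⟩
  rw [(hdec t u).2, hr0]
  have := hδlin t 1
  rw [mul_one] at this
  rw [this, hδ1, mul_zero, zero_add]

variable {K : Type*} [Field K] [Fintype K] [CharP K 2] {m : ℕ} (hK : Fintype.card K = 2 ^ (2 * m + 1))
  (hperf : ∀ x : K, ∃ y : K, y ^ 2 = x) (f : K ≃+* K) (hf : ∀ t, f t = t ^ (2 ^ m))
include hK hperf hf

/-! ### the orders of the negative root subgroups -/

theorem card_CXn_A : Nat.card ↥((clsData hK hperf f hf).CXn [0, 3] hSA) = 2 ^ (2 * m + 1) := by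
  rw [ClsData.card_CXn, card_CXp_A hK hperf f hf]

theorem card_CXn_B : Nat.card ↥((clsData hK hperf f hf).CXn [1, 2, 1, 2] hSB) = (2 ^ (2 * m + 1)) ^ 2 := by
  rw [ClsData.card_CXn, card_CXp_B hK hperf f hf]

/-! ### the torus elements of the pair class -/

omit hK hperf hf [Fintype K] [CharP K 2] in
/-- conjugation of a root element by `h_{p_i}(c)` -/
theorem hGLt_conj_xGL (i : ℕ) (hi : i < chevF4.rank) (c : K) (hc : c ≠ 0) (r : ℕ) (hr : r < chevF4.nroots)
    (t : K) :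
    hGLt chevF4 (hF (K := K)).xadd (chevF4.simple i) c * xGL chevF4 (hF (K := K)).xadd r t *
      (hGLt chevF4 (hF (K := K)).xadd (chevF4.simple i) c)⁻¹ =
      xGL chevF4 (hF (K := K)).xadd r (c ^ (chevF4.cartan i r) * t) := by
  rw [mul_inv_eq_iff_eq_mul]
  apply Units.ext
  rw [Units.val_mul, Units.val_mul, hGLt_simple_val hF i hi c hc, xGL_val, xGL_val]
  exact (hF (K := K)).hconj i hi r hr c hc t

omit hK hperf hf in
theorem hhA_coe (s : K) :
    ((hh (XA (K := K) m) (YA (K := K) m) s : ↥(twistedF4 K (2 ^ m))) : GL chevF4.Idx K) =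
      hGLt chevF4 (hF (K := K)).xadd 33 (s ^ 2 ^ m) * hGLt chevF4 (hF (K := K)).xadd 24 s := by
  rw [← hhA_GL]
  unfold hh nn
  simp only [Subgroup.coe_mul, Subgroup.coe_inv, XA_coe, YA_coe]

omit hK hperf hf in
theorem hhA_mem (s : K) (hs : s ≠ 0) :
    hh (XA (K := K) m) (YA (K := K) m) s ∈ CH1 chevF4 (twistedF4 K (2 ^ m)) := by
  rw [mem_CH1, hhA_coe]
  exact mul_mem (hGLt_mem_diagonal _ _ _ (by decide) _ (pow_ne_zero _ hs))
    (hGLt_mem_diagonal _ _ _ (by decide) _ hs)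

/-- the torus elements of the pair class acting on the class of type `B₂` -/
theorem hhA_conj_XB (s : K) (hs : s ≠ 0) (t u : K) :
    hh (XA (K := K) m) (YA (K := K) m) s * XB m t u * (hh (XA (K := K) m) (YA (K := K) m) s)⁻¹ =
      XB m (s⁻¹ * t) ((s⁻¹) ^ (2 ^ m + 1) * u) := by
  set d := hh (XA (K := K) m) (YA (K := K) m) s with hd
  have hdH := (mem_CH1 d).1 (hhA_mem s hs)
  obtain ⟨c, hc, hdc⟩ := exists_Tmat_of_mem chevF4 (hF (K := K)).hall _ hdH
  obtain ⟨-, -, -, hB⟩ := scalars_of_Tmat hK hperf f hf d c hc hdc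
  have hchi : chi chevF4 c 25 = s⁻¹ := by
    have e1 := (hF (K := K)).Tmat_conj_xGL (d : GL chevF4.Idx K) c hc hdc 25 (by decide) 1
    have e2 : (d : GL chevF4.Idx K) * xGL chevF4 hF.xadd 25 1 * (d : GL chevF4.Idx K)⁻¹ =
        xGL chevF4 hF.xadd 25 (s⁻¹ * 1) := by
      rw [hd, hhA_coe]
      set d₁ := hGLt chevF4 (hF (K := K)).xadd 33 (s ^ 2 ^ m) with hd₁
      set d₂ := hGLt chevF4 (hF (K := K)).xadd 24 s with hd₂
      have e : ∀ a : GL chevF4.Idx K, d₁ * d₂ * a * (d₁ * d₂)⁻¹ = d₁ * (d₂ * a * d₂⁻¹) * d₁⁻¹ := by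
        intro a
        group
      have h24 : (24 : ℕ) = chevF4.simple 3 := simple_vals.2.1.symm
      have h33 : (33 : ℕ) = chevF4.simple 0 := simple_vals.1.symm
      rw [e, hd₂, h24, hGLt_conj_xGL 3 (by decide) _ hs _ (by decide), hd₁, h33,
        hGLt_conj_xGL 0 (by decide) _ (pow_ne_zero _ hs) _ (by decide), cartan_vals.2.2.1,
        cartan_vals.2.2.2.1]
      simp
    rw [e1] at e2
    have e3 : wordGL chevF4 hF.xadd [(25, chi chevF4 c 25 * 1), (27, 0), (28, 0), (30, 0)] =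
        wordGL chevF4 hF.xadd [(25, s⁻¹ * 1), (27, 0), (28, (0 : K)), (30, 0)] := by
      simp only [wordGL_cons, wordGL_nil, xGL_zero, mul_one]
      rw [mul_one, mul_one] at e2
      rw [e2]
    have := (inj_b2 _ _ _ _ _ _ _ _ e3).1
    rwa [mul_one, mul_one] at this
  rw [hB, hchi]

/-! ### normalised automorphisms -/

section normalized

variable (θ : ↥(twistedF4 K (2 ^ m)) ≃* ↥(twistedF4 K (2 ^ m)))
  (hU : (CU1 chevF4 (twistedF4 K (2 ^ m))).map θ.toMonoidHom = CU1 chevF4 (twistedF4 K (2 ^ m)))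
  (hV : (CV1 chevF4 (twistedF4 K (2 ^ m))).map θ.toMonoidHom = CV1 chevF4 (twistedF4 K (2 ^ m)))
include hU hV

theorem map_par_A :
    ((((clsData hK hperf f hf).twGroup hS hC).bnPair hS).parabolic
      {((clsData hK hperf f hf).sG [0, 3] hSA : ↥(twistedF4 K (2 ^ m)))}).map θ.toMonoidHom =
    (((clsData hK hperf f hf).twGroup hS hC).bnPair hS).parabolic
      {((clsData hK hperf f hf).sG [0, 3] hSA : ↥(twistedF4 K (2 ^ m)))} := by
  have hcl := clsData hK hperf f hf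
  obtain ⟨v', hv', e⟩ := hcl.exists_map_parabolic' hS hC θ hU [0, 3] hSA
  have hv'' := hv'
  simp only [S, List.mem_cons, List.not_mem_nil, or_false] at hv''
  rcases hv'' with rfl | rfl
  · exact e
  · exfalso
    have e' := hcl.map_CXn_of_map_parabolic hS hC θ hV [0, 3] [1, 2, 1, 2] hSA hv' e
    have h1 := Subgroup.card_map_of_injective (K := hcl.CXn [0, 3] hSA) (f := θ.toMonoidHom) θ.injective
    have h2 : Nat.card ↥((hcl.CXn [0, 3] hSA).map θ.toMonoidHom) = (2 ^ (2 * m + 1)) ^ 2 := by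
      rw [← card_CXn_B hK hperf f hf]
      exact congrArg (fun A : Subgroup ↥(twistedF4 K (2 ^ m)) => Nat.card ↥A) e'
    rw [card_CXn_A hK hperf f hf] at h1
    exact q_ne_sq (h1.symm.trans h2)

theorem map_par_B :
    ((((clsData hK hperf f hf).twGroup hS hC).bnPair hS).parabolic
      {((clsData hK hperf f hf).sG [1, 2, 1, 2] hSB : ↥(twistedF4 K (2 ^ m)))}).map θ.toMonoidHom =
    (((clsData hK hperf f hf).twGroup hS hC).bnPair hS).parabolic
      {((clsData hK hperf f hf).sG [1, 2, 1, 2] hSB : ↥(twistedF4 K (2 ^ m)))} := by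
  have hcl := clsData hK hperf f hf
  obtain ⟨v', hv', e⟩ := hcl.exists_map_parabolic' hS hC θ hU [1, 2, 1, 2] hSB
  have hv'' := hv'
  simp only [S, List.mem_cons, List.not_mem_nil, or_false] at hv''
  rcases hv'' with rfl | rfl
  · exfalso
    have e' := hcl.map_CXn_of_map_parabolic hS hC θ hV [1, 2, 1, 2] [0, 3] hSB hv' e
    have h1 := Subgroup.card_map_of_injective (K := hcl.CXn [1, 2, 1, 2] hSB) (f := θ.toMonoidHom) θ.injective
    have h2 : Nat.card ↥((hcl.CXn [1, 2, 1, 2] hSB).map θ.toMonoidHom) = 2 ^ (2 * m + 1) := by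
      rw [← card_CXn_A hK hperf f hf]
      exact congrArg (fun A : Subgroup ↥(twistedF4 K (2 ^ m)) => Nat.card ↥A) e'
    rw [card_CXn_B hK hperf f hf] at h1
    exact q_ne_sq (h2.symm.trans h1)
  · exact e

theorem map_CXn_A :
    ((clsData hK hperf f hf).CXn [0, 3] hSA).map θ.toMonoidHom = (clsData hK hperf f hf).CXn [0, 3] hSA :=
  (clsData hK hperf f hf).map_CXn_of_map_parabolic hS hC θ hV _ _ hSA hSA (map_par_A hK hperf f hf θ hU hV)

theorem map_CXp_A :
    (CXp hF (twistedF4 K (2 ^ m)) [0, 3]).map θ.toMonoidHom = CXp hF (twistedF4 K (2 ^ m)) [0, 3] := by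
  have hcl := clsData hK hperf f hf
  obtain ⟨v', hv', e⟩ := hcl.exists_map_CXp hS hC (hopp hK hperf f hf) θ hU hV [0, 3] hSA
  simp only [S, List.mem_cons, List.not_mem_nil, or_false] at hv'
  rcases hv' with rfl | rfl
  · exact e
  · exfalso
    have h1 := Subgroup.card_map_of_injective (K := CXp hF (twistedF4 K (2 ^ m)) [0, 3])
      (f := θ.toMonoidHom) θ.injective
    have h2 : Nat.card ↥((CXp hF (twistedF4 K (2 ^ m)) [0, 3]).map θ.toMonoidHom) = (2 ^ (2 * m + 1)) ^ 2 := by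
      rw [← card_CXp_B hK hperf f hf]
      exact congrArg (fun A : Subgroup ↥(twistedF4 K (2 ^ m)) => Nat.card ↥A) e
    rw [card_CXp_A hK hperf f hf] at h1
    exact q_ne_sq (h1.symm.trans h2)

theorem map_CXp_B :
    (CXp hF (twistedF4 K (2 ^ m)) [1, 2, 1, 2]).map θ.toMonoidHom =
      CXp hF (twistedF4 K (2 ^ m)) [1, 2, 1, 2] := by
  have hcl := clsData hK hperf f hf
  obtain ⟨v', hv', e⟩ := hcl.exists_map_CXp hS hC (hopp hK hperf f hf) θ hU hV [1, 2, 1, 2] hSB
  simp only [S, List.mem_cons, List.not_mem_nil, or_false] at hv'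
  rcases hv' with rfl | rfl
  · exfalso
    have h1 := Subgroup.card_map_of_injective (K := CXp hF (twistedF4 K (2 ^ m)) [1, 2, 1, 2])
      (f := θ.toMonoidHom) θ.injective
    have h2 : Nat.card ↥((CXp hF (twistedF4 K (2 ^ m)) [1, 2, 1, 2]).map θ.toMonoidHom) = 2 ^ (2 * m + 1) := by
      rw [← card_CXp_A hK hperf f hf]
      exact congrArg (fun A : Subgroup ↥(twistedF4 K (2 ^ m)) => Nat.card ↥A) e
    rw [card_CXp_B hK hperf f hf] at h1
    exact q_ne_sq (h2.symm.trans h1)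
  · exact e

theorem exists_map_XA (t : K) : ∃ t', θ (XA m t) = XA m t' := by
  have h1 : θ.toMonoidHom (XA m t) ∈ (CXp hF (twistedF4 K (2 ^ m)) [0, 3]).map θ.toMonoidHom :=
    ⟨_, XA_mem t, rfl⟩
  rw [map_CXp_A hK hperf f hf θ hU hV] at h1
  exact exists_XA hK hperf f hf _ h1

theorem exists_map_YA (t : K) : ∃ t', θ (YA m t) = YA m t' := by
  have h1 : θ.toMonoidHom (YA m t) ∈ ((clsData hK hperf f hf).CXn [0, 3] hSA).map θ.toMonoidHom :=
    ⟨_, YA_mem hK hperf f hf t, rfl⟩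
  rw [map_CXn_A hK hperf f hf θ hU hV] at h1
  exact exists_YA hK hperf f hf _ h1

theorem exists_map_XB (t u : K) : ∃ t' u', θ (XB m t u) = XB m t' u' := by
  have h1 : θ.toMonoidHom (XB m t u) ∈ (CXp hF (twistedF4 K (2 ^ m)) [1, 2, 1, 2]).map θ.toMonoidHom :=
    ⟨_, XB_mem t u, rfl⟩
  rw [map_CXp_B hK hperf f hf θ hU hV] at h1
  exact exists_XB hK hperf f hf _ h1

/-- **a normalised automorphism fixing the two positive root subgroups elementwise is trivial** -/
theorem eq_one_of_fix (hm : 1 ≤ m) (hXA : ∀ t, θ (XA m t) = XA m t) (hXB : ∀ t u, θ (XB m t u) = XB m t u) :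
    ∀ x, θ x = x := by
  have hcl := clsData hK hperf f hf
  -- `H¹` is fixed elementwise
  have hH : ∀ d ∈ CH1 chevF4 (twistedF4 K (2 ^ m)), θ d = d := by
    intro d hd
    obtain ⟨a, b, -, -, hA, hB, -⟩ := exists_scalars hK hperf f hf d hd
    apply eq_of_scalars hK hperf f hf _ _ (hcl.map_mem_CH1 hS hC θ hU hV d hd) hd
    · intro t
      have := congrArg θ (hA t)
      rw [map_mul, map_mul, map_inv, hXA, hXA] at this
      rw [this, hA]
    · intro t u
      have := congrArg θ (hB t u)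
      rw [map_mul, map_mul, map_inv, hXB, hXB] at this
      rw [this, hB]
  -- a scalar different from `0` and `1`
  obtain ⟨t₀, ht₀⟩ := exists_not_fixed hK f hf hm
  have ht₀0 : t₀ ≠ 0 := by
    rintro rfl
    exact ht₀ (zero_pow (pow_ne_zero _ (by norm_num)))
  have ht₀1 : t₀ ≠ 1 := by
    rintro rfl
    exact ht₀ (one_pow _)
  have hcentA : ∀ x ∈ CXp hF (twistedF4 K (2 ^ m)) [0, 3],
      (∀ d ∈ CH1 chevF4 (twistedF4 K (2 ^ m)), d * x * d⁻¹ = x) → x = 1 := by
    intro x hx hcent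
    obtain ⟨t, rfl⟩ := exists_XA hK hperf f hf x hx
    obtain ⟨d, hd, hdA, -⟩ := exists_torus hK hperf f hf t₀ 1 ht₀0 one_ne_zero
    have h1 := hcent d hd
    rw [hdA] at h1
    have h2 := XA_injective h1
    have h3 : (t₀ - 1) * t = 0 := by linear_combination h2
    rcases mul_eq_zero.1 h3 with h4 | h4
    · exact absurd (sub_eq_zero.1 h4) ht₀1
    · rw [h4, XA_zero]
  have hcentB : ∀ x ∈ CXp hF (twistedF4 K (2 ^ m)) [1, 2, 1, 2],
      (∀ d ∈ CH1 chevF4 (twistedF4 K (2 ^ m)), d * x * d⁻¹ = x) → x = 1 := by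
    intro x hx hcent
    obtain ⟨t, u, rfl⟩ := exists_XB hK hperf f hf x hx
    obtain ⟨d, hd, -, hdB⟩ := exists_torus hK hperf f hf 1 t₀ one_ne_zero ht₀0
    have h1 := hcent d hd
    rw [hdB] at h1
    obtain ⟨h2, h2'⟩ := XB_injective _ _ _ _ h1
    have h3 : (t₀ - 1) * t = 0 := by linear_combination h2
    have h3' : (t₀ ^ (2 ^ m + 1) - 1) * u = 0 := by linear_combination h2'
    have ht : t = 0 := by
      rcases mul_eq_zero.1 h3 with h4 | h4
      · exact absurd (sub_eq_zero.1 h4) ht₀1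
      · exact h4
    have hu : u = 0 := by
      rcases mul_eq_zero.1 h3' with h4 | h4
      · exact absurd (pow_succ_eq_one hK hperf f hf _ (sub_eq_zero.1 h4)) ht₀1
      · exact h4
    rw [ht, hu, XB_zero]
  have hfixA : ∀ x ∈ CXp hF (twistedF4 K (2 ^ m)) [0, 3], θ x = x := by
    intro x hx
    obtain ⟨t, rfl⟩ := exists_XA hK hperf f hf x hx
    exact hXA t
  have hfixB : ∀ x ∈ CXp hF (twistedF4 K (2 ^ m)) [1, 2, 1, 2], θ x = x := by
    intro x hx
    obtain ⟨t, u, rfl⟩ := exists_XB hK hperf f hf x hx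
    exact hXB t u
  have hnA := hcl.fix_CXn_of_fix hS hC θ hU hV [0, 3] hSA (map_par_A hK hperf f hf θ hU hV) hH hfixA hcentA
  have hnB := hcl.fix_CXn_of_fix hS hC θ hU hV [1, 2, 1, 2] hSB (map_par_B hK hperf f hf θ hU hV) hH hfixB
    hcentB
  -- the generators
  have key : ∀ g : GL chevF4.Idx K, ∀ hg : g ∈ twistedF4 K (2 ^ m),
      θ ⟨g, hg⟩ = ⟨g, hg⟩ := by
    intro g hg
    unfold twistedF4 ChevalleyDatum.genSubgroup at hg
    induction hg using Subgroup.closure_induction with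
    | mem x hx =>
      obtain ⟨w, hw, hxw⟩ := hx
      have hx' : x = wordGL chevF4 hF.xadd w := Units.ext (by rw [hxw, wordGL_val])
      rcases hw with ⟨t, rfl | rfl⟩ | ⟨t, u, rfl | rfl⟩
      · have : (⟨x, Subgroup.subset_closure ⟨_, Or.inl ⟨t, Or.inl rfl⟩, hxw⟩⟩ : ↥(twistedF4 K (2 ^ m))) =
            XA m t := Subtype.ext hx'
        rw [this]
        exact hXA t
      · have : (⟨x, Subgroup.subset_closure ⟨_, Or.inl ⟨t, Or.inr rfl⟩, hxw⟩⟩ : ↥(twistedF4 K (2 ^ m))) =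
            YA m t := Subtype.ext hx'
        rw [this]
        exact hnA _ (YA_mem hK hperf f hf t)
      · have : (⟨x, Subgroup.subset_closure ⟨_, Or.inr ⟨t, u, Or.inl rfl⟩, hxw⟩⟩ :
            ↥(twistedF4 K (2 ^ m))) = XB m t u := Subtype.ext hx'
        rw [this]
        exact hXB t u
      · have : (⟨x, Subgroup.subset_closure ⟨_, Or.inr ⟨t, u, Or.inr rfl⟩, hxw⟩⟩ :
            ↥(twistedF4 K (2 ^ m))) = YB m t u := Subtype.ext hx'
        rw [this]
        exact hnB _ (YB_mem hK hperf f hf t u)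
    | one => exact map_one θ
    | mul x y hx hy ihx ihy =>
      have : (⟨x * y, mul_mem hx hy⟩ : ↥(twistedF4 K (2 ^ m))) = ⟨x, hx⟩ * ⟨y, hy⟩ := rfl
      rw [this, map_mul, ihx, ihy]
    | inv x hx ihx =>
      have : (⟨x⁻¹, inv_mem hx⟩ : ↥(twistedF4 K (2 ^ m))) = (⟨x, hx⟩ : ↥(twistedF4 K (2 ^ m)))⁻¹ := rfl
      rw [this, map_inv, ihx]
  intro x
  exact key x.1 x.2

end normalized

end Cfsg.Agent.Lead.Tw.F4
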