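import Mathlib
import Cfsg.Agent.Lib.Helper3.J1ArithDefs

/-!
# S0448 ARITHMETIC piece SUPP (lead): supports of short integer vectors.
-/

set_option autoImplicit false
set_option linter.unusedSectionVars false
set_option linter.unusedVariables false

namespace Cfsg.Agent.Helper3.J1A

variable {ι : Type*} [Fintype ι]

/-- an integer vector of norm `n ≤ 3` on a finset has exactly `n` non-zero entries, all `±1` -/
theorem supp_aux (s : Finset ι) (f : ι → ℤ) (n : ℕ) (hn : n ≤ 3) (h : ∑ X ∈ s, f X * f X = n) :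
    ∃ S : Finset ι, S ⊆ s ∧ S.card = n ∧ (∀ X ∈ S, f X = 1 ∨ f X = -1) ∧
      ∀ X ∈ s, X ∉ S → f X = 0 := by
  classical
  refine ⟨s.filter (fun X => f X ≠ 0), Finset.filter_subset _ _, ?_, ?_, ?_⟩
  · have hsum : ∑ X ∈ s.filter (fun X => f X ≠ 0), f X * f X = n := by
      rw [← h]
      apply Finset.sum_filter_of_ne
      intro X _ hX h0
      apply hX
      rw [h0, mul_zero]
    have hpm : ∀ X ∈ s.filter (fun X => f X ≠ 0), f X * f X = 1 := by
      intro X hX
      have hne : f X ≠ 0 := (Finset.mem_filter.1 hX).2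
      have hle : f X * f X ≤ ∑ Y ∈ s.filter (fun X => f X ≠ 0), f Y * f Y :=
        Finset.single_le_sum (f := fun Y => f Y * f Y) (fun Y _ => mul_self_nonneg (f Y)) hX
      rw [hsum] at hle
      have hn' : (n : ℤ) ≤ 3 := by exact_mod_cast hn
      have h1 : f X ≤ 1 := by nlinarith
      have h2 : -1 ≤ f X := by nlinarith
      have h3 : f X = 1 ∨ f X = -1 := by omega
      rcases h3 with h3 | h3 <;> rw [h3] <;> norm_num
    rw [Finset.sum_congr rfl hpm] at hsum
    simp only [Finset.sum_const, nsmul_eq_mul, mul_one] at hsum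
    exact_mod_cast hsum
  · intro X hX
    have hne : f X ≠ 0 := (Finset.mem_filter.1 hX).2
    have hsum : ∑ X ∈ s.filter (fun X => f X ≠ 0), f X * f X = n := by
      rw [← h]
      apply Finset.sum_filter_of_ne
      intro X _ hX h0
      apply hX
      rw [h0, mul_zero]
    have hle : f X * f X ≤ ∑ Y ∈ s.filter (fun X => f X ≠ 0), f Y * f Y :=
      Finset.single_le_sum (f := fun Y => f Y * f Y) (fun Y _ => mul_self_nonneg (f Y)) hX
    rw [hsum] at hle
    have hn' : (n : ℤ) ≤ 3 := by exact_mod_cast hn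
    have h1 : f X ≤ 1 := by nlinarith
    have h2 : -1 ≤ f X := by nlinarith
    omega
  · intro X hX hXS
    by_contra h0
    exact hXS (Finset.mem_filter.2 ⟨hX, h0⟩)

/-- PIECE SUPP: a vector of norm 4 with entry 1 at `o` has exactly three further entries `±1` -/
theorem supp_three (o : ι) (f : ι → ℤ) (ho : f o = 1) (h : ∑ X, f X * f X = 4) :
    ∃ p : Fin 3 → ι, Function.Injective p ∧ (∀ i, p i ≠ o) ∧ (∀ i, f (p i) = 1 ∨ f (p i) = -1) ∧
      ∀ X, X ≠ o → (∀ i, X ≠ p i) → f X = 0 := by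
  classical
  have hs : ∑ X ∈ Finset.univ.erase o, f X * f X = ((3 : ℕ) : ℤ) := by
    have := Finset.add_sum_erase Finset.univ (fun X => f X * f X) (Finset.mem_univ o)
    rw [h, ho] at this
    push_cast
    linarith
  obtain ⟨S, hSs, hcard, hpm, hzero⟩ := supp_aux (Finset.univ.erase o) f 3 le_rfl hs
  let e : Fin 3 ≃ S := (S.equivFinOfCardEq hcard).symm
  refine ⟨fun i => (e i : ι), ?_, ?_, ?_, ?_⟩
  · intro i j hij
    exact e.injective (Subtype.ext hij)
  · intro i
    exact Finset.ne_of_mem_erase (hSs (e i).2)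
  · intro i
    exact hpm _ (e i).2
  · intro X hXo hX
    apply hzero X (Finset.mem_erase.2 ⟨hXo, Finset.mem_univ X⟩)
    intro hXS
    apply hX (e.symm ⟨X, hXS⟩)
    simp

/-- PIECE SUPP (second part): a vector of norm 2 with entry 0 at `o` has exactly two entries `±1` -/
theorem supp_two (o : ι) (f : ι → ℤ) (ho : f o = 0) (h : ∑ X, f X * f X = 2) :
    ∃ p : Fin 2 → ι, Function.Injective p ∧ (∀ i, p i ≠ o) ∧ (∀ i, f (p i) = 1 ∨ f (p i) = -1) ∧
      ∀ X, (∀ i, X ≠ p i) → f X = 0 := by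
  classical
  have hs : ∑ X ∈ Finset.univ, f X * f X = ((2 : ℕ) : ℤ) := by
    rw [h]; norm_num
  obtain ⟨S, hSs, hcard, hpm, hzero⟩ := supp_aux Finset.univ f 2 (by norm_num) hs
  let e : Fin 2 ≃ S := (S.equivFinOfCardEq hcard).symm
  refine ⟨fun i => (e i : ι), ?_, ?_, ?_, ?_⟩
  · intro i j hij
    exact e.injective (Subtype.ext hij)
  · intro i hio
    have hio' : ((e i : ι)) = o := hio
    have := hpm _ (e i).2
    rw [hio', ho] at this
    omega
  · intro i
    exact hpm _ (e i).2
  · intro X hX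
    apply hzero X (Finset.mem_univ X)
    intro hXS
    apply hX (e.symm ⟨X, hXS⟩)
    simp

end Cfsg.Agent.Helper3.J1A
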