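import Mathlib
import Cfsg.Agent.Lib.Helper3.J1ArithDefs
import Cfsg.Agent.Lib.Lead.J1SUPP

/-!
# S0448 ARITHMETIC piece UFANO (lead): the two `u`-rows in the FANO case.
-/

set_option autoImplicit false
set_option linter.unusedSectionVars false
set_option linter.unusedVariables false

namespace Cfsg.Agent.Helper3.J1A

variable {ι : Type*} [Fintype ι]

/-- the six membership patterns of the FANO rows are pairwise different -/
theorem ufano_pat : ∀ i j : Fin 6,
    ((![true, true, false, true, false, false] : Fin 6 → Bool) i = false ↔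
      (![true, true, false, true, false, false] : Fin 6 → Bool) j = false) →
    ((![true, false, true, false, true, false] : Fin 6 → Bool) i = false ↔
      (![true, false, true, false, true, false] : Fin 6 → Bool) j = false) →
    ((![false, true, true, false, false, true] : Fin 6 → Bool) i = false ↔
      (![false, true, true, false, false, true] : Fin 6 → Bool) j = false) → i = j := by
  decide

/-- PIECE UFANO: the two rows of `u` lie outside the supports of `a, b, c` (FANO case: the six points have six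
different membership patterns) -/
theorem fano_cfg {o : ι} {u a b c D : ι → ℤ} {g : ℕ} (h : Lat o u a b c D g) {y : Fin 6 → ι}
    {e : Fin 6 → ℤ} (hF : FanoABC o a b c y e) :
    ∃ y' e', FanoCfg o u a b c y' e' := by
  classical
  obtain ⟨p, hpinj, hpo, hpm, hpz⟩ := supp_two o u h.ou h.uu
  have hp01 : p 0 ≠ p 1 := fun h01 => absurd (hpinj h01) (by decide)
  have hsum : ∀ f : ι → ℤ, ∑ X, u X * f X = u (p 0) * f (p 0) + u (p 1) * f (p 1) := by
    intro f
    apply Finset.sum_eq_add (p 0) (p 1) hp01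
    · intro X _ hX
      have : u X = 0 := hpz X (by
        intro i
        fin_cases i
        · exact hX.1
        · exact hX.2)
      rw [this, zero_mul]
    · intro hn; exact absurd (Finset.mem_univ _) hn
    · intro hn; exact absurd (Finset.mem_univ _) hn
  have hiff : ∀ f : ι → ℤ, ∑ X, u X * f X = 0 → (f (p 0) = 0 ↔ f (p 1) = 0) := by
    intro f hf
    rw [hsum f] at hf
    rcases hpm 0 with h0 | h0 <;> rcases hpm 1 with h1 | h1 <;> rw [h0, h1] at hf <;>
      constructor <;> intro hh <;> omega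
  have hia := hiff a h.ua
  have hib := hiff b h.ub
  have hic := hiff c h.uc
  have he : ∀ i, e i ≠ 0 := fun i => by rcases hF.sign i with h | h <;> rw [h] <;> norm_num
  -- the patterns
  have hA : ∀ i : Fin 6, (a (y i) = 0 ↔
      (![true, true, false, true, false, false] : Fin 6 → Bool) i = false) := by
    intro i
    fin_cases i <;> simp [hF.v0, hF.v1, hF.v2, hF.v3, hF.v4, hF.v5, he]
  have hB : ∀ i : Fin 6, (b (y i) = 0 ↔
      (![true, false, true, false, true, false] : Fin 6 → Bool) i = false) := by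
    intro i
    fin_cases i <;> simp [hF.v0, hF.v1, hF.v2, hF.v3, hF.v4, hF.v5, he]
  have hC : ∀ i : Fin 6, (c (y i) = 0 ↔
      (![false, true, true, false, false, true] : Fin 6 → Bool) i = false) := by
    intro i
    fin_cases i <;> simp [hF.v0, hF.v1, hF.v2, hF.v3, hF.v4, hF.v5, he]
  have hnz : ∀ i : Fin 6, ¬ (a (y i) = 0 ∧ b (y i) = 0 ∧ c (y i) = 0) := by
    intro i
    rw [hA i, hB i, hC i]
    fin_cases i <;> simp
  -- the key claim
  have key : ∀ X X' : ι, X' ≠ o → X ≠ X' → (a X = 0 ↔ a X' = 0) → (b X = 0 ↔ b X' = 0) →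
      (c X = 0 ↔ c X' = 0) → ∀ i, X ≠ y i := by
    intro X X' hX'o hXX' ha hb hc i hXi
    have hX'y : ∃ i', X' = y i' := by
      by_contra hcon
      have hz := hF.zero X' hX'o (fun i' hi' => hcon ⟨i', hi'⟩)
      apply hnz i
      rw [← hXi]
      exact ⟨ha.2 hz.1, hb.2 hz.2.1, hc.2 hz.2.2⟩
    obtain ⟨i', hi'⟩ := hX'y
    have hii' : i = i' := by
      apply ufano_pat
      · rw [← hA i, ← hA i', ← hXi, ← hi']; exact ha
      · rw [← hB i, ← hB i', ← hXi, ← hi']; exact hb
      · rw [← hC i, ← hC i', ← hXi, ← hi']; exact hc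
    apply hXX'
    rw [hXi, hi', hii']
  have hp0y : ∀ i, p 0 ≠ y i := key (p 0) (p 1) (hpo 1) hp01 hia hib hic
  have hp1y : ∀ i, p 1 ≠ y i := key (p 1) (p 0) (hpo 0) hp01.symm hia.symm hib.symm hic.symm
  have hpy : ∀ (j : Fin 2) (i : Fin 6), p j ≠ y i := by
    intro j
    fin_cases j
    · exact hp0y
    · exact hp1y
  have hpabc : ∀ j : Fin 2, a (p j) = 0 ∧ b (p j) = 0 ∧ c (p j) = 0 :=
    fun j => hF.zero (p j) (hpo j) (hpy j)
  have huy : ∀ i : Fin 6, u (y i) = 0 := by
    intro i
    apply hpz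
    intro j hj
    exact hpy j i hj.symm
  -- the configuration
  refine ⟨fun k => Sum.elim y p (finSumFinEquiv.symm k),
    fun k => Sum.elim e (fun j => u (p j)) (finSumFinEquiv.symm k), ?_⟩
  have hval : ∀ i : Fin 6, finSumFinEquiv.symm (Fin.castAdd 2 i) = Sum.inl i :=
    fun i => finSumFinEquiv_symm_apply_castAdd i
  have hval' : ∀ j : Fin 2, finSumFinEquiv.symm (Fin.natAdd 6 j) = Sum.inr j :=
    fun j => finSumFinEquiv_symm_apply_natAdd j
  refine
    { inj := ?_
      ne := ?_
      sign := ?_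
      zero := ?_
      v0 := ⟨huy 0, hF.v0.1, hF.v0.2.1, hF.v0.2.2⟩
      v1 := ⟨huy 1, hF.v1.1, hF.v1.2.1, hF.v1.2.2⟩
      v2 := ⟨huy 2, hF.v2.1, hF.v2.2.1, hF.v2.2.2⟩
      v3 := ⟨huy 3, hF.v3.1, hF.v3.2.1, hF.v3.2.2⟩
      v4 := ⟨huy 4, hF.v4.1, hF.v4.2.1, hF.v4.2.2⟩
      v5 := ⟨huy 5, hF.v5.1, hF.v5.2.1, hF.v5.2.2⟩
      v6 := ⟨rfl, (hpabc 0).1, (hpabc 0).2.1, (hpabc 0).2.2⟩
      v7 := ⟨rfl, (hpabc 1).1, (hpabc 1).2.1, (hpabc 1).2.2⟩ }
  · have hinj : Function.Injective (Sum.elim y p) :=
      Function.Injective.sumElim hF.inj hpinj (fun i j hij => hpy j i hij.symm)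
    exact hinj.comp finSumFinEquiv.symm.injective
  · intro k
    show Sum.elim y p ((finSumFinEquiv (m := 6) (n := 2)).symm k) ≠ o
    generalize (finSumFinEquiv (m := 6) (n := 2)).symm k = s
    rcases s with i | j
    · exact hF.ne i
    · exact hpo j
  · intro k
    show Sum.elim e (fun j => u (p j)) ((finSumFinEquiv (m := 6) (n := 2)).symm k) = 1 ∨
      Sum.elim e (fun j => u (p j)) ((finSumFinEquiv (m := 6) (n := 2)).symm k) = -1
    generalize (finSumFinEquiv (m := 6) (n := 2)).symm k = s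
    rcases s with i | j
    · exact hF.sign i
    · exact hpm j
  · intro X hXo hX
    have hXy : ∀ i : Fin 6, X ≠ y i := by
      intro i
      have := hX (Fin.castAdd 2 i)
      rwa [hval i] at this
    have hXp : ∀ j : Fin 2, X ≠ p j := by
      intro j
      have := hX (Fin.natAdd 6 j)
      rwa [hval' j] at this
    have := hF.zero X hXo hXy
    exact ⟨hpz X hXp, this.1, this.2.1, this.2.2⟩

end Cfsg.Agent.Helper3.J1A
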