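import Mathlib
import Cfsg.Agent.Lib.Helper3.J1ArithDefs

/-!
# S0448 piece PHFIN (lead): the phantom table of "order 189000" is impossible (pure arithmetic).

NOTE: three hypotheses `hTo hUo hMo` (the values of `T U M` at the principal character `o`) were ADDED to the
skeleton statement: without them the statement is not provable (`Phantom` does not constrain the values at `o`,
which enter the three orthogonality sums).
-/

set_option autoImplicit false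
set_option linter.unusedSectionVars false
set_option linter.unusedVariables false

namespace Cfsg.Agent.Helper3.J1

open Cfsg.Agent.Helper3

/-- a sum over all of `ι` of a function supported on `o` and the nine rows -/
theorem phfin_sum {ι : Type*} [Fintype ι] {o : ι} {y : Fin 9 → ι} (hinj : Function.Injective y)
    (hne : ∀ i, y i ≠ o) (f : ι → ℤ) (hf : ∀ X, X ≠ o → (∀ i, X ≠ y i) → f X = 0) :
    ∑ X, f X = f o + (f (y 0) + f (y 1) + f (y 2) + f (y 3) + f (y 4) + f (y 5) + f (y 6) + f (y 7) +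
      f (y 8)) := by
  classical
  have h1 : ∑ X ∈ insert o (Finset.univ.image y), f X = ∑ X, f X := by
    apply Finset.sum_subset (Finset.subset_univ _)
    intro X _ hX
    rw [Finset.mem_insert, not_or] at hX
    apply hf X hX.1
    intro i hi
    exact hX.2 (Finset.mem_image.2 ⟨i, Finset.mem_univ i, hi.symm⟩)
  have h2 : o ∉ Finset.univ.image y := by
    intro h
    obtain ⟨i, _, hi⟩ := Finset.mem_image.1 h
    exact hne i hi
  have h3 : ∑ i : Fin 9, f (y i) = (f (y 0) + f (y 1) + f (y 2) + f (y 3) + f (y 4) + f (y 5) +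
      f (y 6) + f (y 7) + f (y 8)) := by
    rw [Fin.sum_univ_castSucc, Fin.sum_univ_eight]
    rfl
  rw [← h1, Finset.sum_insert h2, Finset.sum_image (fun a _ b _ hab => hinj hab), h3]

/-- PIECE PHFIN (pure arithmetic, Mathlib + J1ArithDefs only): the phantom table is impossible. -/
theorem phantom_arith {ι : Type*} [Fintype ι] {o : ι} {T U M D : ι → ℤ} {y : Fin 9 → ι}
    (hP : J1A.Phantom o T U M D y) (Xi S : ι → ℤ) (hXo : Xi o = 1)
    (hTo : T o = 1) (hUo : U o = 1) (hMo : M o = 2)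
    (hF1 : ∀ X, ∃ n : ℕ, D X + 7 * T X + 8 * Xi X + 8 * U X = 24 * n)
    (hFE : ∀ X, ∃ n : ℕ, D X + 7 * T X - 4 * Xi X - 4 * U X = 12 * n)
    (hFM : ∀ X, ∃ m n : ℕ, D X - T X + 20 * Xi X - 20 * U X + 12 * S X - 12 * M X = 120 * m ∧
      D X - T X + 8 * Xi X - 8 * U X = 24 * n ∧ m ≤ n)
    (hR5 : ∀ X, ∃ r : ℕ, D X - 9 * T X + 2 * S X + 2 * M X = 20 * r)
    (hxt : ∑ X, Xi X * T X = 0) (hxu : ∑ X, Xi X * U X = 0) (hxm : ∑ X, Xi X * M X = 0) : False := by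
  have hzT : ∀ X, X ≠ o → (∀ i, X ≠ y i) → Xi X * T X = 0 := fun X h1 h2 => by
    rw [(hP.zero X h1 h2).1, mul_zero]
  have hzU : ∀ X, X ≠ o → (∀ i, X ≠ y i) → Xi X * U X = 0 := fun X h1 h2 => by
    rw [(hP.zero X h1 h2).2.1, mul_zero]
  have hzM : ∀ X, X ≠ o → (∀ i, X ≠ y i) → Xi X * M X = 0 := fun X h1 h2 => by
    rw [(hP.zero X h1 h2).2.2, mul_zero]
  rw [phfin_sum hP.inj hP.ne _ hzT] at hxt
  rw [phfin_sum hP.inj hP.ne _ hzU] at hxu
  rw [phfin_sum hP.inj hP.ne _ hzM] at hxm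
  obtain ⟨hD0, hT0, hU0, hM0⟩ := hP.r0
  obtain ⟨hD1, hT1, hU1, hM1⟩ := hP.r1
  obtain ⟨hD2, hT2, hU2, hM2⟩ := hP.r2
  obtain ⟨hT3, hU3, hM3⟩ := hP.r3
  obtain ⟨hT4, hU4, hM4⟩ := hP.r4
  obtain ⟨hT5, hU5, hM5⟩ := hP.r5
  obtain ⟨hT6, hU6, hM6⟩ := hP.r6
  obtain ⟨hT7, hU7, hM7⟩ := hP.r7
  obtain ⟨hT8, hU8, hM8⟩ := hP.r8
  rw [hXo, hTo, hT0, hT1, hT2, hT3, hT4, hT5, hT6, hT7, hT8] at hxt
  rw [hXo, hUo, hU0, hU1, hU2, hU3, hU4, hU5, hU6, hU7, hU8] at hxu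
  rw [hXo, hMo, hM0, hM1, hM2, hM3, hM4, hM5, hM6, hM7, hM8] at hxm
  obtain ⟨n0, h10⟩ := hF1 (y 0)
  obtain ⟨n0', h20⟩ := hFE (y 0)
  obtain ⟨n1, h11⟩ := hF1 (y 1)
  obtain ⟨n1', h21⟩ := hFE (y 1)
  obtain ⟨m, n, h32, h42, hmn⟩ := hFM (y 2)
  obtain ⟨r, h52⟩ := hR5 (y 2)
  rw [hD0, hT0, hU0] at h10 h20
  rw [hD1, hT1, hU1] at h11 h21
  rw [hD2, hT2, hU2, hM2] at h32
  rw [hD2, hT2, hU2] at h42
  rw [hD2, hT2, hM2] at h52
  omega

end Cfsg.Agent.Helper3.J1
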