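import Mathlib
import Cfsg.Agent.Lib.Lead.TSLKAPPA
import Cfsg.Agent.Lib.Helper1.TSLMAT
import Cfsg.Agent.Lib.Helper16.TSLNF
import Cfsg.Agent.Lib.Helper19.TSLHOM
import Cfsg.Agent.Lib.Helper24.TSLCENT

/-! # S3366 piece KAPPA: exact-signature wrapper (lead) -/

set_option autoImplicit false

namespace Cfsg.Agent.Helper17.TSL

variable {X : Type*} [Group X] [Finite X] (S : Setup X)

theorem exists_kappa (t : X) (ht : t * t = 1) (hπ : S.π t = negOne)
    (K : Subgroup X) (hKt : ∀ k ∈ K, k * t = t * k) (hKR : K ⊓ S.R = ⊥) (hKc : Nat.card K = 24)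
    (htK : t ∈ K) (x y : X) (hx : x ∈ S.R) (hy : y ∈ S.R) (hxt : t * x * t⁻¹ = x⁻¹) (hyt : t * y * t⁻¹ = y⁻¹)
    (hxy : x * y * x⁻¹ * y⁻¹ ≠ 1) :
    ∃ κ : K →* SL23, Function.Injective κ ∧ ∀ k : K, ActsBy x y (k : X) (κ k) := by
  refine kappa_core S t hπ K hKR hKc htK x y hx hy hxy ?_ ?_ ?_ ?_
  · intro k hk
    exact exists_mat S t ht hπ x y hx hy hxt hyt hxy k (hKt k hk)
  · intro r hr
    obtain ⟨abc, habc, -⟩ := normal_form S x y hx hy hxy r hr
    exact ⟨_, _, _, habc⟩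
  · intro x' y' hx' hy'
    refine exists_hom S x y hx hy hxy x' y' hx' hy' ?_ ?_ ?_
    · exact mul_comm _ _
    · exact mul_comm _ _
    · have : x' * y' * x'⁻¹ * y'⁻¹ = 1 := by
        rw [mul_comm x' y', mul_assoc y', mul_inv_cancel, mul_one, mul_inv_cancel]
      rw [this, one_pow]
  · intro r hr hc
    exact cent_t S t ht hπ r hr hc

end Cfsg.Agent.Helper17.TSL
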