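import Mathlib
import Cfsg.Prelude.Def_OddOrder
import Cfsg.Prelude.Def_OddOrderLocal
import Cfsg.Agent.Lib.Lead.BGSigmaHall
import Cfsg.Agent.Lib.Helper16.BG145A

/-!
# Bender–Glauberman, Theorem D-type statement (S1369): the maximal subgroups of type `𝒫`

Formal consequences of earlier statements (taken as hypotheses, verbatim frozen types):

* `part2`: every maximal subgroup `H` with `κ(H) ≠ ∅` is conjugate to `M` or to `M*`
  (from S1351, S1352, S1366, S1367, S1368 and the count in S1434).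
* `part1`: not both `U = 1` and `U* = 1` (counting with S1377, S1379, S1434, S1368).
-/

set_option autoImplicit false

namespace Cfsg.Agent.Lead.BGThmD

open Cfsg Subgroup
open scoped Pointwise

universe u

variable {G : Type u} [Group G]

/-! ### Conjugation bookkeeping -/

theorem mem_map_conj_iff' (H : Subgroup G) (c x : G) :
    x ∈ H.map (MulAut.conj c).toMonoidHom ↔ c⁻¹ * x * c ∈ H := by
  constructor
  · rintro ⟨y, hy, rfl⟩
    simp only [MulEquiv.coe_toMonoidHom, MulAut.conj_apply]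
    have : c⁻¹ * (c * y * c⁻¹) * c = y := by group
    rw [this]; exact hy
  · intro h
    refine ⟨c⁻¹ * x * c, h, ?_⟩
    simp only [MulEquiv.coe_toMonoidHom, MulAut.conj_apply]
    group

theorem map_conj_map_conj_inv (H : Subgroup G) (c : G) :
    (H.map (MulAut.conj c).toMonoidHom).map (MulAut.conj c⁻¹).toMonoidHom = H := by
  ext x
  rw [mem_map_conj_iff', mem_map_conj_iff']
  have : c⁻¹ * (c⁻¹⁻¹ * x * c⁻¹) * c = x := by group
  rw [this]

theorem map_conj_inv_map_conj (H : Subgroup G) (c : G) :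
    (H.map (MulAut.conj c⁻¹).toMonoidHom).map (MulAut.conj c).toMonoidHom = H := by
  have := map_conj_map_conj_inv H c⁻¹
  rwa [inv_inv] at this

theorem isCoatom_map_conj {M : Subgroup G} (hM : IsCoatom M) (c : G) :
    IsCoatom (M.map (MulAut.conj c).toMonoidHom) :=
  (OrderIso.isCoatom_iff (MulEquiv.mapSubgroup (MulAut.conj c)) M).mpr hM

/-- `C_G(X^c) ≤ L` implies `C_G(X) ≤ L^{c⁻¹}`. -/
theorem centralizer_le_map_conj_inv {X L : Subgroup G} (c : G)
    (h : centralizer ((X.map (MulAut.conj c).toMonoidHom : Subgroup G) : Set G) ≤ L) :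
    centralizer (X : Set G) ≤ L.map (MulAut.conj c⁻¹).toMonoidHom := by
  intro g hg
  rw [mem_map_conj_iff']
  apply h
  rw [mem_centralizer_iff]
  intro y hy
  rw [SetLike.mem_coe, mem_map_conj_iff'] at hy
  have := (mem_centralizer_iff.mp hg) _ hy
  rw [inv_inv]
  calc y * (c * g * c⁻¹) = c * ((c⁻¹ * y * c) * g) * c⁻¹ := by group
    _ = c * (g * (c⁻¹ * y * c)) * c⁻¹ := by rw [this]
    _ = c * g * c⁻¹ * y := by group

/-- Uniqueness of the maximal subgroup over a centralizer is transported by conjugation. -/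
theorem unique_over_conj {X M : Subgroup G} (c : G)
    (h : ∀ L : Subgroup G, IsCoatom L → centralizer (X : Set G) ≤ L → L = M)
    (L : Subgroup G) (hL : IsCoatom L)
    (hXL : centralizer ((X.map (MulAut.conj c).toMonoidHom : Subgroup G) : Set G) ≤ L) :
    L = M.map (MulAut.conj c).toMonoidHom := by
  have h1 := h _ (isCoatom_map_conj hL c⁻¹) (centralizer_le_map_conj_inv c hXL)
  rw [← h1, map_conj_inv_map_conj]

theorem card_map_conj (X : Subgroup G) (c : G) :
    Nat.card ↥(X.map (MulAut.conj c).toMonoidHom) = Nat.card ↥X :=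
  Subgroup.card_map_of_injective (MulAut.conj c).injective

/-- `C_G(c z c⁻¹) = C_G(z)^c`. -/
theorem centralizer_singleton_conj (z c : G) :
    centralizer ({c * z * c⁻¹} : Set G)
      = (centralizer ({z} : Set G)).map (MulAut.conj c).toMonoidHom := by
  ext g
  rw [mem_map_conj_iff', mem_centralizer_singleton_iff, mem_centralizer_singleton_iff]
  constructor
  · intro h
    calc c⁻¹ * g * c * z = c⁻¹ * (g * (c * z * c⁻¹)) * c := by group
      _ = c⁻¹ * ((c * z * c⁻¹) * g) * c := by rw [h]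
      _ = z * (c⁻¹ * g * c) := by group
  · intro h
    calc g * (c * z * c⁻¹) = c * ((c⁻¹ * g * c) * z) * c⁻¹ := by group
      _ = c * (z * (c⁻¹ * g * c)) * c⁻¹ := by rw [h]
      _ = c * z * c⁻¹ * g := by group

/-! ### Elementary group lemmas -/

section elementary

variable [Finite G]

theorem exists_prime_card_le {K : Subgroup G} (hK : K ≠ ⊥) :
    ∃ Y : Subgroup G, Y ≤ K ∧ (Nat.card ↥Y).Prime := by
  have h1 : Nat.card ↥K ≠ 1 := by
    intro h; exact hK (Subgroup.card_eq_one.mp h)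
  obtain ⟨p, hp, hpd⟩ := Nat.exists_prime_and_dvd h1
  have := Fact.mk hp
  obtain ⟨x, hx⟩ := exists_prime_orderOf_dvd_card' (G := ↥K) p hpd
  refine ⟨zpowers (x : G), ?_, ?_⟩
  · rw [zpowers_le]; exact x.2
  · rw [Nat.card_zpowers, Subgroup.orderOf_coe, hx]; exact hp

/-- In `A ⊔ B` with `A`, `B` commuting elementwise and of coprime orders, a subgroup of prime
order lies in `A` or in `B`. -/
theorem le_or_le_of_prime_card {A B W : Subgroup G}
    (hcomm : ∀ a ∈ A, ∀ b ∈ B, a * b = b * a)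
    (hcop : (Nat.card ↥A).Coprime (Nat.card ↥B)) (hW : W ≤ A ⊔ B)
    (hq : (Nat.card ↥W).Prime) : W ≤ A ∨ W ≤ B := by
  have := Fact.mk hq
  have hne : W ≠ ⊥ := by
    intro h; rw [h, Subgroup.card_bot] at hq; exact Nat.not_prime_one hq
  obtain ⟨⟨w, hwW⟩, hw1'⟩ := Subgroup.ne_bot_iff_exists_ne_one.mp hne
  have hw1 : w ≠ 1 := fun h => hw1' (Subtype.ext h)
  have hAB : A ≤ normalizer (B : Set G) := fun a ha =>
    centralizer_le_normalizer _ (mem_centralizer_iff.mpr fun b hb => (hcomm a ha b hb).symm)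
  have hw : w ∈ (↑(A ⊔ B) : Set G) := hW hwW
  rw [coe_mul_of_left_le_normalizer_right A B hAB] at hw
  obtain ⟨a, ha, b, hb, rfl⟩ := Set.mem_mul.mp hw
  have hc : Commute a b := hcomm a ha b hb
  have hoa : orderOf a ∣ Nat.card ↥A := by
    have := orderOf_dvd_natCard (⟨a, ha⟩ : ↥A); rwa [Subgroup.orderOf_mk] at this
  have hob : orderOf b ∣ Nat.card ↥B := by
    have := orderOf_dvd_natCard (⟨b, hb⟩ : ↥B); rwa [Subgroup.orderOf_mk] at this
  have hcop' : (orderOf a).Coprime (orderOf b) :=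
    Nat.Coprime.coprime_dvd_left hoa (Nat.Coprime.coprime_dvd_right hob hcop)
  have hmul := hc.orderOf_mul_eq_mul_orderOf_of_coprime hcop'
  have hdvd : orderOf (a * b) ∣ Nat.card ↥W := by
    have := orderOf_dvd_natCard (⟨a * b, hwW⟩ : ↥W); rwa [Subgroup.orderOf_mk] at this
  rw [hmul] at hdvd
  have hgen : ∀ v ∈ W, v ∈ zpowers (a * b) := by
    intro v hv
    have htop : zpowers (⟨a * b, hwW⟩ : ↥W) = ⊤ :=
      zpowers_eq_top_of_prime_card rfl (fun h => hw1 (congrArg Subtype.val h))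
    have hmem : (⟨v, hv⟩ : ↥W) ∈ zpowers (⟨a * b, hwW⟩ : ↥W) := by rw [htop]; trivial
    obtain ⟨n, hn⟩ := mem_zpowers_iff.mp hmem
    exact mem_zpowers_iff.mpr ⟨n, by simpa using congrArg Subtype.val hn⟩
  rcases (Nat.dvd_prime hq).mp (Dvd.dvd.trans (Dvd.intro _ rfl) hdvd) with h1 | h1
  · right
    have ha1 : a = 1 := orderOf_eq_one_iff.mp h1
    subst ha1
    intro v hv
    obtain ⟨n, rfl⟩ := mem_zpowers_iff.mp (hgen v hv)
    rw [one_mul]; exact zpow_mem hb n
  · left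
    have hb1 : orderOf b = 1 := by
      rw [h1] at hdvd
      have h2 := Nat.le_of_dvd hq.pos hdvd
      have hpos : 0 < orderOf b := orderOf_pos b
      have h3 := hq.two_le
      nlinarith
    have hb1' : b = 1 := orderOf_eq_one_iff.mp hb1
    subst hb1'
    intro v hv
    obtain ⟨n, rfl⟩ := mem_zpowers_iff.mp (hgen v hv)
    rw [mul_one]; exact zpow_mem ha n

/-- Two subsets of a finite group, each with more than half of the elements, meet. -/
theorem exists_mem_inter_of_card_lt {A B : Set G} (hA : Nat.card G < 2 * A.ncard)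
    (hB : Nat.card G < 2 * B.ncard) : ∃ a, a ∈ A ∧ a ∈ B := by
  by_contra hcon
  have hdisj : Disjoint A B := by
    rw [Set.disjoint_left]
    intro a ha hb
    exact hcon ⟨a, ha, hb⟩
  have h1 := Set.ncard_union_eq hdisj (Set.toFinite A) (Set.toFinite B)
  have h2 : (A ∪ B).ncard ≤ Nat.card G := by
    rw [← Set.ncard_univ]
    exact Set.ncard_le_ncard (Set.subset_univ _) (Set.toFinite _)
  omega

/-- `|K|` and `|M_σ ∩ C(K)|` are coprime when the primes of `|K|` lie outside `σ(M)`. -/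
theorem coprime_card_of_not_sigma {M K B : Subgroup G}
    (hK : ∀ p : ℕ, p.Prime → p ∣ Nat.card ↥K → p ∉ sigma M) (hB : B ≤ sigmaCore M) :
    (Nat.card ↥K).Coprime (Nat.card ↥B) := by
  by_contra h
  obtain ⟨p, hp, hpK, hpB⟩ := Nat.Prime.not_coprime_iff_dvd.mp h
  exact hK p hp hpK
    (Cfsg.Agent.Lead.BGSig.isPiNum_card_sigmaCore M p hp (hpB.trans (Subgroup.card_dvd_of_le hB)))

theorem card_eq_mul_relIndex' {H K : Subgroup G} (h : H ≤ K) :
    Nat.card K = Nat.card H * H.relIndex K := by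
  rw [← Subgroup.card_mul_index (H.subgroupOf K)]
  congr 1
  exact Nat.card_congr (Subgroup.subgroupOfEquivOfLe h).toEquiv

theorem not_sigma_of_kappaHall {M K : Subgroup G} (hK : IsPiHallOf (kappa M) K M) :
    ∀ p : ℕ, p.Prime → p ∣ Nat.card ↥K → p ∉ sigma M :=
  fun p hp hpK => (hK.2.1 p hp hpK).2.2.1

end elementary

/-! ### The hypotheses: frozen statements for a fixed `G` -/

/-- `K* = M_σ ∩ C_G(K)`. -/
abbrev Kst (M K : Subgroup G) : Subgroup G := sigmaCore M ⊓ centralizer (K : Set G)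

/-- `Ẑ = K K* ∖ (K ∪ K*)`. -/
abbrev Zhat (M K : Subgroup G) : Set G :=
  (↑(K ⊔ Kst M K) : Set G) \ ((K : Set G) ∪ ↑(Kst M K))

/-- The union of the `G`-conjugates of `Ẑ`. -/
abbrev ZhatG (M K : Subgroup G) : Set G :=
  {a : G | ∃ g : G, ∃ z ∈ Zhat M K, a = g * z * g⁻¹}

/-- The standing hypotheses of S1367–S1369, S1434 on `(M, K, U, M*)`. -/
structure Pair (M K U Mstar : Subgroup G) : Prop where
  hM : IsCoatom M
  hKU : IsSigmaDecomposition M K U
  hK1 : K ≠ ⊥
  hMstar : IsCoatom Mstar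
  hKst : K = sigmaCore Mstar ⊓ centralizer ((Kst M K : Subgroup G) : Set G)
  hKstH : IsPiHallOf (kappa Mstar) (Kst M K) Mstar

/-- S1351 (for maximal `H`): existence and cyclicity of Hall `κ(H)`-subgroups. -/
def H1351 (G : Type u) [Group G] : Prop :=
  ∀ M : Subgroup G, IsCoatom M →
    (∃ K : Subgroup G, IsPiHallOf (kappa M) K M) ∧
      ∀ K : Subgroup G, IsPiHallOf (kappa M) K M → IsCyclic K

/-- S1352, existence part. -/
def H1352 (G : Type u) [Group G] : Prop :=
  ∀ (M : Subgroup G), IsCoatom M → ∀ K : Subgroup G, IsCyclic K → IsPiHallOf (kappa M) K M →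
    ∃ U : Subgroup G, IsSigmaDecomposition M K U

/-- S1366, existence part. -/
def H1366 (G : Type u) [Group G] : Prop :=
  ∀ (M : Subgroup G), IsCoatom M → ∀ K U : Subgroup G, IsSigmaDecomposition M K U → K ≠ ⊥ →
    ∃ Mstar : Subgroup G, IsCoatom Mstar ∧
      K = sigmaCore Mstar ⊓ centralizer ((Kst M K : Subgroup G) : Set G) ∧
      IsPiHallOf (kappa Mstar) (Kst M K) Mstar

/-- S1367. -/
def H1367 (G : Type u) [Group G] : Prop :=
  ∀ M K U Mstar : Subgroup G, Pair M K U Mstar →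
    (∀ X : Subgroup G, X ≤ Kst M K → (Nat.card X).Prime →
        centralizer (X : Set G) ≤ M ∧
          ∀ L : Subgroup G, IsCoatom L → centralizer (X : Set G) ≤ L → L = M) ∧
      (∀ Y : Subgroup G, Y ≤ K → (Nat.card Y).Prime →
        centralizer (Y : Set G) ≤ Mstar ∧
          ∀ L : Subgroup G, IsCoatom L → centralizer (Y : Set G) ≤ L → L = Mstar)

/-- S1434, third clause (`C_G(xy) = K K*`). -/
def H1434c (G : Type u) [Group G] : Prop :=
  ∀ M K U Mstar : Subgroup G, Pair M K U Mstar →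
    ∀ x ∈ K, x ≠ 1 → ∀ y ∈ Kst M K, y ≠ 1 →
      centralizer ({x * y} : Set G) = K ⊔ Kst M K

/-- S1434, the count of `Ẑ^G`. -/
def H1434e (G : Type u) [Group G] : Prop :=
  ∀ M K U Mstar : Subgroup G, Pair M K U Mstar →
    Nat.card K * Nat.card ↥(Kst M K) * Set.ncard (ZhatG M K) =
      (Nat.card K * Nat.card ↥(Kst M K) - Nat.card K - Nat.card ↥(Kst M K) + 1) * Nat.card G

/-- S1434, last clause (`|Ẑ^G| > |G|/2`). -/
def H1434f (G : Type u) [Group G] : Prop :=
  ∀ M K U Mstar : Subgroup G, Pair M K U Mstar →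
    Nat.card G < 2 * Set.ncard (ZhatG M K)

/-! ### Part 2: every maximal subgroup with `κ ≠ ∅` is conjugate to `M` or `M*` -/

section part2

variable [Finite G]

theorem kst_comm (M K : Subgroup G) : ∀ a ∈ K, ∀ b ∈ Kst M K, a * b = b * a :=
  fun a ha _ hb => ((mem_centralizer_iff.mp (mem_inf.mp hb).2) a ha)

theorem Pair.coprime {M K U Mstar : Subgroup G} (hP : Pair M K U Mstar) :
    (Nat.card ↥K).Coprime (Nat.card ↥(Kst M K)) :=
  coprime_card_of_not_sigma (not_sigma_of_kappaHall hP.hKU.hall) inf_le_left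

/-- Elements of `Ẑ` are products `x y` with `1 ≠ x ∈ K`, `1 ≠ y ∈ K*`. -/
theorem exists_mul_of_mem_Zhat {M K : Subgroup G} {z : G} (hz : z ∈ Zhat M K) :
    ∃ x ∈ K, x ≠ 1 ∧ ∃ y ∈ Kst M K, y ≠ 1 ∧ z = x * y := by
  obtain ⟨hz1, hz2⟩ := hz
  have hAB : K ≤ normalizer ((Kst M K : Subgroup G) : Set G) := fun a ha =>
    centralizer_le_normalizer _
      (mem_centralizer_iff.mpr fun b hb => (kst_comm M K a ha b hb).symm)
  rw [coe_mul_of_left_le_normalizer_right K (Kst M K) hAB] at hz1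
  obtain ⟨x, hx, y, hy, rfl⟩ := Set.mem_mul.mp hz1
  refine ⟨x, hx, ?_, y, hy, ?_, rfl⟩
  · rintro rfl
    apply hz2; right; rw [one_mul]; exact hy
  · rintro rfl
    apply hz2; left; rw [mul_one]; exact hx

theorem part2 (h1351 : H1351 G) (h1352 : H1352 G) (h1366 : H1366 G) (h1367 : H1367 G)
    (h1434c : H1434c G) (h1434f : H1434f G)
    {M K U Mstar : Subgroup G} (hP : Pair M K U Mstar)
    (H : Subgroup G) (hH : IsCoatom H) (hκ : (kappa H).Nonempty) :
    ∃ g : G, H = M.map (MulAut.conj g).toMonoidHom ∨ H = Mstar.map (MulAut.conj g).toMonoidHom := by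
  -- the data of `H`
  obtain ⟨⟨KH, hKH⟩, hcyc⟩ := h1351 H hH
  obtain ⟨UH, hKUH⟩ := h1352 H hH KH (hcyc KH hKH) hKH
  have hKH1 : KH ≠ ⊥ := by
    obtain ⟨p, hp⟩ := hκ
    have hpr : p.Prime := hp.1
    intro h
    have h1 : Nat.card ↥H = Nat.card ↥KH * KH.relIndex H := card_eq_mul_relIndex' hKH.1
    rw [h, Subgroup.card_bot, one_mul] at h1
    have := hp.2.1
    rw [h1, ← h] at this
    exact hKH.2.2 p hpr hp this
  obtain ⟨Hstar, hHstar, hKHst, hKHstH⟩ := h1366 H hH KH UH hKUH hKH1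
  have hPH : Pair H KH UH Hstar := ⟨hH, hKUH, hKH1, hHstar, hKHst, hKHstH⟩
  -- the two big sets meet
  obtain ⟨a, ⟨g, z, hz, rfl⟩, ⟨g', z', hz', haz'⟩⟩ :=
    exists_mem_inter_of_card_lt (h1434f _ _ _ _ hP) (h1434f _ _ _ _ hPH)
  obtain ⟨x, hx, hx1, y, hy, hy1, rfl⟩ := exists_mul_of_mem_Zhat hz
  obtain ⟨x', hx', hx1', y', hy', hy1', rfl⟩ := exists_mul_of_mem_Zhat hz'
  have hC := h1434c _ _ _ _ hP x hx hx1 y hy hy1
  have hC' := h1434c _ _ _ _ hPH x' hx' hx1' y' hy' hy1'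
  obtain ⟨c, hc⟩ : ∃ c : G, c = g'⁻¹ * g := ⟨_, rfl⟩
  have hzz : x' * y' = c * (x * y) * c⁻¹ := by
    have : x' * y' = g'⁻¹ * (g' * (x' * y') * g'⁻¹) * g' := by group
    rw [this, ← haz', hc]; group
  have hZ : KH ⊔ Kst H KH = (K ⊔ Kst M K).map (MulAut.conj c).toMonoidHom := by
    rw [← hC', hzz, centralizer_singleton_conj, hC]
  -- a subgroup of prime order in `K_H*`
  have hKHst1 : Kst H KH ≠ ⊥ := by
    intro h; rw [h, mem_bot] at hy'; exact hy1' hy'
  obtain ⟨X', hX'le, hX'pr⟩ := exists_prime_card_le hKHst1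
  obtain ⟨W, hW⟩ : ∃ W : Subgroup G, W = X'.map (MulAut.conj c⁻¹).toMonoidHom := ⟨_, rfl⟩
  have hWX : W.map (MulAut.conj c).toMonoidHom = X' := by rw [hW, map_conj_inv_map_conj]
  have hWle : W ≤ K ⊔ Kst M K := by
    rw [hW, ← map_conj_map_conj_inv (K ⊔ Kst M K) c, ← hZ]
    exact Subgroup.map_mono (hX'le.trans le_sup_right)
  have hWpr : (Nat.card ↥W).Prime := by rw [hW, card_map_conj]; exact hX'pr
  have hCX' : centralizer ((X' : Subgroup G) : Set G) ≤ H :=
    ((h1367 _ _ _ _ hPH).1 X' hX'le hX'pr).1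
  refine ⟨c, ?_⟩
  rcases le_or_le_of_prime_card (kst_comm M K) hP.coprime hWle hWpr with hWK | hWK
  · right
    have huniq := ((h1367 _ _ _ _ hP).2 W hWK hWpr).2
    exact unique_over_conj c huniq H hH (by rw [hWX]; exact hCX')
  · left
    have huniq := ((h1367 _ _ _ _ hP).1 W hWK hWpr).2
    exact unique_over_conj c huniq H hH (by rw [hWX]; exact hCX')

end part2

/-! ### Part 1: not both `U = 1` and `U* = 1` -/

/-- S1377. -/
def H1377 (G : Type u) [Group G] : Prop :=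
  ∀ M : Subgroup G, IsCoatom M →
    Set.ncard (tildeOf M ((sigmaCore M : Set G) \ {1})) = (Nat.card (sigmaCore M) - 1) * M.index

/-- S1379, first clause. -/
def H1379a (G : Type u) [Group G] : Prop :=
  ∀ M N : Subgroup G, IsCoatom M → IsCoatom N →
    (∀ g : G, N ≠ M.map (MulAut.conj g).toMonoidHom) →
      tildeOf M ((sigmaCore M : Set G) \ {1}) ∩ tildeOf N ((sigmaCore N : Set G) \ {1}) = ∅

/-- S1379, last clause. -/
def H1379c (G : Type u) [Group G] : Prop :=
  ∀ (M K U : Subgroup G), IsCoatom M → IsSigmaDecomposition M K U → K ≠ ⊥ →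
    ∀ N : Subgroup G, IsCoatom N → ∀ y : G, ∀ z ∈ Zhat M K,
      y * z * y⁻¹ ∉ tildeOf N ((sigmaCore N : Set G) \ {1})

/-- S1368, first clause. -/
def H1368 (G : Type u) [Group G] : Prop :=
  ∀ M K U Mstar : Subgroup G, Pair M K U Mstar → M ⊓ Mstar = K ⊔ Kst M K

theorem succ_mul_succ_sub (a b : ℕ) (ha : 1 ≤ a) (hb : 1 ≤ b) :
    (a + 1) * (b + 1) - (a + 1) - (b + 1) + 1 = a * b := by
  have h : (a + 1) * (b + 1) = a * b + (a + 1) + b := by ring
  have hab : 1 ≤ a * b := Nat.mul_pos ha hb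
  rw [h]
  generalize a * b = t at hab
  omega

theorem arith_contra {k k' s s' m m' i i' g n₁ n₂ n₃ : ℕ} (hk : 2 ≤ k) (hk' : 2 ≤ k')
    (hg : 0 < g)
    (e1 : k * k' * n₁ = (k * k' - k - k' + 1) * g) (e2 : n₂ = (s - 1) * i)
    (e3 : n₃ = (s' - 1) * i') (e4 : m * i = g) (e4' : m' * i' = g) (e5 : m ≤ k * s)
    (e5' : m' ≤ k' * s') (e6 : 3 * k' ≤ s) (e6' : 3 * k ≤ s') (e7 : n₁ + n₂ + n₃ ≤ g) :
    False := by
  obtain ⟨a, rfl⟩ : ∃ a, k = a + 1 := ⟨k - 1, by omega⟩
  obtain ⟨b, rfl⟩ : ∃ b, k' = b + 1 := ⟨k' - 1, by omega⟩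
  obtain ⟨c, rfl⟩ : ∃ c, s = c + 1 := ⟨s - 1, by omega⟩
  obtain ⟨d, rfl⟩ : ∃ d, s' = d + 1 := ⟨s' - 1, by omega⟩
  have hab : (a + 1) * (b + 1) - (a + 1) - (b + 1) + 1 = a * b :=
    succ_mul_succ_sub a b (by omega) (by omega)
  rw [hab] at e1
  rw [Nat.add_sub_cancel] at e2 e3
  -- the three terms
  have T1 : (a + 1) * (b + 1) * (c + 1) * (d + 1) * n₁ = (c + 1) * (d + 1) * (a * b) * g := by
    calc (a + 1) * (b + 1) * (c + 1) * (d + 1) * n₁
        = (c + 1) * (d + 1) * ((a + 1) * (b + 1) * n₁) := by ring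
      _ = (c + 1) * (d + 1) * (a * b * g) := by rw [e1]
      _ = _ := by ring
  have T2 : (b + 1) * (d + 1) * c * g ≤ (a + 1) * (b + 1) * (c + 1) * (d + 1) * n₂ := by
    calc (b + 1) * (d + 1) * c * g = m * ((b + 1) * (d + 1) * c * i) := by rw [← e4]; ring
      _ ≤ ((a + 1) * (c + 1)) * ((b + 1) * (d + 1) * c * i) := Nat.mul_le_mul_right _ e5
      _ = _ := by rw [e2]; ring
  have T3 : (a + 1) * (c + 1) * d * g ≤ (a + 1) * (b + 1) * (c + 1) * (d + 1) * n₃ := by
    calc (a + 1) * (c + 1) * d * g = m' * ((a + 1) * (c + 1) * d * i') := by rw [← e4']; ring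
      _ ≤ ((b + 1) * (d + 1)) * ((a + 1) * (c + 1) * d * i') := Nat.mul_le_mul_right _ e5'
      _ = _ := by rw [e3]; ring
  have T7 : (a + 1) * (b + 1) * (c + 1) * (d + 1) * (n₁ + n₂ + n₃)
      ≤ (a + 1) * (b + 1) * (c + 1) * (d + 1) * g := Nat.mul_le_mul_left _ e7
  have hPQ : ((c + 1) * (d + 1) * (a * b) + (b + 1) * (d + 1) * c + (a + 1) * (c + 1) * d) * g
      ≤ (a + 1) * (b + 1) * (c + 1) * (d + 1) * g := by
    calc _ = (c + 1) * (d + 1) * (a * b) * g + (b + 1) * (d + 1) * c * g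
          + (a + 1) * (c + 1) * d * g := by ring
      _ ≤ (a + 1) * (b + 1) * (c + 1) * (d + 1) * n₁ + (a + 1) * (b + 1) * (c + 1) * (d + 1) * n₂
          + (a + 1) * (b + 1) * (c + 1) * (d + 1) * n₃ := by
          rw [T1]; exact Nat.add_le_add (Nat.add_le_add le_rfl T2) T3
      _ = (a + 1) * (b + 1) * (c + 1) * (d + 1) * (n₁ + n₂ + n₃) := by ring
      _ ≤ _ := T7
  have hPQ' := Nat.le_of_mul_le_mul_right hPQ hg
  have h1 : 3 * (b + 1) * (d + 1) ≤ (c + 1) * (d + 1) := Nat.mul_le_mul_right _ e6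
  have h2 : 3 * (a + 1) * (c + 1) ≤ (d + 1) * (c + 1) := Nat.mul_le_mul_right _ e6'
  nlinarith [h1, h2, hPQ', Nat.zero_le (a * b), Nat.zero_le (b * d), Nat.zero_le (a * c)]

section part1

variable [Finite G]

theorem Pair.not_conj {M K U Mstar : Subgroup G} (hP : Pair M K U Mstar) (g : G) :
    Mstar ≠ M.map (MulAut.conj g).toMonoidHom := by
  intro h
  have hKle : K ≤ sigmaCore Mstar := by
    have := hP.hKst
    rw [this]; exact inf_le_left
  have h1 : Nat.card ↥K ≠ 1 := fun h => hP.hK1 (Subgroup.card_eq_one.mp h)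
  obtain ⟨p, hp, hpd⟩ := Nat.exists_prime_and_dvd h1
  have h2 : p ∈ sigma Mstar :=
    Cfsg.Agent.Lead.BGSig.isPiNum_card_sigmaCore Mstar p hp
      (hpd.trans (Subgroup.card_dvd_of_le hKle))
  rw [h, Cfsg.Agent.Helper16.BG145.sigma_map_conj] at h2
  exact not_sigma_of_kappaHall hP.hKU.hall p hp hpd h2

theorem Pair.ne {M K U Mstar : Subgroup G} (hP : Pair M K U Mstar) : Mstar ≠ M := by
  have := hP.not_conj 1
  rwa [Cfsg.Agent.Helper15.map_conj_one] at this

/-- If `U = 1` then `M = K M_σ` has at most `|K| |M_σ|` elements. -/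
theorem card_le_of_compl_bot {M K : Subgroup G} (hKM : K ≤ M)
    (hc : IsComplIn ⊥ (K ⊔ sigmaCore M) M) :
    M = K ⊔ sigmaCore M ∧ Nat.card ↥M ≤ Nat.card ↥K * Nat.card ↥(sigmaCore M) := by
  have hM : M = K ⊔ sigmaCore M := by
    apply le_antisymm
    · intro m hm
      obtain ⟨a, ha, b, hb, rfl⟩ := hc.2.2.2 m hm
      rw [mem_bot] at ha
      rw [ha, one_mul]; exact hb
    · exact hc.2.1
  refine ⟨hM, ?_⟩
  have hKN : K ≤ normalizer ((sigmaCore M : Subgroup G) : Set G) :=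
    hKM.trans (Cfsg.Agent.Helper14.BGTrans.le_normalizer_piCoreOf (sigma M) M)
  have hset : (M : Set G) = (K : Set G) * (sigmaCore M : Set G) := by
    conv_lhs => rw [hM]
    exact coe_mul_of_left_le_normalizer_right K (sigmaCore M) hKN
  calc Nat.card ↥M = Nat.card ↥(M : Set G) := rfl
    _ = Nat.card ↥((K : Set G) * (sigmaCore M : Set G)) := by rw [hset]
    _ ≤ Nat.card ↥(K : Set G) * Nat.card ↥(sigmaCore M : Set G) := Set.natCard_mul_le
    _ = _ := rfl

/-- A proper subgroup of a group of odd order has index at least `3`. -/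
theorem three_mul_card_le {A B : Subgroup G} (hodd : Odd (Nat.card G)) (hAB : A ≤ B)
    (hne : A ≠ B) : 3 * Nat.card ↥A ≤ Nat.card ↥B := by
  have h1 := card_eq_mul_relIndex' hAB
  have hr1 : A.relIndex B ≠ 1 := by
    intro h
    exact hne (le_antisymm hAB (Subgroup.relIndex_eq_one.mp h))
  have hr0 : A.relIndex B ≠ 0 := by
    intro h
    rw [h, mul_zero] at h1
    exact (Nat.card_pos (α := ↥B)).ne' h1
  have hr2 : A.relIndex B ≠ 2 := by
    intro h
    have hd : 2 ∣ Nat.card G := by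
      have : 2 ∣ Nat.card ↥B := by rw [h1, h]; exact Dvd.intro_left _ rfl
      exact this.trans (Subgroup.card_subgroup_dvd_card B)
    rcases hodd with ⟨t, ht⟩
    omega
  have hr3 : 3 ≤ A.relIndex B := by omega
  rw [h1, mul_comm]
  exact Nat.mul_le_mul_left _ hr3

theorem part1 (hG : IsMinSimpleOddOrder G) (h1434e : H1434e G) (h1377 : H1377 G)
    (h1379a : H1379a G) (h1379c : H1379c G) (h1368 : H1368 G)
    {M K U Mstar : Subgroup G} (hP : Pair M K U Mstar) :
    U ≠ ⊥ ∨ ∀ Ustar : Subgroup G, IsSigmaDecomposition Mstar (Kst M K) Ustar → Ustar ≠ ⊥ := by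
  by_contra hcon
  push Not at hcon
  obtain ⟨hU, Ustar, hKUs, hUs⟩ := hcon
  have hodd := hG.1
  -- `M = K M_σ`, `M* = K* M*_σ`
  have hc := hP.hKU.compl
  rw [hU] at hc
  obtain ⟨hMeq, hMle⟩ := card_le_of_compl_bot hP.hKU.hall.1 hc
  have hc' := hKUs.compl
  rw [hUs] at hc'
  obtain ⟨hMseq, hMsle⟩ := card_le_of_compl_bot hKUs.hall.1 hc'
  have hinter := h1368 _ _ _ _ hP
  have hKle : K ≤ sigmaCore Mstar := by
    have := hP.hKst
    rw [this]; exact inf_le_left
  -- `K* < M_σ`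
  have hne1 : Kst M K ≠ sigmaCore M := by
    intro h
    have : M ≤ Mstar := by
      have : M = M ⊓ Mstar := by rw [hinter, h]; exact hMeq
      rw [this]; exact inf_le_right
    exact hP.ne ((hP.hM.le_iff_eq hP.hMstar.1).mp this)
  -- `K < M*_σ`
  have hne2 : K ≠ sigmaCore Mstar := by
    intro h
    have : Mstar ≤ M := by
      have : Mstar = M ⊓ Mstar :=
        calc Mstar = Kst M K ⊔ sigmaCore Mstar := hMseq
          _ = Kst M K ⊔ K := by rw [← h]
          _ = K ⊔ Kst M K := sup_comm _ _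
          _ = M ⊓ Mstar := hinter.symm
      rw [this]; exact inf_le_left
    exact hP.ne ((hP.hMstar.le_iff_eq hP.hM.1).mp this).symm
  have e6 := three_mul_card_le hodd (inf_le_left : Kst M K ≤ sigmaCore M) hne1
  have e6' := three_mul_card_le hodd hKle hne2
  -- the three disjoint sets
  obtain ⟨A₁, hA₁⟩ : ∃ A : Set G, A = ZhatG M K := ⟨_, rfl⟩
  obtain ⟨A₂, hA₂⟩ : ∃ A : Set G, A = tildeOf M ((sigmaCore M : Set G) \ {1}) := ⟨_, rfl⟩
  obtain ⟨A₃, hA₃⟩ : ∃ A : Set G, A = tildeOf Mstar ((sigmaCore Mstar : Set G) \ {1}) :=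
    ⟨_, rfl⟩
  have d12 : Disjoint A₁ A₂ := by
    rw [Set.disjoint_left]
    rintro a ha1 ha2
    rw [hA₁] at ha1
    obtain ⟨g, z, hz, rfl⟩ := ha1
    rw [hA₂] at ha2
    exact h1379c M K U hP.hM hP.hKU hP.hK1 M hP.hM g z hz ha2
  have d13 : Disjoint A₁ A₃ := by
    rw [Set.disjoint_left]
    rintro a ha1 ha3
    rw [hA₁] at ha1
    obtain ⟨g, z, hz, rfl⟩ := ha1
    rw [hA₃] at ha3
    exact h1379c M K U hP.hM hP.hKU hP.hK1 Mstar hP.hMstar g z hz ha3
  have d23 : Disjoint A₂ A₃ := by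
    rw [Set.disjoint_iff_inter_eq_empty, hA₂, hA₃]
    exact h1379a M Mstar hP.hM hP.hMstar hP.not_conj
  have e7 : A₁.ncard + A₂.ncard + A₃.ncard ≤ Nat.card G := by
    have hd : Disjoint (A₁ ∪ A₂) A₃ := Set.disjoint_union_left.mpr ⟨d13, d23⟩
    rw [← Set.ncard_union_eq d12 (Set.toFinite _) (Set.toFinite _),
      ← Set.ncard_union_eq hd (Set.toFinite _) (Set.toFinite _), ← Set.ncard_univ]
    exact Set.ncard_le_ncard (Set.subset_univ _) (Set.toFinite _)
  have e1 := h1434e _ _ _ _ hP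
  rw [← hA₁] at e1
  have e2 := h1377 M hP.hM
  rw [← hA₂] at e2
  have e3 := h1377 Mstar hP.hMstar
  rw [← hA₃] at e3
  have hKst1 : Kst M K ≠ ⊥ := by
    intro h
    apply hne2
    have h2 := hP.hKst
    rw [h] at h2
    rw [h2, Subgroup.coe_bot, Subgroup.centralizer_eq_top_iff_subset.mpr, inf_top_eq]
    rw [Set.singleton_subset_iff]
    exact Subgroup.one_mem _
  have two_le : ∀ A : Subgroup G, A ≠ ⊥ → 2 ≤ Nat.card ↥A := by
    intro A hA
    have h0 : 0 < Nat.card ↥A := Nat.card_pos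
    have h1 : Nat.card ↥A ≠ 1 := fun h => hA (Subgroup.card_eq_one.mp h)
    omega
  exact arith_contra (two_le K hP.hK1) (two_le _ hKst1)
    (Nat.card_pos (α := G)) e1 e2 e3 (Subgroup.card_mul_index M) (Subgroup.card_mul_index Mstar)
    hMle hMsle e6 e6' e7

end part1

end Cfsg.Agent.Lead.BGThmD
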