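import Mathlib
import Cfsg.Agent.Lib.Helper24.CharLinear
import Cfsg.Agent.Lib.Helper3.BSWCharDefs

/-!
# S3282 piece INTV (lead, for helper3): a rational character value is an integer.
-/

set_option autoImplicit false
set_option linter.unusedSectionVars false

namespace Cfsg.Agent.Helper3.BSW

open Cfsg Cfsg.Agent.Helper24
open scoped ComplexConjugate

universe u

variable {G : Type u} [Group G] [Fintype G] [Fintype (IrrCharacter G)] [DecidableEq (IrrCharacter G)]
  {t s : G} {K : Subgroup G} [Fintype K] [Fintype (JK K)] [DecidableEq (JK K)]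
  {a1 : IrrCharacter G → ℤ} {b : JK K → IrrCharacter G → ℤ} {sgn : JK K → ℤ}

section St

variable {j0 : JK K} {P : IrrCharacter G} {S : JK K → IrrCharacter G} {Z1 Z2 : IrrCharacter G} {ε : ℤ}

/-- PIECE INTV (S2). A rational algebraic integer is an integer (`isIntegral_of_isCharacter`, `IsIntegrallyClosed.isIntegral_iff` for `ℤ ⊆ ℚ`). -/
theorem int_of_rat {χ : G → ℂ} (hχ : IsCharacter G χ) (y : G) (q : ℚ) (hq : χ y = (q : ℂ)) :
    ∃ n : ℤ, χ y = (n : ℂ) := by
  have h1 : IsIntegral ℤ (χ y) := isIntegral_of_isCharacter hχ y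
  rw [hq] at h1
  have h2 : IsIntegral ℤ q := by
    have e : (q : ℂ) = algebraMap ℚ ℂ q := (eq_ratCast (algebraMap ℚ ℂ) q).symm
    rw [e] at h1
    exact (isIntegral_algebraMap_iff (algebraMap ℚ ℂ).injective).mp h1
  obtain ⟨n, hn⟩ := IsIntegrallyClosed.isIntegral_iff.mp h2
  refine ⟨n, ?_⟩
  rw [hq, ← hn]
  simp

end St

end Cfsg.Agent.Helper3.BSW
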