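import Mathlib
import Cfsg.Agent.Lib.Lead.ChevNH
import Cfsg.Prelude.Def_ChevG2
import Cfsg.Prelude.Def_ChevB2
import Cfsg.Prelude.Def_ChevD4
import Cfsg.Prelude.Def_ChevF4
import Cfsg.Prelude.Def_ChevE6
import Cfsg.Prelude.Def_ChevE7
import Cfsg.Prelude.Def_ChevE8

set_option autoImplicit false

namespace Cfsg.Agent.Lead.Chev

open Cfsg Cfsg.Lie

theorem nhOK_G2_0_0 : (List.range' (2 * 0) 2).all ((fun _ => nhChk chevG2) 0) = true := by decide +kernel

theorem nhOK_G2 : ∀ a < 1, ∀ s < 2, (fun _ => nhChk chevG2) a s = true :=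
  forall_forall_lt_of_blocks ((fun _ => nhChk chevG2)) 1 2 2 1 (by norm_num) (by norm_num) (by
    intro a ha k hk
    interval_cases a; interval_cases k
    exact nhOK_G2_0_0)

theorem nhOK_B2_0_0 : (List.range' (2 * 0) 2).all ((fun _ => nhChk chevB2) 0) = true := by decide +kernel

theorem nhOK_B2 : ∀ a < 1, ∀ s < 2, (fun _ => nhChk chevB2) a s = true :=
  forall_forall_lt_of_blocks ((fun _ => nhChk chevB2)) 1 2 2 1 (by norm_num) (by norm_num) (by
    intro a ha k hk
    interval_cases a; interval_cases k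
    exact nhOK_B2_0_0)

theorem nhOK_D4_0_0 : (List.range' (4 * 0) 4).all ((fun _ => nhChk chevD4) 0) = true := by decide +kernel

theorem nhOK_D4 : ∀ a < 1, ∀ s < 4, (fun _ => nhChk chevD4) a s = true :=
  forall_forall_lt_of_blocks ((fun _ => nhChk chevD4)) 1 4 4 1 (by norm_num) (by norm_num) (by
    intro a ha k hk
    interval_cases a; interval_cases k
    exact nhOK_D4_0_0)

theorem nhOK_F4_0_0 : (List.range' (4 * 0) 4).all ((fun _ => nhChk chevF4) 0) = true := by decide +kernel

theorem nhOK_F4 : ∀ a < 1, ∀ s < 4, (fun _ => nhChk chevF4) a s = true :=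
  forall_forall_lt_of_blocks ((fun _ => nhChk chevF4)) 1 4 4 1 (by norm_num) (by norm_num) (by
    intro a ha k hk
    interval_cases a; interval_cases k
    exact nhOK_F4_0_0)

theorem nhOK_E6_0_0 : (List.range' (3 * 0) 3).all ((fun _ => nhChk chevE6) 0) = true := by decide +kernel
theorem nhOK_E6_0_1 : (List.range' (3 * 1) 3).all ((fun _ => nhChk chevE6) 0) = true := by decide +kernel

theorem nhOK_E6 : ∀ a < 1, ∀ s < 6, (fun _ => nhChk chevE6) a s = true :=
  forall_forall_lt_of_blocks ((fun _ => nhChk chevE6)) 1 6 3 2 (by norm_num) (by norm_num) (by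
    intro a ha k hk
    interval_cases a <;> interval_cases k
    · exact nhOK_E6_0_0
    · exact nhOK_E6_0_1)

theorem nhOK_E7_0_0 : (List.range' (1 * 0) 1).all ((fun _ => nhChk chevE7) 0) = true := by decide +kernel
theorem nhOK_E7_0_1 : (List.range' (1 * 1) 1).all ((fun _ => nhChk chevE7) 0) = true := by decide +kernel
theorem nhOK_E7_0_2 : (List.range' (1 * 2) 1).all ((fun _ => nhChk chevE7) 0) = true := by decide +kernel
theorem nhOK_E7_0_3 : (List.range' (1 * 3) 1).all ((fun _ => nhChk chevE7) 0) = true := by decide +kernel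
theorem nhOK_E7_0_4 : (List.range' (1 * 4) 1).all ((fun _ => nhChk chevE7) 0) = true := by decide +kernel
theorem nhOK_E7_0_5 : (List.range' (1 * 5) 1).all ((fun _ => nhChk chevE7) 0) = true := by decide +kernel
theorem nhOK_E7_0_6 : (List.range' (1 * 6) 1).all ((fun _ => nhChk chevE7) 0) = true := by decide +kernel

theorem nhOK_E7 : ∀ a < 1, ∀ s < 7, (fun _ => nhChk chevE7) a s = true :=
  forall_forall_lt_of_blocks ((fun _ => nhChk chevE7)) 1 7 1 7 (by norm_num) (by norm_num) (by
    intro a ha k hk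
    interval_cases a <;> interval_cases k
    · exact nhOK_E7_0_0
    · exact nhOK_E7_0_1
    · exact nhOK_E7_0_2
    · exact nhOK_E7_0_3
    · exact nhOK_E7_0_4
    · exact nhOK_E7_0_5
    · exact nhOK_E7_0_6)

theorem nhOK_E8_0_0 : (List.range' (1 * 0) 1).all ((fun _ => nhChk chevE8) 0) = true := by decide +kernel
theorem nhOK_E8_0_1 : (List.range' (1 * 1) 1).all ((fun _ => nhChk chevE8) 0) = true := by decide +kernel
theorem nhOK_E8_0_2 : (List.range' (1 * 2) 1).all ((fun _ => nhChk chevE8) 0) = true := by decide +kernel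
theorem nhOK_E8_0_3 : (List.range' (1 * 3) 1).all ((fun _ => nhChk chevE8) 0) = true := by decide +kernel
theorem nhOK_E8_0_4 : (List.range' (1 * 4) 1).all ((fun _ => nhChk chevE8) 0) = true := by decide +kernel
theorem nhOK_E8_0_5 : (List.range' (1 * 5) 1).all ((fun _ => nhChk chevE8) 0) = true := by decide +kernel
theorem nhOK_E8_0_6 : (List.range' (1 * 6) 1).all ((fun _ => nhChk chevE8) 0) = true := by decide +kernel
theorem nhOK_E8_0_7 : (List.range' (1 * 7) 1).all ((fun _ => nhChk chevE8) 0) = true := by decide +kernel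

theorem nhOK_E8 : ∀ a < 1, ∀ s < 8, (fun _ => nhChk chevE8) a s = true :=
  forall_forall_lt_of_blocks ((fun _ => nhChk chevE8)) 1 8 1 8 (by norm_num) (by norm_num) (by
    intro a ha k hk
    interval_cases a <;> interval_cases k
    · exact nhOK_E8_0_0
    · exact nhOK_E8_0_1
    · exact nhOK_E8_0_2
    · exact nhOK_E8_0_3
    · exact nhOK_E8_0_4
    · exact nhOK_E8_0_5
    · exact nhOK_E8_0_6
    · exact nhOK_E8_0_7)

end Cfsg.Agent.Lead.Chev
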