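import Mathlib

/-!
# Coxeter groups of rank one and two: cyclic of order two and dihedral
-/

set_option autoImplicit false
set_option linter.unusedSectionVars false
set_option linter.unusedSimpArgs false
set_option linter.unusedVariables false

namespace Cfsg.Agent.Lead.Tw

section powers

variable {W : Type*} [Group W] {n : ℕ}

/-- the powers of an element of order dividing `n`, indexed by `ZMod n`, additively -/
noncomputable def zmodPowAdd (t : W) (ht : t ^ n = 1) : ZMod n →+ Additive W :=
  ZMod.lift n ⟨zmultiplesHom (Additive W) (Additive.ofMul t), by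
    show (zmultiplesHom (Additive W) (Additive.ofMul t)) (n : ℤ) = 0
    rw [zmultiplesHom_apply, natCast_zsmul, ← ofMul_pow, ht, ofMul_one]⟩

/-- the powers of an element of order dividing `n`, indexed by `ZMod n` -/
noncomputable def zmodPow (t : W) (ht : t ^ n = 1) (i : ZMod n) : W := (zmodPowAdd t ht i).toMul

theorem zmodPow_intCast (t : W) (ht : t ^ n = 1) (k : ℤ) : zmodPow t ht (k : ZMod n) = t ^ k := by
  unfold zmodPow zmodPowAdd
  rw [ZMod.lift_coe]
  show (zmultiplesHom (Additive W) (Additive.ofMul t) k).toMul = t ^ k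
  rw [zmultiplesHom_apply, ← ofMul_zpow, toMul_ofMul]

theorem zmodPow_add (t : W) (ht : t ^ n = 1) (i j : ZMod n) :
    zmodPow t ht (i + j) = zmodPow t ht i * zmodPow t ht j := by
  unfold zmodPow
  rw [map_add, toMul_add]

theorem zmodPow_zero (t : W) (ht : t ^ n = 1) : zmodPow t ht 0 = 1 := by
  unfold zmodPow
  rw [map_zero, toMul_zero]

theorem zmodPow_one (t : W) (ht : t ^ n = 1) : zmodPow t ht 1 = t := by
  have := zmodPow_intCast t ht 1
  rwa [Int.cast_one, zpow_one] at this

theorem zmodPow_neg (t : W) (ht : t ^ n = 1) (i : ZMod n) :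
    zmodPow t ht (-i) = (zmodPow t ht i)⁻¹ := by
  unfold zmodPow
  rw [map_neg, toMul_neg]

theorem zmodPow_conj (a t : W) (ha : a * a = 1) (ht : t ^ n = 1) (hat : a * t * a = t⁻¹) (i : ZMod n) :
    a * zmodPow t ht i * a = zmodPow t ht (-i) := by
  obtain ⟨k, rfl⟩ := ZMod.intCast_surjective i
  rw [← Int.cast_neg, zmodPow_intCast, zmodPow_intCast]
  have ha' : a⁻¹ = a := inv_eq_of_mul_eq_one_left ha
  have h1 : a * t ^ k * a = (a * t * a) ^ k := by
    have := map_zpow (MulAut.conj a) t k
    simp only [MulAut.conj_apply, ha'] at this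
    exact this
  rw [h1, hat, inv_zpow, zpow_neg]

end powers

section dihedral

open DihedralGroup

variable {W : Type*} [Group W] {n : ℕ}

/-- the map from the dihedral group to a group generated by two involutions -/
noncomputable def dihFun (a b : W) (hab : (a * b) ^ n = 1) : DihedralGroup n → W
  | r i => zmodPow (a * b) hab i
  | sr i => a * zmodPow (a * b) hab i

/-- the homomorphism from the dihedral group of order `2n` to a group with two involutions whose
product has order dividing `n` -/
noncomputable def dihLift (a b : W) (ha : a * a = 1) (hb : b * b = 1) (hab : (a * b) ^ n = 1) :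
    DihedralGroup n →* W :=
  MonoidHom.mk' (dihFun a b hab) (by
    have ha' : a⁻¹ = a := inv_eq_of_mul_eq_one_left ha
    have hb' : b⁻¹ = b := inv_eq_of_mul_eq_one_left hb
    have hat : a * (a * b) * a = (a * b)⁻¹ := by
      rw [mul_inv_rev, ha', hb', ← mul_assoc, ha, one_mul]
    have hc := zmodPow_conj a (a * b) ha hab hat
    have hc' : ∀ i, zmodPow (a * b) hab i * a = a * zmodPow (a * b) hab (-i) := by
      intro i
      rw [← hc i, ← mul_assoc, ← mul_assoc, ha, one_mul]
    intro x y
    cases x with
    | r i =>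
      cases y with
      | r j => rw [r_mul_r]; exact zmodPow_add _ _ _ _
      | sr j =>
        rw [r_mul_sr]
        show a * zmodPow (a * b) hab (j - i) = zmodPow (a * b) hab i * (a * zmodPow (a * b) hab j)
        rw [← mul_assoc, hc', mul_assoc, ← zmodPow_add, neg_add_eq_sub]
    | sr i =>
      cases y with
      | r j =>
        rw [sr_mul_r]
        show a * zmodPow (a * b) hab (i + j) = a * zmodPow (a * b) hab i * zmodPow (a * b) hab j
        rw [zmodPow_add, mul_assoc]
      | sr j =>
        rw [sr_mul_sr]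
        show zmodPow (a * b) hab (j - i) = a * zmodPow (a * b) hab i * (a * zmodPow (a * b) hab j)
        rw [← mul_assoc, hc, ← zmodPow_add, neg_add_eq_sub])

theorem dihLift_r (a b : W) (ha : a * a = 1) (hb : b * b = 1) (hab : (a * b) ^ n = 1) (i : ZMod n) :
    dihLift a b ha hb hab (r i) = zmodPow (a * b) hab i := rfl

theorem dihLift_sr (a b : W) (ha : a * a = 1) (hb : b * b = 1) (hab : (a * b) ^ n = 1) (i : ZMod n) :
    dihLift a b ha hb hab (sr i) = a * zmodPow (a * b) hab i := rfl

/-- **a Coxeter group of rank two is dihedral** -/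
theorem nonempty_mulEquiv_dihedral (M : CoxeterMatrix (Fin 2)) (hM : M.M 0 1 = n)
    (cs : CoxeterSystem M W) : Nonempty (W ≃* DihedralGroup n) := by
  have hM' : M.M 1 0 = n := by rw [M.symmetric]; exact hM
  have hlift : M.IsLiftable (fun i : Fin 2 => (sr (i.val : ZMod n) : DihedralGroup n)) := by
    intro i j
    fin_cases i <;> fin_cases j
    · simp [sr_mul_self]
    · simp only [Fin.zero_eta, Fin.mk_one, Fin.val_zero, Fin.val_one, Nat.cast_zero, Nat.cast_one,
        sr_mul_sr, sub_zero, hM]
      exact r_one_pow_n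
    · simp only [Fin.zero_eta, Fin.mk_one, Fin.val_zero, Fin.val_one, Nat.cast_zero, Nat.cast_one,
        sr_mul_sr, zero_sub, hM']
      rw [r_pow, neg_mul, one_mul, ZMod.natCast_self, neg_zero, r_zero]
    · simp [sr_mul_self]
  set f : W →* DihedralGroup n := cs.lift ⟨_, hlift⟩ with hf
  have hf0 : f (cs.simple 0) = sr 0 := by
    rw [hf, cs.lift_apply_simple]; simp
  have hf1 : f (cs.simple 1) = sr 1 := by
    rw [hf, cs.lift_apply_simple]; simp
  have hab : (cs.simple 0 * cs.simple 1) ^ n = 1 := by
    rw [← hM]; exact cs.simple_mul_simple_pow 0 1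
  set g : DihedralGroup n →* W := dihLift (cs.simple 0) (cs.simple 1) (cs.simple_mul_simple_self 0)
    (cs.simple_mul_simple_self 1) hab with hg
  have hgf : g.comp f = MonoidHom.id W := by
    apply cs.ext_simple
    intro i
    fin_cases i
    · show g (f (cs.simple 0)) = cs.simple 0
      rw [hf0, hg, dihLift_sr, zmodPow_zero, mul_one]
    · show g (f (cs.simple 1)) = cs.simple 1
      rw [hf1, hg, dihLift_sr, zmodPow_one, ← mul_assoc, cs.simple_mul_simple_self, one_mul]
  have hfr : ∀ i : ZMod n, f (zmodPow (cs.simple 0 * cs.simple 1) hab i) = r i := by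
    intro i
    obtain ⟨k, rfl⟩ := ZMod.intCast_surjective i
    rw [zmodPow_intCast, map_zpow, map_mul, hf0, hf1, sr_mul_sr, sub_zero, r_one_zpow]
  have hfg : f.comp g = MonoidHom.id (DihedralGroup n) := by
    ext x
    cases x with
    | r i =>
      show f (g (r i)) = r i
      rw [hg, dihLift_r, hfr]
    | sr i =>
      show f (g (sr i)) = sr i
      rw [hg, dihLift_sr, map_mul, hfr, hf0, sr_mul_r, zero_add]
  exact ⟨MulEquiv.ofBijective f ⟨fun x y h => by
      have h2 := congrArg g h
      have h3 : ∀ z, g (f z) = z := fun z => DFunLike.congr_fun hgf z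
      rwa [h3, h3] at h2,
    fun y => ⟨g y, DFunLike.congr_fun hfg y⟩⟩⟩

end dihedral

section rankone

variable {W : Type*} [Group W]

/-- **a Coxeter group of rank one has order two** -/
theorem nonempty_mulEquiv_zmod_two (M : CoxeterMatrix (Fin 1)) (cs : CoxeterSystem M W) :
    Nonempty (W ≃* Multiplicative (ZMod 2)) := by
  have hlift : M.IsLiftable (fun _ : Fin 1 => (Multiplicative.ofAdd (1 : ZMod 2))) := by
    intro i j
    have hi : i = 0 := Subsingleton.elim _ _
    have hj : j = 0 := Subsingleton.elim _ _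
    subst hi hj
    rw [M.diagonal, pow_one, ← ofAdd_add]
    rfl
  set f : W →* Multiplicative (ZMod 2) := cs.lift ⟨_, hlift⟩ with hf
  have hf0 : f (cs.simple 0) = Multiplicative.ofAdd 1 := by
    rw [hf, cs.lift_apply_simple]
  have hs : (cs.simple 0) ^ 2 = 1 := cs.simple_sq 0
  set g : Multiplicative (ZMod 2) →* W := AddMonoidHom.toMultiplicativeLeft (zmodPowAdd (cs.simple 0) hs) with hg
  have hg1 : g (Multiplicative.ofAdd 1) = cs.simple 0 := by
    show zmodPow (cs.simple 0) hs 1 = cs.simple 0
    exact zmodPow_one _ _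
  have hgf : g.comp f = MonoidHom.id W := by
    apply cs.ext_simple
    intro i
    have hi : i = 0 := Subsingleton.elim _ _
    subst hi
    show g (f (cs.simple 0)) = cs.simple 0
    rw [hf0, hg1]
  refine ⟨MulEquiv.ofBijective f ⟨fun x y h => ?_, fun y => ?_⟩⟩
  · have h2 := congrArg g h
    have h3 : ∀ z, g (f z) = z := fun z => DFunLike.congr_fun hgf z
    rwa [h3, h3] at h2
  · have hy : ∀ y : ZMod 2, y = 0 ∨ y = 1 := by decide
    rcases hy (Multiplicative.toAdd y) with h | h
    · exact ⟨1, by rw [map_one]; exact (congrArg Multiplicative.ofAdd h).symm⟩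
    · exact ⟨cs.simple 0, by rw [hf0]; exact (congrArg Multiplicative.ofAdd h).symm⟩

end rankone

/-- composing a homomorphism with an isomorphism keeps surjectivity and the kernel -/
theorem exists_hom_of_mulEquiv {N A B : Type*} [Group N] [Group A] [Group B] (e : Nonempty (A ≃* B))
    (H : Subgroup N) (h : ∃ φ : N →* A, Function.Surjective φ ∧ φ.ker = H) :
    ∃ φ : N →* B, Function.Surjective φ ∧ φ.ker = H := by
  obtain ⟨e⟩ := e
  obtain ⟨φ, hs, hk⟩ := h
  refine ⟨e.toMonoidHom.comp φ, e.surjective.comp hs, ?_⟩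
  rw [← hk]
  ext x
  simp only [MonoidHom.mem_ker, MonoidHom.comp_apply, MulEquiv.coe_toMonoidHom]
  exact e.map_eq_one_iff

end Cfsg.Agent.Lead.Tw
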