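import Mathlib
import Cfsg.Agent.Lib.Helper6.OutD4
import Cfsg.Agent.Lib.Helper6.OutQuot
import Cfsg.Agent.Lib.Helper6.ChevCenter
import Cfsg.Agent.Lib.Helper2.OutCongr
import Cfsg.Agent.S1035
import Cfsg.Agent.S1082

/-!
# The order of the automorphism group of `D₄(q) ≅ PΩ₈⁺(q)`
-/

set_option autoImplicit false
set_option linter.unusedSectionVars false

namespace Cfsg.Agent.Lead.D4Aut

open Cfsg Cfsg.Lie

/-- a group with trivial centre: `|Aut G| = |Out G| |G|` -/
theorem card_mulAut_of_center {G : Type*} [Group G] (h : ∀ z : G, (∀ g : G, g * z = z * g) → z = 1) :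
    Nat.card (MulAut G) = Nat.card (Cfsg.Out G) * Nat.card G := by
  have hinj : Function.Injective (MulAut.conj : G →* MulAut G) := by
    rw [injective_iff_map_eq_one]
    intro x hx
    apply h
    intro g
    have h2 := congrArg (fun φ : MulAut G => φ g) hx
    simp only [MulAut.conj_apply, MulAut.one_apply] at h2
    have := congrArg (fun z => z * x) h2
    simpa using this.symm
  have h1 := Subgroup.card_eq_card_quotient_mul_card_subgroup (Cfsg.Inn G)
  rw [h1]
  congr 1
  exact (Nat.card_congr (MonoidHom.ofInjective hinj).toEquiv).symm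

variable {F : Type*} [Field F] [Fintype F]

/-- the order of the outer automorphism group of `D₄(q)` -/
theorem card_out_D4 (p f : ℕ) [Fact p.Prime] (hF : Fintype.card F = p ^ f) :
    Nat.card (Cfsg.Out ↥(chevD4.group F)) = 6 * (f * Nat.gcd 2 (p ^ f - 1) ^ 2) := by
  have hD : chevD4 ∈ [chevG2, chevB2, chevD4, chevF4, chevE6, chevE7, chevE8] := by simp
  rw [Cfsg.Agent.Helper6.OutCount.card_out (F := F) hD, Cfsg.Agent.Helper6.OutD4.card_sym,
    Cfsg.Agent.Helper2.OutCongr.card_ringEquiv hF,
    Cfsg.Agent.Helper6.OutQuot.card_quot hD _ Cfsg.Agent.Lead.Chev.rootCoef_D4 (Nat.gcd 2 (p ^ f - 1) ^ 2)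
      (by
        have := Cfsg.Agent.S1035.result (F := F) hF (chevD4, Nat.gcd 2 (p ^ f - 1) ^ 2) (by simp)
        rw [hF]
        exact this)]

theorem center_D4 (z : ↥(chevD4.group F)) (hz : ∀ g : ↥(chevD4.group F), g * z = z * g) : z = 1 := by
  have hD : chevD4 ∈ [chevG2, chevB2, chevD4, chevF4, chevE6, chevE7, chevE8] := by simp
  have hFacts : Cfsg.Agent.Lead.Chev.ChevFacts chevD4 F := Cfsg.Agent.Lead.Chev.chevFacts_of_mem chevD4 hD
  apply Subtype.ext
  apply Cfsg.Agent.Helper6.StC.eq_one_of_central hFacts (Cfsg.Agent.Lead.Chev.corSize_of_mem chevD4 hD)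
    (z : GL chevD4.Idx F) z.2
  intro g hg
  exact congrArg Subtype.val (hz ⟨g, hg⟩)

/-- **the order of the automorphism group of `PΩ₈⁺(q)`** -/
theorem card_mulAut_pomega8 (p f : ℕ) [Fact p.Prime] (hF : Fintype.card F = p ^ f) :
    Nat.card (MulAut (POmega F (quadFormPlus 4 F))) =
      3 * (if p = 2 then 2 else 8) * f * Nat.card (POmega F (quadFormPlus 4 F)) := by
  obtain ⟨e⟩ := Cfsg.Agent.S1082.result (F := F)
  rw [← Nat.card_congr (MulAut.congr e).toEquiv, ← Nat.card_congr e.toEquiv,
    card_mulAut_of_center (center_D4 (F := F)), card_out_D4 p f hF]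
  have hp := (Fact.out : p.Prime)
  have hgcd : Nat.gcd 2 (p ^ f - 1) = if p = 2 then 1 else 2 := by
    split_ifs with h2
    · subst h2
      rcases Nat.eq_zero_or_pos f with rfl | hf
      · exfalso
        have h1 : 1 < Fintype.card F := Fintype.one_lt_card
        rw [hF] at h1
        simp at h1
      · have : Odd (2 ^ f - 1) := by
          have h1 : Even (2 ^ f) := (Nat.even_pow' hf.ne').2 even_two
          have h2 : 1 ≤ 2 ^ f := Nat.one_le_two_pow
          exact Nat.Even.sub_odd h2 h1 odd_one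
        exact Nat.Coprime.gcd_eq_one (Nat.coprime_two_left.2 this)
    · have hodd : Odd p := hp.odd_of_ne_two h2
      have h1 : Odd (p ^ f) := hodd.pow
      have h3 : Even (p ^ f - 1) := by
        have h4 : 1 ≤ p ^ f := Nat.one_le_pow _ _ hp.pos
        exact Nat.Odd.sub_odd h1 odd_one
      exact Nat.gcd_eq_left (even_iff_two_dvd.1 h3)
  rw [hgcd]
  split_ifs <;> ring

end Cfsg.Agent.Lead.D4Aut
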