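import Mathlib
import Cfsg.Agent.Lib.Lead.D4AutCard
import Cfsg.Agent.Lib.Helper6.OutD4

/-!
# The structure of the outer automorphism group of `D₄(q) ≅ PΩ₈⁺(q)`
-/

set_option autoImplicit false
set_option linter.unusedSectionVars false
set_option linter.unusedVariables false

namespace Cfsg.Agent.Lead.D4Out

open Cfsg Cfsg.Lie Cfsg.Agent.Lead.Chev Cfsg.Agent.Helper6.AutPerm Cfsg.Agent.Helper6.OutSym
  Cfsg.Agent.Helper6.OutGraph Cfsg.Agent.Helper6.OutCount Cfsg.Agent.Helper6.OutReal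
  Cfsg.Agent.Helper6.OutStruct Cfsg.Agent.Helper6.OutD4

/-! ### generalities -/

/-- isomorphic groups have isomorphic outer automorphism groups -/
theorem out_congr {G H : Type*} [Group G] [Group H] (e : G ≃* H) :
    Nonempty (Cfsg.Out G ≃* Cfsg.Out H) := by
  have hmap : Subgroup.map ((MulAut.congr e : MulAut G ≃* MulAut H) : MulAut G →* MulAut H)
      (Cfsg.Inn G) = Cfsg.Inn H := by
    ext ψ
    constructor
    · rintro ⟨_, ⟨g, rfl⟩, rfl⟩
      refine ⟨e g, ?_⟩
      apply MulEquiv.ext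
      intro x
      show e g * x * (e g)⁻¹ = e (g * e.symm x * g⁻¹)
      rw [map_mul, map_mul, map_inv, MulEquiv.apply_symm_apply]
    · rintro ⟨h, rfl⟩
      refine ⟨MulAut.conj (e.symm h), ⟨_, rfl⟩, ?_⟩
      apply MulEquiv.ext
      intro x
      show e (e.symm h * e.symm x * (e.symm h)⁻¹) = h * x * h⁻¹
      rw [map_mul, map_mul, map_inv, MulEquiv.apply_symm_apply, MulEquiv.apply_symm_apply]
  exact ⟨QuotientGroup.congr (Cfsg.Inn G) (Cfsg.Inn H) (MulAut.congr e) hmap⟩

/-- the product rule for automorphisms in standard form -/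
theorem prod_rule {M : Type*} [Group M] (d g f d' g' f' d₁ d₂ : M) (h1 : f * d' = d₁ * f)
    (h2 : g * d₁ = d₂ * g) (h3 : g' * f = f * g') :
    (d * g * f) * (d' * g' * f') = (d * d₂) * (g * g') * (f * f') := by
  calc (d * g * f) * (d' * g' * f') = d * g * (f * d') * g' * f' := by group
    _ = d * g * (d₁ * f) * g' * f' := by rw [h1]
    _ = d * (g * d₁) * (f * g') * f' := by group
    _ = d * (d₂ * g) * (g' * f) * f' := by rw [h2, h3]
    _ = (d * d₂) * (g * g') * (f * f') := by group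

variable {F : Type*} [Field F]

/-! ### the symmetries of the diagram -/

/-- the permutations of the three outer nodes -/
def iota4 : Equiv.Perm (Fin 3) →* Equiv.Perm (Fin 4) :=
  Equiv.Perm.extendDomainHom (finSuccAboveEquiv (1 : Fin 4))

theorem iota4_one (ρ : Equiv.Perm (Fin 3)) : iota4 ρ 1 = 1 :=
  Equiv.Perm.extendDomain_apply_not_subtype _ _ (by simp)

theorem iota4_eq_one_iff (ρ : Equiv.Perm (Fin 3)) (i : Fin 4) : iota4 ρ i = 1 ↔ i = 1 := by
  constructor
  · intro h
    rw [← iota4_one ρ] at h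
    exact (iota4 ρ).injective h
  · rintro rfl
    exact iota4_one ρ

theorem bonds_D4 : ∀ a b : Fin 4, a ≠ b → chevD4.bonds a b = if a = 1 ∨ b = 1 then 1 else 0 := by
  decide +kernel

/-- the permutations of the three outer nodes, as permutations of the nodes of the diagram -/
def iota : Equiv.Perm (Fin 3) →* Equiv.Perm (Fin chevD4.rank) := iota4

theorem iota_injective : Function.Injective iota :=
  Equiv.Perm.extendDomainHom_injective (finSuccAboveEquiv (1 : Fin 4))

theorem iota4_bonds (ρ : Equiv.Perm (Fin 3)) (i j : Fin 4) (hij : i ≠ j) :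
    chevD4.bonds (iota4 ρ i) (iota4 ρ j) = chevD4.bonds i j := by
  have h1 : iota4 ρ i ≠ iota4 ρ j := fun h => hij ((iota4 ρ).injective h)
  have e1 := bonds_D4 (iota4 ρ i) (iota4 ρ j) h1
  have e2 := bonds_D4 i j hij
  simp only [iota4_eq_one_iff] at e1
  exact e1.trans e2.symm

theorem iota_sym (ρ : Equiv.Perm (Fin 3)) : chevD4.IsDiagramSymmetry (iota ρ) :=
  fun i j hij => iota4_bonds ρ i j hij

/-- every symmetry of the diagram is realized -/
theorem realized (π : Equiv.Perm (Fin chevD4.rank)) (hπ : chevD4.IsDiagramSymmetry π) :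
    ∃ g : ↥(chevD4.group F) ≃* ↥(chevD4.group F), GraphWith chevD4 g π := by
  have h := permList_mem_symSearch chevD4 π hπ
  rw [sym_D4] at h
  simp only [List.mem_cons, List.mem_nil_iff, or_false] at h
  have key : ∀ k : Fin 6, permList π = permList (six F k).1 →
      ∃ g : ↥(chevD4.group F) ≃* ↥(chevD4.group F), GraphWith chevD4 g π := by
    intro k hk
    have e : π = (six F k).1 := permList_injective hk
    rw [e]
    exact (six F k).2.2
  rcases h with h | h | h | h | h | h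
  · exact key 0 (by rw [h, permList_six]; rfl)
  · exact key 5 (by rw [h, permList_six]; rfl)
  · exact key 3 (by rw [h, permList_six]; rfl)
  · exact key 1 (by rw [h, permList_six]; rfl)
  · exact key 2 (by rw [h, permList_six]; rfl)
  · exact key 4 (by rw [h, permList_six]; rfl)

/-- the realized symmetry of a permutation of the outer nodes -/
def symOf (F : Type*) [Field F] (ρ : Equiv.Perm (Fin 3)) : Sym chevD4 F :=
  ⟨iota ρ, iota_sym ρ, realized _ (iota_sym ρ)⟩

theorem symOf_injective : Function.Injective (symOf F) := by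
  intro ρ ρ' h
  exact iota_injective (congrArg Subtype.val h)

/-- the graph automorphism of a permutation of the outer nodes -/
noncomputable def gA (F : Type*) [Field F] (ρ : Equiv.Perm (Fin 3)) : MulAut ↥(chevD4.group F) :=
  gOf (symOf F ρ)

theorem gA_spec (ρ : Equiv.Perm (Fin 3)) : GraphWith chevD4 (gA F ρ) (iota ρ) := gOf_spec (symOf F ρ)

theorem gA_mul (ρ ρ' : Equiv.Perm (Fin 3)) : gA F (ρ * ρ') = gA F ρ * gA F ρ' := by
  have h1 := gA_spec (F := F) (ρ * ρ')
  rw [map_mul] at h1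
  exact graphWith_unique hD4 h1 (graphWith_mul (gA_spec ρ) (gA_spec ρ'))

/-- the graph automorphisms, as a homomorphism -/
noncomputable def gHom (F : Type*) [Field F] : Equiv.Perm (Fin 3) →* MulAut ↥(chevD4.group F) :=
  MonoidHom.mk' (gA F) gA_mul

/-! ### the subgroup of graph and field classes -/

theorem comm_AB (ρ : Equiv.Perm (Fin 3)) (σ : F ≃+* F) :
    Commute (((QuotientGroup.mk' (Cfsg.Inn ↥(chevD4.group F))).comp (gHom F)) ρ)
      (((QuotientGroup.mk' (Cfsg.Inn ↥(chevD4.group F))).comp (fHom (F := F) hD4)) σ) := by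
  show (QuotientGroup.mk (gA F ρ) : Cfsg.Out ↥(chevD4.group F)) * QuotientGroup.mk (fOf hD4 σ) =
    QuotientGroup.mk (fOf hD4 σ) * QuotientGroup.mk (gA F ρ)
  rw [← QuotientGroup.mk_mul, ← QuotientGroup.mk_mul, graph_mul_fOf hD4 _ _ (gA_spec ρ)]

/-- the classes of the graph and field automorphisms -/
noncomputable def Psi (F : Type*) [Field F] :
    Equiv.Perm (Fin 3) × (F ≃+* F) →* Cfsg.Out ↥(chevD4.group F) :=
  MonoidHom.noncommCoprod ((QuotientGroup.mk' (Cfsg.Inn ↥(chevD4.group F))).comp (gHom F))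
    ((QuotientGroup.mk' (Cfsg.Inn ↥(chevD4.group F))).comp (fHom (F := F) hD4)) comm_AB

theorem Psi_apply (ρ : Equiv.Perm (Fin 3)) (σ : F ≃+* F) :
    Psi F (ρ, σ) = cls hD4 (symOf F ρ, σ, 1) := by
  unfold Psi cls
  rw [MonoidHom.noncommCoprod_apply, rep_eq]
  have h1 : dOf (F := F) hD4 1 = 1 := (dHom (F := F) hD4).map_one
  show (QuotientGroup.mk (gA F ρ) : Cfsg.Out ↥(chevD4.group F)) * QuotientGroup.mk (fOf hD4 σ) =
    QuotientGroup.mk (dOf hD4 1 * gOf (symOf F ρ) * fOf hD4 σ)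
  rw [h1, one_mul, QuotientGroup.mk_mul]
  rfl

theorem Psi_injective [Finite F] : Function.Injective (Psi F) := by
  rintro ⟨ρ, σ⟩ ⟨ρ', σ'⟩ h
  rw [Psi_apply, Psi_apply] at h
  obtain ⟨h1, h2, -⟩ := (cls_eq_iff hD4 _ _).1 h
  simp only at h1 h2
  rw [symOf_injective h1, h2]

/-- the cyclic group of field automorphisms -/
theorem ringAut_equiv [Fintype F] (p f : ℕ) [Fact p.Prime] (hF : Fintype.card F = p ^ f) :
    Nonempty ((F ≃+* F) ≃* Multiplicative (ZMod f)) := by
  have h1 := Cfsg.Agent.Helper2.OutCongr.card_ringEquiv hF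
  have e := zmodCyclicMulEquiv (Cfsg.Agent.Helper6.OutStruct.isCyclic_ringAut (F := F))
  rw [h1] at e
  exact ⟨e.symm⟩

/-! ### even characteristic -/

/-- **`Out(D₄(2^f)) ≅ S₃ × C_f`** -/
theorem out_D4_even [Fintype F] (f : ℕ) (hF : Fintype.card F = 2 ^ f) :
    Nonempty (Cfsg.Out ↥(chevD4.group F) ≃* Equiv.Perm (Fin 3) × Multiplicative (ZMod f)) := by
  have : Fact (Nat.Prime 2) := ⟨Nat.prime_two⟩
  obtain ⟨e2⟩ := ringAut_equiv (F := F) 2 f hF
  have hcard : Nat.card (Equiv.Perm (Fin 3) × (F ≃+* F)) = Nat.card (Cfsg.Out ↥(chevD4.group F)) := by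
    rw [Cfsg.Agent.Lead.D4Aut.card_out_D4 2 f hF, Nat.card_prod, Cfsg.Agent.Helper2.OutCongr.card_ringEquiv hF,
      Nat.card_eq_fintype_card, Fintype.card_perm, Fintype.card_fin]
    have hf : f ≠ 0 := by
      rintro rfl
      have h1 : 1 < Fintype.card F := Fintype.one_lt_card
      rw [hF] at h1
      simp at h1
    have : Nat.gcd 2 (2 ^ f - 1) = 1 := by
      have h1 : Even (2 ^ f) := (Nat.even_pow' hf).2 even_two
      have h2 : 1 ≤ 2 ^ f := Nat.one_le_two_pow
      have : Odd (2 ^ f - 1) := Nat.Even.sub_odd h2 h1 odd_one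
      exact Nat.Coprime.gcd_eq_one (Nat.coprime_two_left.2 this)
    rw [this]
    simp [Nat.factorial]
  have hf0 : f ≠ 0 := by
    rintro rfl
    have h1 : 1 < Fintype.card F := Fintype.one_lt_card
    rw [hF] at h1
    simp at h1
  have : Finite (Cfsg.Out ↥(chevD4.group F)) := by
    apply Nat.finite_of_card_ne_zero
    rw [← hcard, Nat.card_prod, Cfsg.Agent.Helper2.OutCongr.card_ringEquiv hF]
    exact mul_ne_zero Nat.card_pos.ne' hf0
  have hbij : Function.Bijective (Psi F) :=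
    (Nat.bijective_iff_injective_and_card _).2 ⟨Psi_injective, hcard⟩
  exact ⟨(MulEquiv.ofBijective (Psi F) hbij).symm.trans (MulEquiv.prodCongr (MulEquiv.refl _) e2)⟩

/-! ### the field component -/

section field

variable [Finite F]

/-- the product of two classes in standard form -/
theorem cls_mul (τ τ' : Sym chevD4 F × (F ≃+* F) × (Fin chevD4.rank → Fˣ)) :
    ∃ c'' : Fin chevD4.rank → Fˣ,
      cls hD4 τ * cls hD4 τ' = cls hD4 (symMul τ.1 τ'.1, τ.2.1 * τ'.2.1, c'') := by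
  obtain ⟨π, σ, c⟩ := τ
  obtain ⟨π', σ', c'⟩ := τ'
  have h1 := fOf_mul_dOf hD4 σ c'
  have h2 := graph_mul_dOf hD4 (gOf π) π.1 (gOf_spec π) (fun j => Units.map (σ : F →* F) (c' j))
  have h3 := graph_mul_fOf hD4 (gOf π') π'.1 (gOf_spec π') σ
  refine ⟨c * (fun j => Units.map (σ : F →* F) (c' (π.1.symm j)) ^
    chevD4.graphExp (ringChar F) (π.1.symm j) j), ?_⟩
  unfold cls
  rw [← QuotientGroup.mk_mul, rep_eq, rep_eq, rep_eq, prod_rule _ _ _ _ _ _ _ _ h1 h2 h3, dOf_mul, fOf_mul,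
    gOf_symMul]

/-- the field automorphism of a class -/
noncomputable def fieldPart (o : Cfsg.Out ↥(chevD4.group F)) : F ≃+* F :=
  (Classical.choose (cls_surjective hD4 o)).2.1

theorem fieldPart_cls (τ : Sym chevD4 F × (F ≃+* F) × (Fin chevD4.rank → Fˣ)) :
    fieldPart (cls hD4 τ) = τ.2.1 := by
  have h := Classical.choose_spec (cls_surjective hD4 (cls hD4 τ))
  exact ((cls_eq_iff hD4 _ _).1 h).2.1

/-- the field automorphism of a class, as a homomorphism -/
noncomputable def beta : Cfsg.Out ↥(chevD4.group F) →* (F ≃+* F) :=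
  MonoidHom.mk' fieldPart (by
    intro o o'
    obtain ⟨τ, rfl⟩ := cls_surjective hD4 o
    obtain ⟨τ', rfl⟩ := cls_surjective hD4 o'
    obtain ⟨c'', e⟩ := cls_mul τ τ'
    rw [e, fieldPart_cls, fieldPart_cls, fieldPart_cls])

theorem beta_Psi (ρ : Equiv.Perm (Fin 3)) (σ : F ≃+* F) : beta (Psi F (ρ, σ)) = σ := by
  rw [Psi_apply]
  exact fieldPart_cls _

end field

/-! ### the diagonal classes -/

/-- the central node -/
def ctr : Fin chevD4.rank := ⟨1, by decide⟩

/-- the outer nodes -/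
def leaf (k : Fin 3) : Fin chevD4.rank := ((1 : Fin 4).succAbove k : Fin 4)

theorem iota_leaf (ρ : Equiv.Perm (Fin 3)) (k : Fin 3) : iota ρ (leaf k) = leaf (ρ k) := by
  show iota4 ρ ((finSuccAboveEquiv (1 : Fin 4) k : {x : Fin 4 // x ≠ 1}) : Fin 4) =
    ((finSuccAboveEquiv (1 : Fin 4) (ρ k) : {x : Fin 4 // x ≠ 1}) : Fin 4)
  exact Equiv.Perm.extendDomain_apply_image ρ (finSuccAboveEquiv (1 : Fin 4)) k

theorem leaf_injective : Function.Injective leaf := by
  intro a b h
  exact Fin.succAbove_right_injective h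

theorem cartan_D4 : ∀ i j : Fin 4,
    chevD4.cartan i (chevD4.simple j) = if i = j then 2 else if i = 1 ∨ j = 1 then -1 else 0 := by
  decide +kernel

theorem chiU_D4 (a : Fin chevD4.rank → Fˣ) (j : Fin 4) :
    chiU chevD4 a (chevD4.simple j) =
      ∏ i : Fin 4, a i ^ (if i = j then (2 : ℤ) else if i = 1 ∨ j = 1 then -1 else 0) := by
  unfold chiU
  apply Finset.prod_congr rfl
  intro i _
  rw [cartan_D4 i j]

/-- the character of the torus at an outer node -/
theorem cartanHom_leaf (a : Fin chevD4.rank → Fˣ) (k : Fin 3) :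
    cartanHom chevD4 F a (leaf k) = a (leaf k) ^ 2 * (a ctr)⁻¹ := by
  rw [cartanHom_apply]
  fin_cases k
  · have := chiU_D4 a (0 : Fin 4)
    rw [Fin.prod_univ_four] at this
    simp at this
    exact this
  · have := chiU_D4 a (2 : Fin 4)
    rw [Fin.prod_univ_four] at this
    simp at this
    rw [mul_comm] at this
    exact this
  · have := chiU_D4 a (3 : Fin 4)
    rw [Fin.prod_univ_four] at this
    simp at this
    rw [mul_comm] at this
    exact this

/-- the invariants of the image of the torus -/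
theorem isSquare_of_mem_range (c : Fin chevD4.rank → Fˣ) (hc : c ∈ (cartanHom chevD4 F).range)
    (k k' : Fin 3) : IsSquare (c (leaf k) * c (leaf k')) := by
  obtain ⟨a, rfl⟩ := hc
  rw [cartanHom_leaf, cartanHom_leaf]
  refine ⟨a (leaf k) * a (leaf k') * (a ctr)⁻¹, ?_⟩
  simp only [pow_two]
  -- commutative group identity
  have : ∀ x y z : Fˣ, x * x * z * (y * y * z) = x * y * z * (x * y * z) := by
    intro x y z
    simp only [mul_comm, mul_left_comm, mul_assoc]
  exact this _ _ _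

/-- **a non-trivial permutation of the outer nodes does not centralise the diagonal classes** -/
theorem exists_not_mem_range [Finite F] (h2 : ringChar F ≠ 2) (ρ : Equiv.Perm (Fin 3)) (hρ : ρ ≠ 1) :
    ∃ c : Fin chevD4.rank → Fˣ,
      c⁻¹ * (fun j => c ((iota ρ).symm j)) ∉ (cartanHom chevD4 F).range := by
  classical
  obtain ⟨z, hz⟩ := FiniteField.exists_nonsquare h2
  have hz0 : z ≠ 0 := by
    rintro rfl
    exact hz ⟨0, by simp⟩
  set zu : Fˣ := Units.mk0 z hz0 with hzu
  have hzu' : ¬ IsSquare zu⁻¹ := by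
    rintro ⟨w, hw⟩
    apply hz
    refine ⟨((w⁻¹ : Fˣ) : F), ?_⟩
    have h1 : zu = w⁻¹ * w⁻¹ := by
      rw [← mul_inv, ← hw, inv_inv]
    have h3 := congrArg Units.val h1
    rw [Units.val_mul] at h3
    exact h3
  obtain ⟨i, hi⟩ : ∃ i : Fin 3, ρ i ≠ i := by
    by_contra hall
    apply hρ
    ext j
    by_contra hj
    exact hall ⟨j, fun e => hj (by rw [e]; rfl)⟩
  obtain ⟨k, hk1, hk2⟩ : ∃ k : Fin 3, k ≠ i ∧ k ≠ ρ i := by
    revert hi
    generalize ρ i = j
    revert i j
    decide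
  refine ⟨fun j => if j = leaf i then zu else 1, fun hmem => ?_⟩
  have h := isSquare_of_mem_range _ hmem i k
  apply hzu'
  have e1 : (iota ρ).symm (leaf i) ≠ leaf i := by
    intro e
    have := congrArg (iota ρ) e
    rw [Equiv.apply_symm_apply, iota_leaf] at this
    exact hi (leaf_injective this).symm
  have e2 : (iota ρ).symm (leaf k) ≠ leaf i := by
    intro e
    have := congrArg (iota ρ) e
    rw [Equiv.apply_symm_apply, iota_leaf] at this
    exact hk2 (leaf_injective this)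
  have e3 : leaf k ≠ leaf i := fun e => hk1 (leaf_injective e)
  simp only [Pi.mul_apply, Pi.inv_apply, if_pos rfl, if_neg e1, if_neg e2, if_neg e3, mul_one, inv_one,
    one_mul] at h
  exact h

/-! ### odd characteristic -/

theorem mk_dOf [Finite F] (c : Fin chevD4.rank → Fˣ) :
    (QuotientGroup.mk (dOf hD4 c) : Cfsg.Out ↥(chevD4.group F)) = cls hD4 (symOf F 1, 1, c) := by
  unfold cls
  rw [rep_eq]
  have h1 : gOf (symOf F 1) = 1 := (gHom F).map_one
  have h2 : fOf (F := F) hD4 (1 : F ≃+* F) = 1 := (fHom (F := F) hD4).map_one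
  show _ = QuotientGroup.mk (dOf hD4 c * gOf (symOf F 1) * fOf hD4 1)
  rw [h1, h2, mul_one, mul_one]

theorem Psi_one_right (ρ : Equiv.Perm (Fin 3)) :
    Psi F (ρ, 1) = (QuotientGroup.mk (gA F ρ) : Cfsg.Out ↥(chevD4.group F)) := by
  unfold Psi
  rw [MonoidHom.noncommCoprod_apply]
  show (QuotientGroup.mk (gA F ρ) : Cfsg.Out ↥(chevD4.group F)) * QuotientGroup.mk (fHom hD4 1) = _
  rw [map_one, QuotientGroup.mk_one, mul_one]

/-- **`Out(D₄(q)) ≅ S₄ × C_f` for odd `q = p^f`** -/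
theorem out_D4_odd [Fintype F] (p f : ℕ) [Fact p.Prime] (hp : p ≠ 2) (hF : Fintype.card F = p ^ f) :
    Nonempty (Cfsg.Out ↥(chevD4.group F) ≃* Equiv.Perm (Fin 4) × Multiplicative (ZMod f)) := by
  have hpp := (Fact.out : p.Prime)
  have hchar : CharP F p := charP_of_card_eq_prime_pow hF
  have h2 : ringChar F ≠ 2 := by
    rw [ringChar.eq F p]
    exact hp
  obtain ⟨e2⟩ := ringAut_equiv (F := F) p f hF
  have hf0 : f ≠ 0 := by
    rintro rfl
    have h1 : 1 < Fintype.card F := Fintype.one_lt_card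
    rw [hF] at h1
    simp at h1
  have hgcd : Nat.gcd 2 (p ^ f - 1) = 2 := by
    have hodd : Odd p := hpp.odd_of_ne_two hp
    have h1 : Odd (p ^ f) := hodd.pow
    have h3 : Even (p ^ f - 1) := by
      have h4 : 1 ≤ p ^ f := Nat.one_le_pow _ _ hpp.pos
      exact Nat.Odd.sub_odd h1 odd_one
    exact Nat.gcd_eq_left (even_iff_two_dvd.1 h3)
  have hcardO : Nat.card (Cfsg.Out ↥(chevD4.group F)) = 24 * f := by
    rw [Cfsg.Agent.Lead.D4Aut.card_out_D4 p f hF, hgcd]
    ring
  have : Finite (Cfsg.Out ↥(chevD4.group F)) := by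
    apply Nat.finite_of_card_ne_zero
    rw [hcardO]
    omega
  set H : Subgroup (Cfsg.Out ↥(chevD4.group F)) := (Psi F).range with hH
  have hcardH : Nat.card ↥H = 6 * f := by
    rw [← Nat.card_congr (MonoidHom.ofInjective (Psi_injective (F := F))).toEquiv, Nat.card_prod,
      Cfsg.Agent.Helper2.OutCongr.card_ringEquiv hF, Nat.card_eq_fintype_card, Fintype.card_perm,
      Fintype.card_fin]
    rfl
  have hidx : Nat.card (Cfsg.Out ↥(chevD4.group F) ⧸ H) = 4 := by
    rw [← Subgroup.index_eq_card]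
    have h1 := Subgroup.card_mul_index H
    rw [hcardH, hcardO] at h1
    have h3 : 6 * f * H.index = 6 * f * 4 := by rw [h1]; ring
    exact Nat.eq_of_mul_eq_mul_left (by omega) h3
  set α := MulAction.toPermHom (Cfsg.Out ↥(chevD4.group F)) (Cfsg.Out ↥(chevD4.group F) ⧸ H) with hα
  set Ξ := α.prod (beta (F := F)) with hΞ
  have hinj : Function.Injective Ξ := by
    rw [injective_iff_map_eq_one]
    intro o ho
    rw [hΞ, MonoidHom.prod_apply] at ho
    have hαo : α o = 1 := congrArg Prod.fst ho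
    have hβo : beta o = 1 := congrArg Prod.snd ho
    have hact : ∀ x : Cfsg.Out ↥(chevD4.group F), (o * x)⁻¹ * x ∈ H := by
      intro x
      have h1 := congrArg (fun π : Equiv.Perm (Cfsg.Out ↥(chevD4.group F) ⧸ H) =>
        π ((x : Cfsg.Out ↥(chevD4.group F)) : Cfsg.Out ↥(chevD4.group F) ⧸ H)) hαo
      simp only [hα, MulAction.toPermHom_apply, MulAction.toPerm_apply, Equiv.Perm.one_apply] at h1
      rw [MulAction.Quotient.smul_mk, smul_eq_mul] at h1
      exact QuotientGroup.eq.1 h1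
    have hoH : o ∈ H := by
      have h1 := hact 1
      rw [mul_one, mul_one] at h1
      exact inv_mem_iff.1 h1
    obtain ⟨⟨ρ, σ⟩, rfl⟩ := hoH
    rw [beta_Psi] at hβo
    subst hβo
    by_contra hne
    have hρ : ρ ≠ 1 := by
      rintro rfl
      exact hne (map_one _)
    obtain ⟨c, hc⟩ := exists_not_mem_range h2 ρ hρ
    apply hc
    set c' : Fin chevD4.rank → Fˣ := fun j => c ((iota ρ).symm j) with hc'
    have hcomm : gA F ρ * dOf hD4 c = dOf hD4 c' * gA F ρ := by
      have h1 := graph_mul_dOf hD4 (gA F ρ) (iota ρ) (gA_spec ρ) c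
      have e : (fun j => c ((iota ρ).symm j) ^ chevD4.graphExp (ringChar F) ((iota ρ).symm j) j) = c' := by
        funext j
        rw [graphExp_D4, pow_one]
      rw [e] at h1
      exact h1
    have h1 := hact (QuotientGroup.mk (dOf hD4 c))
    rw [Psi_one_right, ← QuotientGroup.mk_mul, hcomm, QuotientGroup.mk_mul, mul_inv_rev, mul_assoc] at h1
    -- `(mk g)⁻¹ * ((mk d')⁻¹ * mk d) ∈ H`
    have h3 : (QuotientGroup.mk (gA F ρ) : Cfsg.Out ↥(chevD4.group F)) ∈ H := ⟨(ρ, 1), Psi_one_right ρ⟩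
    have h4 := mul_mem h3 h1
    rw [mul_inv_cancel_left, ← QuotientGroup.mk_inv, ← QuotientGroup.mk_mul, dOf_inv, dOf_mul] at h4
    have h5 := inv_mem h4
    rw [← QuotientGroup.mk_inv, dOf_inv, mul_inv_rev, inv_inv] at h5
    obtain ⟨⟨ρ', σ'⟩, h6⟩ := h5
    rw [Psi_apply, mk_dOf] at h6
    obtain ⟨-, -, a, ha⟩ := (cls_eq_iff hD4 _ _).1 h6
    simp only [mul_one] at ha
    exact ⟨a, ha.symm⟩
  have : Finite (Cfsg.Out ↥(chevD4.group F) ⧸ H) := Nat.finite_of_card_ne_zero (by rw [hidx]; norm_num)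
  have hcard : Nat.card (Cfsg.Out ↥(chevD4.group F)) =
      Nat.card (Equiv.Perm (Cfsg.Out ↥(chevD4.group F) ⧸ H) × (F ≃+* F)) := by
    rw [Nat.card_prod, Nat.card_perm, hidx, Cfsg.Agent.Helper2.OutCongr.card_ringEquiv hF, hcardO]
    rfl
  have : Finite (Equiv.Perm (Cfsg.Out ↥(chevD4.group F) ⧸ H) × (F ≃+* F)) := by
    apply Nat.finite_of_card_ne_zero
    rw [← hcard, hcardO]
    omega
  have hbij : Function.Bijective Ξ := (Nat.bijective_iff_injective_and_card _).2 ⟨hinj, hcard⟩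
  have e1 : Equiv.Perm (Cfsg.Out ↥(chevD4.group F) ⧸ H) ≃* Equiv.Perm (Fin 4) :=
    Equiv.permCongrHom (Finite.equivFinOfCardEq hidx)
  exact ⟨(MulEquiv.ofBijective Ξ hbij).trans (MulEquiv.prodCongr e1 e2)⟩

/-! ### the orthogonal groups -/

/-- **`Out(PΩ₈⁺(2^f)) ≅ S₃ × C_f`** -/
theorem out_pomega8_even [Fintype F] (f : ℕ) (hF : Fintype.card F = 2 ^ f) :
    Nonempty (Cfsg.Out (POmega F (quadFormPlus 4 F)) ≃* Equiv.Perm (Fin 3) × Multiplicative (ZMod f)) := by
  obtain ⟨e⟩ := Cfsg.Agent.S1082.result (F := F)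
  obtain ⟨e1⟩ := out_congr e
  obtain ⟨e2⟩ := out_D4_even f hF
  exact ⟨e1.symm.trans e2⟩

/-- **`Out(PΩ₈⁺(q)) ≅ S₄ × C_f` for odd `q = p^f`** -/
theorem out_pomega8_odd [Fintype F] (p f : ℕ) [Fact p.Prime] (hp : p ≠ 2) (hF : Fintype.card F = p ^ f) :
    Nonempty (Cfsg.Out (POmega F (quadFormPlus 4 F)) ≃* Equiv.Perm (Fin 4) × Multiplicative (ZMod f)) := by
  obtain ⟨e⟩ := Cfsg.Agent.S1082.result (F := F)
  obtain ⟨e1⟩ := out_congr e
  obtain ⟨e2⟩ := out_D4_odd p f hp hF
  exact ⟨e1.symm.trans e2⟩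

end Cfsg.Agent.Lead.D4Out
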