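import Mathlib
import Cfsg.Agent.Lib.Helper13.F4TDefs
import Cfsg.Agent.Lib.Helper13.F4TCHIA
import Cfsg.Agent.Lib.Helper13.F4TCHIC
import Cfsg.Agent.Lib.Helper13.F4TTC
import Cfsg.Agent.Lib.Helper3.F4TWEYL
import Cfsg.Agent.Lib.Lead.F4TUREG
import Cfsg.Agent.Lib.Helper1.F4TFIELD
import Cfsg.Agent.Lib.Helper1.F4TCHIB
import Cfsg.Agent.Lib.Helper13.F4TCW

/-!
# S2372: assembly, part 1 - Theorems A, B, C for `F₄` (lead; the clone of helper11's `Lib/Helper11/G2TAsm.lean`)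

See plans/S2372_plan.md and plans/S2371_plan.md.  Pieces: COREW1-3, CHIA4, CHIC4, TC4 (helper13), WEYL4 (helper3),
FIELD8, CHIB4 (helper1), UREG4 (lead).
-/

set_option autoImplicit false
set_option linter.unusedSectionVars false
set_option linter.unusedSimpArgs false
set_option linter.unusedVariables false

namespace Cfsg.Agent.Helper13.F4T

open Cfsg Cfsg.Lie Cfsg.Agent.Lead.Chev Cfsg.Agent.Lead.Tw

section K

variable {K : Type*} [Field K]

theorem asm_ev_pow (h : GL chevF4.Idx K) (hh : h ∈ chevF4.diagonalSubgroup K) (v k : ℕ) :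
    ev (h ^ k) v = ev h v ^ k := by
  induction k with
  | zero => rw [pow_zero, pow_zero, ev_one]
  | succ k ih => rw [pow_succ, pow_succ, ev_mul _ _ (pow_mem hh k) hh, ih]

/-- the unit `χ_h(v)` -/
noncomputable def evU (h : GL chevF4.Idx K) (hh : h ∈ chevF4.diagonalSubgroup K) (v : ℕ) : Kˣ :=
  Units.mk0 (ev h v) (ev_ne_zero h hh v)

theorem evU_val (h : GL chevF4.Idx K) (hh : h ∈ chevF4.diagonalSubgroup K) (v : ℕ) :
    ((evU h hh v : Kˣ) : K) = ev h v := rfl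

theorem asm_chiV (h : GL chevF4.Idx K) (hh : h ∈ chevF4.diagonalSubgroup K) (v : ℕ) (hv : v < 48) :
    chiV (evU h hh 33) (evU h hh 27) (evU h hh 25) (evU h hh 24) v = evU h hh v := by
  apply Units.ext
  rw [chiV, chiZ]
  simp only [Units.val_mul, Units.val_zpow_eq_zpow_val, evU_val]
  exact (ev_rc h hh v hv).symm

/-- two elements of `T(K)` with the same values at the four fundamental roots are equal -/
theorem asm_eq_of_ev (h h' : GL chevF4.Idx K) (hh : h ∈ chevF4.diagonalSubgroup K)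
    (hh' : h' ∈ chevF4.diagonalSubgroup K) (h0 : ev h 33 = ev h' 33) (h1 : ev h 27 = ev h' 27)
    (h2 : ev h 25 = ev h' 25) (h3 : ev h 24 = ev h' 24) : h = h' := by
  have e1 : h * h'⁻¹ = 1 := by
    apply eq_one_of_ev _ (mul_mem hh (inv_mem hh'))
    · rw [ev_mul _ _ hh (inv_mem hh'), ev_inv _ hh', h0, mul_inv_cancel₀ (ev_ne_zero h' hh' 33)]
    · rw [ev_mul _ _ hh (inv_mem hh'), ev_inv _ hh', h1, mul_inv_cancel₀ (ev_ne_zero h' hh' 27)]
    · rw [ev_mul _ _ hh (inv_mem hh'), ev_inv _ hh', h2, mul_inv_cancel₀ (ev_ne_zero h' hh' 25)]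
    · rw [ev_mul _ _ hh (inv_mem hh'), ev_inv _ hh', h3, mul_inv_cancel₀ (ev_ne_zero h' hh' 24)]
  exact mul_inv_eq_one.1 e1

/-- the relation `n_w h' n_w⁻¹ = h` in terms of the characters -/
theorem asm_nconj_ev (h h' : GL chevF4.Idx K) (hh' : h' ∈ chevF4.diagonalSubgroup K) (w : List ℕ)
    (hw : ∀ i ∈ w, i < 4) (L : List ℕ) (hL : ActsAs w L)
    (e : nWordGL chevF4 (f4F K).xadd w * h' * (nWordGL chevF4 (f4F K).xadd w)⁻¹ = h) (v : ℕ) (hv : v < 48) :
    ev h (L.getD v 0) = ev h' v := by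
  rw [← hL v hv, ← e]
  exact ev_nconj h' hh' w hw v hv

theorem asm_evU_pow (h : GL chevF4.Idx K) (hh : h ∈ chevF4.diagonalSubgroup K) (r : ℕ) (hr : h ^ r = 1)
    (v : ℕ) : evU h hh v ^ r = 1 := by
  apply Units.ext
  rw [Units.val_pow_eq_pow_val, Units.val_one]
  show ev h v ^ r = 1
  rw [← asm_ev_pow h hh, hr, ev_one]

theorem asm_reg_sig (f : K ≃+* K) (h : GL chevF4.Idx K) (hreg : ∀ v < 48, ev h v ≠ 1) :
    ∀ v < 48, ev (sig f h) v ≠ 1 := by
  intro v hv e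
  rw [ev_sig] at e
  apply hreg v hv
  apply f.injective
  rw [e, map_one]

/-- the condition `χ ∘ L = χ ^ q` for the character of `h`, from `n_w σ(h) n_w⁻¹ = h` -/
theorem asm_cond (q : ℕ) (f : K ≃+* K) (hf : ∀ t, f t = t ^ q) (h : GL chevF4.Idx K)
    (hh : h ∈ chevF4.diagonalSubgroup K) (w : List ℕ) (hw : ∀ i ∈ w, i < 4) (L : List ℕ)
    (hLm : L ∈ wActsF4) (hL : ActsAs w L)
    (e : nWordGL chevF4 (f4F K).xadd w * sig f h * (nWordGL chevF4 (f4F K).xadd w)⁻¹ = h) :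
    Cond q L (evU h hh 33) (evU h hh 27) (evU h hh 25) (evU h hh 24) := by
  intro v hv
  rw [asm_chiV h hh _ (acts_lt L hLm v hv), asm_chiV h hh v hv]
  apply Units.ext
  rw [Units.val_pow_eq_pow_val]
  show ev h (L.getD v 0) = ev h v ^ q
  rw [asm_nconj_ev h (sig f h) (sig_mem_diagonal f h hh) w hw L hL e v hv, ev_sig, hf]

/-- **Theorem A**: the element `g⁻¹ σ(g)` is `t n_w` with `w⁴ = -1`, and `h` is regular -/
theorem thmA (q r : ℕ) (hr : GoodPrime8 q r) (f : K ≃+* K) (hf : ∀ t, f t = t ^ q)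
    (h : GL chevF4.Idx K) (hh : h ∈ chevF4.diagonalSubgroup K) (hr1 : h ^ r = 1) (hne : h ≠ 1)
    (n' : GL chevF4.Idx K) (hn' : n' ∈ chevF4.group K) (e : n' * sig f h = h * n') :
    ∃ t ∈ chevF4.diagonalSubgroup K, ∃ w : List ℕ, (∀ i ∈ w, i < 4) ∧
      n' = t * nWordGL chevF4 (f4F K).xadd w ∧ (∃ L, IsGood L ∧ ActsAs w L) ∧
      (∀ v < 48, ev h v ≠ 1) ∧
      nWordGL chevF4 (f4F K).xadd w * sig f h * (nWordGL chevF4 (f4F K).xadd w)⁻¹ = h := by
  have hsh := sig_mem_diagonal f h hh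
  obtain ⟨u, hu, t, ht, w, hw, u', hu', ey, e1, e2, e3⟩ := torus_conj n' h (sig f h) hn' hh hsh e
  obtain ⟨L, hLm, hL⟩ := acts_cases w hw
  have hcond := asm_cond q f hf h hh w hw L hLm hL e1
  have hne' : ¬ (evU h hh 33 = 1 ∧ evU h hh 27 = 1 ∧ evU h hh 25 = 1 ∧ evU h hh 24 = 1) := by
    rintro ⟨h0, h1, h2, h3⟩
    apply hne
    apply eq_one_of_ev h hh
    · exact congrArg Units.val h0
    · exact congrArg Units.val h1
    · exact congrArg Units.val h2
    · exact congrArg Units.val h3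
  obtain ⟨hgood, hreg⟩ := corew1 q r hr (evU h hh 33) (evU h hh 27) (evU h hh 25) (evU h hh 24)
    (asm_evU_pow h hh r hr1 33) (asm_evU_pow h hh r hr1 27) (asm_evU_pow h hh r hr1 25)
    (asm_evU_pow h hh r hr1 24) hne' L hLm hcond
  have hreg' : ∀ v < 48, ev h v ≠ 1 := by
    intro v hv ev1
    apply hreg v hv
    rw [asm_chiV h hh v hv]
    apply Units.ext
    exact ev1
  have hu1 : u = 1 := ureg h hh hreg' u hu e2
  have hu'1 : u' = 1 := ureg (sig f h) hsh (asm_reg_sig f h hreg') u' hu' e3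
  refine ⟨t, ht, w, hw, ?_, ⟨L, hgood, hL⟩, hreg', e1⟩
  rw [ey, hu1, hu'1, one_mul, mul_one]

/-- **Theorem B**: the centralizer of a regular element of order `r` of `T(K)` is `T(K)` -/
theorem thmB (r : ℕ) (hr : r.Prime) (h2 : r ≠ 2) (h3 : r ≠ 3) (h : GL chevF4.Idx K)
    (hh : h ∈ chevF4.diagonalSubgroup K) (hr1 : h ^ r = 1) (hreg : ∀ v < 48, ev h v ≠ 1)
    (y : GL chevF4.Idx K) (hy : y ∈ chevF4.group K) (e : y * h = h * y) :
    y ∈ chevF4.diagonalSubgroup K := by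
  obtain ⟨u, hu, t, ht, w, hw, u', hu', ey, e1, e2, e3⟩ := torus_conj y h h hy hh hh e
  obtain ⟨L, hLm, hL⟩ := acts_cases w hw
  have hcond : ∀ v < 48, chiV (evU h hh 33) (evU h hh 27) (evU h hh 25) (evU h hh 24) (L.getD v 0) =
      chiV (evU h hh 33) (evU h hh 27) (evU h hh 25) (evU h hh 24) v := by
    intro v hv
    rw [asm_chiV h hh _ (acts_lt L hLm v hv), asm_chiV h hh v hv]
    apply Units.ext
    show ev h (L.getD v 0) = ev h v
    rw [asm_nconj_ev h h hh w hw L hL e1 v hv]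
  have hregU : ∀ v < 48, chiV (evU h hh 33) (evU h hh 27) (evU h hh 25) (evU h hh 24) v ≠ 1 := by
    intro v hv e'
    apply hreg v hv
    rw [asm_chiV h hh v hv] at e'
    exact congrArg Units.val e'
  have hLid := corew2 r hr h2 h3 (evU h hh 33) (evU h hh 27) (evU h hh 25) (evU h hh 24)
    (asm_evU_pow h hh r hr1 33) (asm_evU_pow h hh r hr1 27) (asm_evU_pow h hh r hr1 25)
    (asm_evU_pow h hh r hr1 24) hregU L hLm hcond
  rw [hLid] at hL
  obtain ⟨p1, p2⟩ := acts_id_pos w hw hL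
  have hnw := (f4F K).nWordGL_mem_diagonal_of_pos w hw p1 p2
  have hu1 : u = 1 := ureg h hh hreg u hu e2
  have hu'1 : u' = 1 := ureg h hh hreg u' hu' e3
  rw [ey, hu1, hu'1, one_mul, mul_one]
  exact mul_mem ht hnw

/-- the twisted torus `{t ∈ T(K) : n_w σ(t) n_w⁻¹ = t}` -/
def twTorus (f : K ≃+* K) (w : List ℕ) : Subgroup (GL chevF4.Idx K) where
  carrier := {t | t ∈ chevF4.diagonalSubgroup K ∧
    nWordGL chevF4 (f4F K).xadd w * sig f t * (nWordGL chevF4 (f4F K).xadd w)⁻¹ = t}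
  one_mem' := ⟨one_mem _, by rw [map_one, mul_one, mul_inv_cancel]⟩
  mul_mem' := by
    rintro a b ⟨ha, ea⟩ ⟨hb, eb⟩
    refine ⟨mul_mem ha hb, ?_⟩
    rw [map_mul]
    conv_rhs => rw [← ea, ← eb]
    group
  inv_mem' := by
    rintro a ⟨ha, ea⟩
    refine ⟨inv_mem ha, ?_⟩
    rw [map_inv]
    conv_rhs => rw [← ea]
    group

theorem mem_twTorus (f : K ≃+* K) (w : List ℕ) (t : GL chevF4.Idx K) :
    t ∈ twTorus f w ↔ t ∈ chevF4.diagonalSubgroup K ∧
      nWordGL chevF4 (f4F K).xadd w * sig f t * (nWordGL chevF4 (f4F K).xadd w)⁻¹ = t := Iff.rfl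

/-- membership in the twisted torus in terms of the characters -/
theorem asm_mem_twTorus_iff (q : ℕ) (f : K ≃+* K) (hf : ∀ t, f t = t ^ q) (w : List ℕ)
    (hw : ∀ i ∈ w, i < 4) (L : List ℕ) (hLg : IsGood L) (hL : ActsAs w L) (t : GL chevF4.Idx K)
    (ht : t ∈ chevF4.diagonalSubgroup K) :
    t ∈ twTorus f w ↔ Cond q L (evU t ht 33) (evU t ht 27) (evU t ht 25) (evU t ht 24) := by
  have hLm := good_mem L hLg
  have hst := sig_mem_diagonal f t ht
  constructor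
  · rintro ⟨_, e⟩
    exact asm_cond q f hf t ht w hw L hLm hL e
  · intro h
    refine ⟨ht, ?_⟩
    have hn : nWordGL chevF4 (f4F K).xadd w ∈ chevF4.monomialSubgroup K :=
      nWordGL_mem_monomial chevF4 (f4F K).xadd (f4F K).simple_lt w hw
    have ht' := (f4F K).monomial_conj_mem_diagonal _ hn _ hst
    have hev : ∀ v < 48, ev t (L.getD v 0) = ev t v ^ q := by
      intro v hv
      have h1 := h v hv
      rw [asm_chiV t ht _ (acts_lt L hLm v hv), asm_chiV t ht v hv] at h1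
      have h2 := congrArg Units.val h1
      rw [Units.val_pow_eq_pow_val] at h2
      exact h2
    have key : ∀ u < 48, ev (nWordGL chevF4 (f4F K).xadd w * sig f t *
        (nWordGL chevF4 (f4F K).xadd w)⁻¹) u = ev t u := by
      intro u hu
      obtain ⟨v, hv, rfl⟩ := good_surj L hLg u hu
      rw [asm_nconj_ev _ (sig f t) hst w hw L hL rfl v hv, ev_sig, hf, hev v hv]
    exact asm_eq_of_ev _ _ ht' ht (key 33 (by norm_num)) (key 27 (by norm_num)) (key 25 (by norm_num))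
      (key 24 (by norm_num))

/-- **Theorem C**: the twisted torus of an element `w` with `w⁴ = -1` is cyclic of order `q⁴ + 1` -/
theorem thmC [Fintype K] (q : ℕ) (hq : 2 ≤ q) (hK : Fintype.card K = q ^ 8) (f : K ≃+* K)
    (hf : ∀ t, f t = t ^ q) (w : List ℕ) (hw : ∀ i ∈ w, i < 4)
    (hgood : ∃ L, IsGood L ∧ ActsAs w L) :
    IsCyclic (twTorus f w) ∧ Nat.card (twTorus f w) = q ^ 4 + 1 := by
  obtain ⟨L, hLg, hL⟩ := hgood
  obtain ⟨u, hu, e0, e1, e2, e3, hc1, hc2⟩ := corew3 (K := K) q L hLg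
  have hmem := asm_mem_twTorus_iff q f hf w hw L hLg hL
  have hdata : ∀ a : twTorus f w,
      evU a.1 a.2.1 u ^ (q ^ 4 + 1) = 1 ∧ evU a.1 a.2.1 33 = evU a.1 a.2.1 u ^ e0 ∧
        evU a.1 a.2.1 27 = evU a.1 a.2.1 u ^ e1 ∧ evU a.1 a.2.1 25 = evU a.1 a.2.1 u ^ e2 ∧
        evU a.1 a.2.1 24 = evU a.1 a.2.1 u ^ e3 := by
    intro a
    have h1 := hc1 _ _ _ _ ((hmem a.1 a.2.1).1 a.2)
    rw [asm_chiV a.1 a.2.1 u hu] at h1
    exact h1
  have hinj : ∀ a b : twTorus f w, ev a.1 u = ev b.1 u → a = b := by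
    intro a b hab
    have hu' : evU a.1 a.2.1 u = evU b.1 b.2.1 u := Units.ext hab
    obtain ⟨_, a0, a1, a2, a3⟩ := hdata a
    obtain ⟨_, b0, b1, b2, b3⟩ := hdata b
    apply Subtype.ext
    apply asm_eq_of_ev _ _ a.2.1 b.2.1
    · exact congrArg Units.val (by rw [a0, b0, hu'] : evU a.1 a.2.1 33 = evU b.1 b.2.1 33)
    · exact congrArg Units.val (by rw [a1, b1, hu'] : evU a.1 a.2.1 27 = evU b.1 b.2.1 27)
    · exact congrArg Units.val (by rw [a2, b2, hu'] : evU a.1 a.2.1 25 = evU b.1 b.2.1 25)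
    · exact congrArg Units.val (by rw [a3, b3, hu'] : evU a.1 a.2.1 24 = evU b.1 b.2.1 24)
  constructor
  · let φ : twTorus f w →* K :=
      { toFun := fun t => ev t.1 u
        map_one' := ev_one u
        map_mul' := fun a b => ev_mul _ _ a.2.1 b.2.1 u }
    exact isCyclic_of_subgroup_isDomain φ (fun a b hab => hinj a b hab)
  · rw [← field8_roots q hq hK]
    refine Nat.card_congr (Equiv.ofBijective
      (fun t : twTorus f w => (⟨evU t.1 t.2.1 u, (hdata t).1⟩ :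
        {ξ : Kˣ // ξ ^ (q ^ 4 + 1) = 1})) ⟨?_, ?_⟩)
    · intro a b hab
      have := congrArg (fun x : {ξ : Kˣ // ξ ^ (q ^ 4 + 1) = 1} => (x.1 : K)) hab
      exact hinj a b this
    · rintro ⟨ζ, hζ⟩
      obtain ⟨hcond, hval⟩ := hc2 ζ hζ
      obtain ⟨t, ht, h0, h1, h2, h3⟩ := exists_ev ((ζ ^ e0 : Kˣ) : K) ((ζ ^ e1 : Kˣ) : K)
        ((ζ ^ e2 : Kˣ) : K) ((ζ ^ e3 : Kˣ) : K) (ζ ^ e0).ne_zero (ζ ^ e1).ne_zero (ζ ^ e2).ne_zero
        (ζ ^ e3).ne_zero
      have g0 : evU t ht 33 = ζ ^ e0 := Units.ext h0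
      have g1 : evU t ht 27 = ζ ^ e1 := Units.ext h1
      have g2 : evU t ht 25 = ζ ^ e2 := Units.ext h2
      have g3 : evU t ht 24 = ζ ^ e3 := Units.ext h3
      have htm : t ∈ twTorus f w := by
        rw [hmem t ht, g0, g1, g2, g3]
        exact hcond
      refine ⟨⟨t, htm⟩, Subtype.ext ?_⟩
      show evU t ht u = ζ
      rw [← asm_chiV t ht u hu, g0, g1, g2, g3]
      exact hval

end K

end Cfsg.Agent.Helper13.F4T
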