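import Mathlib
import Cfsg.Agent.Lib.Helper13.F4TDefs
import Cfsg.Agent.Lib.Helper13.F4TCHIA
import Cfsg.Agent.Lib.Helper28.F4TMAP
import Cfsg.Agent.Lib.Lead.ChevFixGen
import Cfsg.Agent.Lib.Helper1.F4TCHIB

/-!
# S2372, piece FIX4: the fixed points of the field automorphism on `F₄(K)` come from the fixed field

Clone of `Lib/Lead/G2TFIX.lean` through the generic `Cfsg.Agent.Lead.FixGen.fix_group_gen`; only the torus case is
specific to the datum (four fundamental roots `33, 27, 25, 24`).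
-/

set_option autoImplicit false
set_option linter.unusedSectionVars false
set_option linter.unusedSimpArgs false
set_option linter.unusedVariables false

namespace Cfsg.Agent.Helper13.F4T

open Cfsg Cfsg.Lie Cfsg.Agent.Lead.Chev Cfsg.Agent.Lead.Tw

section FK

variable {F : Type*} [Field F] {K : Type*} [Field K] (ι : F →+* K)

namespace FIX

/-- a fixed element of `T(K)` comes from `T(F)` -/
theorem torus_fixed (f : K ≃+* K) (hf : ∀ t, f t = t ↔ t ∈ Set.range ι) (h : GL chevF4.Idx K)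
    (hh : h ∈ chevF4.diagonalSubgroup K) (e : sig f h = h) :
    ∃ z ∈ chevF4.diagonalSubgroup F, mapGL ι z = h := by
  have key : ∀ v : ℕ, ∃ ξ : F, ι ξ = ev h v ∧ ξ ≠ 0 := by
    intro v
    have e1 : f (ev h v) = ev h v := by rw [← ev_sig, e]
    obtain ⟨ξ, hξ⟩ := (hf _).1 e1
    refine ⟨ξ, hξ, ?_⟩
    rintro rfl
    rw [map_zero] at hξ
    exact ev_ne_zero h hh v hξ.symm
  obtain ⟨x0, hx0, h0⟩ := key 33
  obtain ⟨x1, hx1, h1⟩ := key 27
  obtain ⟨x2, hx2, h2⟩ := key 25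
  obtain ⟨x3, hx3, h3⟩ := key 24
  obtain ⟨z, hz, hz0, hz1, hz2, hz3⟩ := exists_ev (K := F) x0 x1 x2 x3 h0 h1 h2 h3
  refine ⟨z, hz, ?_⟩
  have hmz : mapGL ι z ∈ chevF4.diagonalSubgroup K := mapGL_diagonal ι z hz
  have h1' : h * (mapGL ι z)⁻¹ = 1 := by
    apply eq_one_of_ev _ (mul_mem hh (inv_mem hmz))
    · rw [ev_mul _ _ hh (inv_mem hmz), ev_inv _ hmz, ev_mapGL, hz0, hx0, mul_inv_cancel₀ (ev_ne_zero h hh 33)]
    · rw [ev_mul _ _ hh (inv_mem hmz), ev_inv _ hmz, ev_mapGL, hz1, hx1, mul_inv_cancel₀ (ev_ne_zero h hh 27)]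
    · rw [ev_mul _ _ hh (inv_mem hmz), ev_inv _ hmz, ev_mapGL, hz2, hx2, mul_inv_cancel₀ (ev_ne_zero h hh 25)]
    · rw [ev_mul _ _ hh (inv_mem hmz), ev_inv _ hmz, ev_mapGL, hz3, hx3, mul_inv_cancel₀ (ev_ne_zero h hh 24)]
  exact (mul_inv_eq_one.1 h1').symm

end FIX

/-- PIECE FIX4: the fixed points of the field automorphism on `F₄(K)` come from `F` -/
theorem fix_group (f : K ≃+* K) (hf : ∀ t, f t = t ↔ t ∈ Set.range ι) (y : GL chevF4.Idx K)
    (hy : y ∈ chevF4.group K) (e : sig f y = y) : ∃ z ∈ chevF4.group F, mapGL ι z = y :=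
  Cfsg.Agent.Lead.FixGen.fix_group_gen (f4F F) (f4F K) ι f4S f hf
    (fun h hh e' => FIX.torus_fixed ι f hf h hh e') y hy e

end FK

end Cfsg.Agent.Helper13.F4T
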