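import Mathlib
import Cfsg.Agent.Lib.Helper13.F4TDefs
import Cfsg.Agent.Lib.Lead.F4TAsm
import Cfsg.Agent.Lib.Helper25.F4TARITH
import Cfsg.Agent.Lib.Helper28.G2TSYL
import Cfsg.Agent.Lib.Helper28.F4TMAP
import Cfsg.Agent.Lib.Lead.F4TFIX
import Cfsg.Agent.S1062

/-!
# S2372: assembly, part 2 - the self-centralizing cyclic subgroup of order `q⁴ + 1` of `F₄(q)` (lead; the clone of
helper11's `Lib/Helper11/G2TMain.lean`)

See plans/S2372_plan.md.  Pieces: ARITH8 (helper25), SYL (helper28, generic), MAP4 (helper28), FIX4 (lead),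
FIELD8, CHIB4 (helper1).
-/

set_option autoImplicit false
set_option linter.unusedSectionVars false
set_option linter.unusedSimpArgs false
set_option linter.unusedVariables false

namespace Cfsg.Agent.Helper13.F4T

open Cfsg Cfsg.Lie Cfsg.Agent.Lead.Chev Cfsg.Agent.Lead.Tw

section Final

variable {F : Type*} [Field F] [Fintype F] {K : Type*} [Field K] [Fintype K]

/-- the conjugated embedding `z ↦ g⁻¹ ι(z) g` -/
noncomputable def psiHom (ι : F →+* K) (g : GL chevF4.Idx K) : ↥(chevF4.group F) →* GL chevF4.Idx K :=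
  (MulAut.conj g⁻¹).toMonoidHom.comp ((mapGL ι).comp (chevF4.group F).subtype)

theorem psiHom_apply (ι : F →+* K) (g : GL chevF4.Idx K) (z : ↥(chevF4.group F)) :
    psiHom ι g z = g⁻¹ * mapGL ι z.1 * g := by
  simp [psiHom, MulAut.conj_apply]

theorem psiHom_injective (ι : F →+* K) (g : GL chevF4.Idx K) : Function.Injective (psiHom ι g) := by
  intro a b hab
  rw [psiHom_apply, psiHom_apply] at hab
  have h1 : mapGL ι a.1 = mapGL ι b.1 := by
    have := congrArg (fun y => g * y * g⁻¹) hab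
    simpa [mul_assoc] using this
  exact Subtype.ext (mapGL_injective ι h1)

/-- the image of the centralizer of `x₀` under `z ↦ g⁻¹ ι(z) g` is the twisted torus -/
theorem main_map_eq (ι : F →+* K) (r : ℕ) (hr : r.Prime) (hr2 : r ≠ 2) (hr3 : r ≠ 3) (f : K ≃+* K)
    (hfix : ∀ t, f t = t ↔ t ∈ Set.range ι)
    (x₀ : ↥(chevF4.group F)) (g : GL chevF4.Idx K) (hg : g ∈ chevF4.group K)
    (h : GL chevF4.Idx K) (hh : h ∈ chevF4.diagonalSubgroup K) (hdef : h = g⁻¹ * mapGL ι x₀.1 * g)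
    (hr1 : h ^ r = 1) (hreg : ∀ v < 48, ev h v ≠ 1)
    (t₁ : GL chevF4.Idx K) (ht₁ : t₁ ∈ chevF4.diagonalSubgroup K) (w : List ℕ) (hw : ∀ i ∈ w, i < 4)
    (en : g⁻¹ * sig f g = t₁ * nWordGL chevF4 (f4F K).xadd w) :
    (Subgroup.centralizer ({x₀} : Set ↥(chevF4.group F))).map (psiHom ι g) = twTorus f w := by
  have hfι : ∀ t, f (ι t) = ι t := fun t => (hfix _).2 ⟨t, rfl⟩
  have hsg : sig f g = g * (t₁ * nWordGL chevF4 (f4F K).xadd w) := by rw [← en]; group
  set n := nWordGL chevF4 (f4F K).xadd w with hn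
  have hx : mapGL ι x₀.1 = g * h * g⁻¹ := by rw [hdef]; group
  ext y
  constructor
  · rintro ⟨z, hz, rfl⟩
    rw [SetLike.mem_coe, Subgroup.mem_centralizer_singleton_iff] at hz
    rw [psiHom_apply]
    set y := g⁻¹ * mapGL ι z.1 * g with hy
    have hyG : y ∈ chevF4.group K :=
      mul_mem (mul_mem (inv_mem hg) (mapGL_group ι _ z.2)) hg
    have hzx : mapGL ι z.1 * mapGL ι x₀.1 = mapGL ι x₀.1 * mapGL ι z.1 := by
      rw [← map_mul, ← map_mul]
      exact congrArg (fun a : ↥(chevF4.group F) => mapGL ι a.1) hz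
    have hcomm : y * h = h * y := by
      rw [hy, hdef]
      calc g⁻¹ * mapGL ι z.1 * g * (g⁻¹ * mapGL ι x₀.1 * g)
          = g⁻¹ * (mapGL ι z.1 * mapGL ι x₀.1) * g := by group
        _ = g⁻¹ * (mapGL ι x₀.1 * mapGL ι z.1) * g := by rw [hzx]
        _ = g⁻¹ * mapGL ι x₀.1 * g * (g⁻¹ * mapGL ι z.1 * g) := by group
    have hyT : y ∈ chevF4.diagonalSubgroup K := thmB r hr hr2 hr3 h hh hr1 hreg y hyG hcomm
    refine ⟨hyT, ?_⟩
    have hsy : sig f y = (sig f g)⁻¹ * mapGL ι z.1 * sig f g := by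
      rw [hy, map_mul, map_mul, map_inv, sig_mapGL ι f hfι]
    rw [hsy, hsg]
    have hc : t₁ * y = y * t₁ := (f4F K).diagonal_commute t₁ y ht₁ hyT
    calc n * ((g * (t₁ * n))⁻¹ * mapGL ι z.1 * (g * (t₁ * n))) * n⁻¹
        = t₁⁻¹ * (g⁻¹ * mapGL ι z.1 * g) * t₁ := by group
      _ = t₁⁻¹ * (y * t₁) := by rw [← hy]; group
      _ = y := by rw [← hc]; group
  · rintro ⟨htT, et⟩
    -- `g y g⁻¹` is fixed
    have hyG : g * y * g⁻¹ ∈ chevF4.group K :=
      mul_mem (mul_mem hg ((f4F K).diagonal_le_group htT)) (inv_mem hg)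
    have hsy : sig f y = n⁻¹ * y * n := by
      rw [← hn] at et
      calc sig f y = n⁻¹ * (n * sig f y * n⁻¹) * n := by group
        _ = n⁻¹ * y * n := by rw [et]
    have hc : t₁ * y = y * t₁ := (f4F K).diagonal_commute t₁ y ht₁ htT
    have hfixy : sig f (g * y * g⁻¹) = g * y * g⁻¹ := by
      rw [map_mul, map_mul, map_inv, hsy, hsg]
      calc g * (t₁ * n) * (n⁻¹ * y * n) * (g * (t₁ * n))⁻¹ = g * (t₁ * y) * t₁⁻¹ * g⁻¹ := by group
        _ = g * y * g⁻¹ := by rw [hc]; group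
    obtain ⟨z, hz, ez⟩ := fix_group ι f hfix _ hyG hfixy
    refine ⟨⟨z, hz⟩, ?_, ?_⟩
    · rw [SetLike.mem_coe, Subgroup.mem_centralizer_singleton_iff]
      apply Subtype.ext
      apply mapGL_injective ι
      show mapGL ι (z * x₀.1) = mapGL ι (x₀.1 * z)
      rw [map_mul, map_mul, ez, hx]
      have hc2 : y * h = h * y := (f4F K).diagonal_commute y h htT hh
      calc g * y * g⁻¹ * (g * h * g⁻¹) = g * (y * h) * g⁻¹ := by group
        _ = g * (h * y) * g⁻¹ := by rw [hc2]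
        _ = g * h * g⁻¹ * (g * y * g⁻¹) := by group
    · rw [psiHom_apply]
      show g⁻¹ * mapGL ι z * g = y
      rw [ez]
      group

theorem main_card_torus (q : ℕ) (hK : Fintype.card K = q ^ 8) :
    Nat.card ((chevF4.diagonalSubgroup K).subgroupOf (chevF4.group K)) = (q ^ 8 - 1) ^ 4 := by
  have h2 : Nat.card ((chevF4.diagonalSubgroup K).subgroupOf (chevF4.group K)) =
      Nat.card (chevF4.diagonalSubgroup K) :=
    Nat.card_congr (Subgroup.subgroupOfEquivOfLe (f4F K).diagonal_le_group).toEquiv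
  rw [h2, card_torus, hK]

theorem main_K (ι : F →+* K) (q : ℕ) (hF : Fintype.card F = q) (hq : 2 ≤ q)
    (hK : Fintype.card K = q ^ 8) :
    ∃ H : Subgroup ↥(chevF4.group F), IsCyclic ↥H ∧ Nat.card ↥H = q ^ 4 + 1 ∧
      Subgroup.centralizer (H : Set ↥(chevF4.group F)) = H := by
  obtain ⟨r, hr⟩ := arith8_exists q hq
  haveI : Fact r.Prime := ⟨hr.prime⟩
  have hr3 : r ≠ 3 := (arith8_coprime q r hr).2
  obtain ⟨f, hf⟩ := field8_frob ι q hF
  have hfix : ∀ t, f t = t ↔ t ∈ Set.range ι := fun t => by rw [hf]; exact field8_fixed ι q hF t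
  have hfι : ∀ t, f (ι t) = ι t := fun t => (hfix _).2 ⟨t, rfl⟩
  -- an element of order `r`
  have hdvd : r ∣ Nat.card ↥(chevF4.group F) := by
    rw [Cfsg.Agent.S1062.result hF]
    exact arith8_dvd q r hr
  obtain ⟨x₀, hx₀⟩ := exists_prime_orderOf_dvd_card' r hdvd
  -- its image in `F₄(K)`
  have hxG : mapGL ι x₀.1 ∈ chevF4.group K := mapGL_group ι _ x₀.2
  have hinj : Function.Injective ((mapGL ι).comp (chevF4.group F).subtype) :=
    (mapGL_injective ι).comp Subtype.val_injective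
  have hxo : orderOf (⟨mapGL ι x₀.1, hxG⟩ : ↥(chevF4.group K)) = r := by
    rw [← hx₀, ← orderOf_injective _ hinj x₀, ← Subgroup.orderOf_coe]
    rfl
  -- Sylow
  have hfact : (Nat.card ↥(chevF4.group K)).factorization r =
      (Nat.card ((chevF4.diagonalSubgroup K).subgroupOf (chevF4.group K))).factorization r := by
    rw [Cfsg.Agent.S1062.result hK, main_card_torus q hK]
    exact arith8_fact q r hq hr
  obtain ⟨g, hgT⟩ := Cfsg.Agent.Helper11.G2T.syl_conj
    ((chevF4.diagonalSubgroup K).subgroupOf (chevF4.group K)) r hr.prime hfact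
    ⟨mapGL ι x₀.1, hxG⟩ hxo
  rw [Subgroup.mem_subgroupOf] at hgT
  set h : GL chevF4.Idx K := g.1⁻¹ * mapGL ι x₀.1 * g.1 with hdef
  have hh : h ∈ chevF4.diagonalSubgroup K := hgT
  have hxr : mapGL ι x₀.1 ^ r = 1 := by
    rw [← map_pow, ← SubgroupClass.coe_pow, ← hx₀, pow_orderOf_eq_one]
    simp
  have hr1 : h ^ r = 1 := by
    rw [hdef, show g.1⁻¹ * mapGL ι x₀.1 * g.1 = g.1⁻¹ * mapGL ι x₀.1 * g.1⁻¹⁻¹ by rw [inv_inv],
      conj_pow, hxr]
    group
  have hne : h ≠ 1 := by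
    intro h1
    have hx1 : mapGL ι x₀.1 = 1 := by
      have : mapGL ι x₀.1 = g.1 * h * g.1⁻¹ := by rw [hdef]; group
      rw [this, h1]; group
    have : x₀ = 1 := hinj (by simpa using hx1)
    rw [this, orderOf_one] at hx₀
    exact hr.prime.one_lt.ne hx₀
  -- the element `g⁻¹ σ(g)`
  have hsx : sig f (mapGL ι x₀.1) = mapGL ι x₀.1 := sig_mapGL ι f hfι x₀.1
  have hn'G : g.1⁻¹ * sig f g.1 ∈ chevF4.group K := mul_mem (inv_mem g.2) (sig_group f g.1 g.2)
  have e : g.1⁻¹ * sig f g.1 * sig f h = h * (g.1⁻¹ * sig f g.1) := by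
    rw [hdef, map_mul, map_mul, map_inv, hsx]
    group
  obtain ⟨t₁, ht₁, w, hw, en, hgood, hreg, _⟩ := thmA q r hr f hf h hh hr1 hne _ hn'G e
  obtain ⟨hcyc, hcard⟩ := thmC q hq hK f hf w hw hgood
  have hmap := main_map_eq ι r hr.prime hr.ne2 hr3 f hfix x₀ g.1 g.2 h hh hdef hr1 hreg t₁ ht₁ w hw en
  set H := Subgroup.centralizer ({x₀} : Set ↥(chevF4.group F)) with hH
  have eqv : ↥H ≃* ↥(twTorus f w) :=
    (H.equivMapOfInjective (psiHom ι g.1) (psiHom_injective ι g.1)).trans (MulEquiv.subgroupCongr hmap)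
  have hHcyc : IsCyclic ↥H := (MulEquiv.isCyclic eqv).2 hcyc
  refine ⟨H, hHcyc, ?_, ?_⟩
  · rw [Nat.card_congr eqv.toEquiv, hcard]
  · apply le_antisymm
    · intro c hc
      rw [hH, Subgroup.mem_centralizer_singleton_iff]
      have hx₀H : x₀ ∈ H := by
        rw [hH, Subgroup.mem_centralizer_singleton_iff]
      exact (hc x₀ hx₀H).symm
    · intro c hc a ha
      letI := hHcyc.commGroup
      have := mul_comm (⟨a, ha⟩ : ↥H) ⟨c, hc⟩
      exact congrArg Subtype.val this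

end Final

end Cfsg.Agent.Helper13.F4T
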