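import Mathlib

/-!
# Piece B for S4843 (helper22's farm-out): the inequality `sum_theta_gt`
-/

set_option autoImplicit false

namespace Cfsg.Agent.Lead.FitCenB

/-- Duality count for a bimultiplicative pairing into `ℂˣ`. -/
theorem duality_count {U : Type*} [Group U] [Finite U] (β : U → U → ℂˣ)
    (hβl : ∀ w w' v, β (w * w') v = β w v * β w' v)
    (hβr : ∀ w v v', β w (v * v') = β w v * β w v')
    (W : Subgroup U) :
    Nat.card W * Nat.card {v : U // ∀ w ∈ W, β w v = 1} ≤
      Nat.card U * Nat.card {w : U // w ∈ W ∧ ∀ v, β w v = 1} := by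
  classical
  have hβr1 : ∀ w, β w 1 = 1 := fun w => by
    have h := hβr w 1 1
    rw [mul_one] at h
    exact (mul_left_cancel (a := β w 1) (by rw [mul_one]; exact h)).symm
  let Ψ : U →* (W → ℂˣ) :=
    { toFun := fun v w => β w v
      map_one' := by funext w; exact hβr1 w
      map_mul' := fun v v' => by funext w; exact hβr w v v' }
  let R : Subgroup (W → ℂˣ) := Ψ.range
  have hR : ∀ f : R, ∃ v, ∀ w : W, (f : W → ℂˣ) w = β w v := by
    rintro ⟨f, v, rfl⟩
    exact ⟨v, fun w => rfl⟩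
  let Φ : W →* (R →* ℂˣ) :=
    { toFun := fun w =>
        { toFun := fun f => (f : W → ℂˣ) w
          map_one' := rfl
          map_mul' := fun _ _ => rfl }
      map_one' := by
        refine MonoidHom.ext fun f => ?_
        obtain ⟨v, hv⟩ := hR f
        have h1 : β (1 : U) v = 1 := by
          have h := hβl 1 1 v
          rw [mul_one] at h
          exact (mul_left_cancel (a := β 1 v) (by rw [mul_one]; exact h)).symm
        simp only [MonoidHom.coe_mk, OneHom.coe_mk, MonoidHom.one_apply]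
        rw [hv 1]
        simpa using h1
      map_mul' := fun w w' => by
        refine MonoidHom.ext fun f => ?_
        obtain ⟨v, hv⟩ := hR f
        simp only [MonoidHom.coe_mk, OneHom.coe_mk, MonoidHom.mul_apply]
        rw [hv, hv, hv]
        simpa using hβl w w' v }
  have : Finite R := Finite.of_surjective Ψ.rangeRestrict Ψ.rangeRestrict_surjective
  -- cardinalities
  have e1 : Nat.card W = Nat.card Φ.ker * Nat.card Φ.range := by
    rw [← Subgroup.index_ker, Subgroup.card_mul_index]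
  have e2 : Nat.card U = Nat.card Ψ.ker * Nat.card R := by
    rw [← Subgroup.index_ker, Subgroup.card_mul_index]
  have e3 : Nat.card (R →* ℂˣ) = Nat.card R :=
    CommGroup.card_monoidHom_of_hasEnoughRootsOfUnity R ℂ
  have hRpos : 0 < Nat.card R := Nat.card_pos
  have hfin : Finite (R →* ℂˣ) := Nat.finite_of_card_ne_zero (by rw [e3]; exact hRpos.ne')
  have e4 : Nat.card Φ.range ≤ Nat.card R := by
    rw [← e3]
    exact Nat.card_le_card_of_injective _ Subtype.val_injective
  have e5 : Nat.card Ψ.ker = Nat.card {v : U // ∀ w ∈ W, β w v = 1} := by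
    apply Nat.card_congr
    apply Equiv.subtypeEquivRight
    intro v
    rw [MonoidHom.mem_ker]
    constructor
    · intro h w hw
      exact congrFun h ⟨w, hw⟩
    · intro h
      funext w
      exact h w.1 w.2
  have e6 : Nat.card Φ.ker ≤ Nat.card {w : U // w ∈ W ∧ ∀ v, β w v = 1} := by
    refine Nat.card_le_card_of_injective
      (fun w => ⟨(w.1 : U), w.1.2, fun v => ?_⟩) ?_
    · have h := w.2
      rw [MonoidHom.mem_ker] at h
      have h2 : (Φ w.1) ⟨Ψ v, v, rfl⟩ = 1 := DFunLike.congr_fun h ⟨Ψ v, v, rfl⟩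
      exact h2
    · intro a b hab
      have : ((a.1 : W) : U) = ((b.1 : W) : U) := by
        have := congrArg Subtype.val hab
        simpa using this
      exact Subtype.ext (Subtype.ext this)
  calc Nat.card W * Nat.card {v : U // ∀ w ∈ W, β w v = 1}
      = Nat.card Φ.ker * Nat.card Φ.range * Nat.card Ψ.ker := by rw [e1, e5]
    _ ≤ Nat.card {w : U // w ∈ W ∧ ∀ v, β w v = 1} * Nat.card R * Nat.card Ψ.ker := by
        gcongr
    _ = Nat.card U * Nat.card {w : U // w ∈ W ∧ ∀ v, β w v = 1} := by rw [e2]; ring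


section Comm

variable {G : Type*} [Group G]

/-- the commutator `g v g⁻¹ v⁻¹` -/
def cm (g v : G) : G := g * v * g⁻¹ * v⁻¹

theorem cm_mul_left (w w' v : G) : cm (w * w') v = w * cm w' v * w⁻¹ * cm w v := by
  unfold cm; group

theorem cm_mul_right (w v v' : G) : cm w (v * v') = cm w v * v * cm w v' * v⁻¹ := by
  unfold cm; group

theorem cm_eq_one_iff (g v : G) : cm g v = 1 ↔ g * v = v * g := by
  unfold cm
  constructor
  · intro h
    have h2 : g * v * g⁻¹ * v⁻¹ * (v * g) = 1 * (v * g) := by rw [h]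
    rw [one_mul] at h2
    rw [← h2]; group
  · intro h
    rw [h]; group

theorem cm_mul_left_central {w w' v : G} (hc : cm w' v ∈ Subgroup.center G) :
    cm (w * w') v = cm w v * cm w' v := by
  have hc' := Subgroup.mem_center_iff.1 hc
  rw [cm_mul_left, hc' w, mul_assoc (cm w' v) w, mul_inv_cancel, mul_one, ← hc' (cm w v)]

theorem cm_mul_right_central {w v v' : G} (hc : cm w v' ∈ Subgroup.center G) :
    cm w (v * v') = cm w v * cm w v' := by
  have hc' := Subgroup.mem_center_iff.1 hc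
  rw [cm_mul_right, mul_assoc (cm w v) v, hc' v, ← mul_assoc, mul_assoc _ v, mul_inv_cancel, mul_one]

variable (U : Subgroup G)

/-- `g` is good if no commutator `[g, v]`, `v ∈ U`, is a nontrivial central element. -/
def Good (g : G) : Prop := ∀ v ∈ U, cm g v ∈ Subgroup.center G → cm g v = 1

theorem good_one : Good U (1 : G) := by
  intro v _ _
  unfold cm; group

theorem good_conj [hN : U.Normal] {g : G} (hg : Good U g) (h : G) : Good U (h * g * h⁻¹) := by
  intro v hv hc
  have key : cm (h * g * h⁻¹) v = h * cm g (h⁻¹ * v * h) * h⁻¹ := by unfold cm; group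
  have hv' : h⁻¹ * v * h ∈ U := by
    have := hN.conj_mem v hv h⁻¹
    simpa using this
  have hc' := Subgroup.mem_center_iff.1 hc
  have hc2 : cm g (h⁻¹ * v * h) = cm (h * g * h⁻¹) v := by
    have e : cm g (h⁻¹ * v * h) = h⁻¹ * cm (h * g * h⁻¹) v * h := by rw [key]; group
    rw [e, hc' h⁻¹, mul_assoc, inv_mul_cancel, mul_one]
  have := hg _ hv' (by rw [hc2]; exact hc)
  rw [← hc2]; exact this

theorem good_mul_center {g z : G} (hg : Good U g) (hz : z ∈ Subgroup.center G) :
    Good U (g * z) := by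
  intro v hv hc
  have hz' := Subgroup.mem_center_iff.1 hz
  have key : cm (g * z) v = cm g v := by
    unfold cm
    calc g * z * v * (g * z)⁻¹ * v⁻¹ = g * (z * v) * z⁻¹ * g⁻¹ * v⁻¹ := by group
      _ = g * (v * z) * z⁻¹ * g⁻¹ * v⁻¹ := by rw [← hz' v]
      _ = g * v * g⁻¹ * v⁻¹ := by group
  rw [key] at hc ⊢
  exact hg v hv hc

theorem good_of_pow [Finite G] {k : ℕ} (hk : Nat.Coprime k (Nat.card G)) {x : G}
    (hx : Good U (x ^ k)) : Good U x := by
  intro v hv hc
  have hc' := Subgroup.mem_center_iff.1 hc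
  have h1 : x * v * x⁻¹ = cm x v * v := by unfold cm; group
  have h2 : ∀ j : ℕ, x ^ j * v * (x ^ j)⁻¹ = cm x v ^ j * v := by
    intro j
    induction j with
    | zero => simp
    | succ j ih =>
      have hcj := Subgroup.mem_center_iff.1 (Subgroup.pow_mem _ hc j)
      calc x ^ (j + 1) * v * (x ^ (j + 1))⁻¹ = x * (x ^ j * v * (x ^ j)⁻¹) * x⁻¹ := by
            rw [pow_succ']; group
        _ = x * (cm x v ^ j * v) * x⁻¹ := by rw [ih]
        _ = (x * cm x v ^ j) * v * x⁻¹ := by group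
        _ = (cm x v ^ j * x) * v * x⁻¹ := by rw [hcj x]
        _ = cm x v ^ j * (x * v * x⁻¹) := by group
        _ = cm x v ^ (j + 1) * v := by rw [h1, pow_succ]; group
  have h3 : cm (x ^ k) v = cm x v ^ k := by
    have : cm (x ^ k) v = x ^ k * v * (x ^ k)⁻¹ * v⁻¹ := rfl
    rw [this, h2 k]; group
  have h4 : cm x v ^ k = 1 := by
    rw [← h3]
    apply hx v hv
    rw [h3]
    exact Subgroup.pow_mem _ hc k
  have h5 : orderOf (cm x v) ∣ k := orderOf_dvd_of_pow_eq_one h4
  have h6 : orderOf (cm x v) ∣ Nat.card G := orderOf_dvd_natCard _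
  have h7 : orderOf (cm x v) ∣ 1 := by
    have := Nat.dvd_gcd h5 h6
    rwa [hk] at this
  exact orderOf_eq_one_iff.1 (Nat.dvd_one.1 h7)

theorem fibre_aux {g0 : G} (hg0 : Good U g0) {v v0 z z0 : G} (hv : v ∈ U) (hv0 : v0 ∈ U)
    (hz : z ∈ Subgroup.center G) (hz0 : z0 ∈ Subgroup.center G)
    (h : v * g0 * v⁻¹ * z = v0 * g0 * v0⁻¹ * z0) :
    z = z0 ∧ g0 * (v0⁻¹ * v) = (v0⁻¹ * v) * g0 := by
  have hw : v0⁻¹ * v ∈ U := U.mul_mem (U.inv_mem hv0) hv
  have hcZ : z0 * z⁻¹ ∈ Subgroup.center G := Subgroup.mul_mem _ hz0 (Subgroup.inv_mem _ hz)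
  have hc' := Subgroup.mem_center_iff.1 hcZ
  have hz' := Subgroup.mem_center_iff.1 hz
  -- z0 z⁻¹ = v0 (g0⁻¹ w g0 w⁻¹) v0⁻¹
  have e0 : z0 = (v0 * g0 * v0⁻¹)⁻¹ * (v * g0 * v⁻¹ * z) := by
    rw [h]; group
  have e1 : z0 * z⁻¹ = v0 * (g0⁻¹ * (v0⁻¹ * v) * g0 * (v0⁻¹ * v)⁻¹) * v0⁻¹ := by
    rw [e0]; group
  have e2 : g0⁻¹ * (v0⁻¹ * v) * g0 * (v0⁻¹ * v)⁻¹ = z0 * z⁻¹ := by
    have : g0⁻¹ * (v0⁻¹ * v) * g0 * (v0⁻¹ * v)⁻¹ = v0⁻¹ * (z0 * z⁻¹) * v0 := by
      rw [e1]; group
    rw [this, hc' v0⁻¹, mul_assoc, inv_mul_cancel, mul_one]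
  have e3 : cm g0 (v0⁻¹ * v) = (z0 * z⁻¹)⁻¹ := by
    have : cm g0 (v0⁻¹ * v) = g0 * (g0⁻¹ * (v0⁻¹ * v) * g0 * (v0⁻¹ * v)⁻¹)⁻¹ * g0⁻¹ := by
      unfold cm; group
    rw [this, e2]
    have hci := Subgroup.mem_center_iff.1 (Subgroup.inv_mem _ hcZ)
    rw [hci g0, mul_assoc, mul_inv_cancel, mul_one]
  have e4 : cm g0 (v0⁻¹ * v) = 1 :=
    hg0 _ hw (by rw [e3]; exact Subgroup.inv_mem _ hcZ)
  refine ⟨?_, (cm_eq_one_iff _ _).1 e4⟩
  rw [e4] at e3
  have : z0 * z⁻¹ = 1 := by
    have := congrArg (·⁻¹) e3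
    simpa using this.symm
  exact (mul_inv_eq_one.1 this).symm

end Comm


section Key

open Finset

variable {G : Type*} [Group G]

theorem card_filter_eq_natCard {α : Type*} [Fintype α] (p : α → Prop) [DecidablePred p] :
    (univ.filter p).card = Nat.card {v : α // p v} := by
  rw [Nat.card_eq_fintype_card, Fintype.card_subtype]

/-- The key structural claim: a good element of the coset `g0 U` of a good element `g0` is a
`U`-conjugate of `g0` times a central element. -/
theorem key [Finite G] (U : Subgroup G) [hN : U.Normal]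
    (hUU : ∀ u ∈ U, ∀ v ∈ U, cm u v ∈ Subgroup.center G)
    (hZU : ∀ u ∈ U, (∀ v ∈ U, u * v = v * u) → u ∈ Subgroup.center G)
    (ω : Subgroup.center G →* ℂˣ) (hω : Function.Injective ω)
    {g0 : G} (hg0 : Good U g0) {u : G} (hu : u ∈ U) (hgu : Good U (g0 * u)) :
    ∃ v ∈ U, ∃ z ∈ Subgroup.center G, g0 * u = v * g0 * v⁻¹ * z := by
  classical
  let _ : Fintype U := Fintype.ofFinite U
  -- the pairing
  let β : U → U → ℂˣ := fun w v => ω ⟨cm (w : G) (v : G), hUU w w.2 v v.2⟩
  have hβl : ∀ w w' v, β (w * w') v = β w v * β w' v := by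
    intro w w' v
    simp only [β]
    rw [← map_mul]
    congr 1
    apply Subtype.ext
    simp only [Subgroup.coe_mul]
    exact cm_mul_left_central (hUU w' w'.2 v v.2)
  have hβr : ∀ w v v', β w (v * v') = β w v * β w v' := by
    intro w v v'
    simp only [β]
    rw [← map_mul]
    congr 1
    apply Subtype.ext
    simp only [Subgroup.coe_mul]
    exact cm_mul_right_central (hUU w w.2 v' v'.2)
  have hβ1 : ∀ w v : U, β w v = 1 ↔ (w : G) * v = v * w := by
    intro w v
    simp only [β]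
    rw [map_eq_one_iff ω hω, ← cm_eq_one_iff]
    constructor
    · intro h; exact congrArg Subtype.val h
    · intro h; exact Subtype.ext h
  let Cg : Subgroup U := (Subgroup.centralizer ({g0} : Set G)).subgroupOf U
  have hCg : ∀ w : U, w ∈ Cg ↔ g0 * (w : G) = w * g0 := by
    intro w
    simp only [Cg, Subgroup.mem_subgroupOf, Subgroup.mem_centralizer_iff, Set.mem_singleton_iff,
      forall_eq]
  have hD := duality_count β hβl hβr Cg
  -- the finsets
  let CF : Finset U := univ.filter (fun w : U => g0 * (w : G) = w * g0)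
  let ZF : Finset U := univ.filter (fun w : U => (w : G) ∈ Subgroup.center G)
  let TF : Finset U := univ.filter
    (fun v : U => ∀ w : U, g0 * (w : G) = w * g0 → (w : G) * v = v * w)
  have hCFcard : CF.card = Nat.card Cg := by
    rw [card_filter_eq_natCard]
    exact Nat.card_congr (Equiv.subtypeEquivRight (fun w => (hCg w).symm))
  have hTFcard : TF.card = Nat.card {v : U // ∀ w ∈ Cg, β w v = 1} := by
    rw [card_filter_eq_natCard]
    apply Nat.card_congr
    apply Equiv.subtypeEquivRight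
    intro v
    constructor
    · intro h w hw
      exact (hβ1 w v).2 (h w ((hCg w).1 hw))
    · intro h w hw
      exact (hβ1 w v).1 (h w ((hCg w).2 hw))
  have hKcard : Nat.card {w : U // w ∈ Cg ∧ ∀ v, β w v = 1} ≤ ZF.card := by
    rw [← card_filter_eq_natCard]
    apply Finset.card_le_card
    intro w hw
    simp only [Finset.mem_filter, Finset.mem_univ, true_and] at hw
    simp only [ZF, Finset.mem_filter, Finset.mem_univ, true_and]
    apply hZU w w.2
    intro v hv
    exact (hβ1 w ⟨v, hv⟩).1 (hw.2 ⟨v, hv⟩)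
  have hI : CF.card * TF.card ≤ Fintype.card U * ZF.card := by
    rw [hCFcard, hTFcard]
    calc _ ≤ Nat.card U * Nat.card {w : U // w ∈ Cg ∧ ∀ v, β w v = 1} := hD
      _ ≤ Fintype.card U * ZF.card := by
          rw [Nat.card_eq_fintype_card]
          exact Nat.mul_le_mul_left _ hKcard
  -- the map F
  have hFmem : ∀ p : U × U, g0⁻¹ * (p.1 : G) * g0 * (p.1 : G)⁻¹ * (p.2 : G) ∈ U := by
    intro p
    have h1 : g0⁻¹ * (p.1 : G) * g0 ∈ U := by
      have := hN.conj_mem (p.1 : G) p.1.2 g0⁻¹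
      simpa using this
    exact U.mul_mem (U.mul_mem h1 (U.inv_mem p.1.2)) p.2.2
  let F : U × U → U := fun p => ⟨g0⁻¹ * (p.1 : G) * g0 * (p.1 : G)⁻¹ * (p.2 : G), hFmem p⟩
  have hFval : ∀ p : U × U, g0 * (F p : G) = (p.1 : G) * g0 * (p.1 : G)⁻¹ * (p.2 : G) := by
    intro p
    simp only [F]
    group
  let DF : Finset U := (univ ×ˢ ZF).image F
  have hII : Fintype.card U * ZF.card ≤ CF.card * DF.card := by
    have h := Finset.card_le_mul_card_image (f := F) (univ ×ˢ ZF) CF.card ?_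
    · rwa [Finset.card_product, Finset.card_univ] at h
    · intro d hd
      obtain ⟨p0, hp0, rfl⟩ := Finset.mem_image.1 hd
      have hp0Z : (p0.2 : G) ∈ Subgroup.center G := by
        have := (Finset.mem_product.1 hp0).2
        simpa [ZF] using this
      have hfib : ∀ p ∈ (univ ×ˢ ZF).filter (fun p => F p = F p0),
          p.2 = p0.2 ∧ g0 * ((p0.1 : G)⁻¹ * p.1) = ((p0.1 : G)⁻¹ * p.1) * g0 := by
        intro p hp
        obtain ⟨hp1, hp2⟩ := Finset.mem_filter.1 hp
        have hpZ : (p.2 : G) ∈ Subgroup.center G := by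
          have := (Finset.mem_product.1 hp1).2
          simpa [ZF] using this
        have e : (p.1 : G) * g0 * (p.1 : G)⁻¹ * (p.2 : G)
            = (p0.1 : G) * g0 * (p0.1 : G)⁻¹ * (p0.2 : G) := by
          rw [← hFval, ← hFval, hp2]
        obtain ⟨h1, h2⟩ := fibre_aux U hg0 p.1.2 p0.1.2 hpZ hp0Z e
        exact ⟨Subtype.ext h1, h2⟩
      apply Finset.card_le_card_of_injOn (fun p => p0.1⁻¹ * p.1)
      · intro p hp
        have := (hfib p hp).2
        simp only [CF, Finset.coe_filter, Finset.mem_univ, true_and, Set.mem_ofPred_eq]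
        simpa using this
      · intro p hp q hq hpq
        have hp' := (hfib p hp).1
        have hq' := (hfib q hq).1
        have h1 : p.1 = q.1 := mul_left_cancel hpq
        exact Prod.ext h1 (hp'.trans hq'.symm)
  -- DF ⊆ S ⊆ TF
  have hDS : ∀ d ∈ DF, Good U (g0 * (d : G)) := by
    intro d hd
    obtain ⟨p, hp, rfl⟩ := Finset.mem_image.1 hd
    have hpZ : (p.2 : G) ∈ Subgroup.center G := by
      have := (Finset.mem_product.1 hp).2
      simpa [ZF] using this
    rw [hFval]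
    exact good_mul_center U (good_conj U hg0 _) hpZ
  have hST : ∀ x : U, Good U (g0 * (x : G)) → x ∈ TF := by
    intro x hx
    simp only [TF, Finset.mem_filter, Finset.mem_univ, true_and]
    intro w hw
    have e : cm (g0 * (x : G)) (w : G) = cm (x : G) (w : G) := by
      rw [cm_mul_left, (cm_eq_one_iff g0 w).2 hw, mul_one]
      have hc := Subgroup.mem_center_iff.1 (hUU x x.2 w w.2)
      rw [hc g0, mul_assoc, mul_inv_cancel, mul_one]
    have h1 : cm (x : G) (w : G) = 1 := by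
      rw [← e]
      apply hx w w.2
      rw [e]
      exact hUU x x.2 w w.2
    exact ((cm_eq_one_iff _ _).1 h1).symm
  have hDT : DF ⊆ TF := fun d hd => hST d (hDS d hd)
  have hCFpos : 0 < CF.card := by
    apply Finset.card_pos.2
    exact ⟨1, by simp [CF]⟩
  have hTD : TF.card ≤ DF.card := by
    have := hI.trans hII
    exact Nat.le_of_mul_le_mul_left this hCFpos
  have hEq : DF = TF := Finset.eq_of_subset_of_card_le hDT hTD
  have huT : (⟨u, hu⟩ : U) ∈ TF := hST ⟨u, hu⟩ hgu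
  rw [← hEq] at huT
  obtain ⟨p, hp, hpu⟩ := Finset.mem_image.1 huT
  have hpZ : (p.2 : G) ∈ Subgroup.center G := by
    have := (Finset.mem_product.1 hp).2
    simpa [ZF] using this
  refine ⟨p.1, p.1.2, p.2, hpZ, ?_⟩
  rw [← hFval, hpu]

end Key


section Main

open Finset

theorem cheb_aux {ι : Type*} [Fintype ι] [DecidableEq ι] (a c : ι → ℝ) (S : Finset ι) (α γ : ℝ)
    (hα : 0 ≤ α) (hγ : 0 ≤ γ)
    (hS : ∀ u ∈ S, a u = α ∧ c u = γ) (hS' : ∀ u, u ∉ S → a u = 0 ∧ c u = 0) :
    (∑ u, a u) * (∑ u, c u) ≤ (Fintype.card ι : ℝ) * ∑ u, a u * c u ∧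
    (0 < α → 0 < γ → S.Nonempty → S ≠ Finset.univ →
      (∑ u, a u) * (∑ u, c u) < (Fintype.card ι : ℝ) * ∑ u, a u * c u) := by
  have ha : ∑ u, a u = S.card * α := by
    rw [← Finset.sum_subset (Finset.subset_univ S) (fun u _ hu => (hS' u hu).1)]
    rw [Finset.sum_congr rfl (fun u hu => (hS u hu).1)]
    simp
  have hc : ∑ u, c u = S.card * γ := by
    rw [← Finset.sum_subset (Finset.subset_univ S) (fun u _ hu => (hS' u hu).2)]
    rw [Finset.sum_congr rfl (fun u hu => (hS u hu).2)]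
    simp
  have hac : ∑ u, a u * c u = S.card * (α * γ) := by
    rw [← Finset.sum_subset (Finset.subset_univ S)
      (fun u _ hu => by rw [(hS' u hu).1, zero_mul])]
    rw [Finset.sum_congr rfl (fun u hu => by rw [(hS u hu).1, (hS u hu).2])]
    simp
  have hle : (S.card : ℝ) ≤ Fintype.card ι := by
    exact_mod_cast Finset.card_le_univ S
  have hS0 : (0 : ℝ) ≤ S.card := Nat.cast_nonneg _
  rw [ha, hc, hac]
  constructor
  · have h1 : 0 ≤ (S.card : ℝ) * (α * γ) := mul_nonneg hS0 (mul_nonneg hα hγ)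
    nlinarith [mul_le_mul_of_nonneg_right hle h1]
  · intro hα' hγ' hne hnu
    have hlt : (S.card : ℝ) < Fintype.card ι := by
      have : S.card < Fintype.card ι := by
        rw [← Finset.card_univ]
        exact Finset.card_lt_card (Finset.ssubset_univ_iff.2 hnu)
      exact_mod_cast this
    have hSpos : (0 : ℝ) < S.card := by exact_mod_cast Finset.card_pos.2 hne
    have h1 : 0 < (S.card : ℝ) * (α * γ) := mul_pos hSpos (mul_pos hα' hγ')
    nlinarith [mul_lt_mul_of_pos_right hlt h1]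

variable {G : Type*} [Group G]

theorem pow_coset (U : Subgroup G) [hN : U.Normal] (g : G) {u : G} (hu : u ∈ U) (n : ℕ) :
    (g ^ n)⁻¹ * (g * u) ^ n ∈ U := by
  induction n with
  | zero => simp
  | succ n ih =>
    have e : (g ^ (n + 1))⁻¹ * (g * u) ^ (n + 1)
        = g⁻¹ * ((g ^ n)⁻¹ * (g * u) ^ n) * g⁻¹⁻¹ * u := by
      rw [pow_succ, pow_succ]; group
    rw [e]
    exact U.mul_mem (hN.conj_mem _ ih g⁻¹) hu

/-- helper22's PIECE B for S4843. -/
theorem sum_theta_gt {G : Type*} [Group G] [Fintype G] (U : Subgroup G) [U.Normal] [Fintype U]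
    (hUU : ∀ u ∈ U, ∀ v ∈ U, u * v * u⁻¹ * v⁻¹ ∈ Subgroup.center G)
    (hZU : ∀ u ∈ U, (∀ v ∈ U, u * v = v * u) → u ∈ Subgroup.center G)
    (hUZ : ¬ U ≤ Subgroup.center G) (ω : Subgroup.center G →* ℂˣ) (hω : Function.Injective ω)
    (k : ℕ) (hk : Nat.Coprime k (Fintype.card G)) (Θ : G → ℝ) (hΘ0 : ∀ g, 0 ≤ Θ g)
    (hΘ1 : 0 < Θ 1) (hΘc : ∀ g h, Θ (h * g * h⁻¹) = Θ g)
    (hΘz : ∀ g, ∀ z ∈ Subgroup.center G, Θ (g * z) = Θ g)
    (hΘb : ∀ g, ∀ v ∈ U, g * v * g⁻¹ * v⁻¹ ∈ Subgroup.center G → g * v * g⁻¹ * v⁻¹ ≠ 1 →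
      Θ g = 0) :
    ∑ g : G, (∑ u : U, Θ (g * u)) * (∑ u : U, Θ (g ^ k * u)) <
      (Fintype.card U : ℝ) ^ 2 * ∑ g : G, Θ g * Θ (g ^ k) := by
  classical
  have hk' : Nat.Coprime k (Nat.card G) := by rwa [Nat.card_eq_fintype_card]
  have hUU' : ∀ u ∈ U, ∀ v ∈ U, cm u v ∈ Subgroup.center G := hUU
  -- Θ vanishes on bad elements
  have hbad : ∀ x : G, ¬ Good U x → Θ x = 0 := by
    intro x hx
    unfold Good at hx
    push Not at hx
    obtain ⟨v, hv, hc, hne⟩ := hx
    exact hΘb x v hv hc hne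
  have hbadk : ∀ x : G, ¬ Good U x → Θ (x ^ k) = 0 := fun x hx =>
    hbad _ (fun h => hx (good_of_pow U hk' h))
  -- constancy on good elements of a coset
  have hconst : ∀ (g0 : G), Good U g0 → ∀ u ∈ U, Good U (g0 * u) →
      Θ (g0 * u) = Θ g0 ∧ Θ ((g0 * u) ^ k) = Θ (g0 ^ k) := by
    intro g0 hg0 u hu hgu
    obtain ⟨v, _, z, hz, e⟩ := key U hUU' hZU ω hω hg0 hu hgu
    constructor
    · rw [e, hΘz _ z hz, hΘc]
    · rw [e]
      have hz' := Subgroup.mem_center_iff.1 hz
      have hcomm : Commute (v * g0 * v⁻¹) z := (hz' _)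
      rw [hcomm.mul_pow, conj_pow, hΘz _ _ (Subgroup.pow_mem _ hz k), hΘc]
  let F : G → ℝ := fun x => Θ x * Θ (x ^ k)
  -- Step 1
  have step1 : (Fintype.card U : ℝ) * ∑ g : G, F g = ∑ g : G, ∑ u : U, F (g * u) := by
    rw [Finset.sum_comm]
    have : ∀ u : U, ∑ g : G, F (g * u) = ∑ g : G, F g := fun u =>
      Fintype.sum_equiv (Equiv.mulRight (u : G)) _ _ (fun g => rfl)
    simp only [this, Finset.sum_const, Finset.card_univ, nsmul_eq_mul]
  -- the power map on cosets
  have hpow : ∀ g : G, ∑ u : U, Θ (g ^ k * u) = ∑ u : U, Θ ((g * u) ^ k) := by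
    intro g
    let ψ : U → U := fun u => ⟨(g ^ k)⁻¹ * (g * u) ^ k, pow_coset U g u.2 k⟩
    have hψinj : Function.Injective ψ := by
      intro u u' h
      have h1 : (g ^ k)⁻¹ * (g * (u : G)) ^ k = (g ^ k)⁻¹ * (g * (u' : G)) ^ k :=
        congrArg Subtype.val h
      have h2 : (g * (u : G)) ^ k = (g * (u' : G)) ^ k := mul_left_cancel h1
      have h3 : g * (u : G) = g * (u' : G) := (powCoprime hk'.symm).injective h2
      exact Subtype.ext (mul_left_cancel h3)
    have hψ : Function.Bijective ψ := Finite.injective_iff_bijective.1 hψinj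
    rw [← Function.Bijective.sum_comp hψ (fun u : U => Θ (g ^ k * u))]
    apply Finset.sum_congr rfl
    intro u _
    simp only [ψ]
    rw [mul_inv_cancel_left]
  -- structure of a coset
  have hstruct : ∀ g : G, ∃ (S : Finset U) (α γ : ℝ), 0 ≤ α ∧ 0 ≤ γ ∧
      (∀ u ∈ S, Θ (g * u) = α ∧ Θ ((g * u) ^ k) = γ) ∧
      (∀ u, u ∉ S → Θ (g * u) = 0 ∧ Θ ((g * u) ^ k) = 0) ∧
      (S = univ.filter (fun u : U => Good U (g * u))) ∧
      (∀ u0 ∈ S, α = Θ (g * u0) ∧ γ = Θ ((g * u0) ^ k)) := by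
    intro g
    by_cases hS : (univ.filter (fun u : U => Good U (g * u))).Nonempty
    · obtain ⟨u0, hu0⟩ := hS
      have hu0' : Good U (g * u0) := (Finset.mem_filter.1 hu0).2
      have hall : ∀ u ∈ univ.filter (fun u : U => Good U (g * u)),
          Θ (g * u) = Θ (g * u0) ∧ Θ ((g * u) ^ k) = Θ ((g * u0) ^ k) := by
        intro u hu
        have hu' : Good U (g * u) := (Finset.mem_filter.1 hu).2
        have e : g * (u : G) = g * u0 * ((u0 : G)⁻¹ * u) := by group
        rw [e]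
        exact hconst (g * u0) hu0' _ (U.mul_mem (U.inv_mem u0.2) u.2) (by rw [← e]; exact hu')
      refine ⟨_, Θ (g * u0), Θ ((g * u0) ^ k), hΘ0 _, hΘ0 _, hall, ?_, rfl, ?_⟩
      · intro u hu
        have : ¬ Good U (g * u) := fun h => hu (Finset.mem_filter.2 ⟨Finset.mem_univ _, h⟩)
        exact ⟨hbad _ this, hbadk _ this⟩
      · intro u1 hu1
        exact ⟨(hall u1 hu1).1.symm, (hall u1 hu1).2.symm⟩
    · rw [Finset.not_nonempty_iff_eq_empty] at hS
      refine ⟨_, 0, 0, le_rfl, le_rfl, ?_, ?_, rfl, ?_⟩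
      · intro u hu; rw [hS] at hu; exact absurd hu (Finset.notMem_empty _)
      · intro u hu
        have : ¬ Good U (g * u) := fun h => hu (Finset.mem_filter.2 ⟨Finset.mem_univ _, h⟩)
        exact ⟨hbad _ this, hbadk _ this⟩
      · intro u hu; rw [hS] at hu; exact absurd hu (Finset.notMem_empty _)
  have point : ∀ g : G, (∑ u : U, Θ (g * u)) * (∑ u : U, Θ (g ^ k * u)) ≤
      (Fintype.card U : ℝ) * ∑ u : U, F (g * u) := by
    intro g
    obtain ⟨S, α, γ, hα, hγ, h1, h2, _, _⟩ := hstruct g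
    rw [hpow g]
    exact (cheb_aux (fun u : U => Θ (g * u)) (fun u : U => Θ ((g * u) ^ k)) S α γ hα hγ h1 h2).1
  have strict : (∑ u : U, Θ ((1 : G) * u)) * (∑ u : U, Θ ((1 : G) ^ k * u)) <
      (Fintype.card U : ℝ) * ∑ u : U, F ((1 : G) * u) := by
    obtain ⟨S, α, γ, hα, hγ, h1, h2, hSdef, hS0⟩ := hstruct 1
    rw [hpow 1]
    have h1S : (1 : U) ∈ S := by
      rw [hSdef]
      simp only [Finset.mem_filter, Finset.mem_univ, true_and]
      simpa using good_one U
    have hαγ := hS0 1 h1S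
    have hα' : 0 < α := by rw [hαγ.1]; simpa using hΘ1
    have hγ' : 0 < γ := by rw [hαγ.2]; simpa using hΘ1
    have hne : S ≠ univ := by
      intro hSu
      apply hUZ
      intro x hx
      apply hZU x hx
      intro v hv
      have hxS : (⟨x, hx⟩ : U) ∈ S := by rw [hSu]; exact Finset.mem_univ _
      rw [hSdef] at hxS
      have hgx : Good U ((1 : G) * x) := (Finset.mem_filter.1 hxS).2
      rw [one_mul] at hgx
      exact (cm_eq_one_iff _ _).1 (hgx v hv (hUU' x hx v hv))
    exact (cheb_aux (fun u : U => Θ ((1 : G) * u)) (fun u : U => Θ (((1 : G) * u) ^ k)) S α γ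
      hα hγ h1 h2).2 hα' hγ' ⟨1, h1S⟩ hne
  calc ∑ g : G, (∑ u : U, Θ (g * u)) * (∑ u : U, Θ (g ^ k * u))
      < ∑ g : G, (Fintype.card U : ℝ) * ∑ u : U, F (g * u) :=
        Finset.sum_lt_sum (fun g _ => point g) ⟨1, Finset.mem_univ _, strict⟩
    _ = (Fintype.card U : ℝ) * ∑ g : G, ∑ u : U, F (g * u) := by rw [Finset.mul_sum]
    _ = (Fintype.card U : ℝ) ^ 2 * ∑ g : G, Θ g * Θ (g ^ k) := by rw [← step1]; ring

end Main

end Cfsg.Agent.Lead.FitCenB
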