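import Mathlib

/-!
# Arithmetic of the order formulas of the groups of Lie type
-/

set_option autoImplicit false

namespace Cfsg.Agent.Lead.LieOrd

open Finset

/-- **the abstract criterion**: if `c * g = q ^ N * P` with `c` and `P` prime to `p` and `P < q ^ M` -/
theorem bound_of_formula {p f N M c g P : ℕ} (hp : p.Prime) (hc : c ≠ 0) (hcp : ¬ p ∣ c) (hP : ¬ p ∣ P)
    (hg : g ≠ 0) (h : c * g = (p ^ f) ^ N * P) (hPM : P < (p ^ f) ^ M) :
    g.factorization p = f * N ∧ (M ≤ 2 * N → g < p ^ (3 * (f * N))) ∧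
      (3 * M ≤ 5 * N → g ^ 3 < p ^ (8 * (f * N))) := by
  have hP0 : P ≠ 0 := fun h0 => hP (h0 ▸ dvd_zero p)
  have hq0 : 0 < p ^ f := pow_pos hp.pos f
  have hfac : g.factorization p = f * N := by
    have h1 : (c * g).factorization p = ((p ^ f) ^ N * P).factorization p := by rw [h]
    rw [Nat.factorization_mul hc hg, Nat.factorization_mul (pow_ne_zero _ (pow_ne_zero _ hp.ne_zero)) hP0]
      at h1
    simp only [Finsupp.add_apply] at h1
    rw [Nat.factorization_eq_zero_of_not_dvd hcp, Nat.factorization_eq_zero_of_not_dvd hP, ← pow_mul,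
      Nat.Prime.factorization_pow hp] at h1
    simpa using h1
  have hle : g ≤ c * g := Nat.le_mul_of_pos_left g (Nat.pos_of_ne_zero hc)
  have hlt : c * g < (p ^ f) ^ (N + M) := by
    rw [h, pow_add]
    exact Nat.mul_lt_mul_of_pos_left hPM (pow_pos hq0 N)
  refine ⟨hfac, fun hM => ?_, fun hM => ?_⟩
  · calc g ≤ c * g := hle
      _ < (p ^ f) ^ (N + M) := hlt
      _ ≤ (p ^ f) ^ (3 * N) := Nat.pow_le_pow_right hq0 (by omega)
      _ = p ^ (3 * (f * N)) := by rw [← pow_mul]; congr 1; ring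
  · have h3 : g ^ 3 ≤ (c * g) ^ 3 := Nat.pow_le_pow_left hle 3
    have h4 : (c * g) ^ 3 < ((p ^ f) ^ (N + M)) ^ 3 := Nat.pow_lt_pow_left hlt (by norm_num)
    calc g ^ 3 ≤ (c * g) ^ 3 := h3
      _ < ((p ^ f) ^ (N + M)) ^ 3 := h4
      _ = (p ^ f) ^ (3 * N + 3 * M) := by rw [← pow_mul]; congr 1; ring
      _ ≤ (p ^ f) ^ (8 * N) := Nat.pow_le_pow_right hq0 (by omega)
      _ = p ^ (8 * (f * N)) := by rw [← pow_mul]; congr 1; ring

/-! ### the factors -/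

theorem not_dvd_sub_one {p q d : ℕ} (hp : p.Prime) (hq : p ∣ q) (hq0 : 0 < q) (hd : d ≠ 0) :
    ¬ p ∣ q ^ d - 1 := by
  intro h
  have h1 : p ∣ q ^ d := dvd_pow hq hd
  have h2 : q ^ d - (q ^ d - 1) = 1 := by
    have := Nat.one_le_pow d q hq0
    omega
  have h3 := Nat.dvd_sub h1 h
  rw [h2] at h3
  exact hp.ne_one (Nat.dvd_one.1 h3)

theorem not_dvd_add_one {p q d : ℕ} (hp : p.Prime) (hq : p ∣ q) (hd : d ≠ 0) : ¬ p ∣ q ^ d + 1 := by
  intro h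
  have h1 : p ∣ q ^ d := dvd_pow hq hd
  have h3 := (Nat.dvd_add_right h1).1 h
  exact hp.ne_one (Nat.dvd_one.1 h3)

theorem sub_one_lt {q : ℕ} (hq : 2 ≤ q) (d : ℕ) : q ^ d - 1 < q ^ d :=
  Nat.sub_lt (pow_pos (by omega) d) one_pos

theorem sub_one_pos {q : ℕ} (hq : 2 ≤ q) {d : ℕ} (hd : d ≠ 0) : 0 < q ^ d - 1 := by
  have : 2 ^ 1 ≤ q ^ d := le_trans (Nat.pow_le_pow_left hq 1) (Nat.pow_le_pow_right (by omega) (by omega))
  omega

theorem add_one_le {q : ℕ} (hq : 2 ≤ q) (d : ℕ) : q ^ d + 1 ≤ q ^ (d + 1) := by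
  have h1 : 1 ≤ q ^ d := Nat.one_le_pow d q (by omega)
  rw [pow_succ]
  nlinarith

theorem pair_lt {q : ℕ} (hq : 2 ≤ q) {e d : ℕ} (hed : e ≤ d) : (q ^ e - 1) * (q ^ d + 1) < q ^ (e + d) := by
  have h1 : 1 ≤ q ^ e := Nat.one_le_pow e q (by omega)
  have h2 : q ^ e ≤ q ^ d := Nat.pow_le_pow_right (by omega) hed
  obtain ⟨a, ha⟩ : ∃ a, q ^ e = a + 1 := ⟨q ^ e - 1, by omega⟩
  rw [pow_add, ha, Nat.add_sub_cancel]
  nlinarith

/-- products of factors `q ^ a - 1` -/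
theorem prod_sub_one_lt {q : ℕ} (hq : 2 ≤ q) (a : ℕ → ℕ) (ha : ∀ i, a i ≠ 0) (m : ℕ) (hm : m ≠ 0) :
    ∏ i ∈ range m, (q ^ a i - 1) < q ^ (∑ i ∈ range m, a i) := by
  rw [← Finset.prod_pow_eq_pow_sum]
  apply Finset.prod_lt_prod_of_nonempty
  · intro i _
    exact sub_one_pos hq (ha i)
  · intro i _
    exact sub_one_lt hq _
  · exact Finset.nonempty_range_iff.2 hm

theorem prod_sub_one_le {q : ℕ} (a : ℕ → ℕ) (m : ℕ) :
    ∏ i ∈ range m, (q ^ a i - 1) ≤ q ^ (∑ i ∈ range m, a i) := by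
  rw [← Finset.prod_pow_eq_pow_sum]
  apply Finset.prod_le_prod'
  intro i _
  exact Nat.sub_le _ _

theorem prod_not_dvd {p : ℕ} (hp : p.Prime) (g : ℕ → ℕ) (m : ℕ) (hg : ∀ i, ¬ p ∣ g i) :
    ¬ p ∣ ∏ i ∈ range m, g i := by
  intro h
  obtain ⟨i, -, hi⟩ := (Prime.dvd_finsetProd_iff (Nat.prime_iff.1 hp) _).1 h
  exact hg i hi

theorem sum_two_mul_succ (m : ℕ) : ∑ i ∈ range m, 2 * (i + 1) = m * (m + 1) := by
  induction m with
  | zero => simp
  | succ n ih => rw [Finset.sum_range_succ, ih]; ring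

theorem sum_add_two (m : ℕ) : 2 * ∑ i ∈ range m, (i + 2) = m * (m + 3) := by
  induction m with
  | zero => simp
  | succ n ih => rw [Finset.sum_range_succ, mul_add, ih]; ring

end Cfsg.Agent.Lead.LieOrd
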