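import Mathlib
import Cfsg.Agent.Lib.Lead.LieOrdArith

/-!
# Arithmetic of the order formulas: linear and unitary products
-/

set_option autoImplicit false

namespace Cfsg.Agent.Lead.LieOrd

open Finset

/-- the order of `GL_n` as a power of `q` times the cyclotomic part -/
theorem prod_fin_eq (q n : ℕ) : ∏ i : Fin n, (q ^ n - q ^ (i : ℕ)) =
    q ^ (∑ i ∈ range n, i) * ∏ i ∈ range n, (q ^ (i + 1) - 1) := by
  rw [Fin.prod_univ_eq_prod_range (fun i => q ^ n - q ^ i) n]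
  have h1 : ∀ i ∈ range n, q ^ n - q ^ i = q ^ i * (q ^ (n - i) - 1) := by
    intro i hi
    have hi' := Finset.mem_range.1 hi
    rw [Nat.mul_sub, mul_one, ← pow_add, Nat.add_sub_cancel' hi'.le]
  rw [Finset.prod_congr rfl h1, Finset.prod_mul_distrib, Finset.prod_pow_eq_pow_sum]
  congr 1
  rw [← Finset.prod_range_reflect]
  apply Finset.prod_congr rfl
  intro i hi
  have hi' := Finset.mem_range.1 hi
  congr 2
  omega

theorem prod_succ_sub_one (q k : ℕ) : ∏ i ∈ range (k + 1), (q ^ (i + 1) - 1) =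
    (q - 1) * ∏ i ∈ range k, (q ^ (i + 2) - 1) := by
  rw [Finset.prod_range_succ', zero_add, pow_one, mul_comm]

/-- the factors of the order of the unitary groups -/
def uFac (q i : ℕ) : ℕ := if Even i then q ^ (i + 1) + 1 else q ^ (i + 1) - 1

theorem uFac_odd (q j : ℕ) : uFac q (2 * j + 1) = q ^ (2 * j + 2) - 1 := by
  unfold uFac
  rw [if_neg (by simp [parity_simps])]

theorem uFac_even (q j : ℕ) : uFac q (2 * j + 2) = q ^ (2 * j + 3) + 1 := by
  unfold uFac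
  rw [if_pos (by simp [parity_simps])]

theorem uFac_zero (q : ℕ) : uFac q 0 = q + 1 := by
  unfold uFac
  simp

theorem prod_uFac_succ (q k : ℕ) : ∏ i ∈ range (k + 1), uFac q i = (q + 1) * ∏ i ∈ range k, uFac q (i + 1) := by
  rw [Finset.prod_range_succ', uFac_zero, mul_comm]

theorem uFac_not_dvd {p q : ℕ} (hp : p.Prime) (hq : p ∣ q) (hq0 : 0 < q) (i : ℕ) : ¬ p ∣ uFac q i := by
  unfold uFac
  split_ifs
  · exact not_dvd_add_one hp hq (Nat.succ_ne_zero _)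
  · exact not_dvd_sub_one hp hq hq0 (Nat.succ_ne_zero _)

theorem prod_uFac_even_le {q : ℕ} (hq : 2 ≤ q) (j : ℕ) :
    ∏ i ∈ range (2 * j), uFac q (i + 1) ≤ q ^ (∑ i ∈ range (2 * j), (i + 2)) := by
  induction j with
  | zero => simp
  | succ j ih =>
    have e : 2 * (j + 1) = 2 * j + 1 + 1 := by ring
    rw [e, Finset.prod_range_succ, Finset.prod_range_succ, Finset.sum_range_succ, Finset.sum_range_succ,
      uFac_odd, show 2 * j + 1 + 1 = 2 * j + 2 from rfl, uFac_even, mul_assoc, add_assoc]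
    have h1 := pair_lt hq (show 2 * j + 2 ≤ 2 * j + 3 by omega)
    have e2 : 2 * j + 2 + (2 * j + 3) = 2 * j + 2 + (2 * j + 1 + 2) := by ring
    rw [e2] at h1
    calc (∏ x ∈ range (2 * j), uFac q (x + 1)) * ((q ^ (2 * j + 2) - 1) * (q ^ (2 * j + 3) + 1))
        ≤ q ^ (∑ x ∈ range (2 * j), (x + 2)) * q ^ (2 * j + 2 + (2 * j + 1 + 2)) :=
          Nat.mul_le_mul ih h1.le
      _ = q ^ (∑ x ∈ range (2 * j), (x + 2) + (2 * j + 2 + (2 * j + 1 + 2))) := (pow_add _ _ _).symm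

theorem prod_uFac_lt {q : ℕ} (hq : 2 ≤ q) (k : ℕ) (hk : k ≠ 0) :
    ∏ i ∈ range k, uFac q (i + 1) < q ^ (∑ i ∈ range k, (i + 2)) := by
  have hq0 : 0 < q := by omega
  obtain ⟨j, rfl | rfl⟩ := Nat.even_or_odd' k
  · obtain ⟨j, rfl⟩ : ∃ j', j = j' + 1 := ⟨j - 1, by omega⟩
    have e : 2 * (j + 1) = 2 * j + 1 + 1 := by ring
    rw [e, Finset.prod_range_succ, Finset.prod_range_succ, Finset.sum_range_succ, Finset.sum_range_succ,
      uFac_odd, show 2 * j + 1 + 1 = 2 * j + 2 from rfl, uFac_even, mul_assoc, add_assoc]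
    have h1 := pair_lt hq (show 2 * j + 2 ≤ 2 * j + 3 by omega)
    have e2 : 2 * j + 2 + (2 * j + 3) = 2 * j + 2 + (2 * j + 1 + 2) := by ring
    rw [e2] at h1
    calc (∏ x ∈ range (2 * j), uFac q (x + 1)) * ((q ^ (2 * j + 2) - 1) * (q ^ (2 * j + 3) + 1))
        < q ^ (∑ x ∈ range (2 * j), (x + 2)) * q ^ (2 * j + 2 + (2 * j + 1 + 2)) :=
          Nat.mul_lt_mul_of_le_of_lt (prod_uFac_even_le hq j) h1 (pow_pos hq0 _)
      _ = q ^ (∑ x ∈ range (2 * j), (x + 2) + (2 * j + 2 + (2 * j + 1 + 2))) := (pow_add _ _ _).symm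
  · rw [Finset.prod_range_succ, Finset.sum_range_succ, uFac_odd]
    calc (∏ x ∈ range (2 * j), uFac q (x + 1)) * (q ^ (2 * j + 2) - 1)
        < q ^ (∑ x ∈ range (2 * j), (x + 2)) * q ^ (2 * j + 2) :=
          Nat.mul_lt_mul_of_le_of_lt (prod_uFac_even_le hq j) (sub_one_lt hq _) (pow_pos hq0 _)
      _ = q ^ (∑ x ∈ range (2 * j), (x + 2) + (2 * j + 2)) := (pow_add _ _ _).symm

theorem prod_uFac_not_dvd {p q : ℕ} (hp : p.Prime) (hq : p ∣ q) (hq0 : 0 < q) (k : ℕ) :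
    ¬ p ∣ ∏ i ∈ range k, uFac q (i + 1) :=
  prod_not_dvd hp _ k (fun i => uFac_not_dvd hp hq hq0 (i + 1))

end Cfsg.Agent.Lead.LieOrd
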