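import Mathlib
import Cfsg.Agent.Lib.Lead.LieOrdUnitary
import Cfsg.Agent.S0243
import Cfsg.Agent.S0245
import Cfsg.Agent.S0246
import Cfsg.Agent.S0280
import Cfsg.Agent.S0292
import Cfsg.Agent.S0293
import Cfsg.Agent.S0294

/-!
# The order bounds for the classical groups
-/

set_option autoImplicit false

namespace Cfsg.Agent.Lead.LieOrd

open Finset Cfsg

/-- the two bounds -/
def Bounds (p : ℕ) (G : Type*) [Group G] : Prop :=
  Nat.card G < p ^ (3 * (Nat.card G).factorization p) ∧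
    Nat.card G ^ 3 < p ^ (8 * (Nat.card G).factorization p)

theorem bounds_of_formula {G : Type*} [Group G] [Finite G] {p f N M c P : ℕ} (hp : p.Prime) (hc : c ≠ 0)
    (hcp : ¬ p ∣ c) (hP : ¬ p ∣ P) (h : c * Nat.card G = (p ^ f) ^ N * P) (hPM : P < (p ^ f) ^ M)
    (hM1 : M ≤ 2 * N) (hM2 : 3 * M ≤ 5 * N) : Bounds p G := by
  obtain ⟨h1, h2, h3⟩ := bound_of_formula hp hc hcp hP Nat.card_pos.ne' h hPM
  unfold Bounds
  rw [h1]
  exact ⟨h2 hM1, h3 hM2⟩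

theorem bounds_congr {p : ℕ} {G H : Type*} [Group G] [Group H] (e : G ≃* H) (h : Bounds p H) : Bounds p G := by
  unfold Bounds at h ⊢
  rw [Nat.card_congr e.toEquiv]
  exact h

theorem exists_card_eq (F : Type*) [Field F] [Fintype F] (p : ℕ) [CharP F p] :
    ∃ f : ℕ, f ≠ 0 ∧ p.Prime ∧ Fintype.card F = p ^ f := by
  obtain ⟨n, hp, h⟩ := FiniteField.card F p
  exact ⟨n, n.ne_zero, hp, h⟩

theorem two_le_pow {p f : ℕ} (hp : p.Prime) (hf : f ≠ 0) : 2 ≤ p ^ f :=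
  le_trans hp.two_le (Nat.le_self_pow hf p)

theorem not_dvd_of_dvd_sub_one {p q c : ℕ} (hp : p.Prime) (hq : p ∣ q) (hq0 : 0 < q) (hc : c ∣ q - 1) :
    ¬ p ∣ c := by
  intro h
  have := not_dvd_sub_one hp hq hq0 one_ne_zero
  rw [pow_one] at this
  exact this (dvd_trans h hc)

theorem not_dvd_of_dvd_add_one {p q c : ℕ} (hp : p.Prime) (hq : p ∣ q) (hc : c ∣ q + 1) :
    ¬ p ∣ c := by
  intro h
  have := not_dvd_add_one hp hq one_ne_zero
  rw [pow_one] at this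
  exact this (dvd_trans h hc)

/-! ### linear groups -/

/-- the order formula of `PSL_n(q)` with the factor `q - 1` removed -/
theorem psl_formula {F : Type*} [Field F] [Fintype F] {q : ℕ} (hq : 2 ≤ q) (hF : Fintype.card F = q) (k : ℕ) :
    Nat.gcd (k + 2) (q - 1) * Nat.card (Matrix.ProjectiveSpecialLinearGroup (Fin (k + 2)) F) =
      q ^ (∑ i ∈ range (k + 2), i) * ∏ i ∈ range (k + 1), (q ^ (i + 2) - 1) := by
  have h := Cfsg.Agent.S0243.result hF (k + 2) (by omega)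
  rw [prod_fin_eq, prod_succ_sub_one] at h
  have hq1 : 0 < q - 1 := by omega
  apply Nat.eq_of_mul_eq_mul_left hq1
  rw [mul_left_comm, h, mul_left_comm]

theorem psl_first {F : Type*} [Field F] [Fintype F] {p f : ℕ} (hp : p.Prime) (hf : f ≠ 0)
    (hF : Fintype.card F = p ^ f) (k : ℕ) :
    (Nat.card (Matrix.ProjectiveSpecialLinearGroup (Fin (k + 2)) F)).factorization p =
        f * ∑ i ∈ range (k + 2), i ∧
      Nat.card (Matrix.ProjectiveSpecialLinearGroup (Fin (k + 2)) F) <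
        p ^ (3 * (Nat.card (Matrix.ProjectiveSpecialLinearGroup (Fin (k + 2)) F)).factorization p) ∧
      (1 ≤ k → Bounds p (Matrix.ProjectiveSpecialLinearGroup (Fin (k + 2)) F)) := by
  have hq := two_le_pow hp hf
  have hq0 : 0 < p ^ f := by omega
  have hpq : p ∣ p ^ f := dvd_pow_self p hf
  have h := psl_formula hq hF k
  have hc : Nat.gcd (k + 2) (p ^ f - 1) ≠ 0 := (Nat.gcd_pos_of_pos_left _ (by omega)).ne'
  have hcp : ¬ p ∣ Nat.gcd (k + 2) (p ^ f - 1) :=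
    not_dvd_of_dvd_sub_one hp hpq hq0 (Nat.gcd_dvd_right _ _)
  have hP : ¬ p ∣ ∏ i ∈ range (k + 1), ((p ^ f) ^ (i + 2) - 1) :=
    prod_not_dvd hp _ _ (fun i => not_dvd_sub_one hp hpq hq0 (by omega))
  have hPM := prod_sub_one_lt hq (fun i => i + 2) (fun i => by omega) (k + 1) (by omega)
  have h2N : (∑ i ∈ range (k + 2), i) * 2 = (k + 2) * (k + 1) := Finset.sum_range_id_mul_two (k + 2)
  have h2M : 2 * ∑ i ∈ range (k + 1), (i + 2) = (k + 1) * (k + 1 + 3) := sum_add_two (k + 1)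
  have hM1 : ∑ i ∈ range (k + 1), (i + 2) ≤ 2 * ∑ i ∈ range (k + 2), i := by nlinarith
  obtain ⟨h1, h2, h3⟩ := bound_of_formula hp hc hcp hP Nat.card_pos.ne' h hPM
  refine ⟨h1, ?_, fun hk => ?_⟩
  · rw [h1]
    exact h2 hM1
  · have hM2 : 3 * ∑ i ∈ range (k + 1), (i + 2) ≤ 5 * ∑ i ∈ range (k + 2), i := by nlinarith
    unfold Bounds
    rw [h1]
    exact ⟨h2 hM1, h3 hM2⟩

/-! ### symplectic groups -/

theorem bounds_symp_formula {G : Type*} [Group G] [Finite G] {p f c m : ℕ} (hp : p.Prime) (hf : f ≠ 0)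
    (hm : 2 ≤ m) (hc : c ≠ 0) (hcp : ¬ p ∣ c)
    (h : c * Nat.card G = (p ^ f) ^ (m ^ 2) * ∏ i ∈ range m, ((p ^ f) ^ (2 * (i + 1)) - 1)) : Bounds p G := by
  have hq := two_le_pow hp hf
  have hq0 : 0 < p ^ f := by omega
  have hpq : p ∣ p ^ f := dvd_pow_self p hf
  have hP : ¬ p ∣ ∏ i ∈ range m, ((p ^ f) ^ (2 * (i + 1)) - 1) :=
    prod_not_dvd hp _ _ (fun i => not_dvd_sub_one hp hpq hq0 (by omega))
  have hPM := prod_sub_one_lt hq (fun i => 2 * (i + 1)) (fun i => by omega) m (by omega)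
  rw [sum_two_mul_succ] at hPM
  exact bounds_of_formula hp hc hcp hP h hPM (by nlinarith) (by nlinarith)

theorem psp_bounds {F : Type*} [Field F] [Fintype F] {p f : ℕ} (hp : p.Prime) (hf : f ≠ 0)
    (hF : Fintype.card F = p ^ f) (m : ℕ) (hm : 2 ≤ m) : Bounds p (PSp m F) := by
  have hq := two_le_pow hp hf
  have hq0 : 0 < p ^ f := by omega
  have hpq : p ∣ p ^ f := dvd_pow_self p hf
  have h1 := Cfsg.Agent.S0245.result hF m
  have h2 := Cfsg.Agent.S0246.result hF m (by omega)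
  have h3 := Subgroup.card_eq_card_quotient_mul_card_subgroup
    (Subgroup.center (Matrix.symplecticGroup (Fin m) F))
  have h4 : Nat.gcd 2 (p ^ f - 1) * Nat.card (PSp m F) =
      (p ^ f) ^ (m ^ 2) * ∏ i ∈ range m, ((p ^ f) ^ (2 * (i + 1)) - 1) := by
    rw [← h1, h3, h2, mul_comm]
  exact bounds_symp_formula hp hf hm (Nat.gcd_pos_of_pos_left _ (by omega)).ne'
    (not_dvd_of_dvd_sub_one hp hpq hq0 (Nat.gcd_dvd_right _ _)) h4

/-! ### orthogonal groups -/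

theorem pomega_odd_bounds {F : Type*} [Field F] [Fintype F] {p f : ℕ} (hp : p.Prime) (hf : f ≠ 0)
    (hF : Fintype.card F = p ^ f) (hodd : Odd (Fintype.card F)) (m : ℕ) (hm : 3 ≤ m) :
    Bounds p (POmega F (quadFormOdd m F)) := by
  have hodd' : Odd (p ^ f) := hF ▸ hodd
  have h1 := Cfsg.Agent.S0292.result hF hodd' m hm
  have hp2 : ¬ p ∣ 2 := by
    intro h
    have h2 : p = 2 := (Nat.prime_dvd_prime_iff_eq hp Nat.prime_two).1 h
    rw [h2] at hodd'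
    exact (Nat.not_even_iff_odd.2 hodd') ((Nat.even_pow' hf).2 even_two)
  exact bounds_symp_formula hp hf (by omega) two_ne_zero hp2 h1

theorem pomega_plus_bounds {F : Type*} [Field F] [Fintype F] {p f : ℕ} (hp : p.Prime) (hf : f ≠ 0)
    (hF : Fintype.card F = p ^ f) (m : ℕ) (hm : 4 ≤ m) :
    Bounds p (POmega F (quadFormPlus m F)) := by
  have hq := two_le_pow hp hf
  have hq0 : 0 < p ^ f := by omega
  have hpq : p ∣ p ^ f := dvd_pow_self p hf
  have h1 := Cfsg.Agent.S0293.result hF m hm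
  obtain ⟨k, rfl⟩ : ∃ k, m = k + 1 := ⟨m - 1, by omega⟩
  rw [Nat.add_sub_cancel, mul_assoc] at h1
  have hc : Nat.gcd 4 ((p ^ f) ^ (k + 1) - 1) ≠ 0 := (Nat.gcd_pos_of_pos_left _ (by omega)).ne'
  have hcp : ¬ p ∣ Nat.gcd 4 ((p ^ f) ^ (k + 1) - 1) := by
    intro h
    exact not_dvd_sub_one hp hpq hq0 (Nat.succ_ne_zero k) (dvd_trans h (Nat.gcd_dvd_right _ _))
  have hP : ¬ p ∣ ((p ^ f) ^ (k + 1) - 1) * ∏ i ∈ range k, ((p ^ f) ^ (2 * (i + 1)) - 1) :=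
    Nat.Prime.not_dvd_mul hp (not_dvd_sub_one hp hpq hq0 (Nat.succ_ne_zero k))
      (prod_not_dvd hp _ _ (fun i => not_dvd_sub_one hp hpq hq0 (by omega)))
  have hPM : ((p ^ f) ^ (k + 1) - 1) * ∏ i ∈ range k, ((p ^ f) ^ (2 * (i + 1)) - 1) <
      (p ^ f) ^ ((k + 1) + k * (k + 1)) := by
    have := prod_sub_one_le (q := p ^ f) (fun i => 2 * (i + 1)) k
    rw [sum_two_mul_succ] at this
    calc ((p ^ f) ^ (k + 1) - 1) * ∏ i ∈ range k, ((p ^ f) ^ (2 * (i + 1)) - 1)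
        < (p ^ f) ^ (k + 1) * (p ^ f) ^ (k * (k + 1)) :=
          Nat.mul_lt_mul_of_lt_of_le (sub_one_lt hq _) this (pow_pos hq0 _)
      _ = (p ^ f) ^ ((k + 1) + k * (k + 1)) := (pow_add _ _ _).symm
  exact bounds_of_formula hp hc hcp hP h1 hPM (by nlinarith) (by nlinarith)

theorem pomega_minus_bounds {F : Type*} [Field F] [Fintype F] {p f : ℕ} (hp : p.Prime) (hf : f ≠ 0)
    (hF : Fintype.card F = p ^ f) (m : ℕ) (hm : 4 ≤ m) (a b : F)
    (hab : ∀ z₁ z₂ : F, z₁ ^ 2 + a * z₁ * z₂ + b * z₂ ^ 2 = 0 → z₁ = 0 ∧ z₂ = 0) :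
    Bounds p (POmega F (quadFormMinus (m - 1) F a b)) := by
  have hq := two_le_pow hp hf
  have hq0 : 0 < p ^ f := by omega
  have hpq : p ∣ p ^ f := dvd_pow_self p hf
  have h1 := Cfsg.Agent.S0294.result hF m hm a b hab
  obtain ⟨k, rfl⟩ : ∃ k, m = k + 1 := ⟨m - 1, by omega⟩
  rw [Nat.add_sub_cancel] at h1 ⊢
  rw [mul_assoc] at h1
  have hc : Nat.gcd 4 ((p ^ f) ^ (k + 1) + 1) ≠ 0 := (Nat.gcd_pos_of_pos_left _ (by omega)).ne'
  have hcp : ¬ p ∣ Nat.gcd 4 ((p ^ f) ^ (k + 1) + 1) := by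
    intro h
    exact not_dvd_add_one hp hpq (Nat.succ_ne_zero k) (dvd_trans h (Nat.gcd_dvd_right _ _))
  have hP : ¬ p ∣ ((p ^ f) ^ (k + 1) + 1) * ∏ i ∈ range k, ((p ^ f) ^ (2 * (i + 1)) - 1) :=
    Nat.Prime.not_dvd_mul hp (not_dvd_add_one hp hpq (Nat.succ_ne_zero k))
      (prod_not_dvd hp _ _ (fun i => not_dvd_sub_one hp hpq hq0 (by omega)))
  have hPM : ((p ^ f) ^ (k + 1) + 1) * ∏ i ∈ range k, ((p ^ f) ^ (2 * (i + 1)) - 1) <
      (p ^ f) ^ ((k + 1 + 1) + k * (k + 1)) := by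
    have := prod_sub_one_lt hq (fun i => 2 * (i + 1)) (fun i => by omega) k (by omega)
    rw [sum_two_mul_succ] at this
    calc ((p ^ f) ^ (k + 1) + 1) * ∏ i ∈ range k, ((p ^ f) ^ (2 * (i + 1)) - 1)
        < (p ^ f) ^ (k + 1 + 1) * (p ^ f) ^ (k * (k + 1)) :=
          Nat.mul_lt_mul_of_le_of_lt (add_one_le hq _) this (pow_pos hq0 _)
      _ = (p ^ f) ^ ((k + 1 + 1) + k * (k + 1)) := (pow_add _ _ _).symm
  exact bounds_of_formula hp hc hcp hP h1 hPM (by nlinarith) (by nlinarith)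

/-! ### unitary groups -/

theorem psu_bounds {F : Type*} [Field F] [Fintype F] {p f : ℕ} (hp : p.Prime) (hf : f ≠ 0)
    (hF : Fintype.card F = (p ^ f) ^ 2) (n : ℕ) (hn : 3 ≤ n) : Bounds p (PSU n F (p ^ f)) := by
  have hq := two_le_pow hp hf
  have hq0 : 0 < p ^ f := by omega
  have hpq : p ∣ p ^ f := dvd_pow_self p hf
  have h1 := Cfsg.Agent.S0280.result hF n (by omega)
  obtain ⟨k, rfl⟩ : ∃ k, n = k + 1 := ⟨n - 1, by omega⟩
  rw [Nat.add_sub_cancel] at h1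
  have e1 : ∏ i ∈ range (k + 1), (if Even i then (p ^ f) ^ (i + 1) + 1 else (p ^ f) ^ (i + 1) - 1) =
      (p ^ f + 1) * ∏ i ∈ range k, uFac (p ^ f) (i + 1) := prod_uFac_succ (p ^ f) k
  rw [e1] at h1
  have h2N : 2 * ((k + 1) * k / 2) = (k + 1) * k := by
    have : Even ((k + 1) * k) := by
      rw [mul_comm]
      exact Nat.even_mul_succ_self k
    exact Nat.two_mul_div_two_of_even this
  have h2 : Nat.gcd (k + 1) (p ^ f + 1) * Nat.card (PSU (k + 1) F (p ^ f)) =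
      (p ^ f) ^ ((k + 1) * k / 2) * ∏ i ∈ range k, uFac (p ^ f) (i + 1) := by
    apply Nat.eq_of_mul_eq_mul_left (show 0 < p ^ f + 1 by omega)
    rw [← mul_assoc, mul_comm (p ^ f + 1), mul_assoc, h1]
    ring
  have hc : Nat.gcd (k + 1) (p ^ f + 1) ≠ 0 := (Nat.gcd_pos_of_pos_left _ (by omega)).ne'
  have hcp : ¬ p ∣ Nat.gcd (k + 1) (p ^ f + 1) :=
    not_dvd_of_dvd_add_one hp hpq (Nat.gcd_dvd_right _ _)
  have hPM := prod_uFac_lt hq k (by omega)
  have h2M : 2 * ∑ i ∈ range k, (i + 2) = k * (k + 3) := sum_add_two k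
  have hk : 2 ≤ k := by omega
  exact bounds_of_formula hp hc hcp (prod_uFac_not_dvd hp hpq hq0 k) h2 hPM (by nlinarith) (by nlinarith)

end Cfsg.Agent.Lead.LieOrd
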