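import Mathlib
import Cfsg.Agent.Lib.Lead.LieOrdClassical
import Cfsg.Agent.S1059
import Cfsg.Agent.S1062
import Cfsg.Agent.S1063
import Cfsg.Agent.S1064
import Cfsg.Agent.S1065
import Cfsg.Agent.S1066
import Cfsg.Agent.S1067
import Cfsg.Agent.S1068
import Cfsg.Agent.S1069
import Cfsg.Agent.S1163

/-!
# The order bounds for the exceptional groups
-/

set_option autoImplicit false
set_option linter.unusedSectionVars false

namespace Cfsg.Agent.Lead.LieOrd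

open Finset Cfsg

theorem mul_lt_pow {q A B a b : ℕ} (hq0 : 0 < q) (hA : A ≤ q ^ a) (hB : B < q ^ b) : A * B < q ^ (a + b) := by
  rw [pow_add]
  exact Nat.mul_lt_mul_of_le_of_lt hA hB (pow_pos hq0 _)

theorem mul_le_pow {q A B a b : ℕ} (hA : A ≤ q ^ a) (hB : B ≤ q ^ b) : A * B ≤ q ^ (a + b) := by
  rw [pow_add]
  exact Nat.mul_le_mul hA hB

section

variable {p f : ℕ} (hp : p.Prime) (hf : f ≠ 0)
include hp hf

theorem nd_sub (d : ℕ) (hd : d ≠ 0) : ¬ p ∣ (p ^ f) ^ d - 1 :=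
  not_dvd_sub_one hp (dvd_pow_self p hf) (pow_pos hp.pos f) hd

theorem nd_add (d : ℕ) (hd : d ≠ 0) : ¬ p ∣ (p ^ f) ^ d + 1 :=
  not_dvd_add_one hp (dvd_pow_self p hf) hd

theorem nd_sub' : ¬ p ∣ p ^ f - 1 := by
  have := nd_sub hp hf 1 one_ne_zero
  rwa [pow_one] at this

theorem le_sub (d : ℕ) : (p ^ f) ^ d - 1 ≤ (p ^ f) ^ d := Nat.sub_le _ _

theorem lt_sub (d : ℕ) : (p ^ f) ^ d - 1 < (p ^ f) ^ d := sub_one_lt (two_le_pow hp hf) d

theorem le_add (d : ℕ) : (p ^ f) ^ d + 1 ≤ (p ^ f) ^ (d + 1) := add_one_le (two_le_pow hp hf) d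

theorem le_sub' : p ^ f - 1 ≤ (p ^ f) ^ 1 := by
  rw [pow_one]
  exact Nat.sub_le _ _

/-! ### untwisted exceptional groups -/

theorem g2_bounds {F : Type*} [Field F] [Fintype F] (hF : Fintype.card F = p ^ f) :
    Bounds p ↥(Lie.chevG2.group F) := by
  have hq0 : 0 < p ^ f := pow_pos hp.pos f
  have h := Cfsg.Agent.S1059.result hF
  have h' : 1 * Nat.card ↥(Lie.chevG2.group F) =
      (p ^ f) ^ 6 * (((p ^ f) ^ 2 - 1) * ((p ^ f) ^ 6 - 1)) := by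
    rw [one_mul, h, mul_assoc]
  exact bounds_of_formula hp one_ne_zero (by simpa using hp.one_lt.ne')
    (Nat.Prime.not_dvd_mul hp (nd_sub hp hf 2 (by norm_num)) (nd_sub hp hf 6 (by norm_num))) h'
    (mul_lt_pow hq0 (le_sub hp hf 2) (lt_sub hp hf 6)) (by norm_num) (by norm_num)

theorem f4_bounds {F : Type*} [Field F] [Fintype F] (hF : Fintype.card F = p ^ f) :
    Bounds p ↥(Lie.chevF4.group F) := by
  have hq0 : 0 < p ^ f := pow_pos hp.pos f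
  have h := Cfsg.Agent.S1062.result hF
  have h' : 1 * Nat.card ↥(Lie.chevF4.group F) =
      (p ^ f) ^ 24 * (((p ^ f) ^ 2 - 1) * (((p ^ f) ^ 6 - 1) * (((p ^ f) ^ 8 - 1) * ((p ^ f) ^ 12 - 1)))) := by
    rw [one_mul, h]
    simp only [mul_assoc]
  exact bounds_of_formula hp one_ne_zero (by simpa using hp.one_lt.ne')
    (Nat.Prime.not_dvd_mul hp (nd_sub hp hf 2 (by norm_num)) (Nat.Prime.not_dvd_mul hp
      (nd_sub hp hf 6 (by norm_num)) (Nat.Prime.not_dvd_mul hp (nd_sub hp hf 8 (by norm_num))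
      (nd_sub hp hf 12 (by norm_num))))) h'
    (mul_lt_pow hq0 (le_sub hp hf 2) (mul_lt_pow hq0 (le_sub hp hf 6) (mul_lt_pow hq0 (le_sub hp hf 8)
      (lt_sub hp hf 12)))) (by norm_num) (by norm_num)

theorem e6_bounds {F : Type*} [Field F] [Fintype F] (hF : Fintype.card F = p ^ f) :
    Bounds p ↥(Lie.chevE6.group F) := by
  have hq0 : 0 < p ^ f := pow_pos hp.pos f
  have hq := two_le_pow hp hf
  have h := Cfsg.Agent.S1063.result hF
  have h' : Nat.gcd 3 (p ^ f - 1) * Nat.card ↥(Lie.chevE6.group F) =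
      (p ^ f) ^ 36 * (((p ^ f) ^ 2 - 1) * (((p ^ f) ^ 5 - 1) * (((p ^ f) ^ 6 - 1) * (((p ^ f) ^ 8 - 1) *
        (((p ^ f) ^ 9 - 1) * ((p ^ f) ^ 12 - 1)))))) := by
    rw [h]
    simp only [mul_assoc]
  exact bounds_of_formula hp (Nat.gcd_pos_of_pos_left _ (by norm_num)).ne'
    (not_dvd_of_dvd_sub_one hp (dvd_pow_self p hf) hq0 (Nat.gcd_dvd_right _ _))
    (Nat.Prime.not_dvd_mul hp (nd_sub hp hf 2 (by norm_num)) (Nat.Prime.not_dvd_mul hp
      (nd_sub hp hf 5 (by norm_num)) (Nat.Prime.not_dvd_mul hp (nd_sub hp hf 6 (by norm_num))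
      (Nat.Prime.not_dvd_mul hp (nd_sub hp hf 8 (by norm_num)) (Nat.Prime.not_dvd_mul hp
      (nd_sub hp hf 9 (by norm_num)) (nd_sub hp hf 12 (by norm_num))))))) h'
    (mul_lt_pow hq0 (le_sub hp hf 2) (mul_lt_pow hq0 (le_sub hp hf 5) (mul_lt_pow hq0 (le_sub hp hf 6)
      (mul_lt_pow hq0 (le_sub hp hf 8) (mul_lt_pow hq0 (le_sub hp hf 9) (lt_sub hp hf 12))))))
    (by norm_num) (by norm_num)

theorem e7_bounds {F : Type*} [Field F] [Fintype F] (hF : Fintype.card F = p ^ f) :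
    Bounds p ↥(Lie.chevE7.group F) := by
  have hq0 : 0 < p ^ f := pow_pos hp.pos f
  have h := Cfsg.Agent.S1064.result hF
  have h' : Nat.gcd 2 (p ^ f - 1) * Nat.card ↥(Lie.chevE7.group F) =
      (p ^ f) ^ 63 * (((p ^ f) ^ 2 - 1) * (((p ^ f) ^ 6 - 1) * (((p ^ f) ^ 8 - 1) * (((p ^ f) ^ 10 - 1) *
        (((p ^ f) ^ 12 - 1) * (((p ^ f) ^ 14 - 1) * ((p ^ f) ^ 18 - 1))))))) := by
    rw [h]
    simp only [mul_assoc]
  exact bounds_of_formula hp (Nat.gcd_pos_of_pos_left _ (by norm_num)).ne'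
    (not_dvd_of_dvd_sub_one hp (dvd_pow_self p hf) hq0 (Nat.gcd_dvd_right _ _))
    (Nat.Prime.not_dvd_mul hp (nd_sub hp hf 2 (by norm_num)) (Nat.Prime.not_dvd_mul hp
      (nd_sub hp hf 6 (by norm_num)) (Nat.Prime.not_dvd_mul hp (nd_sub hp hf 8 (by norm_num))
      (Nat.Prime.not_dvd_mul hp (nd_sub hp hf 10 (by norm_num)) (Nat.Prime.not_dvd_mul hp
      (nd_sub hp hf 12 (by norm_num)) (Nat.Prime.not_dvd_mul hp (nd_sub hp hf 14 (by norm_num))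
      (nd_sub hp hf 18 (by norm_num)))))))) h'
    (mul_lt_pow hq0 (le_sub hp hf 2) (mul_lt_pow hq0 (le_sub hp hf 6) (mul_lt_pow hq0 (le_sub hp hf 8)
      (mul_lt_pow hq0 (le_sub hp hf 10) (mul_lt_pow hq0 (le_sub hp hf 12) (mul_lt_pow hq0 (le_sub hp hf 14)
      (lt_sub hp hf 18)))))))
    (by norm_num) (by norm_num)

theorem e8_bounds {F : Type*} [Field F] [Fintype F] (hF : Fintype.card F = p ^ f) :
    Bounds p ↥(Lie.chevE8.group F) := by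
  have hq0 : 0 < p ^ f := pow_pos hp.pos f
  have h := Cfsg.Agent.S1065.result hF
  have h' : 1 * Nat.card ↥(Lie.chevE8.group F) =
      (p ^ f) ^ 120 * (((p ^ f) ^ 2 - 1) * (((p ^ f) ^ 8 - 1) * (((p ^ f) ^ 12 - 1) * (((p ^ f) ^ 14 - 1) *
        (((p ^ f) ^ 18 - 1) * (((p ^ f) ^ 20 - 1) * (((p ^ f) ^ 24 - 1) * ((p ^ f) ^ 30 - 1)))))))) := by
    rw [one_mul, h]
    simp only [mul_assoc]
  exact bounds_of_formula hp one_ne_zero (by simpa using hp.one_lt.ne')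
    (Nat.Prime.not_dvd_mul hp (nd_sub hp hf 2 (by norm_num)) (Nat.Prime.not_dvd_mul hp
      (nd_sub hp hf 8 (by norm_num)) (Nat.Prime.not_dvd_mul hp (nd_sub hp hf 12 (by norm_num))
      (Nat.Prime.not_dvd_mul hp (nd_sub hp hf 14 (by norm_num)) (Nat.Prime.not_dvd_mul hp
      (nd_sub hp hf 18 (by norm_num)) (Nat.Prime.not_dvd_mul hp (nd_sub hp hf 20 (by norm_num))
      (Nat.Prime.not_dvd_mul hp (nd_sub hp hf 24 (by norm_num)) (nd_sub hp hf 30 (by norm_num))))))))) h'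
    (mul_lt_pow hq0 (le_sub hp hf 2) (mul_lt_pow hq0 (le_sub hp hf 8) (mul_lt_pow hq0 (le_sub hp hf 12)
      (mul_lt_pow hq0 (le_sub hp hf 14) (mul_lt_pow hq0 (le_sub hp hf 18) (mul_lt_pow hq0 (le_sub hp hf 20)
      (mul_lt_pow hq0 (le_sub hp hf 24) (lt_sub hp hf 30))))))))
    (by norm_num) (by norm_num)

/-! ### twisted groups -/

theorem tw_e6_bounds {K : Type*} [Field K] [Fintype K] (hK : Fintype.card K = (p ^ f) ^ 2) :
    Bounds p ↥(Lie.twistedE6 K (p ^ f)) := by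
  have hq0 : 0 < p ^ f := pow_pos hp.pos f
  have hpp : IsPrimePow (p ^ f) := ⟨p, f, Nat.prime_iff.1 hp, Nat.pos_of_ne_zero hf, rfl⟩
  have h := Cfsg.Agent.S1066.result hpp hK
  have h' : Nat.gcd 3 (p ^ f + 1) * Nat.card ↥(Lie.twistedE6 K (p ^ f)) =
      (p ^ f) ^ 36 * (((p ^ f) ^ 2 - 1) * (((p ^ f) ^ 5 + 1) * (((p ^ f) ^ 6 - 1) * (((p ^ f) ^ 8 - 1) *
        (((p ^ f) ^ 9 + 1) * ((p ^ f) ^ 12 - 1)))))) := by
    rw [h]
    simp only [mul_assoc]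
  exact bounds_of_formula hp (Nat.gcd_pos_of_pos_left _ (by norm_num)).ne'
    (not_dvd_of_dvd_add_one hp (dvd_pow_self p hf) (Nat.gcd_dvd_right _ _))
    (Nat.Prime.not_dvd_mul hp (nd_sub hp hf 2 (by norm_num)) (Nat.Prime.not_dvd_mul hp
      (nd_add hp hf 5 (by norm_num)) (Nat.Prime.not_dvd_mul hp (nd_sub hp hf 6 (by norm_num))
      (Nat.Prime.not_dvd_mul hp (nd_sub hp hf 8 (by norm_num)) (Nat.Prime.not_dvd_mul hp
      (nd_add hp hf 9 (by norm_num)) (nd_sub hp hf 12 (by norm_num))))))) h'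
    (mul_lt_pow hq0 (le_sub hp hf 2) (mul_lt_pow hq0 (le_add hp hf 5) (mul_lt_pow hq0 (le_sub hp hf 6)
      (mul_lt_pow hq0 (le_sub hp hf 8) (mul_lt_pow hq0 (le_add hp hf 9) (lt_sub hp hf 12))))))
    (by norm_num) (by norm_num)

theorem tw_d4_bounds {K : Type*} [Field K] [Fintype K] (hK : Fintype.card K = (p ^ f) ^ 3) :
    Bounds p ↥(Lie.twistedD4 K (p ^ f)) := by
  have hq0 : 0 < p ^ f := pow_pos hp.pos f
  have hq := two_le_pow hp hf
  have hpp : IsPrimePow (p ^ f) := ⟨p, f, Nat.prime_iff.1 hp, Nat.pos_of_ne_zero hf, rfl⟩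
  have h := Cfsg.Agent.S1067.result hpp hK
  have h' : 1 * Nat.card ↥(Lie.twistedD4 K (p ^ f)) =
      (p ^ f) ^ 12 * (((p ^ f) ^ 2 - 1) * (((p ^ f) ^ 6 - 1) * ((p ^ f) ^ 8 + (p ^ f) ^ 4 + 1))) := by
    rw [one_mul, h]
    simp only [mul_assoc]
  have hnd : ¬ p ∣ (p ^ f) ^ 8 + (p ^ f) ^ 4 + 1 := by
    intro hd
    have h1 : p ∣ (p ^ f) ^ 8 + (p ^ f) ^ 4 :=
      dvd_add (dvd_pow (dvd_pow_self p hf) (by norm_num)) (dvd_pow (dvd_pow_self p hf) (by norm_num))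
    exact hp.ne_one (Nat.dvd_one.1 ((Nat.dvd_add_right h1).1 hd))
  have hle : (p ^ f) ^ 8 + (p ^ f) ^ 4 + 1 < (p ^ f) ^ 9 := by
    have h4 : (p ^ f) ^ 4 + 1 ≤ (p ^ f) ^ 5 := add_one_le hq 4
    have h5 : (p ^ f) ^ 5 < (p ^ f) ^ 8 := Nat.pow_lt_pow_right (by omega) (by norm_num)
    have h9 : (p ^ f) ^ 9 = (p ^ f) ^ 8 * (p ^ f) := pow_succ _ _
    have h10 : (p ^ f) ^ 8 * 2 ≤ (p ^ f) ^ 8 * (p ^ f) := Nat.mul_le_mul_left _ hq
    omega
  exact bounds_of_formula hp one_ne_zero (by simpa using hp.one_lt.ne')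
    (Nat.Prime.not_dvd_mul hp (nd_sub hp hf 2 (by norm_num)) (Nat.Prime.not_dvd_mul hp
      (nd_sub hp hf 6 (by norm_num)) hnd)) h'
    (mul_lt_pow hq0 (le_sub hp hf 2) (mul_lt_pow hq0 (le_sub hp hf 6) hle))
    (by norm_num) (by norm_num)

end

/-! ### Suzuki and Ree groups -/

theorem sz_bounds {F : Type*} [Field F] [Fintype F] {m : ℕ} (hm : 1 ≤ m)
    (hF : Fintype.card F = 2 ^ (2 * m + 1)) : Bounds 2 ↥(Lie.Sz F (2 ^ (m + 1))) := by
  have hp := Nat.prime_two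
  have hf : 2 * m + 1 ≠ 0 := by omega
  have hq0 : 0 < 2 ^ (2 * m + 1) := pow_pos hp.pos _
  have hq := two_le_pow hp hf
  have h := (Cfsg.Agent.S1163.result hm hF).1
  have h' : 1 * Nat.card ↥(Lie.Sz F (2 ^ (m + 1))) =
      (2 ^ (2 * m + 1)) ^ 2 * (((2 ^ (2 * m + 1)) ^ 1 - 1) * ((2 ^ (2 * m + 1)) ^ 2 + 1)) := by
    rw [one_mul, h, pow_one]
    simp only [mul_assoc]
  exact bounds_of_formula hp one_ne_zero (by norm_num)
    (Nat.Prime.not_dvd_mul hp (nd_sub hp hf 1 (by norm_num)) (nd_add hp hf 2 (by norm_num))) h'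
    (pair_lt hq (show 1 ≤ 2 by norm_num)) (by norm_num) (by norm_num)

theorem tw_f4_bounds {K : Type*} [Field K] [Fintype K] {m : ℕ}
    (hK : Fintype.card K = 2 ^ (2 * m + 1)) : Bounds 2 ↥(Lie.twistedF4 K (2 ^ m)) := by
  have hp := Nat.prime_two
  have hf : 2 * m + 1 ≠ 0 := by omega
  have hq0 : 0 < 2 ^ (2 * m + 1) := pow_pos hp.pos _
  have h := Cfsg.Agent.S1068.result hK
  have h' : 1 * Nat.card ↥(Lie.twistedF4 K (2 ^ m)) =
      (2 ^ (2 * m + 1)) ^ 12 * (((2 ^ (2 * m + 1)) ^ 1 - 1) * (((2 ^ (2 * m + 1)) ^ 3 + 1) *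
        (((2 ^ (2 * m + 1)) ^ 4 - 1) * ((2 ^ (2 * m + 1)) ^ 6 + 1)))) := by
    rw [one_mul, h, pow_one]
    simp only [mul_assoc]
  have hlast : (2 ^ (2 * m + 1)) ^ 6 + 1 < (2 ^ (2 * m + 1)) ^ 8 :=
    lt_of_le_of_lt (le_add hp hf 6) (Nat.pow_lt_pow_right (two_le_pow hp hf) (by norm_num))
  exact bounds_of_formula hp one_ne_zero (by norm_num)
    (Nat.Prime.not_dvd_mul hp (nd_sub hp hf 1 (by norm_num)) (Nat.Prime.not_dvd_mul hp
      (nd_add hp hf 3 (by norm_num)) (Nat.Prime.not_dvd_mul hp (nd_sub hp hf 4 (by norm_num))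
      (nd_add hp hf 6 (by norm_num))))) h'
    (mul_lt_pow hq0 (le_sub hp hf 1) (mul_lt_pow hq0 (le_add hp hf 3) (mul_lt_pow hq0 (le_sub hp hf 4) hlast)))
    (by norm_num) (by norm_num)

theorem tw_g2_bounds {K : Type*} [Field K] [Fintype K] {m : ℕ}
    (hK : Fintype.card K = 3 ^ (2 * m + 1)) : Bounds 3 ↥(Lie.twistedG2 K (3 ^ m)) := by
  have hp := Nat.prime_three
  have hf : 2 * m + 1 ≠ 0 := by omega
  have hq0 : 0 < 3 ^ (2 * m + 1) := pow_pos hp.pos _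
  have hq := two_le_pow hp hf
  have h := Cfsg.Agent.S1069.result hK
  have h' : 1 * Nat.card ↥(Lie.twistedG2 K (3 ^ m)) =
      (3 ^ (2 * m + 1)) ^ 3 * (((3 ^ (2 * m + 1)) ^ 1 - 1) * ((3 ^ (2 * m + 1)) ^ 3 + 1)) := by
    rw [one_mul, h, pow_one]
    simp only [mul_assoc]
  exact bounds_of_formula hp one_ne_zero (by norm_num)
    (Nat.Prime.not_dvd_mul hp (nd_sub hp hf 1 (by norm_num)) (nd_add hp hf 3 (by norm_num))) h'
    (pair_lt hq (show 1 ≤ 3 by norm_num)) (by norm_num) (by norm_num)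

end Cfsg.Agent.Lead.LieOrd
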