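import Mathlib
import Cfsg.Agent.Lib.Lead.NC2Defs
import Cfsg.Agent.Lib.Helper1.NC2COUNT
import Cfsg.Agent.Lib.Helper3.NC2COVER
import Cfsg.Agent.Lib.Helper4.NC2WIT
import Cfsg.Agent.Lib.Helper8.NC2SEP
import Cfsg.Agent.Lib.Helper25.NC2EXTRA

/-!
# S3894, case `n = 2`: no nilpotent minimal cover of a group between `PSL₂(q)` and `PGL₂(q)`, `q ≥ 4`

Assembly of the pieces `N2-*` (plans/S3894_n2_plan.md).
-/

set_option autoImplicit false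

namespace Cfsg.Agent.Lead.NC2

open Matrix

/-- S3894 for `n = 2`: the frozen statement with `n := 2`. -/
theorem no_nilpotent_min_cover_two {F : Type*} [Field F] [Fintype F] (hq : 4 ≤ Fintype.card F)
    (G : Subgroup (GL (Fin 2) F ⧸ Subgroup.center (GL (Fin 2) F)))
    (hG : ((Matrix.SpecialLinearGroup.toGL :
      Matrix.SpecialLinearGroup (Fin 2) F →* GL (Fin 2) F).range).map
        (QuotientGroup.mk' (Subgroup.center (GL (Fin 2) F))) ≤ G) :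
    ¬ ∃ 𝓐 : Finset (Subgroup ↥G), ((∀ A ∈ 𝓐, A ≠ ⊤) ∧ (∀ g : ↥G, ∃ A ∈ 𝓐, g ∈ A)) ∧
      (∀ 𝓑 : Finset (Subgroup ↥G), (∀ A ∈ 𝓑, A ≠ ⊤) ∧ (∀ g : ↥G, ∃ A ∈ 𝓑, g ∈ A) →
        𝓐.card ≤ 𝓑.card) ∧ (∀ A ∈ 𝓐, Group.IsNilpotent ↥A) := by
  classical
  rintro ⟨𝓐, ⟨_, hcov⟩, hmin, hnil⟩
  have hG' : (slImage : Subgroup (PGL2 F)) ≤ G := hG
  have hfin : (Iall : Set (Subgroup (PGL2 F))).Finite := Set.toFinite _
  obtain ⟨𝓑, hB1, hB2, hB3⟩ := exists_cover G hG' hfin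
  have h1 : 𝓐.card ≤ hfin.toFinset.card := (hmin 𝓑 ⟨hB1, hB2⟩).trans hB3
  have h2 : hfin.toFinset.card < 𝓐.card := by
    refine card_lt_of_nilpotent_cover G hfin.toFinset (fun A w => IsWit A w) ?_ ?_ ?_ 𝓐 hcov hnil
    · intro A hA
      obtain ⟨w, hw⟩ := exists_isWit hq ((Set.Finite.mem_toFinset hfin).1 hA)
      obtain ⟨y, rfl, _, _, hsl, _⟩ := id hw
      exact ⟨pr y, hG' hsl, hw⟩
    · intro H hH A A' w w' h h' m m'
      exact wit_sep hH h h' m m'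
    · obtain ⟨t, ht, hext⟩ := exists_extra (F := F) hq
      refine ⟨t, hG' ht, fun H hH htH A hA w hw => hext H hH htH A ?_ w hw⟩
      exact (Set.Finite.mem_toFinset hfin).1 hA
  omega

end Cfsg.Agent.Lead.NC2
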