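import Mathlib
import Cfsg.Agent.S1005
import Cfsg.Agent.S1012

set_option autoImplicit false
set_option linter.style.haveILetI false
open Pointwise

namespace Cfsg.Agent.Lead.O168

open Cfsg.Agent.Lead

variable {G : Type*} [Group G] [Finite G]

theorem d4_center_unique : ∀ x y : DihedralGroup 4, (∀ t, t * x = x * t) → (∀ t, t * y = y * t) →
    x ≠ 1 → y ≠ 1 → x = y := by decide

/-- a subgroup of order 4 all of whose elements square to one is a Klein four-group -/
theorem isKleinFour_of (U : Subgroup G) (h4 : Nat.card U = 4) (h2 : ∀ x ∈ U, x * x = 1) :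
    IsKleinFour U := by
  refine ⟨h4, ?_⟩
  have hd : Monoid.exponent U ∣ 2 := by
    apply Monoid.exponent_dvd_of_forall_pow_eq_one
    intro x
    apply Subtype.ext
    rw [pow_two]
    exact h2 x x.2
  rcases (Nat.dvd_prime Nat.prime_two).1 hd with h1 | h1
  · exfalso
    rw [Monoid.exp_eq_one_iff] at h1
    have := Nat.card_eq_one_iff_unique.2 ⟨h1, ⟨1⟩⟩
    omega
  · exact h1

theorem klein_sq (U : Subgroup G) [IsKleinFour U] {x : G} (hx : x ∈ U) : x * x = 1 := by
  have := IsKleinFour.mul_self (⟨x, hx⟩ : U)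
  exact congrArg Subtype.val this

theorem klein_comm (U : Subgroup G) [IsKleinFour U] {x y : G} (hx : x ∈ U) (hy : y ∈ U) :
    x * y = y * x := by
  have := comm_of_sq_eq_one (T := U) (fun w => by
    apply Subtype.ext; rw [pow_two]; exact klein_sq U w.2) ⟨x, hx⟩ ⟨y, hy⟩
  exact congrArg Subtype.val this

/-- Two Sylow subgroups of `G` inside `H` are conjugate by an element of `H`. -/
theorem exists_conj_in_subgroup {p : ℕ} [Fact p.Prime] (P P' : Sylow p G) (H : Subgroup G)
    (hP : (P : Subgroup G) ≤ H) (hP' : (P' : Subgroup G) ≤ H) : ∃ n ∈ H, n • P = P' := by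
  obtain ⟨n, hn⟩ := MulAction.exists_smul_eq ↥H (P.subtype hP) (P'.subtype hP')
  rw [Sylow.smul_subtype] at hn
  exact ⟨n, n.2, Sylow.subtype_injective hn⟩

/-- A subgroup of index two in `T` is normalized by `T`. -/
theorem le_normalizer_of_card {T U : Subgroup G} (hUT : U ≤ T) (hc : Nat.card T = 2 * Nat.card U) :
    T ≤ Subgroup.normalizer (U : Set G) := by
  rw [← Subgroup.normal_subgroupOf_iff_le_normalizer hUT]
  apply Subgroup.normal_of_index_eq_two
  have h1 := Subgroup.card_mul_index (U.subgroupOf T)
  rw [card_subgroupOf_eq, inf_of_le_left hUT, hc] at h1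
  have hpos : 0 < Nat.card U := Nat.card_pos
  nlinarith

section

variable [IsSimpleGroup G] (h : Nat.card G = 168)
include h

theorem exists_central_involution (T : Sylow 2 G) :
    ∃ z ∈ (T : Subgroup G), z ≠ 1 ∧ z * z = 1 ∧ (∀ t ∈ (T : Subgroup G), t * z = z * t) ∧
      ∀ w ∈ (T : Subgroup G), w ≠ 1 → (∀ t ∈ (T : Subgroup G), t * w = w * t) → w = z := by
  obtain ⟨e⟩ := Cfsg.Agent.S1004.sylow2_dihedral h T
  obtain ⟨d1, d2, d3⟩ := Cfsg.Agent.S1005.d4_center
  set z : ↥(T : Subgroup G) := e.symm (DihedralGroup.r 2) with hz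
  have hz1 : (z : G) ≠ 1 := by
    intro hh
    apply d1
    have : z = 1 := Subtype.ext hh
    rw [hz] at this
    have := congrArg e this
    simpa using this
  have hz2 : (z : G) * (z : G) = 1 := by
    have : z * z = 1 := by
      apply e.injective
      rw [map_mul, hz, MulEquiv.apply_symm_apply, ← pow_two, d2, map_one]
    exact congrArg Subtype.val this
  have hzc : ∀ t ∈ (T : Subgroup G), t * (z : G) = (z : G) * t := by
    intro t ht
    have : (⟨t, ht⟩ : ↥(T : Subgroup G)) * z = z * ⟨t, ht⟩ := by
      apply e.injective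
      rw [map_mul, map_mul, hz, MulEquiv.apply_symm_apply]
      exact d3 _
    exact congrArg Subtype.val this
  refine ⟨(z : G), z.2, hz1, hz2, hzc, ?_⟩
  intro w hw hw1 hwc
  have : (⟨w, hw⟩ : ↥(T : Subgroup G)) = z := by
    apply e.injective
    apply d4_center_unique
    · intro t
      have := hwc (e.symm t : ↥(T : Subgroup G)) (e.symm t).2
      have h2 : (e.symm t) * (⟨w, hw⟩ : ↥(T : Subgroup G)) = ⟨w, hw⟩ * (e.symm t) :=
        Subtype.ext this
      have := congrArg e h2
      rw [map_mul, map_mul, MulEquiv.apply_symm_apply] at this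
      exact this
    · intro t
      rw [hz, MulEquiv.apply_symm_apply]
      exact d3 t
    · intro hh
      apply hw1
      have : (⟨w, hw⟩ : ↥(T : Subgroup G)) = 1 := by
        apply e.injective; rw [hh, map_one]
      exact congrArg Subtype.val this
    · rw [hz, MulEquiv.apply_symm_apply]; exact d1
  exact congrArg Subtype.val this

theorem klein_le_sylow (U : Subgroup G) [IsKleinFour U] : ∃ T : Sylow 2 G, U ≤ (T : Subgroup G) := by
  have : IsPGroup 2 U := IsPGroup.of_card (n := 2) (by rw [IsKleinFour.card_four]; norm_num)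
  exact this.exists_le_sylow

theorem sylow_le_normalizer_klein (T : Sylow 2 G) (U : Subgroup G) [IsKleinFour U]
    (hUT : U ≤ (T : Subgroup G)) : (T : Subgroup G) ≤ Subgroup.normalizer (U : Set G) :=
  le_normalizer_of_card hUT (by rw [card_sylow2 h T, IsKleinFour.card_four])

/-- the central involution of `T` lies in every Klein four-subgroup of `T` -/
theorem central_mem_klein (T : Sylow 2 G) (U : Subgroup G) [IsKleinFour U]
    (hUT : U ≤ (T : Subgroup G)) {z : G}
    (hzu : ∀ w ∈ (T : Subgroup G), w ≠ 1 → (∀ t ∈ (T : Subgroup G), t * w = w * t) → w = z) :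
    z ∈ U := by
  obtain ⟨t, htU, ht1, htc⟩ := exists_ne_one_fixed_of_pgroup (p := 2) (T : Subgroup G) U T.2
    (sylow_le_normalizer_klein h T U hUT) (by rw [IsKleinFour.card_four]; norm_num)
  have := hzu t (hUT htU) ht1 htc
  rw [← this]
  exact htU

/-- the centralizer of an involution has order 8 -/
theorem card_centralizer_involution {a : G} (ha : orderOf a = 2) :
    Nat.card (Subgroup.centralizer ({a} : Set G)) = 8 := by
  obtain ⟨-, h21, hconj⟩ := Cfsg.Agent.S1005.result h
  have hclass : Nat.card {g : G // IsConj a g} = 21 := by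
    rw [← h21]
    apply Nat.card_congr
    refine Equiv.subtypeEquivRight ?_
    intro g
    constructor
    · intro hg
      obtain ⟨c, hc⟩ := isConj_iff.1 hg
      have hsc : SemiconjBy c a g := by
        unfold SemiconjBy
        rw [← hc]; group
      rw [← hsc.orderOf_eq c, ha]
    · intro hg
      exact hconj a g ha hg
  have := card_conj_mul_card_centralizer a
  rw [hclass, h] at this
  omega

theorem card_normalizer_klein (U : Subgroup G) [IsKleinFour U] :
    Nat.card (Subgroup.normalizer (U : Set G)) = 24 := by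
  haveI : Fact (Nat.Prime 7) := ⟨by norm_num⟩
  obtain ⟨T, hUT⟩ := klein_le_sylow h U
  obtain ⟨z, hzT, hz1, hz2, hzc, hzu⟩ := exists_central_involution h T
  set N := Subgroup.normalizer (U : Set G) with hN
  have hTN : (T : Subgroup G) ≤ N := sylow_le_normalizer_klein h T U hUT
  -- a noncentral involution in U
  obtain ⟨a, haU, ha1, haz⟩ : ∃ a ∈ U, a ≠ 1 ∧ a ≠ z := by
    by_contra hcon
    push Not at hcon
    have hsub : (U : Set G) ⊆ {1, z} := by
      intro x hx
      by_cases hx1 : x = 1
      · left; exact hx1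
      · right; exact hcon x hx hx1
    have : Nat.card U ≤ 2 := by
      have e : Nat.card U = (U : Set G).ncard := Nat.card_coe_set_eq (U : Set G)
      rw [e]
      calc (U : Set G).ncard ≤ ({1, z} : Set G).ncard :=
            Set.ncard_le_ncard hsub (Set.toFinite _)
        _ ≤ 2 := Set.ncard_insert_le _ _ |>.trans (by rw [Set.ncard_singleton])
    have h4 : Nat.card U = 4 := IsKleinFour.card_four
    omega
  have ha2 : a * a = 1 := klein_sq U haU
  have hao : orderOf a = 2 := orderOf_eq_prime (by rw [pow_two]; exact ha2) ha1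
  -- C(a) is a Sylow 2-subgroup
  set Ca := Subgroup.centralizer ({a} : Set G) with hCa
  have hCa8 : Nat.card Ca = 8 := card_centralizer_involution h hao
  have hCap : IsPGroup 2 Ca := IsPGroup.of_card (n := 3) (by rw [hCa8]; norm_num)
  obtain ⟨T', hT'⟩ := hCap.exists_le_sylow
  have hCaT' : Ca = (T' : Subgroup G) :=
    Subgroup.eq_of_le_of_card_ge hT' (by rw [card_sylow2 h T', hCa8])
  have hUCa : U ≤ Ca := by
    intro x hx
    rw [hCa, Subgroup.mem_centralizer_iff]
    intro w hw
    rw [Set.mem_singleton_iff] at hw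
    rw [hw]
    exact klein_comm U haU hx
  have hUT' : U ≤ (T' : Subgroup G) := hCaT' ▸ hUCa
  have hT'N : (T' : Subgroup G) ≤ N := sylow_le_normalizer_klein h T' U hUT'
  have hTT' : T ≠ T' := by
    intro hh
    apply haz
    apply hzu a (hUT haU) ha1
    intro t ht
    have : t ∈ Ca := by rw [hCaT', ← hh]; exact ht
    rw [hCa, Subgroup.mem_centralizer_iff] at this
    exact (this a rfl).symm
  have hge := (card_ge_of_two_sylow_le T T' hTT' N hTN hT'N).2
  rw [card_sylow2 h T] at hge
  -- 7 does not divide |N|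
  have h7 : ¬ 7 ∣ Nat.card N := by
    intro hd
    obtain ⟨y, hy⟩ := exists_prime_orderOf_dvd_card' (G := N) 7 hd
    have hyG : orderOf (y : G) = 7 := by rw [Subgroup.orderOf_coe, hy]
    have hzp : IsPGroup 7 (Subgroup.zpowers (y : G)) := by
      apply IsPGroup.of_card (n := 1)
      rw [Nat.card_zpowers, hyG, pow_one]
    have hle : Subgroup.zpowers (y : G) ≤ Subgroup.normalizer (U : Set G) := by
      rw [Subgroup.zpowers_le]; exact y.2
    obtain ⟨t, htU, ht1, htc⟩ := exists_ne_one_fixed_of_pgroup (p := 7) (Subgroup.zpowers (y : G)) U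
      hzp hle (by rw [IsKleinFour.card_four]; norm_num)
    have ht8 : t ^ 8 = 1 := by
      have : t ^ 8 = (t * t) ^ 4 := by rw [← pow_two, ← pow_mul]
      rw [this, klein_sq U htU, one_pow]
    have hdvd := card_centralizer_two_elt h ht1 ht8
    have hymem : (y : G) ∈ Subgroup.centralizer ({t} : Set G) := by
      rw [Subgroup.mem_centralizer_iff]
      intro w hw
      rw [Set.mem_singleton_iff] at hw
      rw [hw]
      exact (htc (y : G) (Subgroup.mem_zpowers _)).symm
    have h1 : orderOf (y : G) ∣ Nat.card (Subgroup.centralizer ({t} : Set G)) := by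
      have := orderOf_dvd_natCard (⟨(y : G), hymem⟩ : Subgroup.centralizer ({t} : Set G))
      rwa [Subgroup.orderOf_mk] at this
    rw [hyG] at h1
    have := h1.trans hdvd
    omega
  have hdvd168 : Nat.card N ∣ 168 := by
    have := Subgroup.card_subgroup_dvd_card N
    rwa [h] at this
  have h8 : 8 ∣ Nat.card N := by
    have := Subgroup.card_dvd_of_le hTN
    rwa [card_sylow2 h T] at this
  have h24 : Nat.card N ∣ 24 := by
    have hc : Nat.Coprime (Nat.card N) 7 :=
      Nat.coprime_comm.1 ((Nat.Prime.coprime_iff_not_dvd (by norm_num)).2 h7)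
    have : (168 : ℕ) = 24 * 7 := by norm_num
    rw [this] at hdvd168
    exact hc.dvd_of_dvd_mul_right hdvd168
  have hle : Nat.card N ≤ 24 := Nat.le_of_dvd (by norm_num) h24
  omega

theorem normalizer_klein_iso (U : Subgroup G) [IsKleinFour U] :
    Nonempty (↥(Subgroup.normalizer (U : Set G)) ≃* Equiv.Perm (Fin 4)) := by
  apply Cfsg.Agent.S1012.result (card_normalizer_klein h U)
  intro g hg
  have hgG : orderOf (g : G) = 6 := by rw [Subgroup.orderOf_coe, hg]
  rcases Cfsg.Agent.S1005.orderOf_mem h (g : G) with ho | ho | ho | ho | ho <;> omega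

end

end Cfsg.Agent.Lead.O168
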