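import Mathlib

set_option autoImplicit false
set_option linter.unusedSectionVars false
set_option linter.unusedSimpArgs false
set_option linter.unusedVariables false

/-!
# Abstract extension lemmas for `Out(PΩ⁺_{2m}(q))` (lead)

* `prod_of_commuting_section`: a split extension whose complement centralises the kernel is a
  direct product;
* `d8_aut_of_fix_sr`: an automorphism of the dihedral group of order eight fixing a non-central
  involution `t` is the identity or conjugation by `t`;
* `d8_prod_of_section`: a split extension of a cyclic group by a dihedral group of order eight in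
  which the complement fixes a non-central involution of the kernel is a direct product.
-/

namespace Cfsg.Agent.Lead.PlusOut

open DihedralGroup

/-- a split extension whose complement centralises the kernel is a direct product -/
theorem prod_of_commuting_section {G C : Type*} [Group G] [Group C] (π : G →* C) (s : C →* G)
    (hπs : ∀ c, π (s c) = c) (hcomm : ∀ k ∈ π.ker, ∀ c, k * s c = s c * k) :
    Nonempty (G ≃* ↥π.ker × C) := by
  let Ψ : ↥π.ker × C →* G :=
    { toFun := fun p => (p.1 : G) * s p.2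
      map_one' := by simp
      map_mul' := by
        intro p p'
        simp only [Prod.fst_mul, Prod.snd_mul, Subgroup.coe_mul, map_mul]
        have h1 := hcomm _ p'.1.2 p.2
        calc (p.1 : G) * (p'.1 : G) * (s p.2 * s p'.2)
            = (p.1 : G) * ((p'.1 : G) * s p.2) * s p'.2 := by group
          _ = (p.1 : G) * (s p.2 * (p'.1 : G)) * s p'.2 := by rw [h1]
          _ = _ := by group }
  have hΨ : ∀ p, Ψ p = (p.1 : G) * s p.2 := fun _ => rfl
  have hinj : Function.Injective Ψ := by
    rw [injective_iff_map_eq_one]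
    rintro ⟨k, c⟩ h
    rw [hΨ] at h
    have h1 := congrArg π h
    rw [map_mul, MonoidHom.mem_ker.1 k.2, one_mul, hπs, map_one] at h1
    simp only at h1
    subst h1
    rw [map_one, mul_one] at h
    simp only at h
    exact Prod.ext (Subtype.ext h) rfl
  have hsurj : Function.Surjective Ψ := by
    intro g
    have hk : g * (s (π g))⁻¹ ∈ π.ker := by
      rw [MonoidHom.mem_ker, map_mul, map_inv, hπs, mul_inv_cancel]
    refine ⟨(⟨_, hk⟩, π g), ?_⟩
    rw [hΨ]
    simp
  exact ⟨(MulEquiv.ofBijective Ψ ⟨hinj, hsurj⟩).symm⟩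

theorem d8_order_four : ∀ y : DihedralGroup 4, y ^ 2 ≠ 1 → y = r 1 ∨ y = r 3 := by decide

theorem d8_gen : ∀ i : ZMod 4, ∀ y : DihedralGroup 4,
    ∃ a : Fin 4, ∃ b : Fin 2, y = r 1 ^ (a : ℕ) * sr i ^ (b : ℕ) := by decide

theorem d8_noncentral : ∀ y z : DihedralGroup 4, y * y = 1 → y * z ≠ z * y →
    ∃ i : ZMod 4, y = sr i := by decide

theorem d8_conj_r : ∀ i : ZMod 4, (r 3 : DihedralGroup 4) = sr i * r 1 * (sr i)⁻¹ := by decide

/-- an automorphism of `D₈` fixing a non-central involution `t` is `1` or conjugation by `t` -/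
theorem d8_aut_of_fix_sr (θ : DihedralGroup 4 ≃* DihedralGroup 4) (i : ZMod 4)
    (h : θ (sr i) = sr i) :
    (∀ y, θ y = y) ∨ (∀ y, θ y = sr i * y * (sr i)⁻¹) := by
  have h1 : θ (r 1) ^ 2 ≠ 1 := by
    rw [← map_pow]
    intro hc
    have : (r 1 : DihedralGroup 4) ^ 2 = 1 := θ.injective (hc.trans (map_one θ).symm)
    revert this
    decide
  rcases d8_order_four _ h1 with h2 | h2
  · left
    intro y
    obtain ⟨a, b, rfl⟩ := d8_gen i y
    rw [map_mul, map_pow, map_pow, h, h2]
  · right
    intro y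
    obtain ⟨a, b, rfl⟩ := d8_gen i y
    rw [map_mul, map_pow, map_pow, h, h2]
    have e1 : (r 3 : DihedralGroup 4) = sr i * r 1 * (sr i)⁻¹ := d8_conj_r i
    have e2 : (sr i : DihedralGroup 4) = sr i * sr i * (sr i)⁻¹ := by group
    rw [e1]
    conv_lhs => rw [e2]
    rw [conj_pow, conj_pow]
    group


/-- a split extension of a cyclic group by a dihedral group of order eight, in which the
complement fixes a non-central involution of the kernel, is a direct product -/
theorem d8_prod_of_section {G C : Type*} [Group G] [Group C] (π : G →* C) (s : C →* G)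
    (hπs : ∀ c, π (s c) = c) (e : ↥π.ker ≃* DihedralGroup 4) (t x : G) (ht : t ∈ π.ker)
    (hx : x ∈ π.ker) (ht2 : t * t = 1) (htx : t * x ≠ x * t) (hst : ∀ c, s c * t = t * s c)
    {f : ℕ} (eC : C ≃* Multiplicative (ZMod f)) :
    Nonempty (G ≃* DihedralGroup 4 × Multiplicative (ZMod f)) := by
  classical
  set c₀ : C := eC.symm (Multiplicative.ofAdd 1) with hc₀
  have hc₀f : c₀ ^ f = 1 := by
    have h1 : eC (c₀ ^ f) = 1 := by
      rw [map_pow, hc₀, MulEquiv.apply_symm_apply, ← ofAdd_nsmul, nsmul_one,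
        ZMod.natCast_self, ofAdd_zero]
    exact eC.injective (h1.trans (map_one eC).symm)
  have hgen : ∀ c : C, ∃ n : ℤ, eC c = Multiplicative.ofAdd (n : ZMod f) ∧ c = c₀ ^ n := by
    intro c
    obtain ⟨n, hn⟩ := ZMod.intCast_surjective (Multiplicative.toAdd (eC c))
    have h1 : eC c = Multiplicative.ofAdd (n : ZMod f) := by rw [hn]; rfl
    refine ⟨n, h1, eC.injective ?_⟩
    rw [map_zpow, hc₀, MulEquiv.apply_symm_apply, ← ofAdd_zsmul, zsmul_one, h1]
  set φ : G := s c₀ with hφ
  have hφf : φ ^ f = 1 := by rw [hφ, ← map_pow, hc₀f, map_one]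
  have hπφ : π φ = c₀ := hπs c₀
  set t' : π.ker := ⟨t, ht⟩ with ht'
  set x' : π.ker := ⟨x, hx⟩ with hx'
  have ht't' : t' * t' = 1 := Subtype.ext ht2
  have htinv : t⁻¹ = t := inv_eq_of_mul_eq_one_right ht2
  obtain ⟨i, hi⟩ : ∃ i : ZMod 4, e t' = sr i := by
    apply d8_noncentral (e t') (e x')
    · rw [← map_mul, ht't', map_one]
    · rw [← map_mul, ← map_mul]
      intro hc
      exact htx (congrArg Subtype.val (e.injective hc))
  have hφt : φ * t = t * φ := hst c₀
  set θ : MulAut π.ker := MulAut.conjNormal φ with hθ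
  have hθt : θ t' = t' := by
    apply Subtype.ext
    rw [hθ, MulAut.conjNormal_apply]
    show φ * t * φ⁻¹ = t
    rw [hφt]
    group
  have hθf : θ ^ f = 1 := by rw [hθ, ← map_pow, hφf, map_one]
  set θ' : DihedralGroup 4 ≃* DihedralGroup 4 := (e.symm.trans θ).trans e with hθ'
  have hθ'app : ∀ y, θ' y = e (θ (e.symm y)) := fun _ => rfl
  have hθ'i : θ' (sr i) = sr i := by
    rw [hθ'app, ← hi, MulEquiv.symm_apply_apply, hθt]
  -- the correcting element
  obtain ⟨d, hdK, hdφ, hdconj, hdf⟩ : ∃ d : G, d ∈ π.ker ∧ d * φ = φ * d ∧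
      (∀ k ∈ π.ker, φ * k * φ⁻¹ = d⁻¹ * k * d) ∧ d ^ f = 1 := by
    rcases d8_aut_of_fix_sr θ' i hθ'i with hA | hB
    · refine ⟨1, one_mem _, by simp, ?_, one_pow _⟩
      intro k hk
      have h1 := hA (e ⟨k, hk⟩)
      rw [hθ'app, MulEquiv.symm_apply_apply] at h1
      have h2 := congrArg Subtype.val (e.injective h1)
      rw [hθ, MulAut.conjNormal_apply] at h2
      simp only at h2
      rw [h2]
      simp
    · have hθeq : θ = MulAut.conjNormal t := by
        apply MulEquiv.ext
        intro k
        apply e.injective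
        have h1 := hB (e k)
        rw [hθ'app, MulEquiv.symm_apply_apply] at h1
        rw [h1, ← hi, ← map_inv, ← map_mul, ← map_mul]
        congr 1
      have hfe : Even f := by
        by_contra hne
        rw [Nat.not_even_iff_odd] at hne
        obtain ⟨j, hj⟩ := hne
        have h1 : t ^ f = t := by
          rw [hj, pow_succ, pow_mul, pow_two, ht2, one_pow, one_mul]
        have h2 : (MulAut.conjNormal t : MulAut π.ker) = 1 := by
          rw [← hθf, hθeq, ← map_pow, h1]
        have h3 := congrArg (fun ψ : MulAut π.ker => ((ψ x' : π.ker) : G)) h2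
        simp only [MulAut.conjNormal_apply, MulAut.one_apply] at h3
        apply htx
        calc t * x = (t * x * t⁻¹) * t := by group
          _ = x * t := by rw [show t * x * t⁻¹ = x from h3]
      refine ⟨t, ht, hφt.symm, ?_, ?_⟩
      · intro k hk
        have h1 := congrArg (fun ψ : MulAut π.ker => ((ψ ⟨k, hk⟩ : π.ker) : G)) hθeq
        simp only [hθ, MulAut.conjNormal_apply] at h1
        rw [h1, htinv]
      · obtain ⟨j, hj⟩ := hfe
        rw [hj, ← two_mul, pow_mul, pow_two, ht2, one_pow]
  set φ' : G := d * φ with hφ'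
  have hφ'f : φ' ^ f = 1 := by
    rw [hφ', Commute.mul_pow (show Commute d φ from hdφ), hdf, hφf, one_mul]
  have hπφ' : π φ' = c₀ := by
    rw [hφ', map_mul, MonoidHom.mem_ker.1 hdK, one_mul, hπφ]
  have hφ'comm : ∀ k ∈ π.ker, Commute k φ' := by
    intro k hk
    have h1 := hdconj k hk
    show k * φ' = φ' * k
    rw [hφ']
    calc k * (d * φ) = d * (d⁻¹ * k * d) * φ := by group
      _ = d * (φ * k * φ⁻¹) * φ := by rw [h1]
      _ = d * φ * k := by group
  -- the new section
  let h0 : ZMod f →+ Additive G :=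
    ZMod.lift f ⟨zmultiplesHom (Additive G) (Additive.ofMul φ'), by
      rw [zmultiplesHom_apply, natCast_zsmul, ← ofMul_pow, hφ'f, ofMul_one]⟩
  have hh0 : ∀ n : ℤ, h0 (n : ZMod f) = Additive.ofMul (φ' ^ n) := by
    intro n
    show ZMod.lift f _ (n : ZMod f) = _
    rw [ZMod.lift_coe]
    show zmultiplesHom (Additive G) (Additive.ofMul φ') n = _
    rw [zmultiplesHom_apply, ← ofMul_zpow]
  let h : Multiplicative (ZMod f) →* G := AddMonoidHom.toMultiplicativeLeft h0
  have hh : ∀ n : ℤ, h (Multiplicative.ofAdd (n : ZMod f)) = φ' ^ n := by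
    intro n
    show Additive.toMul (h0 (n : ZMod f)) = _
    rw [hh0]
    rfl
  let s' : C →* G := h.comp eC.toMonoidHom
  have hs' : ∀ c, ∃ n : ℤ, c = c₀ ^ n ∧ s' c = φ' ^ n := by
    intro c
    obtain ⟨n, hn1, hn2⟩ := hgen c
    refine ⟨n, hn2, ?_⟩
    show h (eC c) = _
    rw [hn1, hh]
  have hπs' : ∀ c, π (s' c) = c := by
    intro c
    obtain ⟨n, hn1, hn2⟩ := hs' c
    rw [hn2, map_zpow, hπφ', ← hn1]
  have hcomm' : ∀ k ∈ π.ker, ∀ c, k * s' c = s' c * k := by
    intro k hk c
    obtain ⟨n, -, hn2⟩ := hs' c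
    rw [hn2]
    exact (hφ'comm k hk).zpow_right n
  obtain ⟨E⟩ := prod_of_commuting_section π s' hπs' hcomm'
  exact ⟨E.trans (e.prodCongr eC)⟩

end Cfsg.Agent.Lead.PlusOut
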