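import Mathlib
import Cfsg.Agent.Lib.Lead.PlusOutAbs
import Cfsg.Agent.Lib.Helper17.OrthFA27
import Cfsg.Agent.Lib.Helper17.OrthOut24
import Cfsg.Agent.Lib.Helper17.OrthOut10
import Cfsg.Agent.Lib.Helper17.ConfAut17
import Cfsg.Agent.Lib.Helper2.OutCongr
import Cfsg.Agent.Lib.Helper2.PslAut7

set_option autoImplicit false
set_option linter.unusedSectionVars false
set_option linter.unusedSimpArgs false
set_option linter.unusedVariables false

/-!
# `Out(PΩ⁺_{2m}(q))` for `m ≥ 5` (lead, on top of helper17's orthogonal libraries)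

* `out_plus_even`: `q = 2^f`: `C₂ × C_f`;
* `out_plus_odd`: `q` odd: `C₂ × C₂ × C_f` if `q ≡ 3 (mod 4)` and `m` is odd, `D₈ × C_f` otherwise.
-/

namespace Cfsg.Agent.Lead.PlusOut

open QuadraticMap Matrix Cfsg.Agent.Helper2.Orth Cfsg.Agent.Helper17.OrthAut
  Cfsg.Agent.Helper17.Spinor Cfsg.Agent.Helper13 Cfsg.Agent.Helper17.OrthOut
  Cfsg.Agent.Helper17.ConfAut Cfsg.Agent.Helper17.OrthFA

universe u

variable {F : Type u} [Field F] [Fintype F]

/-- the field automorphisms act on the standard hyperbolic form -/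
theorem isSemisim_plus (n : ℕ) (σ : F ≃+* F) :
    Cfsg.IsSemisimilarityPair (⇑(plusQ n F)) (1 : GL (Fin n ⊕ Fin n) F) σ := by
  refine ⟨1, fun v => ?_⟩
  rw [Units.val_one, Matrix.one_mulVec, Units.val_one, one_mul]
  exact plusQ_map n σ v

/-- the field automorphisms as automorphisms of `PΩ⁺` -/
noncomputable def fieldSecPlus (n : ℕ) :
    RingAut F →* MulAut (Cfsg.POmega F (⇑(plusQ n F))) where
  toFun σ := stdAut (isSemisim_plus n σ)
  map_one' := by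
    rw [← stdAut_one]
  map_mul' σ σ' := by
    rw [stdAut_mul]
    exact stdAut_congr (by simp) rfl _ _

theorem fieldSecPlus_apply (n : ℕ) (σ : RingAut F) :
    fieldSecPlus n σ = stdAut (isSemisim_plus n σ) := rfl

/-- characteristic two: `Out(PΩ⁺_{2m}(q)) ≅ C₂ × C_f`, `m ≥ 5` -/
theorem out_plus_even [CharP F 2] (k : ℕ) {f : ℕ} (hf : Nat.card (RingAut F) = f) :
    Nonempty (Cfsg.Out (Cfsg.POmega F (⇑(plusQ (k + 4 + 1) F))) ≃*
      Multiplicative (ZMod 2 × ZMod f)) := by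
  classical
  have G := good_plus (F := F) k
  let πb : Cfsg.Out (Cfsg.POmega F (⇑(plusQ (k + 4 + 1) F))) →* RingAut F :=
    QuotientGroup.lift (Cfsg.Inn _) G.fieldHom G.inn_le_ker
  let sb : RingAut F →* Cfsg.Out (Cfsg.POmega F (⇑(plusQ (k + 4 + 1) F))) :=
    (QuotientGroup.mk' (Cfsg.Inn _)).comp (fieldSecPlus (k + 4 + 1))
  have hπs : ∀ σ, πb (sb σ) = σ := by
    intro σ
    show G.fieldHom (fieldSecPlus (k + 4 + 1) σ) = σ
    rw [fieldSecPlus_apply, G.fieldHom_stdAut]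
  obtain ⟨eK⟩ := ker_lift_equiv (Cfsg.Inn _) G.fieldHom G.inn_le_ker
    (PG (plusQ (k + 4 + 1) F)) G.ker_fieldHom
  have hK : Nat.card πb.ker = 2 := by
    rw [Nat.card_congr eK.toEquiv, card_quotient_subgroupOf, G.relIndex_inn_PG_two]
  obtain ⟨e⟩ := split_of_section πb sb hπs hK
  haveI : Fact (Nat.Prime 2) := ⟨Nat.prime_two⟩
  have hcyc : IsCyclic (RingAut F) := Cfsg.Agent.Helper2.PA.isCyclic_ringAut 2
  have eC : RingAut F ≃* Multiplicative (ZMod f) := by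
    have e' := (zmodCyclicMulEquiv hcyc).symm
    rw [hf] at e'
    exact e'
  exact ⟨(e.trans ((MulEquiv.refl _).prodCongr eC)).trans
    (MulEquiv.prodMultiplicative (ZMod 2) (ZMod f)).symm⟩

theorem rG_eq_tG {ι : Type} [Fintype ι] [DecidableEq ι] (Q : QuadraticForm F (ι → F))
    (h2 : (2 : F) ≠ 0) {v : ι → F} (hv : Q v ≠ 0) : rG Q h2 v = tG Q v := by
  apply Subtype.ext
  apply Units.ext
  rw [rG_coe Q h2 hv, tG_coe Q hv]

set_option maxHeartbeats 2000000 in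
/-- odd characteristic: `Out(PΩ⁺_{2m}(q))`, `m ≥ 5` -/
theorem out_plus_odd (hodd : Odd (Fintype.card F)) (k : ℕ) {f : ℕ}
    (hf : Nat.card (RingAut F) = f) {p : ℕ} [Fact p.Prime] [CharP F p] :
    if Fintype.card F % 4 = 3 ∧ Odd (k + 4 + 1) then
      Nonempty (Cfsg.Out (Cfsg.POmega F (⇑(plusQ (k + 4 + 1) F))) ≃*
        Multiplicative (ZMod 2 × ZMod 2 × ZMod f))
    else
      Nonempty (Cfsg.Out (Cfsg.POmega F (⇑(plusQ (k + 4 + 1) F))) ≃*
        DihedralGroup 4 × Multiplicative (ZMod f)) := by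
  classical
  have h2 := two_ne_zero_of_odd_card hodd
  have G := good_plus (F := F) k
  have hQ : (polarBilin (plusQ (k + 4 + 1) F)).Nondegenerate := plusQ_nondeg
  have hT : TwoHyp (plusQ (k + 4 + 1) F) (Sum.inl 0) (Sum.inr 0) (Sum.inl 1) (Sum.inr 1) :=
    twoHyp_plus (F := F) (k + 3)
  have hcard : Even (Fintype.card (Fin (k + 4 + 1) ⊕ Fin (k + 4 + 1))) := card_plus_even _
  have hnegiff := negGL_mem_plus_iff hodd (k + 4 + 1) (by omega)
  obtain ⟨lam, hlam⟩ := exists_nonsquare_unit hodd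
  have hlam0 : (lam : F) ≠ 0 := lam.ne_zero
  obtain ⟨δ, hδ⟩ : ∃ δ : ↥(GO (⇑(plusQ (k + 4 + 1) F))),
      (δ : GL (Fin (k + 4 + 1) ⊕ Fin (k + 4 + 1)) F) = deltaGL lam :=
    ⟨⟨deltaGL lam, classGO_le_GO (deltaGL_mem_classGO lam)⟩, rfl⟩
  have hδ' : IsMult (plusQ (k + 4 + 1) F) (δ : GL (Fin (k + 4 + 1) ⊕ Fin (k + 4 + 1)) F)
      (lam : F) := by
    rw [hδ]
    exact isMult_deltaGL lam
  obtain ⟨πb, hπb⟩ : ∃ πb : Cfsg.Out (Cfsg.POmega F (⇑(plusQ (k + 4 + 1) F))) →* RingAut F,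
      πb = QuotientGroup.lift (Cfsg.Inn (Cfsg.POmega F (⇑(plusQ (k + 4 + 1) F))))
        G.fieldHom G.inn_le_ker := ⟨_, rfl⟩
  obtain ⟨sb, hsbdef⟩ : ∃ sb : RingAut F →* Cfsg.Out (Cfsg.POmega F (⇑(plusQ (k + 4 + 1) F))),
      sb = (QuotientGroup.mk' (Cfsg.Inn (Cfsg.POmega F (⇑(plusQ (k + 4 + 1) F))))).comp
        (fieldSecPlus (F := F) (k + 4 + 1)) := ⟨_, rfl⟩
  have hπmk : ∀ α, πb (QuotientGroup.mk α) = G.fieldHom α := by
    intro α
    rw [hπb]
    rfl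
  have hsb : ∀ σ, sb σ = QuotientGroup.mk (stdAut (isSemisim_plus (k + 4 + 1) σ)) := by
    intro σ
    rw [hsbdef, MonoidHom.comp_apply, QuotientGroup.mk'_apply, fieldSecPlus_apply]
  have hπs : ∀ σ, πb (sb σ) = σ := by
    intro σ
    rw [hsb, hπmk, G.fieldHom_stdAut]
  have hcyc : IsCyclic (RingAut F) := Cfsg.Agent.Helper2.PA.isCyclic_ringAut p
  have eC : RingAut F ≃* Multiplicative (ZMod f) := by
    have e' := (zmodCyclicMulEquiv hcyc).symm
    rw [hf] at e'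
    exact e'
  have hmemker : ∀ g : ↥(GO (⇑(plusQ (k + 4 + 1) F))),
      (QuotientGroup.mk (Phi (⇑(plusQ (k + 4 + 1) F)) g) :
        Cfsg.Out (Cfsg.POmega F (⇑(plusQ (k + 4 + 1) F)))) ∈ πb.ker := by
    intro g
    have h0 : Phi (⇑(plusQ (k + 4 + 1) F)) g ∈ PG (plusQ (k + 4 + 1) F) := ⟨g, rfl⟩
    have h1 : Phi (⇑(plusQ (k + 4 + 1) F)) g ∈ G.fieldHom.ker := by
      have := G.ker_fieldHom
      rw [this]
      exact h0
    rw [MonoidHom.mem_ker, hπmk]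
    exact MonoidHom.mem_ker.1 h1
  have hkerPG : ∀ β : MulAut (Cfsg.POmega F (⇑(plusQ (k + 4 + 1) F))),
      (QuotientGroup.mk β : Cfsg.Out (Cfsg.POmega F (⇑(plusQ (k + 4 + 1) F)))) ∈ πb.ker →
      β ∈ PG (plusQ (k + 4 + 1) F) := by
    intro β hβ
    rw [MonoidHom.mem_ker, hπmk] at hβ
    have h1 : β ∈ G.fieldHom.ker := MonoidHom.mem_ker.2 hβ
    have := G.ker_fieldHom
    rw [this] at h1
    exact h1
  split_ifs with hc
  · -- the Klein case
    have hneg : (negGL : GL (Fin (k + 4 + 1) ⊕ Fin (k + 4 + 1)) F) ∉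
        Cfsg.Geo.omegaGL (⇑(plusQ (k + 4 + 1) F)) := by
      rw [hnegiff]
      exact fun hn => hn ⟨hc.2, hc.1⟩
    obtain ⟨φ, hφs, hφk⟩ := klein_PG_POm h2 hQ hT hcard hδ' hlam hneg
    have hinn : Cfsg.Inn (Cfsg.POmega F (⇑(plusQ (k + 4 + 1) F))) =
        Cfsg.Agent.Helper17.ConfAut.PSO (plusQ (k + 4 + 1) F) := by
      rw [inn_eq]
      exact le_antisymm (POm_le_PSO _) (PSO_le_POm_of_not_mem h2 hQ hT hcard hneg)
    have hcomm : ∀ x ∈ πb.ker, ∀ σ, x * sb σ = sb σ * x := by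
      intro x hx σ
      obtain ⟨β, rfl⟩ := QuotientGroup.mk_surjective x
      have hβ : β ∈ PG (plusQ (k + 4 + 1) F) := hkerPG β hx
      rw [hsb]
      exact (G.comm_mod_inn h2 hT hcard hinn _ β hβ).symm
    obtain ⟨E⟩ := prod_of_commuting_section πb sb hπs hcomm
    have hker' : (Cfsg.Inn (Cfsg.POmega F (⇑(plusQ (k + 4 + 1) F)))).subgroupOf
        (PG (plusQ (k + 4 + 1) F)) = φ.ker := by
      rw [hφk, inn_eq]
    obtain ⟨eK⟩ : Nonempty (↥πb.ker ≃* ↥(PG (plusQ (k + 4 + 1) F)) ⧸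
        (Cfsg.Inn (Cfsg.POmega F (⇑(plusQ (k + 4 + 1) F)))).subgroupOf
          (PG (plusQ (k + 4 + 1) F))) := by
      rw [hπb]
      exact ker_lift_equiv (Cfsg.Inn _) G.fieldHom G.inn_le_ker
        (PG (plusQ (k + 4 + 1) F)) G.ker_fieldHom
    have e := eK.trans ((QuotientGroup.quotientMulEquivOfEq hker').trans
      (QuotientGroup.quotientKerEquivOfSurjective φ hφs))
    exact ⟨((E.trans (e.prodCongr eC)).trans
      (MulEquiv.prodMultiplicative (ZMod 2 × ZMod 2) (ZMod f)).symm).trans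
      (AddEquiv.toMultiplicative AddEquiv.prodAssoc)⟩
  · -- the dihedral case
    have hneg : (negGL : GL (Fin (k + 4 + 1) ⊕ Fin (k + 4 + 1)) F) ∈
        Cfsg.Geo.omegaGL (⇑(plusQ (k + 4 + 1) F)) := by
      rw [hnegiff]
      rintro ⟨ho, h3⟩
      exact hc ⟨h3, ho⟩
    obtain ⟨φ, hφs, hφk⟩ := d4_PG_POm h2 hQ hT hcard hδ' hlam hneg
    have hker' : (Cfsg.Inn (Cfsg.POmega F (⇑(plusQ (k + 4 + 1) F)))).subgroupOf
        (PG (plusQ (k + 4 + 1) F)) = φ.ker := by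
      rw [hφk, inn_eq]
    -- the fixed reflection
    obtain ⟨u, hu⟩ : ∃ u : Fin (k + 4 + 1) ⊕ Fin (k + 4 + 1) → F, u = wLast (k + 4) := ⟨_, rfl⟩
    have hQu : plusQ (k + 4 + 1) F u ≠ 0 := by
      rw [hu]
      exact plusQ_wLast_ne (K := F) (k + 4)
    have huσ : ∀ (σ : F ≃+* F) i, σ (u i) = u i := by
      intro σ i
      rw [hu]
      exact wLast_fixed σ (k + 4) i
    obtain ⟨w, hw⟩ : ∃ w : Fin (k + 4 + 1) ⊕ Fin (k + 4 + 1) → F, w =
      ((δ : GL (Fin (k + 4 + 1) ⊕ Fin (k + 4 + 1)) F) :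
        Matrix (Fin (k + 4 + 1) ⊕ Fin (k + 4 + 1)) (Fin (k + 4 + 1) ⊕ Fin (k + 4 + 1)) F).mulVec u :=
      ⟨_, rfl⟩
    have hQw : plusQ (k + 4 + 1) F w = lam * plusQ (k + 4 + 1) F u := by
      rw [hw]
      exact hδ' u
    have hw0 : plusQ (k + 4 + 1) F w ≠ 0 := by rw [hQw]; exact mul_ne_zero hlam0 hQu
    have huw : ¬ IsSquare (plusQ (k + 4 + 1) F u * plusQ (k + 4 + 1) F w) := by
      rw [hQw]
      have : plusQ (k + 4 + 1) F u * (lam * plusQ (k + 4 + 1) F u) =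
          (plusQ (k + 4 + 1) F u * plusQ (k + 4 + 1) F u) * lam := by ring
      rw [this, Cfsg.Agent.Helper13.isSquare_mul_nonsquare (mul_ne_zero hQu hQu) hlam]
      exact fun hn => hn ⟨plusQ (k + 4 + 1) F u, rfl⟩
    have hconj : iO (plusQ (k + 4 + 1) F) (tG (plusQ (k + 4 + 1) F) w) =
        δ * iO (plusQ (k + 4 + 1) F) (tG (plusQ (k + 4 + 1) F) u) * δ⁻¹ := by
      apply Subtype.ext
      apply Units.ext
      rw [Subgroup.coe_mul, Subgroup.coe_mul, Subgroup.coe_inv, Units.val_mul, Units.val_mul,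
        iO_coe, iO_coe, tG_coe _ hw0, tG_coe _ hQu, conj_reflectionMatrix hlam0 hδ' hQu, hw]
    obtain ⟨t, ht⟩ : ∃ t : Cfsg.Out (Cfsg.POmega F (⇑(plusQ (k + 4 + 1) F))), t =
      QuotientGroup.mk (Phi (⇑(plusQ (k + 4 + 1) F))
        (iO (plusQ (k + 4 + 1) F) (tG (plusQ (k + 4 + 1) F) u))) := ⟨_, rfl⟩
    obtain ⟨x, hx⟩ : ∃ x : Cfsg.Out (Cfsg.POmega F (⇑(plusQ (k + 4 + 1) F))), x =
      QuotientGroup.mk (Phi (⇑(plusQ (k + 4 + 1) F)) δ) := ⟨_, rfl⟩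
    have htK : t ∈ πb.ker := by rw [ht]; exact hmemker _
    have hxK : x ∈ πb.ker := by rw [hx]; exact hmemker _
    have ht2 : t * t = 1 := by
      rw [ht, ← QuotientGroup.mk_mul, ← map_mul, ← map_mul, tG_mul_self _ hQu, map_one, map_one]
      rfl
    have htx : t * x ≠ x * t := by
      intro hcx
      have h1 : x * t * x⁻¹ = t := by rw [← hcx]; group
      have h3 : (QuotientGroup.mk (Phi (⇑(plusQ (k + 4 + 1) F))
          (iO (plusQ (k + 4 + 1) F) (tG (plusQ (k + 4 + 1) F) w))) :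
          Cfsg.Out (Cfsg.POmega F (⇑(plusQ (k + 4 + 1) F)))) = t := by
        rw [hconj, map_mul, map_mul, map_inv, QuotientGroup.mk_mul, QuotientGroup.mk_mul,
          QuotientGroup.mk_inv, ← hx, ← ht]
        exact h1
      have h4 : t * (QuotientGroup.mk (Phi (⇑(plusQ (k + 4 + 1) F))
          (iO (plusQ (k + 4 + 1) F) (tG (plusQ (k + 4 + 1) F) w))) :
          Cfsg.Out (Cfsg.POmega F (⇑(plusQ (k + 4 + 1) F)))) = 1 := by
        rw [h3, ht2]
      rw [ht, ← QuotientGroup.mk_mul, ← map_mul, ← map_mul, QuotientGroup.eq_one_iff,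
        inn_eq] at h4
      apply Phi_rG_mul_rG_notMem_POm h2 hQ hT hneg hQu hw0 huw
      rw [rG_eq_tG _ h2 hQu, rG_eq_tG _ h2 hw0]
      exact h4
    have hMσ : ∀ σ : F ≃+* F, (plusMat (k + 4 + 1) F).map σ = plusMat (k + 4 + 1) F :=
      fun σ => plusMat_map (σ : F →+* F) (k + 4 + 1)
    have hst : ∀ σ, sb σ * t = t * sb σ := by
      intro σ
      rw [hsb, ht, ← QuotientGroup.mk_mul, ← QuotientGroup.mk_mul]
      congr 1
      exact (Phi_tG_commute (hMσ σ) (isSemisim_plus (k + 4 + 1) σ) u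
        (huσ σ) hQu).symm
    obtain ⟨eK⟩ : Nonempty (↥πb.ker ≃* ↥(PG (plusQ (k + 4 + 1) F)) ⧸
        (Cfsg.Inn (Cfsg.POmega F (⇑(plusQ (k + 4 + 1) F)))).subgroupOf
          (PG (plusQ (k + 4 + 1) F))) := by
      rw [hπb]
      exact ker_lift_equiv (Cfsg.Inn _) G.fieldHom G.inn_le_ker
        (PG (plusQ (k + 4 + 1) F)) G.ker_fieldHom
    have e := eK.trans ((QuotientGroup.quotientMulEquivOfEq hker').trans
      (QuotientGroup.quotientKerEquivOfSurjective φ hφs))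
    exact d8_prod_of_section πb sb hπs e t x htK hxK ht2 htx hst eC

end Cfsg.Agent.Lead.PlusOut
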