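import Mathlib
import Cfsg.Agent.Lib.Lead.TwBN
import Cfsg.Agent.Lib.Helper2.BNPair
import Cfsg.Agent.Lib.Helper2.Matsumoto
import Cfsg.Agent.S0320

/-!
# The Weyl group `N¹/H¹` of a twisted group as a Coxeter group
-/

set_option autoImplicit false
set_option linter.unusedSectionVars false
set_option linter.unusedSimpArgs false
set_option linter.unusedVariables false

namespace Cfsg.Agent.Lead.Tw

open Cfsg Cfsg.Lie Cfsg.Agent.Lead.Chev

/-- the Weyl group of a (B,N)-pair with prescribed orders of the products of generators -/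
theorem exists_mulEquiv_of_orders {G : Type*} [Group G] (P : Cfsg.BNPair G) {n : ℕ}
    (M₀ : CoxeterMatrix (Fin n)) (e : P.S ≃ Fin n)
    (hord : ∀ s t : P.S, orderOf (Cfsg.Agent.Helper2.BN.σ P s * Cfsg.Agent.Helper2.BN.σ P t) = M₀.M (e s) (e t)) :
    Nonempty (Cfsg.Agent.Helper2.BN.W P ≃* M₀.Group) := by
  obtain ⟨cs, -⟩ := Cfsg.Agent.Helper2.WordLen.exists_coxeterSystem (Cfsg.Agent.Helper2.BN.σ P)
    (Cfsg.Agent.Helper2.BN.σ_mul_self P) (Cfsg.Agent.Helper2.BN.wp_surj P) (Cfsg.Agent.S0320.exchange' P)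
    (Cfsg.Agent.Helper2.BN.σ_injective P)
  have hM : (Cfsg.Agent.Helper2.WordLen.coxMat (Cfsg.Agent.Helper2.BN.σ P)
      (Cfsg.Agent.Helper2.BN.σ_mul_self P) (Cfsg.Agent.Helper2.BN.σ_injective P)).reindex e = M₀ := by
    apply CoxeterMatrix.ext
    ext i j
    rw [CoxeterMatrix.reindex_apply, Cfsg.Agent.Helper2.WordLen.coxMat_apply, hord, Equiv.apply_symm_apply,
      Equiv.apply_symm_apply]
  have cs' := cs.reindex e
  rw [hM] at cs'
  exact ⟨cs'.mulEquiv⟩


variable {K : Type*} [Field K]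

/-- `w` has order `m` as a permutation of the roots -/
def OrdIs (D : ChevalleyDatum) (w : List ℕ) (m : ℕ) : Prop :=
  (∀ r < D.nroots, reflWord D (List.replicate m w).flatten r = r) ∧
  ∀ k < m, 0 < k → ¬ ∀ r < D.nroots, reflWord D (List.replicate k w).flatten r = r

instance (D : ChevalleyDatum) (w : List ℕ) (m : ℕ) : Decidable (OrdIs D w m) := by
  unfold OrdIs
  exact inferInstance

theorem nWordGL_replicate (D : ChevalleyDatum) (hX : XAdd D K) (w : List ℕ) (k : ℕ) :
    nWordGL D hX (List.replicate k w).flatten = (nWordGL D hX w) ^ k := by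
  induction k with
  | zero => simp [nWordGL_nil]
  | succ k ih => rw [List.replicate_succ, List.flatten_cons, nWordGL_append, ih, pow_succ']

theorem replicate_flatten_valid {D : ChevalleyDatum} (w : List ℕ) (hw : ∀ i ∈ w, i < D.rank) (k : ℕ) :
    ∀ i ∈ (List.replicate k w).flatten, i < D.rank := by
  intro i hi
  obtain ⟨v, hv, hiv⟩ := List.mem_flatten.1 hi
  rw [List.eq_of_mem_replicate hv] at hiv
  exact hw i hiv

theorem ChevFacts'.nWordGL_mem_borel_iff {D : ChevalleyDatum} (hF : ChevFacts D K) (hS : CorSize D) (w : List ℕ)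
    (hw : ∀ i ∈ w, i < D.rank) :
    nWordGL D hF.xadd w ∈ D.borelSubgroup K ↔ ∀ r < D.nroots, reflWord D w r = r := by
  constructor
  · intro h
    have := ChevFacts'.double_coset_action hF hS w [] hw (by simp) 1 1 (nWordGL D hF.xadd w) 1 (one_mem _)
      (one_mem _) h (one_mem _) (by simp [nWordGL_nil])
    intro r hr
    rw [this r hr]
    rfl
  · intro h
    have := hF.nWordGL_inv_mul_mem_diagonal [] w (by simp) hw (fun r hr => (h r hr).symm)
    rw [nWordGL_nil, inv_one, one_mul] at this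
    exact diagonal_le_borel D this

section

variable {D : ChevalleyDatum} {hF : ChevFacts D K} {T : Twist D K hF.xadd}
  {G₁ : Subgroup (GL D.Idx K)} {S : List (List ℕ)} (hG : TwGroup hF T G₁ S)
include hG

/-- **`N¹/H¹` is the Coxeter group with the matrix of the orders of the products of the twisted reflections** -/
theorem TwGroup.exists_weyl_hom (hS : CorSize D) (Sord : List (List ℕ)) (hnd : Sord.Nodup)
    (hmem : ∀ v, v ∈ Sord ↔ v ∈ S) (M₀ : CoxeterMatrix (Fin Sord.length)) (hpos : ∀ i j, 0 < M₀.M i j)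
    (hord : ∀ i j : Fin Sord.length, OrdIs D (Sord.get i ++ Sord.get j) (M₀.M i j)) :
    ∃ φ : ↥(D.monomialSubgroup K ⊓ G₁) →* M₀.Group, Function.Surjective φ ∧
      φ.ker = (D.diagonalSubgroup K ⊓ G₁).subgroupOf (D.monomialSubgroup K ⊓ G₁) := by
  classical
  set P := hG.bnPair hS with hP
  have hSmem : ∀ i : Fin Sord.length, Sord.get i ∈ S := fun i => (hmem _).1 (List.get_mem _ _)
  let eInv : Fin Sord.length → P.S := fun i =>
    ⟨⟨nWordGL D hF.xadd (Sord.get i), hG.s_mem _ (hSmem i)⟩, ⟨Sord.get i, hSmem i, rfl⟩⟩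
  have hinj : Function.Injective eInv := by
    intro i j hij
    have h1 : nWordGL D hF.xadd (Sord.get i) = nWordGL D hF.xadd (Sord.get j) :=
      congrArg (fun s : P.S => ((s : ↥G₁) : GL D.Idx K)) hij
    have h2 := ChevFacts'.double_coset_action hF hS (Sord.get i) (Sord.get j) (hG.s_valid _ (hSmem i))
      (hG.s_valid _ (hSmem j)) 1 1 1 1 (one_mem _) (one_mem _) (one_mem _) (one_mem _)
      (by rw [one_mul, one_mul, mul_one, mul_one]; exact h1)
    have h3 := hG.s_inj _ (hSmem i) _ (hSmem j) h2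
    exact Fin.ext ((hnd.getElem_inj_iff).1 h3)
  have hsurj : Function.Surjective eInv := by
    rintro ⟨s, w, hw, hs⟩
    obtain ⟨i, hi⟩ := List.mem_iff_get.1 ((hmem w).2 hw)
    refine ⟨i, ?_⟩
    apply Subtype.ext
    apply Subtype.ext
    show nWordGL D hF.xadd (Sord.get i) = (s : GL D.Idx K)
    rw [hi, hs]
  let e : P.S ≃ Fin Sord.length := (Equiv.ofBijective eInv ⟨hinj, hsurj⟩).symm
  have he : ∀ i, e (eInv i) = i := fun i => (Equiv.ofBijective eInv ⟨hinj, hsurj⟩).symm_apply_apply i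
  -- powers of products of generators
  have hpow : ∀ (i j : Fin Sord.length) (k : ℕ),
      (Cfsg.Agent.Helper2.BN.σ P (eInv i) * Cfsg.Agent.Helper2.BN.σ P (eInv j)) ^ k = 1 ↔
        ∀ r < D.nroots, reflWord D (List.replicate k (Sord.get i ++ Sord.get j)).flatten r = r := by
    intro i j k
    have hv : ∀ a ∈ Sord.get i ++ Sord.get j, a < D.rank := by
      intro a ha
      rcases List.mem_append.1 ha with h | h
      · exact hG.s_valid _ (hSmem i) a h
      · exact hG.s_valid _ (hSmem j) a h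
    rw [← ChevFacts'.nWordGL_mem_borel_iff hF hS _ (replicate_flatten_valid _ hv k), nWordGL_replicate,
      nWordGL_append]
    unfold Cfsg.Agent.Helper2.BN.σ
    rw [← map_mul, ← map_pow, Cfsg.Agent.Helper2.BN.π_eq_one_iff]
    show _ ∈ (D.borelSubgroup K ⊓ G₁).subgroupOf G₁ ↔ _
    rw [Subgroup.mem_subgroupOf]
    constructor
    · intro h
      exact h.1
    · intro h
      exact ⟨h, SetLike.coe_mem _⟩
  have hord' : ∀ s t : P.S,
      orderOf (Cfsg.Agent.Helper2.BN.σ P s * Cfsg.Agent.Helper2.BN.σ P t) = M₀.M (e s) (e t) := by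
    intro s t
    obtain ⟨i, rfl⟩ := hsurj s
    obtain ⟨j, rfl⟩ := hsurj t
    rw [he, he, orderOf_eq_iff (hpos i j)]
    refine ⟨(hpow i j _).2 (hord i j).1, ?_⟩
    intro k hk hk0 h
    exact (hord i j).2 k hk hk0 ((hpow i j k).1 h)
  obtain ⟨ψ⟩ := exists_mulEquiv_of_orders P M₀ e hord'
  -- the map `N ∩ G₁ → P.N`
  let ι : ↥(D.monomialSubgroup K ⊓ G₁) →* ↥P.N :=
    { toFun := fun n => ⟨⟨n.1, n.2.2⟩, Subgroup.mem_subgroupOf.2 n.2⟩
      map_one' := rfl
      map_mul' := fun _ _ => rfl }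
  have hι : Function.Surjective ι := by
    intro x
    exact ⟨⟨x.1.1, Subgroup.mem_subgroupOf.1 x.2⟩, rfl⟩
  refine ⟨ψ.toMonoidHom.comp ((Cfsg.Agent.Helper2.BN.π P).comp ι), ?_, ?_⟩
  · exact ψ.surjective.comp ((Cfsg.Agent.Helper2.BN.π_surj P).comp hι)
  · ext n
    rw [MonoidHom.mem_ker, MonoidHom.comp_apply, MulEquiv.coe_toMonoidHom, MulEquiv.map_eq_one_iff,
      MonoidHom.comp_apply, Cfsg.Agent.Helper2.BN.π_eq_one_iff, Subgroup.mem_subgroupOf]
    show (⟨n.1, n.2.2⟩ : ↥G₁) ∈ (D.borelSubgroup K ⊓ G₁).subgroupOf G₁ ↔ _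
    rw [Subgroup.mem_subgroupOf]
    constructor
    · intro h
      have : (n : GL D.Idx K) ∈ D.borelSubgroup K ⊓ D.monomialSubgroup K := ⟨h.1, n.2.1⟩
      rw [hF.borel_inf_monomial] at this
      exact ⟨this, n.2.2⟩
    · intro h
      exact ⟨diagonal_le_borel D h.1, h.2⟩


/-- the same, with the Coxeter matrix given by a table -/
theorem TwGroup.exists_weyl_hom' (hS : CorSize D) (Sord : List (List ℕ)) (hnd : Sord.Nodup)
    (hmem : ∀ v, v ∈ Sord ↔ v ∈ S) {n : ℕ} (hn : Sord.length = n) (M₀ : CoxeterMatrix (Fin n))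
    (mtab : ℕ → ℕ → ℕ) (hM : ∀ i j : Fin n, M₀.M i j = mtab i j)
    (hord : ∀ i < n, ∀ j < n, 0 < mtab i j ∧ OrdIs D (Sord.getD i [] ++ Sord.getD j []) (mtab i j)) :
    ∃ φ : ↥(D.monomialSubgroup K ⊓ G₁) →* M₀.Group, Function.Surjective φ ∧
      φ.ker = (D.diagonalSubgroup K ⊓ G₁).subgroupOf (D.monomialSubgroup K ⊓ G₁) := by
  subst hn
  apply hG.exists_weyl_hom hS Sord hnd hmem M₀
  · intro i j
    rw [hM]
    exact (hord i i.2 j j.2).1
  · intro i j
    rw [hM]
    have := (hord i i.2 j j.2).2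
    rw [List.getD_eq_getElem _ _ i.2, List.getD_eq_getElem _ _ j.2] at this
    exact this

end

end Cfsg.Agent.Lead.Tw
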