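import Mathlib
import Cfsg.Agent.Lib.Lead.TwPerf
import Cfsg.Agent.Lib.Lead.TwD4Torus

/-!
# `³D₄(q)` is perfect
-/

set_option autoImplicit false
set_option linter.unusedSectionVars false
set_option linter.unusedSimpArgs false
set_option linter.unusedVariables false

namespace Cfsg.Agent.Lead.Tw.D4

open Cfsg Cfsg.Lie Cfsg.Agent.Lead.Chev Cfsg.Agent.Helper6.ChevC Cfsg.Agent.Lead.ZPM
open scoped commutatorElement

def cartL : List (List ℤ) := [[2, -1, 0, 0], [-1, 2, -1, -1], [0, -1, 2, 0], [0, -1, 0, 2]]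

theorem cart_eq : cartD4 = matOfL 4 cartL := by decide +kernel

variable {K : Type*} [Field K] [Fintype K] {q : ℕ} (hq : 1 < q) (hK : Fintype.card K = q ^ 3)
  (f : K ≃+* K) (hf : ∀ t, f t = t ^ q)
include hq hK hf

/-- the character of a parameter vector at a fundamental root -/
theorem chi_simple (c : Fin chevD4.rank → Kˣ) (j : Fin chevD4.rank) :
    chi chevD4 (extC chevD4 c) (chevD4.simple j.val) = ((zpv cartD4 (c : Fin 4 → Kˣ) j : Kˣ) : K) := by
  rw [← chiU_val, chiU_simple]
  rfl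

theorem xs_single_mem (φ : ℕ → K) (hφ : FixPos hF (tw f) [1] φ) :
    xs hF [1] φ ∈ ⁅orthGroup hF (tw f) S, orthGroup hF (tw f) S⁆ := by
  have e : xs hF [1] φ = xGL chevD4 (hF (K := K)).xadd (chevD4.simple 1) (φ 1) := by
    unfold xs
    simp
  rw [e]
  have h1 := hφ 1 (by simp)
  have h1' : φ (πs 1) = (tw f).c (chevD4.simple 1) (φ 1) := h1
  have hπ : πs 1 = 1 := rfl
  rw [hπ] at h1'
  refine (orthData f).xGL_mem_commutator_of_comm (corSize_of_mem _ hmem) (corComb_of_mem _ hmem) 1 (by decide)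
    22 23 ?_ ?_ ?_ (by decide) (by decide) (Or.inl (by decide +kernel)) (by decide) [[1], [0, 2, 3]] ?_
    (by decide +kernel) (φ 1) h1'.symm
  · exact ⟨by decide, by decide +kernel⟩
  · show GD4a.gp.π 22 = 22
    decide +kernel
  · show ((GD4a.gp.ε 22 : ℤ) : K) * f 1 = 1
    have : GD4a.gp.ε 22 = 1 := by decide +kernel
    rw [this, map_one]
    simp
  · intro v hv
    simp only [List.mem_cons, List.not_mem_nil, or_false] at hv
    rcases hv with rfl | rfl <;> decide

theorem xs_tri_mem (φ : ℕ → K) (hφ : FixPos hF (tw f) [0, 2, 3] φ) :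
    xs hF [0, 2, 3] φ ∈ ⁅orthGroup hF (tw f) S, orthGroup hF (tw f) S⁆ := by
  have hc3 : 3 < Fintype.card K := by
    rw [hK]
    have : 2 ^ 3 ≤ q ^ 3 := Nat.pow_le_pow_left hq 3
    omega
  obtain ⟨μ, hμ⟩ := exists_unit_sq_ne_one hc3
  have hinj : Function.Injective (Units.map (f : K →* K)) := by
    intro a b hab
    apply Units.ext
    have := congrArg Units.val hab
    simpa using this
  have hμ1 : (Units.map (f : K →* K) μ) ^ 2 ≠ 1 := by
    intro h1
    apply hμ
    apply hinj
    rw [map_pow, h1, map_one]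
  have hμ2 : (Units.map (f : K →* K) (Units.map (f : K →* K) μ)) ^ 2 ≠ 1 := by
    intro h1
    apply hμ1
    apply hinj
    rw [map_pow, h1, map_one]
  set c : Fin chevD4.rank → Kˣ :=
    vec μ 1 (Units.map (f : K →* K) μ) (Units.map (f : K →* K) (Units.map (f : K →* K) μ)) with hc
  have hcfix : c ∈ fixT f πe := by
    rw [mem_fixT, hc, twP_vec]
    congr 1 <;> first | rfl | (apply Units.ext; simp [hfff hq hK f hf])
  have e0 : zpv cartD4 (c : Fin 4 → Kˣ) ⟨0, by norm_num⟩ = μ ^ 2 := by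
    rw [cart_eq]
    simp [zpv, matOfL, Matrix.of_apply, cartL, Fin.prod_univ_four, vec, hc]
  have e2 : zpv cartD4 (c : Fin 4 → Kˣ) ⟨2, by norm_num⟩ = (Units.map (f : K →* K) μ) ^ 2 := by
    rw [cart_eq]
    simp [zpv, matOfL, Matrix.of_apply, cartL, Fin.prod_univ_four, vec, hc]
  have e3 : zpv cartD4 (c : Fin 4 → Kˣ) ⟨3, by norm_num⟩ =
      (Units.map (f : K →* K) (Units.map (f : K →* K) μ)) ^ 2 := by
    rw [cart_eq]
    simp [zpv, matOfL, Matrix.of_apply, cartL, Fin.prod_univ_four, vec, hc]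
  refine (orthData f).xs_mem_commutator_of_torus f πe (fun i => rfl) (fun i hi t => c_simple f i hi t)
    (fun i hi t => c_neg_simple f i hi t) hperm (hcm f) c hcfix [0, 2, 3] (by decide) ?_ φ hφ
  intro k hk
  simp only [List.mem_cons, List.not_mem_nil, or_false] at hk
  rcases hk with rfl | rfl | rfl
  · have := chi_simple hq hK f hf c ⟨0, by decide⟩
    rw [this]
    intro h1
    apply hμ
    rw [← e0]
    apply Units.ext
    exact h1
  · have := chi_simple hq hK f hf c ⟨2, by decide⟩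
    rw [this]
    intro h1
    apply hμ1
    rw [← e2]
    apply Units.ext
    exact h1
  · have := chi_simple hq hK f hf c ⟨3, by decide⟩
    rw [this]
    intro h1
    apply hμ2
    rw [← e3]
    apply Units.ext
    exact h1

/-- the positive class subgroups lie in the derived group -/
theorem xs_mem_commutator (v : List ℕ) (hv : v ∈ S) (φ : ℕ → K) (hφ : FixPos hF (tw f) v φ) :
    xs hF v φ ∈ ⁅orthGroup hF (tw f) S, orthGroup hF (tw f) S⁆ := by
  simp only [S, List.mem_cons, List.not_mem_nil, or_false] at hv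
  rcases hv with rfl | rfl
  · exact xs_single_mem hq hK f hf φ hφ
  · exact xs_tri_mem hq hK f hf φ hφ

/-- **`³D₄(q)` is perfect** -/
theorem perfect : commutator ↥(twistedD4 K q) = ⊤ := by
  rw [twisted_eq hK f hf]
  apply commutator_eq_top_of_le
  have hd := orthData f
  unfold orthGroup
  rw [Subgroup.closure_le]
  rintro g (⟨v, hv, φ, hφ, rfl⟩ | ⟨v, hv, ψ, hψ, rfl⟩)
  · exact xs_mem_commutator hq hK f hf v hv φ hφ
  · exact hd.ys_mem_commutator v hv (fun φ hφ => xs_mem_commutator hq hK f hf v hv φ hφ) ψ hψ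

end Cfsg.Agent.Lead.Tw.D4
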