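import Mathlib
import Cfsg.Agent.Lib.Lead.TwCore
import Cfsg.Agent.S0319

/-!
# Simplicity of a twisted group, from its `(B, N)`-pair
-/

set_option autoImplicit false
set_option linter.unusedSectionVars false
set_option linter.unusedSimpArgs false
set_option linter.unusedVariables false

namespace Cfsg.Agent.Lead.Tw

open Cfsg Cfsg.Lie Cfsg.Agent.Lead.Chev

variable {K : Type*} [Field K]

variable {D : ChevalleyDatum} {hF : ChevFacts D K} {T : Twist D K hF.xadd}
  {π' : ℕ → ℕ} {S l₀ : List (List ℕ)} (h : OrthData hF T π' S l₀)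
include h

/-- two twisted reflections whose representatives commute modulo `B` have commuting actions -/
theorem OrthData.comm_action (hS : CorSize D) (v w : List ℕ) (hv : v ∈ S) (hw : w ∈ S)
    (hb : nWordGL D hF.xadd v * nWordGL D hF.xadd w * (nWordGL D hF.xadd v)⁻¹ * (nWordGL D hF.xadd w)⁻¹ ∈
      D.borelSubgroup K) :
    ∀ r < D.nroots, reflWord D (v ++ w) r = reflWord D (w ++ v) r := by
  have hvv := h.gen.valid v hv
  have hwv := h.gen.valid w hw
  have hvw : ∀ i ∈ v ++ w, i < D.rank := by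
    intro i hi
    rcases List.mem_append.1 hi with h1 | h1
    · exact hvv i h1
    · exact hwv i h1
  have hwv' : ∀ i ∈ w ++ v, i < D.rank := by
    intro i hi
    rcases List.mem_append.1 hi with h1 | h1
    · exact hwv i h1
    · exact hvv i h1
  apply ChevFacts'.double_coset_action hF hS (v ++ w) (w ++ v) hvw hwv' 1 1 _ 1 (one_mem _) (one_mem _) hb
    (one_mem _)
  rw [nWordGL_append, nWordGL_append]
  group

/-- **Simplicity of the twisted group**, from a connected graph of non-commuting twisted reflections -/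
theorem OrthData.simple [Fintype K] (hS : CorSize D) (hC : CorComb D)
    (hsolvB : Group.IsSolvable ↥(D.borelSubgroup K))
    (hperf : commutator ↥(orthGroup hF T S) = ⊤)
    (v₀ : List ℕ) (hv₀ : v₀ ∈ S)
    (edges : List (List ℕ × List ℕ))
    (hedge : ∀ e ∈ edges, e.1 ∈ S ∧ e.2 ∈ S ∧
      ∃ r < D.nroots, reflWord D (e.1 ++ e.2) r ≠ reflWord D (e.2 ++ e.1) r)
    (hconn : ∀ I : List ℕ → Prop, (∃ v ∈ S, I v) → (∃ w ∈ S, ¬ I w) →
      ∃ e ∈ edges, (I e.1 ∧ ¬ I e.2) ∨ (I e.2 ∧ ¬ I e.1)) :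
    IsSimpleGroup ↥(orthGroup hF T S) ∧ ¬ IsMulCommutative ↥(orthGroup hF T S) := by
  have hG := h.twGroup hS hC
  set P := hG.bnPair hS with hP
  -- the group is not trivial
  have hnt : Nontrivial ↥(orthGroup hF T S) := by
    have hmem : xs hF v₀ (fun _ => (1 : K)) ∈ orthGroup hF T S :=
      h.xs_mem v₀ hv₀ _ (fun i hi => (h.c_one v₀ hv₀ i hi).symm)
    refine ⟨⟨⟨_, hmem⟩, 1, ?_⟩⟩
    intro he
    have h2 : xs hF v₀ (fun _ => (1 : K)) = 1 := congrArg Subtype.val he
    obtain ⟨i, hi⟩ := List.exists_mem_of_ne_nil v₀ (h.ne_nil v₀ hv₀)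
    exact one_ne_zero (xs_eq_one hF (h.cls v₀ hv₀) _ h2 i hi)
  have hsolv : Group.IsSolvable P.B := by
    have hle : ∀ x : ↥((D.borelSubgroup K ⊓ orthGroup hF T S).subgroupOf (orthGroup hF T S)),
        ((x : ↥(orthGroup hF T S)) : GL D.Idx K) ∈ D.borelSubgroup K :=
      fun x => (Subgroup.mem_subgroupOf.1 x.2).1
    exact Group.isSolvable_of_isSolvable_injective (f := ((orthGroup hF T S).subtype.comp
      ((D.borelSubgroup K ⊓ orthGroup hF T S).subgroupOf (orthGroup hF T S)).subtype).codRestrict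
        (D.borelSubgroup K) hle) (by
          intro x y hxy
          apply Subtype.ext
          apply Subtype.ext
          have := congrArg Subtype.val hxy
          exact this)
  have hirr : P.Irreducible := by
    intro J hJS hJ hJc
    set I : List ℕ → Prop := fun v => ∃ n ∈ J, (n : GL D.Idx K) = nWordGL D hF.xadd v with hI
    have h1 : ∃ v ∈ S, I v := by
      obtain ⟨s, hs⟩ := hJ
      obtain ⟨w, hw, e⟩ := hJS hs
      exact ⟨w, hw, s, hs, e⟩
    have h2 : ∃ w ∈ S, ¬ I w := by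
      obtain ⟨s', hs'S, hs'J⟩ := hJc
      obtain ⟨w, hw, e⟩ := hs'S
      refine ⟨w, hw, ?_⟩
      rintro ⟨n, hn, e'⟩
      apply hs'J
      have : n = s' := Subtype.ext (e'.trans e.symm)
      rwa [← this]
    obtain ⟨e, he, hcase⟩ := hconn I h1 h2
    obtain ⟨he1, he2, r, hr, hne⟩ := hedge e he
    have key : ∀ v w : List ℕ, v ∈ S → w ∈ S → I v → ¬ I w →
        (∃ r < D.nroots, reflWord D (v ++ w) r ≠ reflWord D (w ++ v) r) →
        ∃ s ∈ J, ∃ s' ∈ P.S \ J, s * s' * s⁻¹ * s'⁻¹ ∉ P.B := by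
      rintro v w hv hw ⟨n, hn, en⟩ hIw ⟨r, hr, hne⟩
      have hwS : (⟨nWordGL D hF.xadd w, h.s_mem w hw⟩ : ↥(orthGroup hF T S)) ∈ P.S := ⟨w, hw, rfl⟩
      refine ⟨n, hn, ⟨nWordGL D hF.xadd w, h.s_mem w hw⟩, ⟨hwS, ?_⟩, ?_⟩
      · intro hJw
        exact hIw ⟨_, hJw, rfl⟩
      · intro hB
        have hB' : ((n * ⟨nWordGL D hF.xadd w, h.s_mem w hw⟩ * n⁻¹ *
            (⟨nWordGL D hF.xadd w, h.s_mem w hw⟩ : ↥(orthGroup hF T S))⁻¹ : ↥(orthGroup hF T S)) :
              GL D.Idx K) ∈ D.borelSubgroup K := (Subgroup.mem_subgroupOf.1 hB).1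
        simp only [Subgroup.coe_mul, Subgroup.coe_inv] at hB'
        rw [en] at hB'
        exact hne (h.comm_action hS v w hv hw hB' r hr)
    rcases hcase with ⟨hI1, hI2⟩ | ⟨hI2, hI1⟩
    · exact key e.1 e.2 he1 he2 hI1 hI2 ⟨r, hr, hne⟩
    · exact key e.2 e.1 he2 he1 hI2 hI1 ⟨r, hr, fun hh => hne hh.symm⟩
  have hsimple : IsSimpleGroup ↥(orthGroup hF T S) :=
    Cfsg.Agent.S0319.result P hirr hsolv hperf h.normalCore_borel
  refine ⟨hsimple, ?_⟩
  intro hc
  have : commutator ↥(orthGroup hF T S) = ⊥ := by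
    rw [commutator_def, Subgroup.commutator_eq_bot_iff_le_centralizer]
    intro x _
    rw [Subgroup.mem_centralizer_iff]
    intro y _
    exact hc.is_comm.comm y x
  rw [hperf] at this
  exact top_ne_bot this

end Cfsg.Agent.Lead.Tw
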