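import Mathlib
import Cfsg.Agent.Lib.Lead.TwSimple
import Cfsg.Agent.Lib.Lead.TwD4Perf
import Cfsg.Agent.S1050

/-!
# `³D₄(q)` is simple
-/

set_option autoImplicit false
set_option linter.unusedSectionVars false
set_option linter.unusedSimpArgs false
set_option linter.unusedVariables false

namespace Cfsg.Agent.Lead.Tw.D4

open Cfsg Cfsg.Lie Cfsg.Agent.Lead.Chev Cfsg.Agent.Helper6.ChevC

/-- the edges of the twisted diagram -/
def edges : List (List ℕ × List ℕ) := [([1], [0, 2, 3])]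

theorem hedge : ∀ e ∈ edges, e.1 ∈ S ∧ e.2 ∈ S ∧
    ∃ r < chevD4.nroots, reflWord chevD4 (e.1 ++ e.2) r ≠ reflWord chevD4 (e.2 ++ e.1) r := by
  decide +kernel

theorem hconn : ∀ I : List ℕ → Prop, (∃ v ∈ S, I v) → (∃ w ∈ S, ¬ I w) →
    ∃ e ∈ edges, (I e.1 ∧ ¬ I e.2) ∨ (I e.2 ∧ ¬ I e.1) := by
  intro I h1 h2
  simp only [S, edges, List.mem_cons, List.not_mem_nil, or_false, exists_eq_or_imp, exists_eq_left] at h1 h2 ⊢
  by_cases a : I [1] <;> by_cases b : I [0, 2, 3] <;> simp_all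

variable {K : Type*} [Field K] [Fintype K] {q : ℕ} (hq : 1 < q) (hK : Fintype.card K = q ^ 3)
  (f : K ≃+* K) (hf : ∀ t, f t = t ^ q)
include hq hK hf

/-- **`³D₄(q)` is simple** -/
theorem simple : IsSimpleGroup ↥(twistedD4 K q) ∧ ¬ IsMulCommutative ↥(twistedD4 K q) := by
  have hp := perfect hq hK f hf
  rw [twisted_eq hK f hf] at hp ⊢
  exact (orthData f).simple (corSize_of_mem _ hmem) (corComb_of_mem _ hmem)
    (Cfsg.Agent.S1050.result chevD4 hmem) hp [1] (by decide) edges hedge hconn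

end Cfsg.Agent.Lead.Tw.D4
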