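import Mathlib
import Cfsg.Agent.Lib.Lead.TwE6Grp
import Cfsg.Agent.Lib.Lead.TwD4Grp
import Cfsg.Agent.Lib.Lead.TwCox

/-!
# The orders of the products of the twisted reflections of `²E₆` and `³D₄`
-/

set_option autoImplicit false

namespace Cfsg.Agent.Lead.Tw

open Cfsg Cfsg.Lie Cfsg.Agent.Lead.Chev

namespace E6

/-- the classes, along the diagram of type `F₄` -/
def Sord : List (List ℕ) := [[1], [3], [2, 4], [0, 5]]

theorem Sord_nodup : Sord.Nodup := by decide

theorem Sord_mem : ∀ v, v ∈ Sord ↔ v ∈ S := by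
  intro v
  simp only [Sord, S, List.mem_cons, List.not_mem_nil, or_false]
  tauto

/-- the Coxeter matrix of type `F₄` as a table -/
def f4tab : ℕ → ℕ → ℕ := fun i j => ([[1, 3, 2, 2], [3, 1, 4, 2], [2, 4, 1, 3], [2, 2, 3, 1]].getD i []).getD j 0

theorem f4tab_eq : ∀ i j : Fin 4, (CoxeterMatrix.F₄).M i j = f4tab i j := by
  intro i j
  fin_cases i <;> fin_cases j <;> rfl

theorem ord_ok : ∀ i < 4, ∀ j < 4,
    0 < f4tab i j ∧ OrdIs chevE6 (Sord.getD i [] ++ Sord.getD j []) (f4tab i j) := by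
  decide +kernel

end E6

namespace D4

/-- the classes -/
def Sord : List (List ℕ) := [[1], [0, 2, 3]]

theorem Sord_nodup : Sord.Nodup := by decide

theorem Sord_mem : ∀ v, v ∈ Sord ↔ v ∈ S := by
  intro v
  simp only [Sord, S, List.mem_cons, List.not_mem_nil, or_false]

/-- the Coxeter matrix of type `G₂` as a table -/
def g2tab : ℕ → ℕ → ℕ := fun i j => ([[1, 6], [6, 1]].getD i []).getD j 0

theorem g2tab_eq : ∀ i j : Fin 2, (CoxeterMatrix.G₂).M i j = g2tab i j := by
  intro i j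
  fin_cases i <;> fin_cases j <;> rfl

theorem ord_ok : ∀ i < 2, ∀ j < 2,
    0 < g2tab i j ∧ OrdIs chevD4 (Sord.getD i [] ++ Sord.getD j []) (g2tab i j) := by
  decide +kernel

end D4

end Cfsg.Agent.Lead.Tw
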