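import Mathlib
import Cfsg.Agent.Lib.Lead.TwPerf
import Cfsg.Agent.Lib.Lead.TwE6Torus

/-!
# `²E₆(q)` is perfect
-/

set_option autoImplicit false
set_option linter.unusedSectionVars false
set_option linter.unusedSimpArgs false
set_option linter.unusedVariables false

namespace Cfsg.Agent.Lead.Tw.E6

open Cfsg Cfsg.Lie Cfsg.Agent.Lead.Chev Cfsg.Agent.Helper6.ChevC Cfsg.Agent.Lead.ZPM
open scoped commutatorElement

variable {K : Type*} [Field K] [Fintype K] {q : ℕ} (hq : 1 < q) (hK : Fintype.card K = q ^ 2)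
  (f : K ≃+* K) (hf : ∀ t, f t = t ^ q)
include hq hK hf

/-- the character of a parameter vector at a fundamental root -/
theorem chi_simple (c : Fin chevE6.rank → Kˣ) (j : Fin chevE6.rank) :
    chi chevE6 (extC chevE6 c) (chevE6.simple j.val) = ((zpv cartE6 (c : Fin 6 → Kˣ) j : Kˣ) : K) := by
  rw [← chiU_val, chiU_simple]
  rfl

theorem xs_single_mem (i : ℕ) (hi : i < 6) (hiS : [i] ∈ S) (hπ : πs i = i) (r₂ s : ℕ) (j : ℕ) (hj : j < 6)
    (hr₂ : r₂ = chevE6.simple j) (hπj : πs j = j)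
    (hne1 : r₂ ≠ chevE6.simple i) (hne2 : r₂ ≠ chevE6.neg (chevE6.simple i))
    (hct : chevE6.commTerms (chevE6.simple i) r₂ = [(s, 1, 1, 1)] ∨
      chevE6.commTerms (chevE6.simple i) r₂ = [(s, -1, 1, 1)])
    (hs : s < 72) (hjS : [j] ∈ S) (hls : reflWord chevE6 [j] s = chevE6.simple i)
    (φ : ℕ → K) (hφ : FixPos hF (tw f) [i] φ) :
    xs hF [i] φ ∈ ⁅orthGroup hF (tw f) S, orthGroup hF (tw f) S⁆ := by
  have e : xs hF [i] φ = xGL chevE6 (hF (K := K)).xadd (chevE6.simple i) (φ i) := by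
    unfold xs
    simp
  rw [e]
  have h1 := hφ i (by simp)
  have h1' : φ (πs i) = (tw f).c (chevE6.simple i) (φ i) := h1
  rw [hπ] at h1'
  refine (orthData f).xGL_mem_commutator_of_comm (corSize_of_mem _ hmem) (corComb_of_mem _ hmem) i hiS r₂ s
    ?_ ?_ ?_ hne1 hne2 hct hs [[j]] ?_ hls (φ i) h1'.symm
  · rw [hr₂]
    exact (hF (K := K)).simple_pos j hj
  · rw [hr₂, (tw f).ρ_simple j hj]
    show chevE6.simple (πs j) = chevE6.simple j
    rw [hπj]
  · rw [hr₂, c_simple f j hj, map_one]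
  · intro v hv
    rw [List.mem_singleton] at hv
    rw [hv]
    exact hjS

theorem xs_pair_mem (i j : ℕ) (hi : i < 6) (hj : j < 6) (hiS : [i, j] ∈ S)
    (c : Kˣ → Fin chevE6.rank → Kˣ) (hc : ∀ μ, c μ ∈ fixT f πe)
    (hχi : ∀ μ : Kˣ, zpv cartE6 (c μ : Fin 6 → Kˣ) ⟨i, hi⟩ = μ ^ 2)
    (hχj : ∀ μ : Kˣ, zpv cartE6 (c μ : Fin 6 → Kˣ) ⟨j, hj⟩ = (Units.map (f : K →* K) μ) ^ 2)
    (φ : ℕ → K) (hφ : FixPos hF (tw f) [i, j] φ) :
    xs hF [i, j] φ ∈ ⁅orthGroup hF (tw f) S, orthGroup hF (tw f) S⁆ := by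
  have hc3 : 3 < Fintype.card K := by
    rw [hK]
    nlinarith
  obtain ⟨μ, hμ⟩ := exists_unit_sq_ne_one hc3
  refine (orthData f).xs_mem_commutator_of_torus f πe (fun i => rfl) (fun i hi t => c_simple f i hi t)
    (fun i hi t => c_neg_simple f i hi t) hperm (hcm f) (c μ) (hc μ) [i, j] hiS ?_ φ hφ
  intro k hk
  simp only [List.mem_cons, List.not_mem_nil, or_false] at hk
  rcases hk with rfl | rfl
  · have := chi_simple hq hK f hf (c μ) ⟨k, hi⟩
    rw [this]
    intro h1
    apply hμ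
    rw [← hχi μ]
    apply Units.ext
    exact h1
  · have := chi_simple hq hK f hf (c μ) ⟨k, hj⟩
    rw [this]
    intro h1
    apply hμ
    have h2 : Units.map (f : K →* K) (μ ^ 2) = 1 := by
      rw [map_pow, ← hχj μ]
      apply Units.ext
      exact h1
    have h3 : Function.Injective (Units.map (f : K →* K)) := by
      intro a b hab
      apply Units.ext
      have := congrArg Units.val hab
      simpa using this
    exact h3 (by rw [h2, map_one])

/-- the positive class subgroups lie in the derived group -/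
theorem xs_mem_commutator (v : List ℕ) (hv : v ∈ S) (φ : ℕ → K) (hφ : FixPos hF (tw f) v φ) :
    xs hF v φ ∈ ⁅orthGroup hF (tw f) S, orthGroup hF (tw f) S⁆ := by
  simp only [S, List.mem_cons, List.not_mem_nil, or_false] at hv
  rcases hv with rfl | rfl | rfl | rfl
  · exact xs_single_mem hq hK f hf 1 (by norm_num) (by decide) rfl 39 47 3 (by norm_num) rfl rfl (by decide)
      (by decide) (Or.inr (by decide +kernel)) (by norm_num) (by decide) (by decide +kernel) φ hφ
  · exact xs_single_mem hq hK f hf 3 (by norm_num) (by decide) rfl 46 47 1 (by norm_num) rfl rfl (by decide)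
      (by decide) (Or.inl (by decide +kernel)) (by norm_num) (by decide) (by decide +kernel) φ hφ
  · refine xs_pair_mem hq hK f hf 0 5 (by norm_num) (by norm_num) (by decide)
      (fun μ => vec μ 1 1 1 1 (Units.map (f : K →* K) μ)) ?_ ?_ ?_ φ hφ
    · intro μ
      rw [mem_fixT, twP_vec]
      congr 1 <;> first | rfl | (apply Units.ext; simp [hff hq hK f hf])
    · intro μ
      rw [cart_eq]
      simp [zpv, matOfL, Matrix.of_apply, cartL, Fin.prod_univ_six, vec]
    · intro μ
      rw [cart_eq]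
      simp [zpv, matOfL, Matrix.of_apply, cartL, Fin.prod_univ_six, vec]
  · refine xs_pair_mem hq hK f hf 2 4 (by norm_num) (by norm_num) (by decide)
      (fun μ => vec 1 1 μ 1 (Units.map (f : K →* K) μ) 1) ?_ ?_ ?_ φ hφ
    · intro μ
      rw [mem_fixT, twP_vec]
      congr 1 <;> first | rfl | (apply Units.ext; simp [hff hq hK f hf])
    · intro μ
      rw [cart_eq]
      simp [zpv, matOfL, Matrix.of_apply, cartL, Fin.prod_univ_six, vec]
    · intro μ
      rw [cart_eq]
      simp [zpv, matOfL, Matrix.of_apply, cartL, Fin.prod_univ_six, vec]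

/-- **`²E₆(q)` is perfect** -/
theorem perfect : commutator ↥(twistedE6 K q) = ⊤ := by
  rw [twisted_eq hK f hf]
  apply commutator_eq_top_of_le
  have hd := orthData f
  unfold orthGroup
  rw [Subgroup.closure_le]
  rintro g (⟨v, hv, φ, hφ, rfl⟩ | ⟨v, hv, ψ, hψ, rfl⟩)
  · exact xs_mem_commutator hq hK f hf v hv φ hφ
  · exact hd.ys_mem_commutator v hv (fun φ hφ => xs_mem_commutator hq hK f hf v hv φ hφ) ψ hψ

end Cfsg.Agent.Lead.Tw.E6
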