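import Mathlib
import Cfsg.Agent.Lib.Lead.TwF4AutD
import Cfsg.Agent.Lib.Helper2.OutCongr

/-!
# The outer automorphism group of the large Ree groups
-/

set_option autoImplicit false
set_option linter.unusedSectionVars false
set_option linter.unusedSimpArgs false
set_option linter.unusedVariables false

namespace Cfsg.Agent.Lead.Tw.F4

open Cfsg Cfsg.Lie Cfsg.Agent.Lead.Chev Cfsg.Agent.Helper6.ChevC Cfsg.Agent.Helper6.SL2Hom
  Cfsg.Agent.Helper6.ChevL Cfsg.Agent.Lead.Tw.AutRk1 Cfsg.Agent.Helper6.AutAbs Cfsg.Agent.Helper6.AutRank1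

variable {K : Type*} [Field K] [Fintype K] [CharP K 2] {m : ℕ} (hK : Fintype.card K = 2 ^ (2 * m + 1))
  (hperf : ∀ x : K, ∃ y : K, y ^ 2 = x) (f : K ≃+* K) (hf : ∀ t, f t = t ^ (2 ^ m))
include hK hperf hf

/-- **a normalised automorphism is the product of a torus element and a field automorphism** -/
theorem exists_torus_field (hm : 1 ≤ m) (θ : MulAut ↥(twistedF4 K (2 ^ m)))
    (hU : (CU1 chevF4 (twistedF4 K (2 ^ m))).map θ.toMonoidHom = CU1 chevF4 (twistedF4 K (2 ^ m)))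
    (hV : (CV1 chevF4 (twistedF4 K (2 ^ m))).map θ.toMonoidHom = CV1 chevF4 (twistedF4 K (2 ^ m))) :
    ∃ (d : ↥(twistedF4 K (2 ^ m))) (φ : K ≃+* K), θ = MulAut.conj d * FA (2 ^ m) φ := by
  have hcl := clsData hK hperf f hf
  obtain ⟨c, σ, hc, hX, hY⟩ := exists_ringEquiv_of_hom rankOne_A θ.toMonoidHom θ.injective XA_injective
    (YA_injective hK hperf f hf) hND_A (exists_map_XA hK hperf f hf θ hU hV)
    (exists_map_YA hK hperf f hf θ hU hV)
  -- remove the field automorphism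
  set θ₁ : MulAut ↥(twistedF4 K (2 ^ m)) := θ * FA (2 ^ m) σ.symm with hθ₁
  have hθ₁c : θ₁.toMonoidHom = θ.toMonoidHom.comp (FA (2 ^ m) σ.symm).toMonoidHom := rfl
  have hU₁ : (CU1 chevF4 (twistedF4 K (2 ^ m))).map θ₁.toMonoidHom = CU1 chevF4 (twistedF4 K (2 ^ m)) := by
    rw [hθ₁c, ← Subgroup.map_map, FA_CU1, hU]
  have hV₁ : (CV1 chevF4 (twistedF4 K (2 ^ m))).map θ₁.toMonoidHom = CV1 chevF4 (twistedF4 K (2 ^ m)) := by
    rw [hθ₁c, ← Subgroup.map_map, FA_CV1, hV]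
  have hX₁ : ∀ t, θ₁ (XA m t) = XA m (c * t) := by
    intro t
    have e : θ₁ (XA m t) = θ (FA (2 ^ m) σ.symm (XA m t)) := rfl
    rw [e, FA_XA]
    have := hX (σ.symm t)
    rw [RingEquiv.apply_symm_apply] at this
    exact this
  have hY₁ : ∀ t, θ₁ (YA m t) = YA m (c⁻¹ * t) := by
    intro t
    have e : θ₁ (YA m t) = θ (FA (2 ^ m) σ.symm (YA m t)) := rfl
    rw [e, FA_YA]
    have := hY (σ.symm t)
    rw [RingEquiv.apply_symm_apply] at this
    exact this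
  -- the torus elements of the pair class are fixed
  have hhh : ∀ s : K, s ≠ 0 → θ₁ (hh (XA (K := K) m) (YA (K := K) m) s) = hh (XA (K := K) m) (YA (K := K) m) s := by
    intro s hs
    exact map_hh rankOne_A θ₁.toMonoidHom c hc (RingEquiv.refl K) hX₁ hY₁ s hs
  -- the class of type `B₂`
  choose p r hpr using fun t u => exists_map_XB hK hperf f hf θ₁ hU₁ hV₁ t u
  have h0 : p 0 0 = 0 ∧ r 0 0 = 0 := by
    have h1 := hpr 0 0
    rw [XB_zero, map_one, ← XB_zero (m := m)] at h1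
    obtain ⟨e1, e2⟩ := XB_injective _ _ _ _ h1
    exact ⟨e1.symm, e2.symm⟩
  have hmul : ∀ t u t' u', p (t + t') (u + t ^ 2 ^ m * t' + u') = p t u + p t' u' ∧
      r (t + t') (u + t ^ 2 ^ m * t' + u') = r t u + (p t u) ^ 2 ^ m * p t' u' + r t' u' := by
    intro t u t' u'
    have h1 := congrArg θ₁ (XB_mul hK hperf f hf t u t' u')
    rw [map_mul, hpr, hpr, hpr, XB_mul hK hperf f hf] at h1
    obtain ⟨e1, e2⟩ := XB_injective _ _ _ _ h1
    exact ⟨e1.symm, e2.symm⟩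
  have heq : ∀ l : K, l ≠ 0 → ∀ t u, p (l * t) (l ^ (2 ^ m + 1) * u) = l * p t u ∧
      r (l * t) (l ^ (2 ^ m + 1) * u) = l ^ (2 ^ m + 1) * r t u := by
    intro l hl t u
    have hl' : l⁻¹ ≠ 0 := inv_ne_zero hl
    have h1 := hhA_conj_XB hK hperf f hf l⁻¹ hl' t u
    rw [inv_inv] at h1
    have h2 := congrArg θ₁ h1
    rw [map_mul, map_mul, map_inv, hhh _ hl', hpr, hpr, hhA_conj_XB hK hperf f hf l⁻¹ hl', inv_inv] at h2
    obtain ⟨e1, e2⟩ := XB_injective _ _ _ _ h2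
    exact ⟨e1.symm, e2.symm⟩
  have hB := analysis_B (2 ^ m) ⟨m, rfl⟩ (pow_succ_surjective hK hperf f hf) (exists_not_fixed hK f hf hm)
    p r h0 hmul heq
  have hcB : p 1 0 ≠ 0 := by
    intro h
    have h1 := hpr 1 0
    rw [(hB 1 0).1, (hB 1 0).2, h, zero_mul, mul_zero, XB_zero, ← map_one θ₁] at h1
    have h2 := θ₁.injective h1
    rw [← XB_zero (m := m)] at h2
    exact one_ne_zero (XB_injective _ _ _ _ h2).1
  have hXB₁ : ∀ t u, θ₁ (XB m t u) = XB m (p 1 0 * t) ((p 1 0) ^ (2 ^ m + 1) * u) := by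
    intro t u
    rw [hpr, (hB t u).1, (hB t u).2]
  -- remove the torus element
  obtain ⟨d₀, hd₀, hdA, hdB⟩ := exists_torus hK hperf f hf c (p 1 0) hc hcB
  set θ₂ : MulAut ↥(twistedF4 K (2 ^ m)) := MulAut.conj d₀⁻¹ * θ₁ with hθ₂
  have hθ₂c : θ₂.toMonoidHom = (MulAut.conj d₀⁻¹).toMonoidHom.comp θ₁.toMonoidHom := rfl
  have hU₂ : (CU1 chevF4 (twistedF4 K (2 ^ m))).map θ₂.toMonoidHom = CU1 chevF4 (twistedF4 K (2 ^ m)) := by
    rw [hθ₂c, ← Subgroup.map_map, hU₁, hcl.map_conj_CU1_of_mem_CH1 _ (inv_mem hd₀)]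
  have hV₂ : (CV1 chevF4 (twistedF4 K (2 ^ m))).map θ₂.toMonoidHom = CV1 chevF4 (twistedF4 K (2 ^ m)) := by
    rw [hθ₂c, ← Subgroup.map_map, hV₁, hcl.map_conj_CV1_of_mem_CH1 _ (inv_mem hd₀)]
  have hXA₂ : ∀ t, θ₂ (XA m t) = XA m t := by
    intro t
    have e : θ₂ (XA m t) = d₀⁻¹ * θ₁ (XA m t) * d₀⁻¹⁻¹ := rfl
    rw [e, hX₁, ← hdA]
    group
  have hXB₂ : ∀ t u, θ₂ (XB m t u) = XB m t u := by
    intro t u
    have e : θ₂ (XB m t u) = d₀⁻¹ * θ₁ (XB m t u) * d₀⁻¹⁻¹ := rfl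
    rw [e, hXB₁, ← hdB]
    group
  have hfix := eq_one_of_fix hK hperf f hf θ₂ hU₂ hV₂ hm hXA₂ hXB₂
  have hθ₂1 : θ₂ = 1 := MulEquiv.ext hfix
  refine ⟨d₀, (σ.symm : K ≃+* K)⁻¹, ?_⟩
  rw [map_inv]
  apply eq_mul_inv_of_mul_eq
  rw [← hθ₁]
  have h3 : MulAut.conj d₀⁻¹ * θ₁ = 1 := hθ₂1
  rw [map_inv] at h3
  exact (inv_mul_eq_one.1 h3).symm

/-- a non-trivial field automorphism is not inner -/
theorem eq_one_of_FA_inner (φ : K ≃+* K) (g : ↥(twistedF4 K (2 ^ m)))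
    (h : MulAut.conj g = FA (2 ^ m) φ) : φ = 1 := by
  have hcl := clsData hK hperf f hf
  have hU : (CU1 chevF4 (twistedF4 K (2 ^ m))).map (MulAut.conj g).toMonoidHom =
      CU1 chevF4 (twistedF4 K (2 ^ m)) := by
    rw [h, FA_CU1]
  have hV : (CV1 chevF4 (twistedF4 K (2 ^ m))).map (MulAut.conj g).toMonoidHom =
      CV1 chevF4 (twistedF4 K (2 ^ m)) := by
    rw [h, FA_CV1]
  have hg := hcl.mem_diagonal_of_normalizes hS hC g hU hV
  obtain ⟨a, b, ha, hb, hA, hB, -⟩ := exists_scalars hK hperf f hf g hg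
  have key : ∀ t : K, φ t = a * t := by
    intro t
    apply XA_injective (m := m)
    rw [← hA, ← FA_XA, ← h]
    rfl
  have ha1 : a = 1 := by
    have := key 1
    rw [map_one, mul_one] at this
    exact this.symm
  apply RingEquiv.ext
  intro t
  rw [key, ha1, one_mul]
  rfl

/-- **the outer automorphism group of the large Ree group consists of the field automorphisms** -/
theorem card_out (hm : 1 ≤ m) : Nat.card (Cfsg.Out ↥(twistedF4 K (2 ^ m))) = 2 * m + 1 := by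
  have hfact : Fact (Nat.Prime 2) := ⟨Nat.prime_two⟩
  have hcl := clsData hK hperf f hf
  rw [← Cfsg.Agent.Helper2.OutCongr.card_ringEquiv (F := K) (p := 2) hK]
  symm
  apply Nat.card_eq_of_bijective
    ((QuotientGroup.mk' (Cfsg.Inn ↥(twistedF4 K (2 ^ m)))).comp (FA (K := K) (2 ^ m)))
  constructor
  · rw [injective_iff_map_eq_one]
    intro φ hφ
    rw [MonoidHom.comp_apply, QuotientGroup.mk'_apply, QuotientGroup.eq_one_iff] at hφ
    obtain ⟨g, hg⟩ := hφ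
    exact eq_one_of_FA_inner hK hperf f hf φ g hg
  · intro x
    obtain ⟨α, rfl⟩ := QuotientGroup.mk_surjective x
    obtain ⟨c, hU, hV⟩ := hcl.exists_normalize hS hC 2 (sylow_CU1 hK hperf f hf) α
    set θ : MulAut ↥(twistedF4 K (2 ^ m)) := MulAut.conj c * α with hθ
    have hθc : θ.toMonoidHom = (MulAut.conj c).toMonoidHom.comp α.toMonoidHom := rfl
    have hU' : (CU1 chevF4 (twistedF4 K (2 ^ m))).map θ.toMonoidHom = CU1 chevF4 (twistedF4 K (2 ^ m)) := by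
      rw [hθc, ← Subgroup.map_map, hU]
    have hV' : (CV1 chevF4 (twistedF4 K (2 ^ m))).map θ.toMonoidHom = CV1 chevF4 (twistedF4 K (2 ^ m)) := by
      rw [hθc, ← Subgroup.map_map, hV]
    obtain ⟨d, φ, e⟩ := exists_torus_field hK hperf f hf hm θ hU' hV'
    refine ⟨φ, ?_⟩
    have hα : α = (MulAut.conj c)⁻¹ * MulAut.conj d * FA (2 ^ m) φ := by
      rw [mul_assoc, ← e, hθ, inv_mul_cancel_left]
    rw [MonoidHom.comp_apply, QuotientGroup.mk'_apply, hα, QuotientGroup.mk_mul]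
    have h2 : (((MulAut.conj c)⁻¹ * MulAut.conj d : MulAut ↥(twistedF4 K (2 ^ m))) :
        Cfsg.Out ↥(twistedF4 K (2 ^ m))) = 1 := by
      rw [QuotientGroup.eq_one_iff, ← map_inv, ← map_mul]
      exact ⟨_, rfl⟩
    rw [h2, one_mul]

end Cfsg.Agent.Lead.Tw.F4
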