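import Mathlib
import Cfsg.Agent.Lib.Lead.ChevHeight
import Cfsg.Agent.Lib.Lead.TwReeOrder

/-!
# The `2`-elements of `²F₄(q)` have order at most `32`
-/

set_option autoImplicit false
set_option linter.unusedSectionVars false
set_option linter.unusedSimpArgs false
set_option linter.unusedVariables false
set_option linter.style.haveILetI false

namespace Cfsg.Agent.Lead.Tw.F4

open Cfsg Cfsg.Lie Cfsg.Agent.Lead.Chev

section finite

variable {K : Type*} [Field K] [Fintype K] [CharP K 2] {m : ℕ} (hK : Fintype.card K = 2 ^ (2 * m + 1))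
  (hperf : ∀ x : K, ∃ y : K, y ^ 2 = x) (f : K ≃+* K) (hf : ∀ t, f t = t ^ (2 ^ m))
include hK hperf hf

/-- **every `2`-element of `²F₄(q)` has order dividing `32`** -/
theorem pow_32_of_two_element (x : ↥(twistedF4 K (2 ^ m))) (hx : ∃ j : ℕ, orderOf x = 2 ^ j) :
    x ^ 32 = 1 := by
  classical
  have : Fact (Nat.Prime 2) := ⟨Nat.prime_two⟩
  set U1 : Subgroup ↥(twistedF4 K (2 ^ m)) :=
    (chevF4.posUnipotent K ⊓ twistedF4 K (2 ^ m)).subgroupOf (twistedF4 K (2 ^ m)) with hU1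
  have hmemU1 : ∀ y : ↥(twistedF4 K (2 ^ m)), y ∈ U1 ↔ (y : GL chevF4.Idx K) ∈ chevF4.posUnipotent K := by
    intro y
    rw [hU1, Subgroup.mem_subgroupOf, Subgroup.mem_inf]
    exact ⟨fun h => h.1, fun h => ⟨h, y.2⟩⟩
  have hcardU : Nat.card ↥U1 = 2 ^ (12 * (2 * m + 1)) := by
    rw [hU1, Nat.card_congr (Subgroup.subgroupOfEquivOfLe (inf_le_right :
      chevF4.posUnipotent K ⊓ twistedF4 K (2 ^ m) ≤ twistedF4 K (2 ^ m))).toEquiv, card_U hK hperf f hf,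
      ← pow_mul, mul_comm]
  have hp : IsPGroup 2 ↥U1 := IsPGroup.of_card hcardU
  have hidx : ¬ 2 ∣ U1.index := by
    have h1 := Subgroup.card_mul_index U1
    rw [hcardU, card_group hK hperf f hf] at h1
    have hq : (2 ^ (2 * m + 1)) ^ 12 = 2 ^ (12 * (2 * m + 1)) := by rw [← pow_mul, mul_comm]
    rw [hq, mul_assoc, mul_assoc, mul_assoc] at h1
    have h2 := Nat.eq_of_mul_eq_mul_left (by positivity) h1
    rw [h2]
    intro hd
    have hX : 2 ∣ 2 ^ (2 * m + 1) := dvd_pow_self 2 (by omega)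
    have hX1 : 1 ≤ 2 ^ (2 * m + 1) := Nat.one_le_pow _ _ (by norm_num)
    obtain ⟨r, hr⟩ := hX
    have hr1 : 1 ≤ r := by omega
    rw [hr] at hd
    have e1 : ¬ 2 ∣ 2 * r - 1 := by omega
    have e2 : ¬ 2 ∣ (2 * r) ^ 3 + 1 := by
      intro h
      have : 2 ∣ (2 * r) ^ 3 := Dvd.dvd.pow (dvd_mul_right 2 r) (by norm_num)
      omega
    have e3 : ¬ 2 ∣ (2 * r) ^ 4 - 1 := by
      intro h
      have h4 : 2 ∣ (2 * r) ^ 4 := Dvd.dvd.pow (dvd_mul_right 2 r) (by norm_num)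
      have h5 : 1 ≤ (2 * r) ^ 4 := Nat.one_le_pow _ _ (by omega)
      omega
    have e4 : ¬ 2 ∣ (2 * r) ^ 6 + 1 := by
      intro h
      have : 2 ∣ (2 * r) ^ 6 := Dvd.dvd.pow (dvd_mul_right 2 r) (by norm_num)
      omega
    rcases (Nat.Prime.dvd_mul Nat.prime_two).1 hd with h3 | h3
    · exact e1 h3
    · rcases (Nat.Prime.dvd_mul Nat.prime_two).1 h3 with h4 | h4
      · exact e2 h4
      · rcases (Nat.Prime.dvd_mul Nat.prime_two).1 h4 with h5 | h5
        · exact e3 h5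
        · exact e4 h5
  set S₀ : Sylow 2 ↥(twistedF4 K (2 ^ m)) := hp.toSylow hidx with hS₀
  have hS₀c : (S₀ : Subgroup ↥(twistedF4 K (2 ^ m))) = U1 := rfl
  obtain ⟨j, hj⟩ := hx
  have hz : IsPGroup 2 ↥(Subgroup.zpowers x) := by
    apply IsPGroup.of_card (n := j)
    rw [Nat.card_zpowers, hj]
  obtain ⟨P, hP⟩ := hz.exists_le_sylow
  obtain ⟨a, ha⟩ := MulAction.exists_smul_eq ↥(twistedF4 K (2 ^ m)) S₀ P
  have hxP : x ∈ (P : Subgroup ↥(twistedF4 K (2 ^ m))) := hP (Subgroup.mem_zpowers x)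
  rw [← ha, Sylow.coe_subgroup_smul, Subgroup.mem_pointwise_smul_iff_inv_smul_mem, hS₀c, hmemU1] at hxP
  simp only [MulAut.smul_def, MulAut.conj_apply, MulAut.conj_inv_apply, inv_inv, Subgroup.coe_mul,
    Subgroup.coe_inv] at hxP
  have h32 := Cfsg.Agent.Lead.ChevHt.F4_pow_32 _ hxP
  apply Subtype.ext
  rw [Subgroup.coe_pow, Subgroup.coe_one]
  have e : ((a : GL chevF4.Idx K)⁻¹ * (x : GL chevF4.Idx K) * (a : GL chevF4.Idx K)) ^ 32 =
      (a : GL chevF4.Idx K)⁻¹ * (x : GL chevF4.Idx K) ^ 32 * (a : GL chevF4.Idx K) := by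
    have := conj_pow (a := (a : GL chevF4.Idx K)⁻¹) (b := (x : GL chevF4.Idx K)) (i := 32)
    rw [inv_inv] at this
    exact this
  rw [e] at h32
  have : (x : GL chevF4.Idx K) ^ 32 = (a : GL chevF4.Idx K) * ((a : GL chevF4.Idx K)⁻¹ *
      (x : GL chevF4.Idx K) ^ 32 * (a : GL chevF4.Idx K)) * (a : GL chevF4.Idx K)⁻¹ := by group
  rw [this, h32]
  group

theorem orderOf_le_32 (x : ↥(twistedF4 K (2 ^ m))) (hx : ∃ j : ℕ, orderOf x = 2 ^ j) :
    orderOf x ≤ 32 :=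
  Nat.le_of_dvd (by norm_num) (orderOf_dvd_of_pow_eq_one (pow_32_of_two_element hK hperf f hf x hx))

end finite

end Cfsg.Agent.Lead.Tw.F4
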