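import Mathlib
import Cfsg.Agent.Lib.Lead.TwF4Cls
import Cfsg.Agent.Lib.Lead.TwG2Cls
import Cfsg.Agent.Lib.Lead.TwCox
import Cfsg.Agent.Lib.Lead.CoxDih

/-!
# The Weyl groups of `²F₄` and `²G₂`
-/

set_option autoImplicit false

namespace Cfsg.Agent.Lead.Tw

open Cfsg Cfsg.Lie Cfsg.Agent.Lead.Chev

namespace F4

theorem S_nodup : S.Nodup := by decide

/-- the Coxeter matrix of type `I₂(8)` as a table -/
def i8tab : ℕ → ℕ → ℕ := fun i j => ([[1, 8], [8, 1]].getD i []).getD j 0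

theorem i8tab_eq : ∀ i j : Fin 2, (CoxeterMatrix.I 6).M i j = i8tab i j := by
  intro i j
  fin_cases i <;> fin_cases j <;> rfl

theorem ord_ok : ∀ i < 2, ∀ j < 2,
    0 < i8tab i j ∧ OrdIs chevF4 (S.getD i [] ++ S.getD j []) (i8tab i j) := by
  decide +kernel

end F4

namespace G2

theorem S_nodup : S.Nodup := by decide

/-- the Coxeter matrix of rank one as a table -/
def a1tab : ℕ → ℕ → ℕ := fun _ _ => 1

theorem a1tab_eq : ∀ i j : Fin 1, (CoxeterMatrix.A 1).M i j = a1tab i j := by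
  intro i j
  fin_cases i; fin_cases j; rfl

theorem ord_ok : ∀ i < 1, ∀ j < 1,
    0 < a1tab i j ∧ OrdIs chevG2 (S.getD i [] ++ S.getD j []) (a1tab i j) := by
  decide +kernel

end G2

end Cfsg.Agent.Lead.Tw
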