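import Mathlib
import Cfsg.Agent.Lib.Lead.W3F2
import Cfsg.Agent.Lib.Helper6.W3COUNTW
import Cfsg.Agent.Lib.Helper21.W3F1

/-! # S3300 piece W3-F2 (lead): exact-signature wrapper `odd_N` -/

set_option autoImplicit false

namespace Cfsg.Agent.Helper20.W3

open Cfsg.Agent.Helper8.XS Cfsg.Agent.Helper8.AB

section ctx

variable {G : Type*} [Group G] [Finite G] {z : G} {H E K : Subgroup G} {n : ℕ}

/-- PIECE W3-F2: an edge has an odd number of common neighbours. -/
theorem odd_N (c : Ctx3 z H E K n) (χ : ↥H →* ℤˣ)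
    (hχ : ∀ h : ↥H, χ h = 1 ↔ (h : G) ∈ K) (s : G) (hs : valH χ (s * z * s⁻¹) = -1) :
    Odd (Set.ncard (Nset χ z s)) :=
  odd_N_core c χ (fun y hy hyy hy1 => star_count c χ hχ y hy hyy hy1) (arc_symm c χ hχ) s hs

end ctx

end Cfsg.Agent.Helper20.W3
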